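import Mathlib
import Cfsg.Prelude.Def_Characters

set_option autoImplicit false

namespace Cfsg.Agent.Lib.Helper7

open Cfsg

theorem extendByZero_apply_coe {G : Type*} [Group G] (H : Subgroup G) (θ : H → ℂ) (h : H) :
    extendByZero H θ (h : G) = θ h := by
  unfold extendByZero
  exact Subtype.val_injective.extend_apply θ 0 h

theorem extendByZero_apply_mem {G : Type*} [Group G] (H : Subgroup G) (θ : H → ℂ) {g : G}
    (hg : g ∈ H) : extendByZero H θ g = θ ⟨g, hg⟩ :=
  extendByZero_apply_coe H θ ⟨g, hg⟩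

theorem extendByZero_apply_not_mem {G : Type*} [Group G] (H : Subgroup G) (θ : H → ℂ) {g : G}
    (hg : g ∉ H) : extendByZero H θ g = 0 := by
  unfold extendByZero
  rw [Function.extend_apply']
  · rfl
  · rintro ⟨a, rfl⟩
    exact hg a.2

theorem extendByZero_ne_zero {G : Type*} [Group G] (H : Subgroup G) (θ : H → ℂ) {g : G}
    (h : extendByZero H θ g ≠ 0) : ∃ hg : g ∈ H, θ ⟨g, hg⟩ ≠ 0 := by
  by_cases hg : g ∈ H
  · refine ⟨hg, ?_⟩
    rwa [extendByZero_apply_mem H θ hg] at h
  · exact absurd (extendByZero_apply_not_mem H θ hg) h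

theorem indFun_apply {G : Type*} [Group G] [Fintype G] (H : Subgroup G) (θ : H → ℂ) (g : G) :
    indFun H θ g = (Nat.card H : ℂ)⁻¹ * ∑ x : G, extendByZero H θ (x⁻¹ * g * x) := rfl

end Cfsg.Agent.Lib.Helper7
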