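import Mathlib
import Cfsg.Prelude.Def_Characters
import Cfsg.Agent.Lib.Helper7.Induced

set_option autoImplicit false

namespace Cfsg.Agent.Lib.Helper7

open Cfsg

/-- The number of `x` with `x⁻¹ g x = y` is `|C(g)|` when `y` is conjugate to `g`. -/
theorem card_conjugators {G : Type*} [Group G] (g y : G) (h : IsConj g y) :
    Nat.card {x : G // x⁻¹ * g * x = y} = Nat.card (Subgroup.centralizer ({g} : Set G)) := by
  obtain ⟨c, hc⟩ := isConj_iff.mp h
  -- c * g * c⁻¹ = y ; take x₀ = c⁻¹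
  apply Nat.card_congr
  refine
    { toFun := fun x => ⟨x.1 * c, ?_⟩
      invFun := fun z => ⟨z.1 * c⁻¹, ?_⟩
      left_inv := fun x => Subtype.ext (by simp)
      right_inv := fun z => Subtype.ext (by simp) }
  · obtain ⟨x, hx⟩ := x
    rw [Subgroup.mem_centralizer_iff]
    intro w hw
    rw [Set.mem_singleton_iff] at hw
    subst hw
    -- w * (x c) = (x c) * w  ⟸ x⁻¹ w x = c w c⁻¹
    have h1 : x⁻¹ * w * x = c * w * c⁻¹ := hx.trans hc.symm
    have h2 : w * x = x * (c * w * c⁻¹) := by rw [← h1]; group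
    calc w * (x * c) = (w * x) * c := by group
      _ = x * (c * w * c⁻¹) * c := by rw [h2]
      _ = x * c * w := by group
  · obtain ⟨z, hz⟩ := z
    rw [Subgroup.mem_centralizer_iff] at hz
    have h1 : g * z = z * g := hz g rfl
    show (z * c⁻¹)⁻¹ * g * (z * c⁻¹) = y
    rw [← hc]
    calc (z * c⁻¹)⁻¹ * g * (z * c⁻¹) = c * z⁻¹ * (g * z) * c⁻¹ := by group
      _ = c * z⁻¹ * (z * g) * c⁻¹ := by rw [h1]
      _ = c * g * c⁻¹ := by group

/-- `∑ x, f (x⁻¹ g x) = |C(g)| ∑_{y ~ g} f y`. -/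
theorem sum_conj_eq {G : Type*} [Group G] [Fintype G] [DecidableEq G] (f : G → ℂ) (g : G)
    [DecidablePred (IsConj g)] :
    ∑ x : G, f (x⁻¹ * g * x) =
      (Nat.card (Subgroup.centralizer ({g} : Set G)) : ℂ) * ∑ y : G, if IsConj g y then f y else 0 := by
  rw [← Finset.sum_fiberwise Finset.univ (fun x : G => x⁻¹ * g * x) (fun x => f (x⁻¹ * g * x)),
    Finset.mul_sum]
  apply Finset.sum_congr rfl
  intro y _
  have h1 : ∀ x ∈ Finset.univ.filter (fun x : G => x⁻¹ * g * x = y), f (x⁻¹ * g * x) = f y := by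
    intro x hx
    rw [(Finset.mem_filter.mp hx).2]
  rw [Finset.sum_congr rfl h1, Finset.sum_const, nsmul_eq_mul]
  split_ifs with hy
  · have := card_conjugators g y hy
    rw [Nat.card_eq_fintype_card, Fintype.card_subtype] at this
    rw [this]
  · have : Finset.univ.filter (fun x : G => x⁻¹ * g * x = y) = ∅ := by
      rw [Finset.filter_eq_empty_iff]
      intro x _ hx
      apply hy
      rw [isConj_iff]
      exact ⟨x⁻¹, by simpa using hx⟩
    rw [this]
    simp

end Cfsg.Agent.Lib.Helper7
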