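import Mathlib
import Cfsg.Prelude.Def_Blocks
import Cfsg.Agent.Lib.Helper24.Osima
import Cfsg.Agent.Lib.Helper7.ClassSum
import Cfsg.Agent.Lib.Helper2.Linear

/-!
# Induced central characters (helper7 library, on top of helper24's block infrastructure)
-/

set_option autoImplicit false

namespace Cfsg.Agent.Lib.Helper7

open Cfsg.Agent.Lib.Helper2 Cfsg.Agent.Lib.Helper24
open scoped ComplexConjugate

section

variable {G : Type*} [Group G] [Fintype G] (H : Subgroup G) [Fintype H]

/-- the restriction to `H` of the indicator of the `G`-class of `g` -/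
noncomputable def classIndicatorOn (g : G) : H → ℂ := fun h => classIndicator g (h : G)

omit [Fintype H] in
theorem classIndicatorOn_isClassFunction (g : G) :
    Cfsg.IsClassFunction H (classIndicatorOn H g) := by
  intro h x
  unfold classIndicatorOn
  exact classIndicator_isClassFunction g (h : G) (x : G)

omit [Fintype H] in
theorem classIndicatorOn_memLocalRing {p : ℕ} {M : Ideal Cfsg.AlgInt} (hM : Cfsg.IsPModular p M)
    (g : G) (h : H) : Cfsg.MemLocalRing M (classIndicatorOn H g h) := by
  classical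
  unfold classIndicatorOn classIndicator
  split_ifs
  · exact memLocalRing_one hM
  · exact memLocalRing_zero hM

/-- The induced central character is `omega` of the restricted class indicator. -/
theorem inducedCentralChar_eq_omega (ξ : H → ℂ) (g : G) :
    Cfsg.inducedCentralChar H ξ g = omega ξ (classIndicatorOn H g) := by
  classical
  unfold Cfsg.inducedCentralChar omega
  rw [finsum_mem_eq_sum_ite, Finset.sum_div]
  apply Finset.sum_congr rfl
  intro h _
  unfold classIndicatorOn classIndicator
  by_cases hh : IsConj g (h : G)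
  · rw [if_pos (by exact hh), if_pos hh, one_mul]
  · rw [if_neg (by exact hh), if_neg hh, zero_mul, zero_div]

omit [Fintype G] in
/-- The induced central character as a sum over `H`. -/
theorem inducedCentralChar_eq_sum (ξ : H → ℂ) (g : G) [DecidablePred (IsConj g)] :
    Cfsg.inducedCentralChar H ξ g = (∑ h : H, if IsConj g (h : G) then ξ h else 0) / ξ 1 := by
  classical
  unfold Cfsg.inducedCentralChar
  rw [finsum_mem_eq_sum_ite, Finset.sum_div]
  apply Finset.sum_congr rfl
  intro h _
  by_cases hh : IsConj g (h : G)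
  · rw [if_pos (by exact hh), if_pos hh]
  · rw [if_neg (by exact hh), if_neg hh, zero_div]

/-- The central character of an induced function is the induced central character. -/
theorem centralChar_indFun (ξ : H → ℂ) (g : G) :
    Cfsg.centralChar (Cfsg.indFun H ξ) g = Cfsg.inducedCentralChar H ξ g := by
  classical
  rw [inducedCentralChar_eq_sum]
  unfold Cfsg.centralChar
  rw [indFun_apply_one, Cfsg.Agent.Lib.Helper2.indFun_apply, sum_conj_eq]
  have h1 : ∑ y : G, (if IsConj g y then Cfsg.extendByZero H ξ y else 0)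
      = ∑ h : H, if IsConj g (h : G) then ξ h else 0 := by
    have := sum_extendByZero_mul H ξ (fun y => if IsConj g y then 1 else 0)
    simp only [mul_ite, mul_one, mul_zero] at this
    exact this
  rw [h1]
  set S := ∑ h : H, if IsConj g (h : G) then ξ h else 0 with hS
  have hidx : ((Subgroup.centralizer ({g} : Set G)).index : ℂ)
      * (Nat.card (Subgroup.centralizer ({g} : Set G)) : ℂ) = (Nat.card H : ℂ) * (H.index : ℂ) := by
    have h2 := (Subgroup.centralizer ({g} : Set G)).card_mul_index
    have h3 := H.card_mul_index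
    have : (Subgroup.centralizer ({g} : Set G)).index
        * Nat.card (Subgroup.centralizer ({g} : Set G)) = Nat.card H * H.index := by
      rw [mul_comm, h2, h3]
    exact_mod_cast this
  have hH : (Nat.card H : ℂ) ≠ 0 := card_ne_zero_complex
  have hi : (H.index : ℂ) ≠ 0 := by
    exact_mod_cast (Subgroup.index_ne_zero_of_finite (H := H))
  by_cases hξ : ξ 1 = 0
  · rw [hξ]; simp
  · field_simp
    linear_combination (S) * hidx

variable {p : ℕ} {M : Ideal Cfsg.AlgInt}

/-- Characters of `H` in the same block have congruent induced central characters. -/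
theorem inducedCentralChar_sub_memLocalIdeal (hM : Cfsg.IsPModular p M) (ξ ξ' : Cfsg.IrrCharacter H)
    (h : Cfsg.SameBlock M (ξ : H → ℂ) (ξ' : H → ℂ)) (g : G) :
    Cfsg.MemLocalIdeal M (Cfsg.inducedCentralChar H (ξ : H → ℂ) g
      - Cfsg.inducedCentralChar H (ξ' : H → ℂ) g) := by
  rw [inducedCentralChar_eq_omega, inducedCentralChar_eq_omega]
  exact omega_sub_memLocalIdeal hM ξ ξ' h _ (classIndicatorOn_isClassFunction H g)
    (classIndicatorOn_memLocalRing H hM g)

/-- If `ξ^G` is irreducible then the block of `ξ` induces the block of `ξ^G`. -/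
theorem isInducedBlock_of_indFun_irr (hM : Cfsg.IsPModular p M) (ξ : Cfsg.IrrCharacter H)
    (hind : Cfsg.IsIrrCharacter G (Cfsg.indFun H (ξ : H → ℂ))) :
    Cfsg.IsInducedBlock M H (Cfsg.blockOf M (ξ : H → ℂ))
      (Cfsg.blockOf M (Cfsg.indFun H (ξ : H → ℂ))) := by
  refine ⟨⟨ξ, rfl⟩, ⟨⟨_, hind⟩, rfl⟩, ?_⟩
  intro ξ' hξ' χ hχ g
  have h1 := inducedCentralChar_sub_memLocalIdeal H hM ξ ξ' hξ' g
  have h2 : Cfsg.MemLocalIdeal M (Cfsg.centralChar (Cfsg.indFun H (ξ : H → ℂ)) g
      - Cfsg.centralChar (χ : G → ℂ) g) := hχ g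
  rw [centralChar_indFun] at h2
  have h3 := memLocalIdeal_sub hM h2 h1
  have e : Cfsg.inducedCentralChar H (ξ : H → ℂ) g - Cfsg.centralChar (χ : G → ℂ) g
      - (Cfsg.inducedCentralChar H (ξ : H → ℂ) g - Cfsg.inducedCentralChar H (ξ' : H → ℂ) g)
      = Cfsg.inducedCentralChar H (ξ' : H → ℂ) g - Cfsg.centralChar (χ : G → ℂ) g := by ring
  rwa [e] at h3

end

end Cfsg.Agent.Lib.Helper7

namespace Cfsg.Agent.Lib.Helper7

open Cfsg.Agent.Lib.Helper2 Cfsg.Agent.Lib.Helper24
open scoped ComplexConjugate

section Restrict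

variable {G : Type*} [Group G] [Fintype G] (H : Subgroup G) [Fintype H]

/-- `omega ξ` of the restriction to `H` of a class function of `G`, as a sum over `G` of the
induced central character. -/
theorem omega_restrict_eq_sum (ξ : H → ℂ) (a : G → ℂ) (ha : Cfsg.IsClassFunction G a) :
    omega ξ (fun h : H => a h)
      = ∑ g : G, (a g * Cfsg.inducedCentralChar H ξ g)
          * ((Subgroup.centralizer ({g} : Set G)).index : ℂ)⁻¹ := by
  classical
  unfold omega
  simp only [inducedCentralChar_eq_sum]
  have h1 : ∀ g : G, (a g * ((∑ h : H, if IsConj g (h : G) then ξ h else 0) / ξ 1))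
      * ((Subgroup.centralizer ({g} : Set G)).index : ℂ)⁻¹
      = (∑ h : H, if IsConj g (h : G) then
          a g * ξ h * ((Subgroup.centralizer ({g} : Set G)).index : ℂ)⁻¹ else 0) / ξ 1 := by
    intro g
    rw [mul_div_assoc', div_mul_eq_mul_div, Finset.mul_sum, Finset.sum_mul]
    congr 1
    apply Finset.sum_congr rfl
    intro h _
    split_ifs <;> simp
  rw [Finset.sum_congr rfl (fun g _ => h1 g), ← Finset.sum_div, Finset.sum_comm]
  congr 1
  apply Finset.sum_congr rfl
  intro h _
  have h2 : ∀ g : G, (if IsConj g (h : G) then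
        a g * ξ h * ((Subgroup.centralizer ({g} : Set G)).index : ℂ)⁻¹ else 0)
      = (a h * ξ h) * (if ConjClasses.mk g = ConjClasses.mk (h : G) then
          ((Subgroup.centralizer ({g} : Set G)).index : ℂ)⁻¹ else 0) := by
    intro g
    by_cases hg : IsConj g (h : G)
    · rw [if_pos hg, if_pos (ConjClasses.mk_eq_mk_iff_isConj.mpr hg),
        IsClassFunction.eq_of_isConj ha hg]
    · rw [if_neg hg, if_neg (fun hh => hg (ConjClasses.mk_eq_mk_iff_isConj.mp hh)), mul_zero]
  rw [Finset.sum_congr rfl (fun g _ => h2 g), ← Finset.mul_sum, sum_class_weight, mul_one]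

variable {p : ℕ} {M : Ideal Cfsg.AlgInt}

/-- If the induced central character of `ξ` is congruent to the central character of `χ`, then
`omega ξ (a|_H) ≡ omega χ a` for all local-integral class functions `a` of `G`. -/
theorem omega_restrict_sub_memLocalIdeal (hM : Cfsg.IsPModular p M) (ξ : H → ℂ)
    (χ : Cfsg.IrrCharacter G)
    (hcong : ∀ g : G, Cfsg.MemLocalIdeal M
      (Cfsg.inducedCentralChar H ξ g - Cfsg.centralChar (χ : G → ℂ) g))
    (a : G → ℂ) (ha : Cfsg.IsClassFunction G a) (hint : ∀ g, Cfsg.MemLocalRing M (a g)) :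
    Cfsg.MemLocalIdeal M (omega ξ (fun h : H => a h) - omega (χ : G → ℂ) a) := by
  classical
  rw [omega_restrict_eq_sum H ξ a ha, omega_eq_sum, ← Finset.sum_sub_distrib]
  have e : ∀ g : G, (a g * Cfsg.inducedCentralChar H ξ g)
      * ((Subgroup.centralizer ({g} : Set G)).index : ℂ)⁻¹
      - (a g * Cfsg.centralChar (χ : G → ℂ) g)
      * ((Subgroup.centralizer ({g} : Set G)).index : ℂ)⁻¹
      = (a g * (Cfsg.inducedCentralChar H ξ g - Cfsg.centralChar (χ : G → ℂ) g))
      * ((Subgroup.centralizer ({g} : Set G)).index : ℂ)⁻¹ := by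
    intro g; ring
  rw [Finset.sum_congr rfl (fun g _ => e g)]
  apply sum_mul_inv_index_mem (MlocC hM)
  · intro g x
    simp only
    rw [ha, centralChar_isClassFunction _ (IrrCharacter.isClassFunction χ)]
    congr 2
    rw [inducedCentralChar_eq_sum, inducedCentralChar_eq_sum]
    congr 1
    apply Finset.sum_congr rfl
    intro h _
    have : IsConj (x * g * x⁻¹) (h : G) ↔ IsConj g (h : G) := by
      constructor
      · intro hh
        exact (isConj_iff.mpr ⟨x, rfl⟩).trans hh
      · intro hh
        exact (isConj_iff.mpr ⟨x, rfl⟩).symm.trans hh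
    simp only [this]
  · intro g
    exact memLocalIdeal_mul_left hM (hint g) (hcong g)

/-- If `b^G = B` and `ξ ∈ b`, some `χ ∈ B` lies over `ξ`. -/
theorem exists_constituent_of_isInducedBlock (hM : Cfsg.IsPModular p M)
    (b : Set (Cfsg.IrrCharacter H)) (B : Set (Cfsg.IrrCharacter G))
    (hind : Cfsg.IsInducedBlock M H b B) (ξ : Cfsg.IrrCharacter H) (hξ : ξ ∈ b) :
    ∃ χ ∈ B, Cfsg.classInner (fun h : H => (χ : G → ℂ) h) (ξ : H → ℂ) ≠ 0 := by
  classical
  have : Fintype (Cfsg.IrrCharacter G) := Fintype.ofFinite _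
  obtain ⟨_, hB, hcong⟩ := hind
  obtain ⟨χ₀, hχ₀B⟩ := hB
  have hχ₀ : χ₀ ∈ B := by rw [hχ₀B]; exact sameBlock_refl hM _
  have hint : ∀ g, Cfsg.MemLocalRing M (Cfsg.blockCoeff B g) :=
    fun g => blockCoeff_memLocalRing hM B ⟨χ₀, hχ₀B⟩ g
  have h1 := omega_restrict_sub_memLocalIdeal H hM (ξ : H → ℂ) χ₀ (fun g => hcong ξ hξ χ₀ hχ₀ g)
    (Cfsg.blockCoeff B) (blockCoeff_isClassFunction B) hint
  rw [omega_blockCoeff, if_pos hχ₀] at h1
  by_contra hcon
  push Not at hcon
  have hzero : omega (ξ : H → ℂ) (fun h : H => Cfsg.blockCoeff B h) = 0 := by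
    unfold omega
    have hsum : ∑ h : H, Cfsg.blockCoeff B (h : G) * (ξ : H → ℂ) h = 0 := by
      simp only [blockCoeff_eq_sum, Finset.mul_sum, Finset.sum_mul]
      rw [Finset.sum_comm]
      apply Finset.sum_eq_zero
      intro χ _
      by_cases hχ : χ ∈ B
      · simp only [if_pos hχ]
        have h2 := hcon χ hχ
        have h3 : Cfsg.classInner (ξ : H → ℂ) (fun h : H => (χ : G → ℂ) h) = 0 := by
          rw [← classInner_conj_symm, h2, map_zero]
        rw [classInner_def] at h3
        have hH : (Nat.card H : ℂ) ≠ 0 := card_ne_zero_complex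
        have h4 : ∑ h : H, (ξ : H → ℂ) h * conj ((χ : G → ℂ) h) = 0 := by
          rcases mul_eq_zero.mp h3 with h5 | h5
          · exact absurd (inv_eq_zero.mp h5) hH
          · exact h5
        have h5 : ∀ h : H, (Nat.card G : ℂ)⁻¹ * ((χ : G → ℂ) 1 * conj ((χ : G → ℂ) h))
            * (ξ : H → ℂ) h
            = ((Nat.card G : ℂ)⁻¹ * (χ : G → ℂ) 1) * ((ξ : H → ℂ) h * conj ((χ : G → ℂ) h)) := by
          intro h; ring
        rw [Finset.sum_congr rfl (fun h _ => h5 h), ← Finset.mul_sum, h4, mul_zero]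
      · simp only [if_neg hχ]
        simp
    rw [hsum, zero_div]
  rw [hzero, zero_sub] at h1
  have := memLocalIdeal_neg h1
  rw [neg_neg] at this
  exact not_memLocalIdeal_one hM this

end Restrict

end Cfsg.Agent.Lib.Helper7
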