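import Mathlib
import Cfsg.Prelude.Def_Blocks
import Cfsg.Agent.Lib.Helper2.Clifford
import Cfsg.Agent.Lib.Helper11.Clifford
import Cfsg.Agent.Lib.Helper7.InducedBlock

/-!
# Central characters and Clifford theory for a normal subgroup (helper7 library)
-/

set_option autoImplicit false

namespace Cfsg.Agent.Lib.Helper7

open Cfsg.Agent.Lib.Helper2 Cfsg.Agent.Lib.Helper24
open scoped ComplexConjugate

section

variable {G : Type*} [Group G] [Fintype G] (N : Subgroup G) [hN : N.Normal] [Fintype N]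

/-- If `θ` is a constituent of `χ_N`, then `χ` and `θ^G` are proportional on `N`. -/
theorem restrict_cross_of_constituent {χ : G → ℂ} (hχ : Cfsg.IsIrrCharacter G χ) {θ : N → ℂ}
    (hθ : Cfsg.IsIrrCharacter N θ) (hcon : Cfsg.classInner (fun n : N => χ n) θ ≠ 0) (n : N) :
    χ n * Cfsg.indFun N θ 1 = χ 1 * Cfsg.indFun N θ n := by
  have hcl := clifford_restriction N hχ hθ hcon
  set S : N → ℂ := ∑ᶠ ψ ∈ {ψ : N → ℂ | ∃ g : G, ψ = conjFun N g θ}, ψ with hS
  have hsum := Cfsg.Agent.Lib.Helper11.sum_conjFn_eq N θ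
  have hS' : (∑ᶠ ψ ∈ Cfsg.Agent.Lib.Helper11.conjOrbit N θ, ψ) = S := rfl
  rw [hS'] at hsum
  have hind : ∀ m : N, Cfsg.indFun N θ m = (Nat.card N : ℂ)⁻¹ *
      ((Nat.card {g : G // Cfsg.Agent.Lib.Helper11.conjFn N g θ = θ} : ℂ) * S m) := by
    intro m
    rw [indFun_apply_mem]
    congr 1
    have h1 := congrFun hsum m
    rw [Finset.sum_apply] at h1
    have h2 : ∀ x : G, conjFun N x θ m = Cfsg.Agent.Lib.Helper11.conjFn N x θ m := fun x => rfl
    simp only [h2]
    rw [h1]
    rfl
  have hχn : ∀ m : N, χ m = Cfsg.classInner (fun n : N => χ n) θ * S m := by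
    intro m
    have := congrFun hcl m
    simpa using this
  have h1' : χ 1 = Cfsg.classInner (fun n : N => χ n) θ * S 1 := hχn 1
  have hind1 := hind 1
  simp only [OneMemClass.coe_one] at hind1
  rw [hχn n, h1', hind n, hind1]
  ring

/-- **Central characters over a constituent.** If `θ` is a constituent of `χ_N` then the central
character of `χ` on `N` is the induced central character of `θ`. -/
theorem centralChar_eq_inducedCentralChar_of_constituent (χ : Cfsg.IrrCharacter G)
    (θ : Cfsg.IrrCharacter N)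
    (hcon : Cfsg.classInner (fun n : N => (χ : G → ℂ) n) (θ : N → ℂ) ≠ 0) (n : N) :
    Cfsg.centralChar (χ : G → ℂ) (n : G) = Cfsg.inducedCentralChar N (θ : N → ℂ) (n : G) := by
  rw [← centralChar_indFun]
  unfold Cfsg.centralChar
  have hcross := restrict_cross_of_constituent N χ.2 θ.2 hcon n
  have hχ1 : (χ : G → ℂ) 1 ≠ 0 := IsIrrCharacter.apply_one_ne_zero χ.2
  have hind1 : Cfsg.indFun N (θ : N → ℂ) 1 ≠ 0 := by
    rw [indFun_apply_one]
    apply mul_ne_zero
    · exact_mod_cast (Subgroup.index_ne_zero_of_finite (H := N))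
    · exact IsIrrCharacter.apply_one_ne_zero θ.2
  rw [mul_div_assoc, mul_div_assoc]
  congr 1
  rw [div_eq_div_iff hχ1 hind1, hcross, mul_comm]

omit hN in
/-- The restriction of an irreducible character has an irreducible constituent. -/
theorem exists_constituent_restrict (χ : Cfsg.IrrCharacter G) :
    ∃ θ : Cfsg.IrrCharacter N, Cfsg.classInner (fun n : N => (χ : G → ℂ) n) (θ : N → ℂ) ≠ 0 := by
  classical
  have : Fintype (Cfsg.IrrCharacter N) := Fintype.ofFinite _
  by_contra hcon
  push Not at hcon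
  have hcf : Cfsg.IsClassFunction N (fun n : N => (χ : G → ℂ) n) := by
    intro n m
    exact IrrCharacter.isClassFunction χ n m
  have hexp := classFunction_expansion (fun n : N => (χ : G → ℂ) n) hcf
  simp only [hcon, zero_smul, Finset.sum_const_zero] at hexp
  have := congrFun hexp 1
  exact IsIrrCharacter.apply_one_ne_zero χ.2 this

/-- Two irreducible characters of `N` whose induced central characters agree on `N` are
`G`-conjugate. -/
theorem exists_conj_of_inducedCentralChar_eq (θ θ₁ : Cfsg.IrrCharacter N)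
    (h : ∀ n : N, Cfsg.inducedCentralChar N (θ : N → ℂ) (n : G)
      = Cfsg.inducedCentralChar N (θ₁ : N → ℂ) (n : G)) :
    ∃ g : G, conjFun N g (θ₁ : N → ℂ) = (θ : N → ℂ) := by
  classical
  have hind1 : ∀ ϑ : Cfsg.IrrCharacter N, Cfsg.indFun N (ϑ : N → ℂ) 1 ≠ 0 := by
    intro ϑ
    rw [indFun_apply_one]
    apply mul_ne_zero
    · exact_mod_cast (Subgroup.index_ne_zero_of_finite (H := N))
    · exact IsIrrCharacter.apply_one_ne_zero ϑ.2
  -- proportionality of the induced functions on N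
  have hprop : (fun n : N => Cfsg.indFun N (θ : N → ℂ) n)
      = (Cfsg.indFun N (θ : N → ℂ) 1 / Cfsg.indFun N (θ₁ : N → ℂ) 1) •
        (fun n : N => Cfsg.indFun N (θ₁ : N → ℂ) n) := by
    funext n
    have h1 := h n
    rw [← centralChar_indFun, ← centralChar_indFun] at h1
    unfold Cfsg.centralChar at h1
    have hidx := index_centralizer_ne_zero (n : G)
    have h2 : Cfsg.indFun N (θ : N → ℂ) n / Cfsg.indFun N (θ : N → ℂ) 1
        = Cfsg.indFun N (θ₁ : N → ℂ) n / Cfsg.indFun N (θ₁ : N → ℂ) 1 := by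
      rw [mul_div_assoc, mul_div_assoc] at h1
      exact mul_left_cancel₀ hidx h1
    rw [div_eq_div_iff (hind1 θ) (hind1 θ₁)] at h2
    simp only [Pi.smul_apply, smul_eq_mul]
    have := hind1 θ₁
    field_simp
    linear_combination h2
  -- inner products
  have hfr : ∀ ϑ : Cfsg.IrrCharacter N,
      (Nat.card N : ℂ) * Cfsg.classInner (θ : N → ℂ) (fun n : N => Cfsg.indFun N (ϑ : N → ℂ) n)
        = (Nat.card {g : G // conjFun N g (ϑ : N → ℂ) = (θ : N → ℂ)} : ℂ) := by
    intro ϑ
    rw [← frobenius_reciprocity N (θ : N → ℂ) _ (indFun_isClassFunction N _)]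
    exact card_mul_classInner_indFun_indFun N θ.2 ϑ.2
  have hpos : (Nat.card {g : G // conjFun N g (θ : N → ℂ) = (θ : N → ℂ)} : ℂ) ≠ 0 := by
    have : Nonempty {g : G // conjFun N g (θ : N → ℂ) = (θ : N → ℂ)} := ⟨⟨1, conjFun_one N _⟩⟩
    exact_mod_cast Nat.card_pos.ne'
  have h3 := hfr θ
  rw [hprop, classInner_smul_right, ← mul_assoc, mul_comm (Nat.card N : ℂ), mul_assoc, hfr θ₁]
    at h3
  have h4 : (Nat.card {g : G // conjFun N g (θ₁ : N → ℂ) = (θ : N → ℂ)} : ℂ) ≠ 0 := by
    intro h0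
    rw [h0, mul_zero] at h3
    exact hpos h3.symm
  have h5 : Nat.card {g : G // conjFun N g (θ₁ : N → ℂ) = (θ : N → ℂ)} ≠ 0 := by
    exact_mod_cast h4
  have : Nonempty {g : G // conjFun N g (θ₁ : N → ℂ) = (θ : N → ℂ)} := by
    by_contra hne
    rw [not_nonempty_iff] at hne
    exact h5 Nat.card_of_isEmpty
  obtain ⟨⟨g, hg⟩⟩ := this
  exact ⟨g, hg⟩

/-- `θ` is a constituent of `χ_N` iff the central character of `χ` on `N` is the induced central
character of `θ`. -/
theorem constituent_iff_centralChar_eq (χ : Cfsg.IrrCharacter G) (θ : Cfsg.IrrCharacter N) :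
    Cfsg.classInner (fun n : N => (χ : G → ℂ) n) (θ : N → ℂ) ≠ 0 ↔
      ∀ n : N, Cfsg.centralChar (χ : G → ℂ) (n : G)
        = Cfsg.inducedCentralChar N (θ : N → ℂ) (n : G) := by
  constructor
  · intro hcon n
    exact centralChar_eq_inducedCentralChar_of_constituent N χ θ hcon n
  · intro h
    obtain ⟨θ₁, hθ₁⟩ := exists_constituent_restrict N χ
    have h1 : ∀ n : N, Cfsg.inducedCentralChar N (θ : N → ℂ) (n : G)
        = Cfsg.inducedCentralChar N (θ₁ : N → ℂ) (n : G) := by
      intro n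
      rw [← h n, centralChar_eq_inducedCentralChar_of_constituent N χ θ₁ hθ₁ n]
    obtain ⟨g, hg⟩ := exists_conj_of_inducedCentralChar_eq N θ θ₁ h1
    rw [← hg, classInner_restrict_conjFun N (IrrCharacter.isClassFunction χ)]
    exact hθ₁

end

end Cfsg.Agent.Lib.Helper7
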