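import Mathlib
import Cfsg.Prelude.Def_Blocks
import Cfsg.Agent.Lib.Helper2.Clifford
import Cfsg.Agent.Lib.Helper7.InducedBlock
import Cfsg.Agent.Lib.Helper7.CliffordCentral
import Cfsg.Agent.Lib.Helper24.NormalPCentral

/-!
# Blocks of a normal subgroup covered by blocks of the group (helper7 library)
-/

set_option autoImplicit false
set_option linter.unusedSectionVars false

namespace Cfsg.Agent.Lib.Helper7

open Cfsg.Agent.Lib.Helper2 Cfsg.Agent.Lib.Helper24
open scoped ComplexConjugate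

section Aut

/-- The class size is invariant under automorphisms. -/
theorem index_centralizer_mulEquiv {K : Type*} [Group K] [Finite K] (φ : K ≃* K) (k : K) :
    (Subgroup.centralizer ({φ k} : Set K)).index = (Subgroup.centralizer ({k} : Set K)).index := by
  have : Fintype K := Fintype.ofFinite K
  rw [index_centralizer_eq_card_conj, index_centralizer_eq_card_conj]
  symm
  apply Nat.card_congr
  refine
    { toFun := fun x => ⟨φ x.1, ?_⟩
      invFun := fun y => ⟨φ.symm y.1, ?_⟩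
      left_inv := fun x => Subtype.ext (by simp)
      right_inv := fun y => Subtype.ext (by simp) }
  · obtain ⟨c, hc⟩ := isConj_iff.mp x.2
    exact isConj_iff.mpr ⟨φ c, by rw [← hc]; simp⟩
  · obtain ⟨c, hc⟩ := isConj_iff.mp y.2
    refine isConj_iff.mpr ⟨φ.symm c, ?_⟩
    apply φ.injective
    simp [hc]

end Aut

section

variable {G : Type*} [Group G] [Fintype G] (N : Subgroup G) [hN : N.Normal] [Fintype N]
variable {p : ℕ} {M : Ideal Cfsg.AlgInt}

omit [Fintype G] in
theorem centralChar_conjFun (ψ : N → ℂ) (x : G) (n : N) :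
    Cfsg.centralChar (conjFun N x ψ) n
      = Cfsg.centralChar ψ (MulAut.conjNormal (H := N) x n) := by
  unfold Cfsg.centralChar
  rw [index_centralizer_mulEquiv (MulAut.conjNormal (H := N) x) n, conjFun_apply, conjFun_apply]
  have h1 : (⟨x * ((1 : N) : G) * x⁻¹, hN.conj_mem _ (1 : N).2 x⟩ : N) = 1 := by
    apply Subtype.ext; simp
  have h2 : (⟨x * (n : G) * x⁻¹, hN.conj_mem _ n.2 x⟩ : N) = MulAut.conjNormal (H := N) x n := by
    apply Subtype.ext; simp [MulAut.conjNormal_apply]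
  rw [h1, h2]

omit [Fintype G] in
theorem sameBlock_conjFun {ψ ψ' : N → ℂ} (h : Cfsg.SameBlock M ψ ψ') (x : G) :
    Cfsg.SameBlock M (conjFun N x ψ) (conjFun N x ψ') := by
  intro n
  rw [centralChar_conjFun, centralChar_conjFun]
  exact h _

/-- conjugation on irreducible characters of the normal subgroup -/
noncomputable def conjIrr (x : G) (ψ : Cfsg.IrrCharacter N) : Cfsg.IrrCharacter N :=
  ⟨conjFun N x (ψ : N → ℂ), isIrrCharacter_conjFun N x ψ.2⟩

theorem conjIrr_one (ψ : Cfsg.IrrCharacter N) : conjIrr N 1 ψ = ψ :=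
  Subtype.ext (conjFun_one N _)

theorem conjIrr_mul (a b : G) (ψ : Cfsg.IrrCharacter N) :
    conjIrr N (a * b) ψ = conjIrr N b (conjIrr N a ψ) :=
  Subtype.ext (conjFun_mul N a b _)

/-- conjugation by `x` as a permutation of the irreducible characters of `N` -/
noncomputable def conjIrrEquiv (x : G) : Cfsg.IrrCharacter N ≃ Cfsg.IrrCharacter N where
  toFun := conjIrr N x
  invFun := conjIrr N x⁻¹
  left_inv ψ := by rw [← conjIrr_mul, mul_inv_cancel, conjIrr_one]
  right_inv ψ := by rw [← conjIrr_mul, inv_mul_cancel, conjIrr_one]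

/-- the union of the `G`-conjugates of a set of irreducible characters of `N` -/
def orbitUnion (b : Set (Cfsg.IrrCharacter N)) : Set (Cfsg.IrrCharacter N) :=
  {ψ | ∃ x : G, conjIrr N x ψ ∈ b}

theorem subset_orbitUnion (b : Set (Cfsg.IrrCharacter N)) : b ⊆ orbitUnion N b := by
  intro ψ hψ
  exact ⟨1, by rw [conjIrr_one]; exact hψ⟩

theorem conjIrr_mem_orbitUnion_iff (b : Set (Cfsg.IrrCharacter N)) (y : G)
    (ψ : Cfsg.IrrCharacter N) : conjIrr N y ψ ∈ orbitUnion N b ↔ ψ ∈ orbitUnion N b := by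
  constructor
  · rintro ⟨x, hx⟩
    refine ⟨y * x, ?_⟩
    rw [conjIrr_mul]
    exact hx
  · rintro ⟨x, hx⟩
    refine ⟨y⁻¹ * x, ?_⟩
    rw [← conjIrr_mul, mul_inv_cancel_left]
    exact hx

theorem blockOf_subset_orbitUnion (hM : Cfsg.IsPModular p M) (b : Set (Cfsg.IrrCharacter N))
    (hb : Cfsg.IsPBlock M b) (ψ : Cfsg.IrrCharacter N) (hψ : ψ ∈ orbitUnion N b) :
    Cfsg.blockOf M (ψ : N → ℂ) ⊆ orbitUnion N b := by
  obtain ⟨ξ, rfl⟩ := hb
  obtain ⟨x, hx⟩ := hψ
  intro ψ' hψ'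
  refine ⟨x, ?_⟩
  have h1 : Cfsg.SameBlock M (ξ : N → ℂ) (conjFun N x (ψ : N → ℂ)) := hx
  have h2 : Cfsg.SameBlock M (conjFun N x (ψ : N → ℂ)) (conjFun N x (ψ' : N → ℂ)) :=
    sameBlock_conjFun N hψ' x
  exact sameBlock_trans hM h1 h2

end

section Union

variable {K : Type*} [Group K] [Fintype K] {p : ℕ} {M : Ideal Cfsg.AlgInt}

/-- A union of blocks has an idempotent with local-integer coefficients. -/
theorem blockCoeff_memLocalRing_of_union (hM : Cfsg.IsPModular p M)
    (U : Set (Cfsg.IrrCharacter K))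
    (hU : ∀ ψ ∈ U, Cfsg.blockOf M (ψ : K → ℂ) ⊆ U) (g : K) :
    Cfsg.MemLocalRing M (Cfsg.blockCoeff U g) := by
  classical
  have : Fintype (Cfsg.IrrCharacter K) := Fintype.ofFinite _
  let s : Setoid (Cfsg.IrrCharacter K) :=
    { r := fun ψ ψ' => Cfsg.SameBlock M (ψ : K → ℂ) (ψ' : K → ℂ)
      iseqv := ⟨fun ψ => sameBlock_refl hM _, fun h => sameBlock_symm hM h,
        fun h1 h2 => sameBlock_trans hM h1 h2⟩ }
  have : Fintype (Quotient s) := Fintype.ofFinite _
  set F : Cfsg.IrrCharacter K → ℂ := fun χ => (χ : K → ℂ) 1 * conj ((χ : K → ℂ) g) with hF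
  have hout : ∀ ψ : Cfsg.IrrCharacter K,
      Cfsg.SameBlock M (((Quotient.mk s ψ).out : Cfsg.IrrCharacter K) : K → ℂ) (ψ : K → ℂ) := by
    intro ψ
    exact Quotient.exact (Quotient.out_eq (Quotient.mk s ψ))
  have key : Cfsg.blockCoeff U g = ∑ q : Quotient s,
      if q.out ∈ U then Cfsg.blockCoeff (Cfsg.blockOf M ((q.out : Cfsg.IrrCharacter K) : K → ℂ)) g
        else 0 := by
    rw [blockCoeff_eq_sum]
    rw [← Finset.sum_fiberwise Finset.univ (fun χ => Quotient.mk s χ), Finset.mul_sum]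
    apply Finset.sum_congr rfl
    intro q _
    by_cases hq : q.out ∈ U
    · rw [if_pos hq, blockCoeff_eq_sum]
      congr 1
      rw [Finset.sum_filter]
      apply Finset.sum_congr rfl
      intro χ _
      by_cases hχq : Quotient.mk s χ = q
      · rw [if_pos hχq]
        have hsame : Cfsg.SameBlock M ((q.out : Cfsg.IrrCharacter K) : K → ℂ) (χ : K → ℂ) := by
          rw [← hχq]; exact hout χ
        have hχU : χ ∈ U := hU _ hq hsame
        rw [if_pos hχU, if_pos (by exact hsame)]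
      · rw [if_neg hχq]
        have hns : ¬ Cfsg.SameBlock M ((q.out : Cfsg.IrrCharacter K) : K → ℂ) (χ : K → ℂ) := by
          intro hsame
          apply hχq
          have : Quotient.mk s q.out = Quotient.mk s χ := Quotient.sound hsame
          rw [← this, Quotient.out_eq]
        rw [if_neg (by exact hns)]
    · rw [if_neg hq, mul_eq_zero]
      right
      apply Finset.sum_eq_zero
      intro χ hχ
      rw [Finset.mem_filter] at hχ
      have hχU : χ ∉ U := by
        intro hχU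
        apply hq
        have hsame : Cfsg.SameBlock M (χ : K → ℂ) ((q.out : Cfsg.IrrCharacter K) : K → ℂ) := by
          rw [← hχ.2]; exact sameBlock_symm hM (hout χ)
        exact hU _ hχU hsame
      rw [if_neg hχU]
  rw [key]
  apply memLocalRing_sum hM
  intro q _
  split_ifs
  · exact blockCoeff_memLocalRing hM _ ⟨q.out, rfl⟩ g
  · exact memLocalRing_zero hM

end Union

section Cover

variable {G : Type*} [Group G] [Fintype G] (N : Subgroup G) [hN : N.Normal] [Fintype N]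
variable {p : ℕ} {M : Ideal Cfsg.AlgInt}

/-- The idempotent of a `G`-stable set of characters of `N` is `G`-invariant. -/
theorem blockCoeff_conj_of_stable (U : Set (Cfsg.IrrCharacter N))
    (hU : ∀ (y : G) (ψ : Cfsg.IrrCharacter N), conjIrr N y ψ ∈ U ↔ ψ ∈ U) (x : G) (n : N) :
    Cfsg.blockCoeff U (⟨x * n * x⁻¹, hN.conj_mem _ n.2 x⟩ : N) = Cfsg.blockCoeff U n := by
  classical
  have : Fintype (Cfsg.IrrCharacter N) := Fintype.ofFinite _
  rw [blockCoeff_eq_sum, blockCoeff_eq_sum]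
  congr 1
  rw [← Equiv.sum_comp (conjIrrEquiv N x)
    (fun χ : Cfsg.IrrCharacter N => if χ ∈ U then (χ : N → ℂ) 1 * conj ((χ : N → ℂ) n) else 0)]
  apply Finset.sum_congr rfl
  intro χ _
  have h1 : (conjIrrEquiv N x χ ∈ U) ↔ χ ∈ U := hU x χ
  have h2 : ((conjIrrEquiv N x χ : Cfsg.IrrCharacter N) : N → ℂ) 1 = (χ : N → ℂ) 1 := by
    show conjFun N x (χ : N → ℂ) 1 = _
    rw [conjFun_apply]
    have e : (⟨x * ((1 : N) : G) * x⁻¹, hN.conj_mem _ (1 : N).2 x⟩ : N) = 1 := by
      apply Subtype.ext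
      simp
    rw [e]
  have h3 : ((conjIrrEquiv N x χ : Cfsg.IrrCharacter N) : N → ℂ) n
      = (χ : N → ℂ) ⟨x * n * x⁻¹, hN.conj_mem _ n.2 x⟩ := rfl
  by_cases hχ : χ ∈ U
  · rw [if_pos hχ, if_pos (h1.mpr hχ), h2, h3]
  · rw [if_neg hχ, if_neg (fun h => hχ (h1.mp h))]

/-- The idempotent of a set of characters of `N`, extended by zero to `G`. -/
noncomputable def coverFn (U : Set (Cfsg.IrrCharacter N)) : G → ℂ :=
  Cfsg.extendByZero N (Cfsg.blockCoeff U)

theorem coverFn_isClassFunction (U : Set (Cfsg.IrrCharacter N))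
    (hU : ∀ (y : G) (ψ : Cfsg.IrrCharacter N), conjIrr N y ψ ∈ U ↔ ψ ∈ U) :
    Cfsg.IsClassFunction G (coverFn N U) := by
  intro g x
  unfold coverFn
  by_cases hg : g ∈ N
  · have hx : x * g * x⁻¹ ∈ N := hN.conj_mem _ hg x
    rw [extendByZero_of_mem N _ hx, extendByZero_of_mem N _ hg]
    exact blockCoeff_conj_of_stable N U hU x ⟨g, hg⟩
  · have hx : x * g * x⁻¹ ∉ N := by
      intro h
      apply hg
      have := hN.conj_mem _ h x⁻¹
      have e : x⁻¹ * (x * g * x⁻¹) * x⁻¹⁻¹ = g := by group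
      rwa [e] at this
    rw [extendByZero_of_not_mem N _ hx, extendByZero_of_not_mem N _ hg]

theorem coverFn_memLocalRing (hM : Cfsg.IsPModular p M) (U : Set (Cfsg.IrrCharacter N))
    (hU : ∀ ψ ∈ U, Cfsg.blockOf M (ψ : N → ℂ) ⊆ U) (g : G) :
    Cfsg.MemLocalRing M (coverFn N U g) := by
  unfold coverFn
  by_cases hg : g ∈ N
  · rw [extendByZero_of_mem N _ hg]
    exact blockCoeff_memLocalRing_of_union hM U hU _
  · rw [extendByZero_of_not_mem N _ hg]
    exact memLocalRing_zero hM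

theorem coverFn_restrict (U : Set (Cfsg.IrrCharacter N)) :
    (fun n : N => coverFn N U (n : G)) = Cfsg.blockCoeff U := by
  funext n
  unfold coverFn
  rw [extendByZero_coe]

/-- `omega χ` of the cover function of a `G`-stable set `U`: it is `1` if the constituents of
`χ_N` lie in `U` and `0` otherwise. -/
theorem omega_coverFn (U : Set (Cfsg.IrrCharacter N))
    (hU : ∀ (y : G) (ψ : Cfsg.IrrCharacter N), conjIrr N y ψ ∈ U ↔ ψ ∈ U)
    (χ : Cfsg.IrrCharacter G) (θ : Cfsg.IrrCharacter N)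
    (hcon : Cfsg.classInner (fun n : N => (χ : G → ℂ) n) (θ : N → ℂ) ≠ 0) [Decidable (θ ∈ U)] :
    omega (χ : G → ℂ) (coverFn N U) = if θ ∈ U then 1 else 0 := by
  classical
  have : Fintype (Cfsg.IrrCharacter N) := Fintype.ofFinite _
  have hχ1 : (χ : G → ℂ) 1 ≠ 0 := IsIrrCharacter.apply_one_ne_zero χ.2
  have hcf : Cfsg.IsClassFunction N (fun n : N => (χ : G → ℂ) n) := by
    intro n m
    exact IrrCharacter.isClassFunction χ n m
  have hexp := classFunction_expansion (fun n : N => (χ : G → ℂ) n) hcf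
  set m : Cfsg.IrrCharacter N → ℂ :=
    fun ψ => Cfsg.classInner (fun n : N => (χ : G → ℂ) n) (ψ : N → ℂ) with hm
  -- membership of constituents
  have hmem : ∀ ψ : Cfsg.IrrCharacter N, m ψ ≠ 0 → (ψ ∈ U ↔ θ ∈ U) := by
    intro ψ hψ
    have hconj : ∃ g : G, (ψ : N → ℂ) = conjFun N g (θ : N → ℂ) := by
      by_contra hne
      push Not at hne
      exact hψ (classInner_restrict_eq_zero_of_not_conj N χ.2 θ.2 hcon ψ.2 hne)
    obtain ⟨g, hg⟩ := hconj
    have : ψ = conjIrr N g θ := Subtype.ext hg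
    rw [this]
    exact hU g θ
  unfold omega
  have h1 : ∑ g : G, coverFn N U g * (χ : G → ℂ) g
      = ∑ n : N, Cfsg.blockCoeff U n * (χ : G → ℂ) n := by
    unfold coverFn
    exact sum_extendByZero_mul N _ _
  rw [h1]
  have h2 : ∀ n : N, (χ : G → ℂ) n = ∑ ψ : Cfsg.IrrCharacter N, m ψ * (ψ : N → ℂ) n := by
    intro n
    have := congrFun hexp n
    rw [Finset.sum_apply] at this
    simpa using this
  have h3 : ∑ n : N, Cfsg.blockCoeff U n * (χ : G → ℂ) n
      = ∑ ψ : Cfsg.IrrCharacter N, m ψ * ((ψ : N → ℂ) 1 * if ψ ∈ U then 1 else 0) := by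
    simp_rw [h2, Finset.mul_sum]
    rw [Finset.sum_comm]
    apply Finset.sum_congr rfl
    intro ψ _
    have h4 := omega_blockCoeff U ψ
    unfold omega at h4
    have hψ1 : (ψ : N → ℂ) 1 ≠ 0 := IsIrrCharacter.apply_one_ne_zero ψ.2
    rw [div_eq_iff hψ1] at h4
    have : ∑ n : N, Cfsg.blockCoeff U n * (m ψ * (ψ : N → ℂ) n)
        = m ψ * ∑ n : N, Cfsg.blockCoeff U n * (ψ : N → ℂ) n := by
      rw [Finset.mul_sum]
      apply Finset.sum_congr rfl
      intro n _
      ring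
    rw [this, h4]
    ring
  rw [h3]
  by_cases hθ : θ ∈ U
  · rw [if_pos hθ]
    have h5 : ∑ ψ : Cfsg.IrrCharacter N, m ψ * ((ψ : N → ℂ) 1 * if ψ ∈ U then 1 else 0)
        = ∑ ψ : Cfsg.IrrCharacter N, m ψ * (ψ : N → ℂ) 1 := by
      apply Finset.sum_congr rfl
      intro ψ _
      by_cases hψ : m ψ = 0
      · rw [hψ, zero_mul, zero_mul]
      · rw [if_pos ((hmem ψ hψ).mpr hθ), mul_one]
    rw [h5]
    have h6 := h2 1
    simp only [OneMemClass.coe_one] at h6
    rw [← h6]
    exact div_self hχ1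
  · rw [if_neg hθ]
    have h5 : ∑ ψ : Cfsg.IrrCharacter N, m ψ * ((ψ : N → ℂ) 1 * if ψ ∈ U then 1 else 0) = 0 := by
      apply Finset.sum_eq_zero
      intro ψ _
      by_cases hψ : m ψ = 0
      · rw [hψ, zero_mul]
      · rw [if_neg (fun h => hθ ((hmem ψ hψ).mp h)), mul_zero, mul_zero]
    rw [h5, zero_div]

/-- Variant of `omega_restrict_sub_memLocalIdeal` for central elements supported where the
congruence is known. -/
theorem omega_restrict_sub_memLocalIdeal' (hM : Cfsg.IsPModular p M) (H : Subgroup G) [Fintype H]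
    (ξ : H → ℂ) (χ : Cfsg.IrrCharacter G) (a : G → ℂ) (ha : Cfsg.IsClassFunction G a)
    (hint : ∀ g, Cfsg.MemLocalRing M (a g))
    (hcong : ∀ g : G, a g = 0 ∨ Cfsg.MemLocalIdeal M
      (Cfsg.inducedCentralChar H ξ g - Cfsg.centralChar (χ : G → ℂ) g)) :
    Cfsg.MemLocalIdeal M (omega ξ (fun h : H => a h) - omega (χ : G → ℂ) a) := by
  classical
  rw [omega_restrict_eq_sum H ξ a ha, omega_eq_sum, ← Finset.sum_sub_distrib]
  have e : ∀ g : G, (a g * Cfsg.inducedCentralChar H ξ g)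
      * ((Subgroup.centralizer ({g} : Set G)).index : ℂ)⁻¹
      - (a g * Cfsg.centralChar (χ : G → ℂ) g)
      * ((Subgroup.centralizer ({g} : Set G)).index : ℂ)⁻¹
      = (a g * (Cfsg.inducedCentralChar H ξ g - Cfsg.centralChar (χ : G → ℂ) g))
      * ((Subgroup.centralizer ({g} : Set G)).index : ℂ)⁻¹ := by
    intro g; ring
  rw [Finset.sum_congr rfl (fun g _ => e g)]
  apply sum_mul_inv_index_mem (MlocC hM)
  · intro g x
    simp only
    rw [ha, centralChar_isClassFunction _ (IrrCharacter.isClassFunction χ)]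
    congr 2
    rw [inducedCentralChar_eq_sum, inducedCentralChar_eq_sum]
    congr 1
    apply Finset.sum_congr rfl
    intro h _
    have : IsConj (x * g * x⁻¹) (h : G) ↔ IsConj g (h : G) := by
      constructor
      · intro hh
        exact (isConj_iff.mpr ⟨x, rfl⟩).trans hh
      · intro hh
        exact (isConj_iff.mpr ⟨x, rfl⟩).symm.trans hh
    simp only [this]
  · intro g
    rcases hcong g with h0 | h1
    · show Cfsg.MemLocalIdeal M (a g * _)
      rw [h0, zero_mul]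
      exact memLocalIdeal_zero hM
    · exact memLocalIdeal_mul_left hM (hint g) h1

theorem sameBlock_of_mem_block (hM : Cfsg.IsPModular p M) {K : Type*} [Group K]
    {B : Set (Cfsg.IrrCharacter K)} (hB : Cfsg.IsPBlock M B) {χ χ' : Cfsg.IrrCharacter K}
    (hχ : χ ∈ B) (hχ' : χ' ∈ B) : Cfsg.SameBlock M (χ : K → ℂ) (χ' : K → ℂ) := by
  obtain ⟨ξ, rfl⟩ := hB
  exact sameBlock_trans hM (sameBlock_symm hM hχ) hχ'

/-- If `B` covers `b` then the central characters of `B` on `N` are congruent to the induced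
central characters of `b`. -/
theorem covering_cong (hM : Cfsg.IsPModular p M) (B : Set (Cfsg.IrrCharacter G))
    (hB : Cfsg.IsPBlock M B) (b : Set (Cfsg.IrrCharacter N)) (hb : Cfsg.IsPBlock M b)
    (hcov : ∃ χ ∈ B, ∃ θ ∈ b, Cfsg.classInner (fun n : N => (χ : G → ℂ) n) (θ : N → ℂ) ≠ 0)
    (χ : Cfsg.IrrCharacter G) (hχ : χ ∈ B) (θ : Cfsg.IrrCharacter N) (hθ : θ ∈ b) (n : N) :
    Cfsg.MemLocalIdeal M (Cfsg.centralChar (χ : G → ℂ) (n : G)
      - Cfsg.inducedCentralChar N (θ : N → ℂ) (n : G)) := by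
  obtain ⟨χ₀, hχ₀, θ₀, hθ₀, hcon⟩ := hcov
  have h1 : Cfsg.MemLocalIdeal M (Cfsg.centralChar (χ : G → ℂ) (n : G)
      - Cfsg.centralChar (χ₀ : G → ℂ) (n : G)) := sameBlock_of_mem_block hM hB hχ hχ₀ n
  have h2 := centralChar_eq_inducedCentralChar_of_constituent N χ₀ θ₀ hcon n
  have h3 := inducedCentralChar_sub_memLocalIdeal N hM θ₀ θ
    (sameBlock_of_mem_block hM hb hθ₀ hθ) (n : G)
  have h4 := memLocalIdeal_add hM h1 h3
  rw [h2] at h4
  have e : Cfsg.centralChar (χ : G → ℂ) (n : G) - Cfsg.inducedCentralChar N (θ₀ : N → ℂ) (n : G)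
      + (Cfsg.inducedCentralChar N (θ₀ : N → ℂ) (n : G)
        - Cfsg.inducedCentralChar N (θ : N → ℂ) (n : G))
      = Cfsg.centralChar (χ : G → ℂ) (n : G)
        - Cfsg.inducedCentralChar N (θ : N → ℂ) (n : G) := by ring
  rwa [e] at h4

theorem orbitUnion_stable (b : Set (Cfsg.IrrCharacter N)) :
    ∀ (y : G) (ψ : Cfsg.IrrCharacter N), conjIrr N y ψ ∈ orbitUnion N b ↔ ψ ∈ orbitUnion N b :=
  fun y ψ => conjIrr_mem_orbitUnion_iff N b y ψ

/-- If `χ, χ'` lie in the same block and `χ` lies over `θ ∈ b`, then every constituent of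
`χ'_N` is conjugate to a member of `b`. -/
theorem constituent_mem_orbitUnion (hM : Cfsg.IsPModular p M) (b : Set (Cfsg.IrrCharacter N))
    (hb : Cfsg.IsPBlock M b) (χ χ' : Cfsg.IrrCharacter G)
    (hsame : Cfsg.SameBlock M (χ : G → ℂ) (χ' : G → ℂ))
    (θ : Cfsg.IrrCharacter N) (hθ : θ ∈ b)
    (hcon : Cfsg.classInner (fun n : N => (χ : G → ℂ) n) (θ : N → ℂ) ≠ 0)
    (ψ : Cfsg.IrrCharacter N)
    (hψ : Cfsg.classInner (fun n : N => (χ' : G → ℂ) n) (ψ : N → ℂ) ≠ 0) :
    ψ ∈ orbitUnion N b := by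
  classical
  set U := orbitUnion N b with hU
  have hst := orbitUnion_stable N b
  have hun : ∀ ψ ∈ U, Cfsg.blockOf M (ψ : N → ℂ) ⊆ U :=
    fun ψ hψ => blockOf_subset_orbitUnion N hM b hb ψ hψ
  have h1 := omega_coverFn N U hst χ θ hcon
  have h2 := omega_coverFn N U hst χ' ψ hψ
  have h3 := omega_sub_memLocalIdeal hM χ χ' hsame (coverFn N U) (coverFn_isClassFunction N U hst)
    (coverFn_memLocalRing N hM U hun)
  rw [h1, h2, if_pos (subset_orbitUnion N b hθ)] at h3
  by_contra hne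
  rw [if_neg hne, sub_zero] at h3
  exact not_memLocalIdeal_one hM h3

/-- If the central characters of `B` on `N` are congruent to the induced central characters of
`b`, then `B` covers `b`. -/
theorem covering_of_cong (hM : Cfsg.IsPModular p M) (B : Set (Cfsg.IrrCharacter G))
    (hB : Cfsg.IsPBlock M B) (b : Set (Cfsg.IrrCharacter N)) (hb : Cfsg.IsPBlock M b)
    (hcong : ∀ χ ∈ B, ∀ θ ∈ b, ∀ n : N, Cfsg.MemLocalIdeal M
      (Cfsg.centralChar (χ : G → ℂ) (n : G) - Cfsg.inducedCentralChar N (θ : N → ℂ) (n : G))) :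
    ∃ χ ∈ B, ∃ θ ∈ b, Cfsg.classInner (fun n : N => (χ : G → ℂ) n) (θ : N → ℂ) ≠ 0 := by
  classical
  obtain ⟨χ, hχ⟩ : ∃ χ, χ ∈ B := by
    obtain ⟨ξ, rfl⟩ := hB
    exact ⟨ξ, sameBlock_refl hM _⟩
  obtain ⟨θ, hθ⟩ : ∃ θ, θ ∈ b := by
    obtain ⟨ξ, rfl⟩ := hb
    exact ⟨ξ, sameBlock_refl hM _⟩
  set U := orbitUnion N b with hU
  have hst := orbitUnion_stable N b
  have hun : ∀ ψ ∈ U, Cfsg.blockOf M (ψ : N → ℂ) ⊆ U :=
    fun ψ hψ => blockOf_subset_orbitUnion N hM b hb ψ hψ
  obtain ⟨θ₁, hθ₁⟩ := exists_constituent_restrict N χ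
  have h1 := omega_coverFn N U hst χ θ₁ hθ₁
  have h2 : omega (θ : N → ℂ) (fun n : N => coverFn N U (n : G)) = 1 := by
    rw [coverFn_restrict, omega_blockCoeff, if_pos (subset_orbitUnion N b hθ)]
  have h3 := omega_restrict_sub_memLocalIdeal' hM N (θ : N → ℂ) χ (coverFn N U)
    (coverFn_isClassFunction N U hst) (coverFn_memLocalRing N hM U hun) (by
      intro g
      by_cases hg : g ∈ N
      · right
        have := memLocalIdeal_neg (hcong χ hχ θ hθ ⟨g, hg⟩)
        rwa [neg_sub] at this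
      · left
        unfold coverFn
        exact extendByZero_of_not_mem N _ hg)
  rw [h1, h2] at h3
  have hθ₁U : θ₁ ∈ U := by
    by_contra hne
    rw [if_neg hne, sub_zero] at h3
    exact not_memLocalIdeal_one hM h3
  obtain ⟨x, hx⟩ := hθ₁U
  refine ⟨χ, hχ, conjIrr N x θ₁, hx, ?_⟩
  show Cfsg.classInner (fun n : N => (χ : G → ℂ) n) (conjFun N x (θ₁ : N → ℂ)) ≠ 0
  rw [classInner_restrict_conjFun N (IrrCharacter.isClassFunction χ)]
  exact hθ₁

/-- Every irreducible character of a subgroup lies under some irreducible character of `G`. -/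
theorem exists_irr_over (H : Subgroup G) [Fintype H] (ξ : Cfsg.IrrCharacter H) :
    ∃ χ : Cfsg.IrrCharacter G, Cfsg.classInner (fun h : H => (χ : G → ℂ) h) (ξ : H → ℂ) ≠ 0 := by
  classical
  have : Fintype (Cfsg.IrrCharacter G) := Fintype.ofFinite _
  by_contra hcon
  push Not at hcon
  have hexp := classFunction_expansion (Cfsg.indFun H (ξ : H → ℂ)) (indFun_isClassFunction H _)
  have h0 : ∀ χ : Cfsg.IrrCharacter G,
      Cfsg.classInner (Cfsg.indFun H (ξ : H → ℂ)) (χ : G → ℂ) = 0 := by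
    intro χ
    rw [frobenius_reciprocity H _ _ (IrrCharacter.isClassFunction χ), ← classInner_conj_symm,
      hcon χ, map_zero]
  simp only [h0, zero_smul, Finset.sum_const_zero] at hexp
  have h1 := congrFun hexp 1
  rw [indFun_apply_one] at h1
  have h2 : (H.index : ℂ) ≠ 0 := by
    exact_mod_cast (Subgroup.index_ne_zero_of_finite (H := H))
  exact (mul_ne_zero h2 (IsIrrCharacter.apply_one_ne_zero ξ.2)) h1

omit [Fintype G] [Fintype N] in
theorem inducedCentralChar_eq_zero_of_notMem (ξ : N → ℂ) {g : G} (hg : g ∉ N) :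
    Cfsg.inducedCentralChar N ξ g = 0 := by
  unfold Cfsg.inducedCentralChar
  have : {h : N | IsConj g (h : G)} = ∅ := by
    ext h
    simp only [Set.mem_ofPred_eq, Set.mem_empty_iff_false, iff_false]
    intro hc
    obtain ⟨c, hc⟩ := isConj_iff.mp hc.symm
    apply hg
    rw [← hc]
    exact hN.conj_mem _ h.2 c
  rw [this]
  simp

/-- If `N` is a normal subgroup containing the centralizer of a normal `p`-subgroup `Q`, then
every block of `G` covering the block `b` of `N` is induced by `b`. -/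
theorem isInducedBlock_of_covering [Fact p.Prime] (hM : Cfsg.IsPModular p M) (Q : Subgroup G)
    [Q.Normal] (hQ : IsPGroup p Q) (hCN : Subgroup.centralizer (Q : Set G) ≤ N)
    (B : Set (Cfsg.IrrCharacter G)) (hB : Cfsg.IsPBlock M B) (b : Set (Cfsg.IrrCharacter N))
    (hb : Cfsg.IsPBlock M b)
    (hcov : ∃ χ ∈ B, ∃ θ ∈ b, Cfsg.classInner (fun n : N => (χ : G → ℂ) n) (θ : N → ℂ) ≠ 0) :
    Cfsg.IsInducedBlock M N b B := by
  refine ⟨hb, hB, ?_⟩
  intro ξ hξ χ hχ g
  by_cases hg : g ∈ N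
  · have := memLocalIdeal_neg (covering_cong N hM B hB b hb hcov χ hχ ξ hξ ⟨g, hg⟩)
    rwa [neg_sub] at this
  · rw [inducedCentralChar_eq_zero_of_notMem N _ hg, zero_sub]
    apply memLocalIdeal_neg
    apply centralChar_memLocalIdeal_of_notMem_centralizer hM Q hQ g _ χ
    intro hc
    exact hg (hCN hc)

end Cover

end Cfsg.Agent.Lib.Helper7
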