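import Mathlib
import Cfsg.Prelude.Def_Blocks
import Cfsg.Agent.Lib.Helper24.Osima

/-!
# Existence of defect classes; unions of blocks (helper7 library, on top of helper24's
block infrastructure)
-/

set_option autoImplicit false

namespace Cfsg.Agent.Lib.Helper7

open Cfsg.Agent.Lib.Helper2 Cfsg.Agent.Lib.Helper24
open scoped ComplexConjugate

section

variable {G : Type*} [Group G] [Fintype G] {p : ℕ} {M : Ideal Cfsg.AlgInt}

/-- If `a` is a class function with local-integer values and `omega χ a` is not in the local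
ideal, then some `g` has `a g` and `centralChar χ g` both outside the local ideal. -/
theorem exists_not_memLocalIdeal_of_omega (hM : Cfsg.IsPModular p M) (χ : Cfsg.IrrCharacter G)
    (a : G → ℂ) (ha : Cfsg.IsClassFunction G a) (hint : ∀ g, Cfsg.MemLocalRing M (a g))
    (hne : ¬ Cfsg.MemLocalIdeal M (omega (χ : G → ℂ) a)) :
    ∃ g : G, ¬ Cfsg.MemLocalIdeal M (a g) ∧
      ¬ Cfsg.MemLocalIdeal M (Cfsg.centralChar (χ : G → ℂ) g) := by
  by_contra hcon
  push Not at hcon
  apply hne
  rw [omega_eq_sum]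
  apply sum_mul_inv_index_mem (MlocC hM)
  · intro g x
    simp only
    rw [ha, centralChar_isClassFunction _ (IrrCharacter.isClassFunction χ)]
  · intro g
    by_cases h : Cfsg.MemLocalIdeal M (a g)
    · exact memLocalIdeal_mul_right hM h (centralChar_memLocalRing hM χ g)
    · exact memLocalIdeal_mul_left hM (hint g) (hcon g h)

/-- Every block has a defect class. -/
theorem exists_isDefectClass (hM : Cfsg.IsPModular p M) (B : Set (Cfsg.IrrCharacter G))
    (hB : Cfsg.IsPBlock M B) : ∃ g : G, Cfsg.IsDefectClass M B g := by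
  classical
  obtain ⟨χ₀, rfl⟩ := hB
  set B := Cfsg.blockOf M (χ₀ : G → ℂ) with hBdef
  have hχ₀ : χ₀ ∈ B := sameBlock_refl hM _
  have hint : ∀ g, Cfsg.MemLocalRing M (Cfsg.blockCoeff B g) :=
    fun g => blockCoeff_memLocalRing hM B ⟨χ₀, rfl⟩ g
  have hom : omega (χ₀ : G → ℂ) (Cfsg.blockCoeff B) = 1 := by
    rw [omega_blockCoeff, if_pos hχ₀]
  obtain ⟨g, hg1, hg2⟩ := exists_not_memLocalIdeal_of_omega hM χ₀ (Cfsg.blockCoeff B)
    (blockCoeff_isClassFunction B) hint (by rw [hom]; exact not_memLocalIdeal_one hM)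
  refine ⟨g, hint g, hg1, ?_⟩
  intro χ hχ hmem
  apply hg2
  have h1 : Cfsg.MemLocalIdeal M
      (Cfsg.centralChar (χ₀ : G → ℂ) g - Cfsg.centralChar (χ : G → ℂ) g) := hχ g
  have := memLocalIdeal_add hM h1 hmem
  rwa [sub_add_cancel] at this

/-- A set of irreducible characters whose "idempotent" has local-integer coefficients is a union
of blocks. -/
theorem blockOf_subset_of_memLocalRing (hM : Cfsg.IsPModular p M) (A : Set (Cfsg.IrrCharacter G))
    (hA : ∀ g : G, Cfsg.MemLocalRing M (Cfsg.blockCoeff A g)) (χ : Cfsg.IrrCharacter G)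
    (hχ : χ ∈ A) : Cfsg.blockOf M (χ : G → ℂ) ⊆ A := by
  classical
  intro ψ hψ
  by_contra hψA
  have h := omega_sub_memLocalIdeal hM χ ψ hψ (Cfsg.blockCoeff A) (blockCoeff_isClassFunction A) hA
  rw [omega_blockCoeff, omega_blockCoeff, if_pos hχ, if_neg hψA, sub_zero] at h
  exact not_memLocalIdeal_one hM h

end

end Cfsg.Agent.Lib.Helper7
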