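import Mathlib
import Cfsg.Prelude.Def_Blocks
import Cfsg.Agent.Lib.Helper7.Covering
import Cfsg.Agent.Lib.Helper7.DefectClass

/-!
# Blocks and normal subgroups of order prime to `p` (helper7 library)
-/

set_option autoImplicit false
set_option linter.unusedSectionVars false

namespace Cfsg.Agent.Lib.Helper7

open Cfsg.Agent.Lib.Helper2 Cfsg.Agent.Lib.Helper24
open scoped ComplexConjugate

section

variable {K : Type*} [Group K] [Fintype K] {p : ℕ} {M : Ideal Cfsg.AlgInt}

theorem irr_value_isIntegral (θ : Cfsg.IrrCharacter K) (k : K) :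
    IsIntegral ℤ ((θ : K → ℂ) k) := by
  obtain ⟨n, ρ, _, h⟩ := θ.2
  rw [← h]
  exact char_isIntegral ρ k

theorem irr_value_conj_isIntegral (θ : Cfsg.IrrCharacter K) (k : K) :
    IsIntegral ℤ (conj ((θ : K → ℂ) k)) := by
  have := irr_value_isIntegral θ k
  exact this.map (starRingEnd ℂ : ℂ →+* ℂ).toIntAlgHom

/-- In a group of order prime to `p` every block is a singleton. -/
theorem blockOf_eq_singleton_of_not_dvd (hM : Cfsg.IsPModular p M) (hp : ¬ p ∣ Nat.card K)
    (θ : Cfsg.IrrCharacter K) : Cfsg.blockOf M (θ : K → ℂ) = {θ} := by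
  classical
  apply Set.Subset.antisymm
  · apply blockOf_subset_of_memLocalRing hM {θ} _ θ rfl
    intro g
    unfold Cfsg.blockCoeff
    rw [finsum_mem_singleton]
    apply memLocalRing_mul hM (memLocalRing_natCast_inv hM hp)
    apply memLocalRing_mul hM
    · exact memLocalRing_of_isIntegral hM (irr_value_isIntegral θ 1)
    · exact memLocalRing_of_isIntegral hM (irr_value_conj_isIntegral θ g)
  · intro ψ hψ
    rw [Set.mem_singleton_iff] at hψ
    rw [hψ]
    exact sameBlock_refl hM _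

end

section

variable {G : Type*} [Group G] [Fintype G] (N : Subgroup G) [hN : N.Normal] [Fintype N]
variable {p : ℕ} {M : Ideal Cfsg.AlgInt}

/-- Characters in the same block lie over the same characters of a normal `p'`-subgroup. -/
theorem constituent_of_sameBlock_of_not_dvd (hM : Cfsg.IsPModular p M) (hp : ¬ p ∣ Nat.card N)
    (χ ψ : Cfsg.IrrCharacter G) (h : Cfsg.SameBlock M (χ : G → ℂ) (ψ : G → ℂ))
    (θ : Cfsg.IrrCharacter N)
    (hcon : Cfsg.classInner (fun n : N => (χ : G → ℂ) n) (θ : N → ℂ) ≠ 0) :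
    Cfsg.classInner (fun n : N => (ψ : G → ℂ) n) (θ : N → ℂ) ≠ 0 := by
  obtain ⟨θ₂, hθ₂⟩ := exists_constituent_restrict N ψ
  have hb : Cfsg.IsPBlock M ({θ} : Set (Cfsg.IrrCharacter N)) :=
    ⟨θ, (blockOf_eq_singleton_of_not_dvd hM hp θ).symm⟩
  obtain ⟨x, hx⟩ := constituent_mem_orbitUnion N hM {θ} hb χ ψ h θ rfl hcon θ₂ hθ₂
  rw [Set.mem_singleton_iff] at hx
  have : (θ : N → ℂ) = conjFun N x (θ₂ : N → ℂ) := by
    rw [← hx]; rfl
  rw [this, classInner_restrict_conjFun N (IrrCharacter.isClassFunction ψ)]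
  exact hθ₂

end

end Cfsg.Agent.Lib.Helper7
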