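import Mathlib
import Cfsg.Prelude.Def_Characters
import Cfsg.Agent.Lib.Helper2.Linear
import Cfsg.Agent.Lib.Helper2.Induction
import Cfsg.Agent.Lib.Helper11.CharSep

/-!
# Characters vanishing on `P g ∖ {g}` (helper7 library)

`isIntegral_div_card_of_vanish`: if `χ` is a character of the finite group `G`, the subgroup `P`
centralizes `g` and `χ (u * g) = 0` for all `1 ≠ u ∈ P`, then `χ g / |P|` is an algebraic
integer.
-/

set_option autoImplicit false

namespace Cfsg.Agent.Lib.Helper7

open Cfsg.Agent.Lib.Helper2 Cfsg.Agent.Lib.Helper11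
open scoped ComplexConjugate

section

variable {G : Type*} [Group G] [Fintype G]

/-- the number of linear characters of a finite commutative group -/
theorem card_linChar_of_comm' {A : Type*} [Group A] [Finite A]
    (hcomm : ∀ a b : A, a * b = b * a) : Nat.card (A →* ℂˣ) = Nat.card A := by
  let inst : CommGroup A := { (inferInstance : Group A) with mul_comm := hcomm }
  have hne : NeZero ((Monoid.exponent A : ℕ) : ℂ) :=
    ⟨by exact_mod_cast Monoid.exponent_ne_zero_of_finite⟩
  exact @CommGroup.card_monoidHom_of_hasEnoughRootsOfUnity A ℂ inst _ _ inferInstance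

/-- column orthogonality for a finite commutative group -/
theorem sum_linChar_apply {A : Type*} [Group A] [Finite A]
    (hcomm : ∀ a b : A, a * b = b * a) [Fintype (A →* ℂˣ)] (u : A) [Decidable (u = 1)] :
    ∑ φ : A →* ℂˣ, (φ u : ℂ) = if u = 1 then (Nat.card A : ℂ) else 0 := by
  classical
  have h := sum_char_trivialOn hcomm (⊥ : Subgroup A) u
  have hfil : Finset.univ.filter (fun φ : A →* ℂˣ => ∀ y ∈ (⊥ : Subgroup A), φ y = 1)
      = Finset.univ := by
    apply Finset.filter_true_of_mem
    intro φ _ y hy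
    rw [Subgroup.mem_bot] at hy
    rw [hy, map_one]
  rw [hfil] at h
  rw [h]
  by_cases hu : u = 1
  · rw [if_pos hu, if_pos (by rw [hu]; exact Subgroup.mem_bot.mpr rfl), Finset.card_univ,
      ← Nat.card_eq_fintype_card, card_linChar_of_comm' hcomm]
  · rw [if_neg hu, if_neg (fun h => hu (Subgroup.mem_bot.mp h))]

/-- If the subgroup `P` centralizes `g` and the character `χ` vanishes at `u * g` for all
`1 ≠ u ∈ P`, then `χ g / |P|` is an algebraic integer. -/
theorem isIntegral_div_card_of_vanish (χ : G → ℂ) (hχ : Cfsg.IsCharacter G χ) (g : G)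
    (P : Subgroup G) (hPg : ∀ u ∈ P, u * g = g * u)
    (hvan : ∀ u ∈ P, u ≠ 1 → χ (u * g) = 0) :
    IsIntegral ℤ (χ g / (Nat.card P : ℂ)) := by
  classical
  haveI : Fintype P := Fintype.ofFinite P
  set A := Subgroup.zpowers g with hA
  haveI : Fintype A := Fintype.ofFinite A
  haveI : Fintype (A →* ℂˣ) := Fintype.ofFinite _
  have hcomm : ∀ a b : A, a * b = b * a := by
    intro a b
    obtain ⟨k, hk⟩ := Subgroup.mem_zpowers_iff.mp a.2
    obtain ⟨l, hl⟩ := Subgroup.mem_zpowers_iff.mp b.2
    apply Subtype.ext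
    rw [Subgroup.coe_mul, Subgroup.coe_mul, ← hk, ← hl, ← zpow_add, ← zpow_add, add_comm]
  -- the product map
  have hcomm2 : ∀ (u : P) (y : A), (u : G) * (y : G) = (y : G) * (u : G) := by
    intro u y
    obtain ⟨k, hk⟩ := Subgroup.mem_zpowers_iff.mp y.2
    rw [← hk]
    have : Commute (u : G) g := hPg u u.2
    exact (this.zpow_right k).eq
  let f : P × A →* G :=
    { toFun := fun x => (x.1 : G) * (x.2 : G)
      map_one' := by simp
      map_mul' := by
        intro x y
        simp only [Prod.fst_mul, Prod.snd_mul, Subgroup.coe_mul]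
        calc (x.1 : G) * (y.1 : G) * ((x.2 : G) * (y.2 : G))
            = (x.1 : G) * ((y.1 : G) * (x.2 : G)) * (y.2 : G) := by group
          _ = (x.1 : G) * ((x.2 : G) * (y.1 : G)) * (y.2 : G) := by rw [hcomm2 y.1 x.2]
          _ = (x.1 : G) * (x.2 : G) * ((y.1 : G) * (y.2 : G)) := by group }
  have hχf : Cfsg.IsCharacter (P × A) (fun x => χ (f x)) := IsCharacter.comp hχ f
  -- the multiplicities
  have hμ : ∀ μ : A →* ℂˣ, Cfsg.IsCharacter (P × A)
      (fun x => (((μ.comp (MonoidHom.snd P A)) x : ℂˣ) : ℂ)) := fun μ =>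
    IsIrrCharacter.isCharacter (isIrrCharacter_of_monoidHom (μ.comp (MonoidHom.snd P A)))
  have hn : ∀ μ : A →* ℂˣ, ∃ n : ℕ, Cfsg.classInner (fun x => χ (f x))
      (fun x => (((μ.comp (MonoidHom.snd P A)) x : ℂˣ) : ℂ)) = (n : ℂ) :=
    fun μ => classInner_isCharacter_nat hχf (hμ μ)
  choose n hn using hn
  set g' : A := ⟨g, Subgroup.mem_zpowers g⟩ with hg'
  -- the key computation
  have key : ∑ μ : A →* ℂˣ, (n μ : ℂ) * (μ g' : ℂ) = χ g / (Nat.card P : ℂ) := by
    have h1 : ∀ μ : A →* ℂˣ, (n μ : ℂ) * (μ g' : ℂ)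
        = (Nat.card (P × A) : ℂ)⁻¹ * ∑ x : P × A, χ (f x) * ((μ (x.2⁻¹ * g') : ℂˣ) : ℂ) := by
      intro μ
      rw [← hn μ, classInner_def, mul_assoc, Finset.sum_mul]
      congr 1
      apply Finset.sum_congr rfl
      intro x _
      have : conj (((μ.comp (MonoidHom.snd P A)) x : ℂˣ) : ℂ) = ((μ (x.2⁻¹) : ℂˣ) : ℂ) := by
        rw [MonoidHom.comp_apply, MonoidHom.coe_snd, linChar_conj]
        simp
      rw [this, map_mul]
      push_cast
      ring
    rw [Finset.sum_congr rfl (fun μ _ => h1 μ), ← Finset.mul_sum, Finset.sum_comm]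
    have h2 : ∀ x : P × A, ∑ μ : A →* ℂˣ, χ (f x) * ((μ (x.2⁻¹ * g') : ℂˣ) : ℂ)
        = if x.2 = g' then χ (f x) * (Nat.card A : ℂ) else 0 := by
      intro x
      rw [← Finset.mul_sum, sum_linChar_apply hcomm]
      by_cases hx : x.2 = g'
      · rw [if_pos hx, if_pos (by rw [hx]; group)]
      · rw [if_neg hx, if_neg, mul_zero]
        intro h
        apply hx
        have : g' = x.2 * (x.2⁻¹ * g') := by group
        rw [this, h, mul_one]
    rw [Finset.sum_congr rfl (fun x _ => h2 x), Fintype.sum_prod_type]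
    have h3 : ∀ u : P, ∑ y : A, (if ((u, y) : P × A).2 = g' then
        χ (f (u, y)) * (Nat.card A : ℂ) else 0)
        = if u = 1 then χ g * (Nat.card A : ℂ) else 0 := by
      intro u
      rw [Finset.sum_eq_single g']
      · rw [if_pos rfl]
        have hf : f (u, g') = (u : G) * g := rfl
        rw [hf]
        by_cases hu : u = 1
        · rw [if_pos hu, hu]; simp
        · rw [if_neg hu, hvan u u.2 (fun h => hu (Subtype.ext h)), zero_mul]
      · intro y _ hy
        rw [if_neg hy]
      · intro h; exact absurd (Finset.mem_univ _) h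
    rw [Finset.sum_congr rfl (fun u _ => h3 u), Finset.sum_ite_eq' Finset.univ (1 : P)]
    rw [if_pos (Finset.mem_univ _), Nat.card_prod]
    have hP0 : (Nat.card P : ℂ) ≠ 0 := by
      exact_mod_cast (Nat.card_pos (α := P)).ne'
    have hA0 : (Nat.card A : ℂ) ≠ 0 := by
      exact_mod_cast (Nat.card_pos (α := A)).ne'
    push_cast
    field_simp
  rw [← key]
  apply IsIntegral.sum
  intro μ _
  apply IsIntegral.mul (isIntegral_algebraMap (R := ℤ) (A := ℂ) (x := (n μ : ℤ)) |> fun h => by
    simpa using h)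
  have hpow : ((μ g' : ℂˣ) : ℂ) ^ Fintype.card A = 1 := linChar_pow_card μ g'
  exact ⟨Polynomial.X ^ Fintype.card A - 1, Polynomial.monic_X_pow_sub_C 1 Fintype.card_ne_zero,
    by simp [hpow]⟩

end

end Cfsg.Agent.Lib.Helper7
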