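import Mathlib
import Cfsg.Prelude.Def_Blocks
import Cfsg.Agent.Lib.Helper24.BlockOrtho
import Cfsg.Agent.Lib.Helper24.Defect
import Cfsg.Agent.Lib.Helper25.Codegree
import Cfsg.Agent.Lib.Helper7.VanishDiv
import Cfsg.Agent.Lib.Helper7.PPrimeNormal

/-!
# The order of a defect group (helper7 library)

For a defect class `g` of the block `B`: the least `p`-adic valuation of the degrees of the
members of `B` is `ν(|G|) - ν(|C_G(g)|)`; hence `|D| = p ^ d(B)` for every defect group `D`.
-/

set_option autoImplicit false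

namespace Cfsg.Agent.Lib.Helper7

open Cfsg.Agent.Lib.Helper2 Cfsg.Agent.Lib.Helper24
open scoped ComplexConjugate

section

variable {G : Type*} [Group G] [Fintype G] {p : ℕ} {M : Ideal Cfsg.AlgInt}

omit [Fintype G] in
/-- a non-trivial `p`-element times a commuting `p`-regular element is `p`-singular -/
theorem dvd_orderOf_mul_of_pgroup [Finite G] [Fact p.Prime] {u g : G} (hu : ∃ k, orderOf u = p ^ k)
    (hu1 : u ≠ 1) (hg : ¬ p ∣ orderOf g) (hc : u * g = g * u) : p ∣ orderOf (u * g) := by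
  obtain ⟨k, hk⟩ := hu
  have hp : p.Prime := Fact.out
  have hcop : Nat.Coprime (orderOf u) (orderOf g) := by
    rw [hk]
    exact Nat.Coprime.pow_left k ((Nat.Prime.coprime_iff_not_dvd hp).mpr hg)
  have h := Commute.orderOf_mul_eq_mul_orderOf_of_coprime (show Commute u g from hc) hcop
  rw [h, hk]
  have hk0 : k ≠ 0 := by
    intro h0
    rw [h0, pow_zero, orderOf_eq_one_iff] at hk
    exact hu1 hk
  exact Dvd.dvd.mul_right (dvd_pow_self p hk0) _

theorem irr_charDegree_pos (χ : Cfsg.IrrCharacter G) : 0 < Cfsg.charDegree (χ : G → ℂ) := by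
  have hχ1 : (χ : G → ℂ) 1 = (Cfsg.charDegree (χ : G → ℂ) : ℂ) :=
    Cfsg.Agent.Lib.Helper25.char_one_eq_charDegree (Cfsg.Agent.Lib.Helper25.isCharacter_of_irr χ.2)
  have hne : (χ : G → ℂ) 1 ≠ 0 := Cfsg.Agent.Lib.Helper25.irr_one_ne_zero χ.2
  rcases Nat.eq_zero_or_pos (Cfsg.charDegree (χ : G → ℂ)) with h | h
  · rw [h, Nat.cast_zero] at hχ1; exact absurd hχ1 hne
  · exact h

/-- If the central character of `χ` at `g` is a unit then `ν(|cl(g)|) ≤ ν(χ(1))`. -/
theorem factorization_index_le_of_centralChar (hM : Cfsg.IsPModular p M)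
    (χ : Cfsg.IrrCharacter G) (g : G)
    (h : ¬ Cfsg.MemLocalIdeal M (Cfsg.centralChar (χ : G → ℂ) g)) :
    ((Subgroup.centralizer ({g} : Set G)).index).factorization p
      ≤ (Cfsg.charDegree (χ : G → ℂ)).factorization p := by
  have hp : p.Prime := hM.1
  by_contra hlt
  push Not at hlt
  apply h
  set n := Cfsg.charDegree (χ : G → ℂ) with hn
  set k := (Subgroup.centralizer ({g} : Set G)).index with hk
  set i := n.factorization p with hi
  have hnpos : 0 < n := irr_charDegree_pos χ
  have hkne : k ≠ 0 := Subgroup.index_ne_zero_of_finite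
  have hχ1 : (χ : G → ℂ) 1 = (n : ℂ) :=
    Cfsg.Agent.Lib.Helper25.char_one_eq_charDegree (Cfsg.Agent.Lib.Helper25.isCharacter_of_irr χ.2)
  -- n = p^i * n', p ∤ n'
  have hn' : p ^ i * (n / p ^ i) = n := Nat.ordProj_mul_ordCompl_eq_self n p
  have hn'nd : ¬ p ∣ n / p ^ i := Nat.not_dvd_ordCompl hp hnpos.ne'
  -- p^(i+1) ∣ k
  have hdk : p ^ (i + 1) ∣ k := (hp.pow_dvd_iff_le_factorization hkne).mpr hlt
  obtain ⟨k'', hk''⟩ := hdk
  set n' := n / p ^ i with hn'def
  have hn'0 : (n' : ℂ) ≠ 0 := by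
    intro h0
    have : n' = 0 := by exact_mod_cast h0
    rw [this] at hn'nd
    exact hn'nd (dvd_zero p)
  have hp0 : (p : ℂ) ≠ 0 := by exact_mod_cast hp.ne_zero
  have e : Cfsg.centralChar (χ : G → ℂ) g
      = (p : ℂ) * ((k'' : ℂ) * (χ : G → ℂ) g * (n' : ℂ)⁻¹) := by
    unfold Cfsg.centralChar
    rw [hχ1, ← hk, hk'']
    have : (n : ℂ) = (p : ℂ) ^ i * (n' : ℂ) := by
      rw [← hn']; push_cast; ring
    rw [this]
    push_cast
    field_simp
    ring
  rw [e]
  apply memLocalIdeal_mul_right hM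
  · rw [memLocalIdeal_natCast_iff hM]
  · apply memLocalRing_mul hM
    · apply memLocalRing_mul hM (memLocalRing_natCast hM _)
      exact memLocalRing_of_isIntegral hM (irr_value_isIntegral χ g)
    · exact memLocalRing_natCast_inv hM hn'nd

/-- For a defect class `g`, some member of `B` has `ν(χ(1)) ≤ ν(|G|) - ν(|C_G(g)|)`. -/
theorem exists_factorization_le_of_isDefectClass [Fact p.Prime] (hM : Cfsg.IsPModular p M)
    (B : Set (Cfsg.IrrCharacter G)) (hB : Cfsg.IsPBlock M B) (g : G)
    (hg : Cfsg.IsDefectClass M B g) :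
    ∃ χ ∈ B, (Cfsg.charDegree (χ : G → ℂ)).factorization p
      ≤ (Nat.card G).factorization p
        - (Nat.card (Subgroup.centralizer ({g} : Set G))).factorization p := by
  classical
  haveI : Fintype (Cfsg.IrrCharacter G) := Fintype.ofFinite _
  have hp : p.Prime := hM.1
  by_contra hcon
  push Not at hcon
  apply hg.2.1
  obtain ⟨a, ha⟩ : ∃ a, a = (Nat.card G).factorization p := ⟨_, rfl⟩
  obtain ⟨d, hd⟩ : ∃ d, d = (Nat.card (Subgroup.centralizer ({g} : Set G))).factorization p :=
    ⟨_, rfl⟩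
  rw [← ha, ← hd] at hcon
  have hG0 : Nat.card G ≠ 0 := Nat.card_pos.ne'
  have hC0 : Nat.card (Subgroup.centralizer ({g} : Set G)) ≠ 0 := Nat.card_pos.ne'
  have hda : d ≤ a := by
    rw [ha, hd]
    have hdvd : Nat.card (Subgroup.centralizer ({g} : Set G)) ∣ Nat.card G :=
      Subgroup.card_subgroup_dvd_card _
    exact (Nat.factorization_le_iff_dvd hC0 hG0).mpr hdvd p
  set m := a - d with hm
  -- all degrees in B are divisible by p^(m+1)
  have hdiv : ∀ χ ∈ B, p ^ (m + 1) ∣ Cfsg.charDegree (χ : G → ℂ) := by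
    intro χ hχ
    exact (hp.pow_dvd_iff_le_factorization (irr_charDegree_pos χ).ne').mpr (hcon χ hχ)
  -- the character Φ
  set Φ : G → ℂ := ∑ χ ∈ Finset.univ.filter (fun χ : Cfsg.IrrCharacter G => χ ∈ B),
    (Cfsg.charDegree (χ : G → ℂ) / p ^ (m + 1)) • (χ : G → ℂ) with hΦ
  have hΦchar : Cfsg.IsCharacter G Φ := by
    apply isCharacter_sum
    intro χ _
    exact isCharacter_nsmul _ (IsIrrCharacter.isCharacter χ.2)
  have hχ1 : ∀ χ : Cfsg.IrrCharacter G, (χ : G → ℂ) 1 = (Cfsg.charDegree (χ : G → ℂ) : ℂ) :=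
    fun χ => Cfsg.Agent.Lib.Helper25.char_one_eq_charDegree
      (Cfsg.Agent.Lib.Helper25.isCharacter_of_irr χ.2)
  have hpm0 : ((p : ℂ) ^ (m + 1)) ≠ 0 := pow_ne_zero _ (by exact_mod_cast hp.ne_zero)
  -- Φ x = |G| / p^(m+1) * conj (blockCoeff B x)
  have hΦval : ∀ x : G, Φ x = (Nat.card G : ℂ) / (p : ℂ) ^ (m + 1)
      * conj (Cfsg.blockCoeff B x) := by
    intro x
    rw [blockCoeff_eq_sum, map_mul, map_sum, hΦ, Finset.sum_apply, Finset.sum_filter,
      map_inv₀, Complex.conj_natCast]
    have hG : (Nat.card G : ℂ) ≠ 0 := by exact_mod_cast hG0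
    rw [div_mul_eq_mul_div, mul_inv_cancel_left₀ hG, Finset.sum_div]
    apply Finset.sum_congr rfl
    intro χ _
    by_cases hχ : χ ∈ B
    · rw [if_pos hχ, if_pos hχ, map_mul, Complex.conj_conj, hχ1, Complex.conj_natCast]
      obtain ⟨c, hc⟩ := hdiv χ hχ
      have hpp : 0 < p ^ (m + 1) := pow_pos hp.pos _
      rw [hc, Nat.mul_div_cancel_left c hpp]
      simp only [Pi.smul_apply, nsmul_eq_mul]
      push_cast
      field_simp
    · rw [if_neg hχ, if_neg hχ]
      simp
  -- the Sylow subgroup of the centralizer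
  obtain ⟨Q⟩ : Nonempty (Sylow p (Subgroup.centralizer ({g} : Set G))) := inferInstance
  have hgreg : ¬ p ∣ orderOf g := isDefectClass_regular hM hB hg
  have hPg : ∀ u ∈ (Q : Subgroup (Subgroup.centralizer ({g} : Set G))).map
      (Subgroup.centralizer ({g} : Set G)).subtype, u * g = g * u := by
    rintro _ ⟨v, _, rfl⟩
    have := v.2
    rw [Subgroup.mem_centralizer_singleton_iff] at this
    exact this
  have hPp : IsPGroup p ((Q : Subgroup (Subgroup.centralizer ({g} : Set G))).map
      (Subgroup.centralizer ({g} : Set G)).subtype) := Q.2.map _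
  have hvan : ∀ u ∈ (Q : Subgroup (Subgroup.centralizer ({g} : Set G))).map
      (Subgroup.centralizer ({g} : Set G)).subtype, u ≠ 1 → Φ (u * g) = 0 := by
    intro u hu hu1
    rw [hΦval]
    have hu' : ∃ k, orderOf u = p ^ k := by
      obtain ⟨k, hk⟩ := (IsPGroup.iff_orderOf.mp hPp) ⟨u, hu⟩
      exact ⟨k, by rw [← hk]; exact (Subgroup.orderOf_mk u hu).symm⟩
    have hsing := dvd_orderOf_mul_of_pgroup hu' hu1 hgreg (hPg u hu)
    rw [blockCoeff_eq_zero_of_singular hM B hB _ hsing, map_zero, mul_zero]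
  have hint := isIntegral_div_card_of_vanish Φ hΦchar g _ hPg hvan
  have hPcard : Nat.card ((Q : Subgroup (Subgroup.centralizer ({g} : Set G))).map
      (Subgroup.centralizer ({g} : Set G)).subtype) = p ^ d := by
    rw [Subgroup.card_map_of_injective (Subgroup.subtype_injective _), hd]
    exact Q.card_eq_multiplicity
  rw [hPcard] at hint
  -- now compute
  have hGdec : p ^ a * (Nat.card G / p ^ a) = Nat.card G := by
    rw [ha]; exact Nat.ordProj_mul_ordCompl_eq_self _ p
  have hrnd : ¬ p ∣ Nat.card G / p ^ a := by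
    rw [ha]; exact Nat.not_dvd_ordCompl hp hG0
  set r := Nat.card G / p ^ a with hr
  have hr0 : (r : ℂ) ≠ 0 := by
    intro h0
    have : r = 0 := by exact_mod_cast h0
    rw [this] at hrnd
    exact hrnd (dvd_zero p)
  have hp0 : (p : ℂ) ≠ 0 := by exact_mod_cast hp.ne_zero
  have hfinal : Cfsg.blockCoeff B g
      = (p : ℂ) * (conj (Φ g / ((p ^ d : ℕ) : ℂ)) * (r : ℂ)⁻¹) := by
    rw [hΦval, map_div₀, map_mul, Complex.conj_conj, map_div₀, map_pow, Complex.conj_natCast,
      Complex.conj_natCast, Complex.conj_natCast]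
    have hGc : (Nat.card G : ℂ) = (p : ℂ) ^ a * (r : ℂ) := by
      rw [← hGdec]; push_cast; ring
    have had : a = m + d := by omega
    rw [hGc, had]
    push_cast
    field_simp
    ring
  rw [hfinal]
  apply memLocalIdeal_mul_right hM
  · rw [memLocalIdeal_natCast_iff hM]
  · apply memLocalRing_mul hM
    · apply memLocalRing_of_isIntegral hM
      have := hint
      have hc : conj (Φ g / ((p ^ d : ℕ) : ℂ)) = (starRingEnd ℂ) (Φ g / ((p ^ d : ℕ) : ℂ)) := rfl
      rw [hc]
      exact (this.map (Complex.conjAe.toAlgHom.restrictScalars ℤ))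
    · exact memLocalRing_natCast_inv hM hrnd

omit [Fintype G] in
theorem factorization_index_centralizer [Finite G] [Fact p.Prime] (g : G) :
    ((Subgroup.centralizer ({g} : Set G)).index).factorization p
      = (Nat.card G).factorization p
        - (Nat.card (Subgroup.centralizer ({g} : Set G))).factorization p := by
  have h := Subgroup.index_mul_card (Subgroup.centralizer ({g} : Set G))
  have hi : (Subgroup.centralizer ({g} : Set G)).index ≠ 0 := Subgroup.index_ne_zero_of_finite
  have hc : Nat.card (Subgroup.centralizer ({g} : Set G)) ≠ 0 := Nat.card_pos.ne'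
  rw [← h, Nat.factorization_mul hi hc]
  simp

/-- For a defect class `g` of `B`, the least valuation of the degrees in `B` is
`ν(|G|) - ν(|C_G(g)|)`. -/
theorem sInf_factorization_of_isDefectClass [Fact p.Prime] (hM : Cfsg.IsPModular p M)
    (B : Set (Cfsg.IrrCharacter G)) (hB : Cfsg.IsPBlock M B) (g : G)
    (hg : Cfsg.IsDefectClass M B g) :
    sInf ((fun χ : Cfsg.IrrCharacter G => (Cfsg.charDegree (χ : G → ℂ)).factorization p) '' B)
      = (Nat.card G).factorization p
        - (Nat.card (Subgroup.centralizer ({g} : Set G))).factorization p := by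
  apply le_antisymm
  · obtain ⟨χ, hχ, hle⟩ := exists_factorization_le_of_isDefectClass hM B hB g hg
    exact le_trans (Nat.sInf_le ⟨χ, hχ, rfl⟩) hle
  · obtain ⟨χ₀, hχ₀⟩ := isPBlock_nonempty hM hB
    have hne : ((fun χ : Cfsg.IrrCharacter G =>
        (Cfsg.charDegree (χ : G → ℂ)).factorization p) '' B).Nonempty := ⟨_, χ₀, hχ₀, rfl⟩
    obtain ⟨χ, hχ, hχeq⟩ := Nat.sInf_mem hne
    rw [← hχeq, ← factorization_index_centralizer]
    exact factorization_index_le_of_centralChar hM χ g (hg.2.2 χ hχ)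

/-- The defect of a block is the `p`-adic valuation of the centralizer order of a defect class. -/
theorem blockDefect_eq_of_isDefectClass [Fact p.Prime] (hM : Cfsg.IsPModular p M)
    (B : Set (Cfsg.IrrCharacter G)) (hB : Cfsg.IsPBlock M B) (g : G)
    (hg : Cfsg.IsDefectClass M B g) :
    Cfsg.blockDefect p B
      = (Nat.card (Subgroup.centralizer ({g} : Set G))).factorization p := by
  unfold Cfsg.blockDefect
  rw [sInf_factorization_of_isDefectClass hM B hB g hg]
  have hG0 : Nat.card G ≠ 0 := Nat.card_pos.ne'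
  have hC0 : Nat.card (Subgroup.centralizer ({g} : Set G)) ≠ 0 := Nat.card_pos.ne'
  have hda : (Nat.card (Subgroup.centralizer ({g} : Set G))).factorization p
      ≤ (Nat.card G).factorization p := by
    have hdvd : Nat.card (Subgroup.centralizer ({g} : Set G)) ∣ Nat.card G :=
      Subgroup.card_subgroup_dvd_card _
    exact (Nat.factorization_le_iff_dvd hC0 hG0).mpr hdvd p
  omega

/-- **The order of a defect group** is `p ^ d(B)`. -/
theorem card_of_isDefectGroup [Fact p.Prime] (hM : Cfsg.IsPModular p M)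
    (B : Set (Cfsg.IrrCharacter G)) (hB : Cfsg.IsPBlock M B) (D : Subgroup G)
    (hD : Cfsg.IsDefectGroup p M B D) : Nat.card D = p ^ Cfsg.blockDefect p B := by
  obtain ⟨g, hg, _, hcard⟩ := exists_of_isDefectGroup hD
  rw [hcard, blockDefect_eq_of_isDefectClass hM B hB g hg]

/-- members of height zero -/
theorem factorization_of_height_zero [Fact p.Prime] (hM : Cfsg.IsPModular p M)
    (B : Set (Cfsg.IrrCharacter G)) (hB : Cfsg.IsPBlock M B) (g : G)
    (hg : Cfsg.IsDefectClass M B g) (χ : Cfsg.IrrCharacter G) (hχ : χ ∈ B)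
    (h0 : Cfsg.blockHeight p B (χ : G → ℂ) = 0) :
    (Cfsg.charDegree (χ : G → ℂ)).factorization p
      = ((Subgroup.centralizer ({g} : Set G)).index).factorization p := by
  unfold Cfsg.blockHeight at h0
  rw [sInf_factorization_of_isDefectClass hM B hB g hg, ← factorization_index_centralizer] at h0
  have := factorization_index_le_of_centralChar hM χ g (hg.2.2 χ hχ)
  omega

end

end Cfsg.Agent.Lib.Helper7
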