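import Mathlib
import Cfsg.Prelude.Def_Blocks
import Cfsg.Agent.Lib.Helper24.Osima
import Cfsg.Agent.Lib.Helper24.Defect

/-!
# The min–max theorem for defect classes (helper7 library)

* `sum_memLocalIdeal_of_pgroup`, `sum_memLocalIdeal_of_conj`: orbit counting modulo the local
  ideal for an invariant function with local-integral values.
* `SylCentLe p D l`: a Sylow `p`-subgroup of `C_G(l)` is contained in a conjugate of `D`.
* `idealD`: the local-integral class functions whose values at the elements `l` with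
  `¬ SylCentLe p D l` are in the local ideal; it is closed under convolution.
* `blockCoeff_mem_of_ideal`: a convolution ideal containing an element where `ω_χ` (`χ ∈ B`) is
  a unit contains the block idempotent.
* `minmax_a`, `minmax_b`.
-/

set_option autoImplicit false

namespace Cfsg.Agent.Lib.Helper7

open Cfsg.Agent.Lib.Helper2 Cfsg.Agent.Lib.Helper24
open scoped ComplexConjugate

section Orbit

variable {p : ℕ} {M : Ideal Cfsg.AlgInt}

open Classical in
/-- Orbit counting: a `p`-group `Q` acts on a finite set `K`, `f` is `Q`-invariant with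
local-integral values, and the values at the fixed points are in the local ideal. Then the sum of
`f` is in the local ideal. -/
theorem sum_memLocalIdeal_of_pgroup (hM : Cfsg.IsPModular p M) {Q : Type*} [Group Q] [Finite Q]
    (hQ : IsPGroup p Q) {K : Type*} [Fintype K] [MulAction Q K] (f : K → ℂ)
    (hf : ∀ (u : Q) (x : K), f (u • x) = f x) (hR : ∀ x, Cfsg.MemLocalRing M (f x))
    (hfix : ∀ x : K, (∀ u : Q, u • x = x) → Cfsg.MemLocalIdeal M (f x)) :
    Cfsg.MemLocalIdeal M (∑ x, f x) := by
  haveI : Fact p.Prime := ⟨hM.1⟩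
  haveI : Fintype (Quotient (MulAction.orbitRel Q K)) := Fintype.ofFinite _
  rw [← Finset.sum_fiberwise Finset.univ (fun x => (Quotient.mk (MulAction.orbitRel Q K) x)) f]
  apply memLocalIdeal_sum hM
  intro ω _
  induction ω using Quotient.inductionOn with
  | h x0 =>
  have hconst : ∀ x ∈ Finset.univ.filter
      (fun x => Quotient.mk (MulAction.orbitRel Q K) x = Quotient.mk _ x0), f x = f x0 := by
    intro x hx
    rw [Finset.mem_filter] at hx
    have h1 : x ∈ MulAction.orbit Q x0 := by
      have := Quotient.exact hx.2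
      exact (MulAction.orbitRel_apply).mp this
    obtain ⟨u, rfl⟩ := h1
    exact hf u x0
  rw [Finset.sum_congr rfl hconst, Finset.sum_const]
  have hcard : (Finset.univ.filter
      (fun x => Quotient.mk (MulAction.orbitRel Q K) x = Quotient.mk _ x0)).card
      = Nat.card (MulAction.orbit Q x0) := by
    rw [Nat.card_eq_fintype_card, ← Fintype.card_subtype]
    apply Fintype.card_congr
    apply Equiv.subtypeEquivRight
    intro x
    constructor
    · intro h; exact (MulAction.orbitRel_apply).mp (Quotient.exact h)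
    · intro h; exact Quotient.sound ((MulAction.orbitRel_apply).mpr h)
  obtain ⟨n, hn⟩ := hQ.card_orbit x0
  rw [hcard, hn, nsmul_eq_mul]
  rcases Nat.eq_zero_or_pos n with h0 | hpos
  · -- a fixed point
    rw [h0, pow_zero, Nat.cast_one, one_mul]
    apply hfix
    intro u
    rw [h0, pow_zero] at hn
    haveI : Subsingleton (MulAction.orbit Q x0) := (Nat.card_eq_one_iff_unique.mp hn).1
    have h1 : (⟨u • x0, MulAction.mem_orbit x0 u⟩ : MulAction.orbit Q x0)
        = ⟨x0, MulAction.mem_orbit_self x0⟩ := Subsingleton.elim _ _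
    exact congrArg Subtype.val h1
  · apply memLocalIdeal_mul_right hM _ (hR x0)
    rw [memLocalIdeal_natCast_iff hM]
    exact dvd_pow_self p hpos.ne'

end Orbit

section Conj

variable {G : Type*} [Group G] [Fintype G] {p : ℕ} {M : Ideal Cfsg.AlgInt}

/-- Orbit counting for the conjugation action of a `p`-subgroup. -/
theorem sum_memLocalIdeal_of_conj (hM : Cfsg.IsPModular p M) (P : Subgroup G)
    (hP : IsPGroup p P) (f : G → ℂ)
    (hf : ∀ u ∈ P, ∀ x : G, f (u * x * u⁻¹) = f x) (hR : ∀ x, Cfsg.MemLocalRing M (f x))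
    (hfix : ∀ x : G, (∀ u ∈ P, u * x * u⁻¹ = x) → Cfsg.MemLocalIdeal M (f x)) :
    Cfsg.MemLocalIdeal M (∑ x, f x) := by
  let inst : MulAction P G :=
    MulAction.compHom G ((MulAut.conj : G →* MulAut G).comp P.subtype)
  have hsm : ∀ (u : P) (x : G), inst.smul u x = (u : G) * x * (u : G)⁻¹ := fun u x => rfl
  exact @sum_memLocalIdeal_of_pgroup p M hM P _ _ hP G _ inst f
    (fun u x => by
      show f (inst.smul u x) = f x
      rw [hsm]; exact hf u u.2 x) hR
    (fun x hx => hfix x (fun u hu => by
      have := hx ⟨u, hu⟩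
      exact this))

/-- A Sylow `p`-subgroup of `C_G(l)` is contained in a conjugate of `D`. -/
def SylCentLe (p : ℕ) (D : Subgroup G) (l : G) : Prop :=
  ∃ (x : G) (Q : Sylow p (Subgroup.centralizer ({l} : Set G))),
    (Q : Subgroup (Subgroup.centralizer ({l} : Set G))).map
      (Subgroup.centralizer ({l} : Set G)).subtype ≤ D.map (MulAut.conj x).toMonoidHom

theorem map_conj_map_conj (D : Subgroup G) (x y : G) :
    (D.map (MulAut.conj x).toMonoidHom).map (MulAut.conj y).toMonoidHom
      = D.map (MulAut.conj (y * x)).toMonoidHom := by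
  rw [Subgroup.map_map]
  congr 1
  ext g
  simp [mul_assoc]

/-- every `p`-subgroup centralizing `l` is contained in a conjugate of `D` when
`SylCentLe p D l` -/
theorem SylCentLe.exists_le [Fact p.Prime] {D : Subgroup G} {l : G} (h : SylCentLe p D l)
    (P : Subgroup G) (hP : IsPGroup p P) (hPl : P ≤ Subgroup.centralizer ({l} : Set G)) :
    ∃ x : G, P ≤ D.map (MulAut.conj x).toMonoidHom := by
  obtain ⟨x, Q, hQ⟩ := h
  have hP' : IsPGroup p (P.subgroupOf (Subgroup.centralizer ({l} : Set G))) :=
    hP.comap_of_injective (Subgroup.centralizer ({l} : Set G)).subtype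
      (Subgroup.centralizer ({l} : Set G)).subtype_injective
  obtain ⟨Q', hQ'⟩ := hP'.exists_le_sylow
  obtain ⟨c, hc⟩ := MulAction.exists_smul_eq (Subgroup.centralizer ({l} : Set G)) Q Q'
  refine ⟨(c : G) * x, ?_⟩
  intro u hu
  have hu' : (⟨u, hPl hu⟩ : Subgroup.centralizer ({l} : Set G))
      ∈ P.subgroupOf (Subgroup.centralizer ({l} : Set G)) := by
    rw [Subgroup.mem_subgroupOf]; exact hu
  have h1 : (⟨u, hPl hu⟩ : Subgroup.centralizer ({l} : Set G))
      ∈ (Q' : Subgroup (Subgroup.centralizer ({l} : Set G))) := hQ' hu'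
  rw [← hc, Sylow.coe_subgroup_smul, Subgroup.mem_pointwise_smul_iff_inv_smul_mem] at h1
  have h2 : (((MulAut.conj c)⁻¹ • (⟨u, hPl hu⟩ : Subgroup.centralizer ({l} : Set G)) :
      Subgroup.centralizer ({l} : Set G)) : G) ∈ D.map (MulAut.conj x).toMonoidHom := by
    apply hQ
    exact ⟨_, h1, rfl⟩
  rw [← map_conj_map_conj]
  refine ⟨_, h2, ?_⟩
  simp [MulAut.smul_def, mul_assoc]

theorem SylCentLe.of_le [Fact p.Prime] {D : Subgroup G} {l : G}
    (Q : Sylow p (Subgroup.centralizer ({l} : Set G))) (x : G)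
    (h : (Q : Subgroup (Subgroup.centralizer ({l} : Set G))).map
      (Subgroup.centralizer ({l} : Set G)).subtype ≤ D.map (MulAut.conj x).toMonoidHom) :
    SylCentLe p D l := ⟨x, Q, h⟩

/-- `SylCentLe` for all Sylow subgroups. -/
theorem SylCentLe.forall [Fact p.Prime] {D : Subgroup G} {l : G} (h : SylCentLe p D l)
    (Q : Sylow p (Subgroup.centralizer ({l} : Set G))) :
    ∃ x : G, (Q : Subgroup (Subgroup.centralizer ({l} : Set G))).map
      (Subgroup.centralizer ({l} : Set G)).subtype ≤ D.map (MulAut.conj x).toMonoidHom := by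
  apply h.exists_le
  · exact Q.2.map _
  · intro u hu
    obtain ⟨v, _, rfl⟩ := hu
    exact v.2

/-- conjugate elements -/
theorem SylCentLe.conj [Fact p.Prime] {D : Subgroup G} {l : G} (h : SylCentLe p D l) (c : G) :
    SylCentLe p D (c * l * c⁻¹) := by
  classical
  obtain ⟨Q⟩ : Nonempty (Sylow p (Subgroup.centralizer ({c * l * c⁻¹} : Set G))) := inferInstance
  set P := (Q : Subgroup (Subgroup.centralizer ({c * l * c⁻¹} : Set G))).map
      (Subgroup.centralizer ({c * l * c⁻¹} : Set G)).subtype with hPdef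
  have hP : IsPGroup p P := Q.2.map _
  -- `c⁻¹ P c` centralizes `l`
  have hP' : IsPGroup p (P.map (MulAut.conj c⁻¹).toMonoidHom) := hP.map _
  have hcent : P.map (MulAut.conj c⁻¹).toMonoidHom ≤ Subgroup.centralizer ({l} : Set G) := by
    rintro _ ⟨u, hu, rfl⟩
    obtain ⟨v, _, rfl⟩ := hu
    have hv := v.2
    rw [Subgroup.mem_centralizer_singleton_iff] at hv ⊢
    simp only [MulEquiv.coe_toMonoidHom, MulAut.conj_apply, inv_inv]
    have : (v : G) * (c * l * c⁻¹) = c * l * c⁻¹ * (v : G) := hv
    calc c⁻¹ * (v : G) * c * l = c⁻¹ * ((v : G) * (c * l * c⁻¹)) * c := by group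
      _ = c⁻¹ * (c * l * c⁻¹ * (v : G)) * c := by rw [this]
      _ = l * (c⁻¹ * (v : G) * c) := by group
  obtain ⟨x, hx⟩ := h.exists_le _ hP' hcent
  refine ⟨c * x, Q, ?_⟩
  rw [← map_conj_map_conj]
  intro u hu
  have h1 : c⁻¹ * u * c ∈ D.map (MulAut.conj x).toMonoidHom := by
    apply hx
    exact ⟨u, hu, by simp⟩
  exact ⟨c⁻¹ * u * c, h1, by simp [mul_assoc]⟩

end Conj

section Ideal

variable {G : Type*} [Group G] [Fintype G] {p : ℕ} {M : Ideal Cfsg.AlgInt}

/-- The local-integral class functions whose values at the elements `l` such that a Sylow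
`p`-subgroup of `C_G(l)` is not contained in a conjugate of `D` lie in the local ideal. -/
def idealD (p : ℕ) (M : Ideal Cfsg.AlgInt) (D : Subgroup G) : Set (G → ℂ) :=
  {a | Cfsg.IsClassFunction G a ∧ (∀ g, Cfsg.MemLocalRing M (a g)) ∧
    ∀ l, ¬ SylCentLe p D l → Cfsg.MemLocalIdeal M (a l)}

theorem conv_comm_of_isClassFunction (a b : G → ℂ) (ha : Cfsg.IsClassFunction G a)
    (hb : Cfsg.IsClassFunction G b) : conv a b = conv b a := by
  apply eq_of_omega_eq _ _ (conv_isClassFunction a b ha hb) (conv_isClassFunction b a hb ha)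
  intro χ
  rw [omega_conv χ a b ha hb, omega_conv χ b a hb ha, mul_comm]

theorem conv_memLocalRing (hM : Cfsg.IsPModular p M) (a b : G → ℂ)
    (ha : ∀ g, Cfsg.MemLocalRing M (a g)) (hb : ∀ g, Cfsg.MemLocalRing M (b g)) (g : G) :
    Cfsg.MemLocalRing M (conv a b g) := by
  rw [conv_apply]
  apply memLocalRing_sum hM
  intro h _
  exact memLocalRing_mul hM (ha h) (hb _)

/-- `idealD` is closed under convolution with local-integral class functions. -/
theorem conv_mem_idealD [Fact p.Prime] (hM : Cfsg.IsPModular p M) (D : Subgroup G) (a c : G → ℂ)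
    (ha : a ∈ idealD p M D) (hc : Cfsg.IsClassFunction G c)
    (hcR : ∀ g, Cfsg.MemLocalRing M (c g)) : conv a c ∈ idealD p M D := by
  classical
  obtain ⟨hac, haR, haI⟩ := ha
  refine ⟨conv_isClassFunction a c hac hc, conv_memLocalRing hM a c haR hcR, ?_⟩
  intro l hl
  obtain ⟨Q⟩ : Nonempty (Sylow p (Subgroup.centralizer ({l} : Set G))) := inferInstance
  have hP : IsPGroup p ((Q : Subgroup (Subgroup.centralizer ({l} : Set G))).map
      (Subgroup.centralizer ({l} : Set G)).subtype) := Q.2.map _
  have hPl : (Q : Subgroup (Subgroup.centralizer ({l} : Set G))).map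
      (Subgroup.centralizer ({l} : Set G)).subtype ≤ Subgroup.centralizer ({l} : Set G) := by
    rintro _ ⟨v, _, rfl⟩
    exact v.2
  rw [conv_apply]
  apply sum_memLocalIdeal_of_conj hM _ hP
  · intro u hu h
    have hul : u * l = l * u := by
      have := hPl hu
      rw [Subgroup.mem_centralizer_singleton_iff] at this
      exact this
    rw [hac]
    have : (u * h * u⁻¹)⁻¹ * l = u * (h⁻¹ * l) * u⁻¹ := by
      have : l = u * l * u⁻¹ := by rw [hul]; group
      conv_lhs => rw [this]
      group
    rw [this, hc]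
  · intro h
    exact memLocalRing_mul hM (haR h) (hcR _)
  · intro h hfix
    apply memLocalIdeal_mul_right hM _ (hcR _)
    apply haI
    intro hcon
    apply hl
    have hPh : (Q : Subgroup (Subgroup.centralizer ({l} : Set G))).map
        (Subgroup.centralizer ({l} : Set G)).subtype ≤ Subgroup.centralizer ({h} : Set G) := by
      intro u hu
      rw [Subgroup.mem_centralizer_singleton_iff]
      have := hfix u hu
      calc u * h = u * h * u⁻¹ * u := by group
        _ = h * u := by rw [this]
    obtain ⟨x, hx⟩ := hcon.exists_le _ hP hPh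
    exact ⟨x, Q, hx⟩

theorem smul_mem_idealD (hM : Cfsg.IsPModular p M) (D : Subgroup G) (a : G → ℂ)
    (ha : a ∈ idealD p M D) (r : ℂ) (hr : Cfsg.MemLocalRing M r) : r • a ∈ idealD p M D := by
  obtain ⟨hac, haR, haI⟩ := ha
  refine ⟨?_, ?_, ?_⟩
  · intro g h
    simp only [Pi.smul_apply, smul_eq_mul]
    rw [hac]
  · intro g
    exact memLocalRing_mul hM hr (haR g)
  · intro l hl
    exact memLocalIdeal_mul_left hM hr (haI l hl)

/-- the class indicator of `g` lies in `idealD` of a Sylow `p`-subgroup of `C_G(g)` -/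
theorem classIndicator_mem_idealD [Fact p.Prime] (hM : Cfsg.IsPModular p M) (g : G)
    (Q : Sylow p (Subgroup.centralizer ({g} : Set G))) :
    classIndicator g ∈ idealD p M ((Q : Subgroup (Subgroup.centralizer ({g} : Set G))).map
      (Subgroup.centralizer ({g} : Set G)).subtype) := by
  refine ⟨classIndicator_isClassFunction g, ?_, ?_⟩
  · intro l
    unfold classIndicator
    split_ifs
    · exact memLocalRing_one hM
    · exact memLocalRing_zero hM
  · intro l hl
    unfold classIndicator
    rw [if_neg]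
    · exact memLocalIdeal_zero hM
    · intro hconj
      apply hl
      obtain ⟨c, hc⟩ := isConj_iff.mp hconj
      rw [← hc]
      apply SylCentLe.conj
      refine ⟨1, Q, ?_⟩
      intro u hu
      exact ⟨u, hu, by simp⟩

/-- **Ideal lemma**: a set `I` of functions closed under convolution with local-integral class
functions and under local-integral scalars, containing a local-integral class function `z` at
which `ω_χ` (`χ ∈ B`) is a unit, contains the block idempotent of `B`. -/
theorem blockCoeff_mem_of_ideal (hM : Cfsg.IsPModular p M) (B : Set (Cfsg.IrrCharacter G))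
    (hB : Cfsg.IsPBlock M B) (I : Set (G → ℂ))
    (hconv : ∀ z ∈ I, ∀ c : G → ℂ, Cfsg.IsClassFunction G c →
      (∀ g, Cfsg.MemLocalRing M (c g)) → conv z c ∈ I)
    (hsmul : ∀ z ∈ I, ∀ r : ℂ, Cfsg.MemLocalRing M r → r • z ∈ I)
    (z : G → ℂ) (hzI : z ∈ I) (hzc : Cfsg.IsClassFunction G z)
    (hzR : ∀ g, Cfsg.MemLocalRing M (z g)) (χ : Cfsg.IrrCharacter G) (hχ : χ ∈ B)
    (hunit : ¬ Cfsg.MemLocalIdeal M (omega (χ : G → ℂ) z)) : Cfsg.blockCoeff B ∈ I := by
  classical
  haveI : Fintype (Cfsg.IrrCharacter G) := Fintype.ofFinite _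
  have heR : ∀ g, Cfsg.MemLocalRing M (Cfsg.blockCoeff B g) :=
    fun g => blockCoeff_memLocalRing hM B hB g
  have hec : Cfsg.IsClassFunction G (Cfsg.blockCoeff B) := blockCoeff_isClassFunction B
  -- the values u ψ = ω_ψ(z), units for ψ ∈ B
  have huR : ∀ ψ : Cfsg.IrrCharacter G, Cfsg.MemLocalRing M (omega (ψ : G → ℂ) z) :=
    fun ψ => omega_memLocalRing hM ψ z hzc hzR
  have hu : ∀ ψ ∈ B, ¬ Cfsg.MemLocalIdeal M (omega (ψ : G → ℂ) z) := by
    intro ψ hψ hcon
    apply hunit
    have hsame : Cfsg.SameBlock M (χ : G → ℂ) (ψ : G → ℂ) := by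
      obtain ⟨χ₀, rfl⟩ := hB
      exact sameBlock_trans hM (sameBlock_symm hM hχ) hψ
    have := omega_sub_memLocalIdeal hM χ ψ hsame z hzc hzR
    have h2 := memLocalIdeal_add hM this hcon
    rwa [sub_add_cancel] at h2
  -- z' = z * e
  set z' : G → ℂ := conv z (Cfsg.blockCoeff B) with hz'
  have hz'I : z' ∈ I := hconv z hzI _ hec heR
  have hz'c : Cfsg.IsClassFunction G z' := conv_isClassFunction _ _ hzc hec
  have hz'R : ∀ g, Cfsg.MemLocalRing M (z' g) := conv_memLocalRing hM _ _ hzR heR
  have hωz' : ∀ ψ : Cfsg.IrrCharacter G, omega (ψ : G → ℂ) z'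
      = if ψ ∈ B then omega (ψ : G → ℂ) z else 0 := by
    intro ψ
    rw [hz', omega_conv ψ _ _ hzc hec, omega_blockCoeff]
    split_ifs <;> simp
  -- the polynomial trick
  have key : ∀ S : Finset (Cfsg.IrrCharacter G), ∃ s : G → ℂ, Cfsg.IsClassFunction G s ∧
      (∀ g, Cfsg.MemLocalRing M (s g)) ∧ ∀ ψ : Cfsg.IrrCharacter G,
        ∏ i ∈ S, (omega (ψ : G → ℂ) z' - omega (i : G → ℂ) z)
          = ∏ i ∈ S, (- omega (i : G → ℂ) z)
            + omega (ψ : G → ℂ) z' * omega (ψ : G → ℂ) s := by
    intro S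
    induction S using Finset.induction_on with
    | empty =>
      refine ⟨0, fun _ _ => rfl, fun _ => memLocalRing_zero hM, fun ψ => ?_⟩
      simp [omega_zero]
    | insert j S hj ih =>
      obtain ⟨s, hsc, hsR, hs⟩ := ih
      set κ : ℂ := ∏ i ∈ S, (- omega (i : G → ℂ) z) with hκ
      have hκR : Cfsg.MemLocalRing M κ :=
        memLocalRing_prod hM _ _ (fun i _ => memLocalRing_neg (huR i))
      refine ⟨κ • deltaOne + conv z' s - omega (j : G → ℂ) z • s, ?_, ?_, ?_⟩
      · intro g h
        simp only [Pi.add_apply, Pi.sub_apply, Pi.smul_apply, smul_eq_mul]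
        rw [deltaOne_isClassFunction g h, conv_isClassFunction _ _ hz'c hsc g h, hsc g h]
      · intro g
        simp only [Pi.add_apply, Pi.sub_apply, Pi.smul_apply, smul_eq_mul]
        apply memLocalRing_sub hM
        · apply memLocalRing_add hM
          · apply memLocalRing_mul hM hκR
            unfold deltaOne
            split_ifs
            · exact memLocalRing_one hM
            · exact memLocalRing_zero hM
          · exact conv_memLocalRing hM _ _ hz'R hsR g
        · exact memLocalRing_mul hM (huR j) (hsR g)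
      · intro ψ
        have hne : (ψ : G → ℂ) 1 ≠ 0 := Cfsg.Agent.Lib.Helper25.irr_one_ne_zero ψ.2
        rw [Finset.prod_insert hj, Finset.prod_insert hj, hs ψ, omega_sub, omega_add,
          omega_smul, omega_smul, omega_deltaOne _ hne, omega_conv ψ _ _ hz'c hsc]
        ring
  obtain ⟨s, hsc, hsR, hs⟩ := key (Finset.univ.filter (fun ψ => ψ ∈ B))
  set κ : ℂ := ∏ i ∈ Finset.univ.filter (fun ψ => ψ ∈ B), (- omega (i : G → ℂ) z) with hκ
  have hκR : Cfsg.MemLocalRing M κ :=
    memLocalRing_prod hM _ _ (fun i _ => memLocalRing_neg (huR i))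
  have hκnot : ¬ Cfsg.MemLocalIdeal M κ := by
    apply prod_not_memLocalIdeal hM
    · intro i _
      exact memLocalRing_neg (huR i)
    · intro i hi hcon
      have hiB : i ∈ B := by simpa using hi
      have := memLocalIdeal_neg hcon
      rw [neg_neg] at this
      exact hu i hiB this
  have hκne : κ ≠ 0 := by
    intro h0
    rw [h0] at hκnot
    exact hκnot (memLocalIdeal_zero hM)
  have hκinv : Cfsg.MemLocalRing M κ⁻¹ := memLocalRing_inv hM hκR hκnot
  have hfinal : Cfsg.blockCoeff B = (-κ⁻¹) • conv z' s := by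
    apply eq_of_omega_eq _ _ hec
    · intro g h
      simp only [Pi.smul_apply, smul_eq_mul]
      rw [conv_isClassFunction _ _ hz'c hsc g h]
    · intro ψ
      rw [omega_smul, omega_conv ψ _ _ hz'c hsc, omega_blockCoeff]
      have h1 := hs ψ
      by_cases hψ : ψ ∈ B
      · rw [if_pos hψ]
        have h0 : ∏ i ∈ Finset.univ.filter (fun ψ => ψ ∈ B),
            (omega (ψ : G → ℂ) z' - omega (i : G → ℂ) z) = 0 := by
          apply Finset.prod_eq_zero (i := ψ)
          · simp [hψ]
          · rw [hωz', if_pos hψ, sub_self]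
        rw [h0] at h1
        have : omega (ψ : G → ℂ) z' * omega (ψ : G → ℂ) s = -κ := by
          linear_combination -h1
        rw [this]
        field_simp
      · rw [if_neg hψ]
        rw [hωz', if_neg hψ]
        ring
  rw [hfinal]
  apply hsmul _ _ _ (memLocalRing_neg hκinv)
  exact hconv z' hz'I s hsc hsR

/-- If `ω_χ` of the class of `h` is a unit for some `χ ∈ B`, then the block idempotent of `B`
lies in `idealD` of a Sylow `p`-subgroup of `C_G(h)`. -/
theorem blockCoeff_mem_idealD [Fact p.Prime] (hM : Cfsg.IsPModular p M)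
    (B : Set (Cfsg.IrrCharacter G)) (hB : Cfsg.IsPBlock M B) (h : G)
    (Q : Sylow p (Subgroup.centralizer ({h} : Set G))) (χ : Cfsg.IrrCharacter G) (hχ : χ ∈ B)
    (hunit : ¬ Cfsg.MemLocalIdeal M (Cfsg.centralChar (χ : G → ℂ) h)) :
    Cfsg.blockCoeff B ∈ idealD p M ((Q : Subgroup (Subgroup.centralizer ({h} : Set G))).map
      (Subgroup.centralizer ({h} : Set G)).subtype) := by
  have hz := classIndicator_mem_idealD hM h Q
  apply blockCoeff_mem_of_ideal hM B hB _
    (fun z hz c hc hcR => conv_mem_idealD hM _ z c hz hc hcR)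
    (fun z hz r hr => smul_mem_idealD hM _ z hz r hr)
    (classIndicator h) hz hz.1 hz.2.1 χ hχ
  rw [omega_classIndicator _ (IrrCharacter.isClassFunction χ)]
  exact hunit

/-- **Min–max, general form**: if the central character of some member of `B` at `h` is a unit
and the idempotent coefficient of `B` at `l` is a unit, then a Sylow `p`-subgroup of `C_G(l)` is
contained in a conjugate of a Sylow `p`-subgroup of `C_G(h)`. -/
theorem minmax [Fact p.Prime] (hM : Cfsg.IsPModular p M)
    (B : Set (Cfsg.IrrCharacter G)) (hB : Cfsg.IsPBlock M B) (h l : G)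
    (Q : Sylow p (Subgroup.centralizer ({h} : Set G))) (χ : Cfsg.IrrCharacter G) (hχ : χ ∈ B)
    (hunit : ¬ Cfsg.MemLocalIdeal M (Cfsg.centralChar (χ : G → ℂ) h))
    (hl : ¬ Cfsg.MemLocalIdeal M (Cfsg.blockCoeff B l)) :
    SylCentLe p ((Q : Subgroup (Subgroup.centralizer ({h} : Set G))).map
      (Subgroup.centralizer ({h} : Set G)).subtype) l := by
  by_contra hcon
  exact hl ((blockCoeff_mem_idealD hM B hB h Q χ hχ hunit).2.2 l hcon)

end Ideal

end Cfsg.Agent.Lib.Helper7
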