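import Mathlib
import Cfsg.Prelude.Def_Blocks
import Cfsg.Agent.Lib.Helper24.BrauerPairs
import Cfsg.Agent.Lib.Helper24.BlockOrtho
import Cfsg.Agent.Lib.Helper7.MinMax

/-!
# Multiplicative functionals on the centre of the local group algebra (helper7 library)

`IsRCF M a`: `a` is a class function with local-integral values.

`exists_block_of_functional`: a linear functional `Λ` on functions `G → ℂ` that maps `IsRCF`
functions to local integers, is multiplicative modulo the local ideal on `IsRCF` functions and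
maps the identity to `1` coincides, modulo the local ideal, with the central character of a block.
-/

set_option autoImplicit false

namespace Cfsg.Agent.Lib.Helper7

open Cfsg.Agent.Lib.Helper2 Cfsg.Agent.Lib.Helper24
open scoped ComplexConjugate

section

variable {G : Type*} [Group G] [Fintype G] {p : ℕ} {M : Ideal Cfsg.AlgInt}

/-- class functions with local-integral values -/
def IsRCF (M : Ideal Cfsg.AlgInt) (a : G → ℂ) : Prop :=
  Cfsg.IsClassFunction G a ∧ ∀ g, Cfsg.MemLocalRing M (a g)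

omit [Fintype G] in
theorem IsRCF.add (hM : Cfsg.IsPModular p M) {a b : G → ℂ} (ha : IsRCF M a) (hb : IsRCF M b) :
    IsRCF M (a + b) :=
  ⟨isClassFunction_add ha.1 hb.1, fun g => memLocalRing_add hM (ha.2 g) (hb.2 g)⟩

omit [Fintype G] in
theorem IsRCF.sub (hM : Cfsg.IsPModular p M) {a b : G → ℂ} (ha : IsRCF M a) (hb : IsRCF M b) :
    IsRCF M (a - b) :=
  ⟨isClassFunction_sub ha.1 hb.1, fun g => memLocalRing_sub hM (ha.2 g) (hb.2 g)⟩

omit [Fintype G] in
theorem IsRCF.smul (hM : Cfsg.IsPModular p M) {a : G → ℂ} (ha : IsRCF M a) {c : ℂ}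
    (hc : Cfsg.MemLocalRing M c) : IsRCF M (c • a) :=
  ⟨isClassFunction_smul c ha.1, fun g => memLocalRing_mul hM hc (ha.2 g)⟩

omit [Fintype G] in
theorem IsRCF.zero (hM : Cfsg.IsPModular p M) : IsRCF M (0 : G → ℂ) :=
  ⟨isClassFunction_zero, fun _ => memLocalRing_zero hM⟩

theorem IsRCF.conv (hM : Cfsg.IsPModular p M) {a b : G → ℂ} (ha : IsRCF M a) (hb : IsRCF M b) :
    IsRCF M (conv a b) :=
  ⟨conv_isClassFunction a b ha.1 hb.1, conv_memLocalRing hM a b ha.2 hb.2⟩

theorem IsRCF.deltaOne (hM : Cfsg.IsPModular p M) : IsRCF M (deltaOne : G → ℂ) := by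
  classical
  refine ⟨deltaOne_isClassFunction, fun g => ?_⟩
  unfold Cfsg.Agent.Lib.Helper24.deltaOne
  split_ifs
  · exact memLocalRing_one hM
  · exact memLocalRing_zero hM

theorem IsRCF.blockCoeff (hM : Cfsg.IsPModular p M) {B : Set (Cfsg.IrrCharacter G)}
    (hB : Cfsg.IsPBlock M B) : IsRCF M (Cfsg.blockCoeff B) :=
  ⟨blockCoeff_isClassFunction B, blockCoeff_memLocalRing hM B hB⟩

theorem IsRCF.classIndicator (hM : Cfsg.IsPModular p M) (g : G) :
    IsRCF M (classIndicator g) := by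
  classical
  refine ⟨classIndicator_isClassFunction g, fun l => ?_⟩
  unfold Cfsg.Agent.Lib.Helper2.classIndicator
  split_ifs
  · exact memLocalRing_one hM
  · exact memLocalRing_zero hM

theorem IsRCF.omega (hM : Cfsg.IsPModular p M) {a : G → ℂ} (ha : IsRCF M a)
    (χ : Cfsg.IrrCharacter G) : Cfsg.MemLocalRing M (omega (χ : G → ℂ) a) :=
  omega_memLocalRing hM χ a ha.1 ha.2

/-- a product one of whose factors differs from `x` by an element of the local ideal: if the
product `x * ∏ (x - m i)` is in the local ideal, so is `x` -/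
theorem memLocalIdeal_of_mul_prod_sub (hM : Cfsg.IsPModular p M) {ι : Type*} (S : Finset ι)
    (x : ℂ) (m : ι → ℂ) (hx : Cfsg.MemLocalRing M x) (hm : ∀ i ∈ S, Cfsg.MemLocalIdeal M (m i))
    (h : Cfsg.MemLocalIdeal M (x * ∏ i ∈ S, (x - m i))) : Cfsg.MemLocalIdeal M x := by
  classical
  induction S using Finset.induction_on with
  | empty => simpa using h
  | insert j S hj ih =>
    rw [Finset.prod_insert hj] at h
    have hmj := hm j (Finset.mem_insert_self j S)
    have hfac : Cfsg.MemLocalRing M (x - m j) :=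
      memLocalRing_sub hM hx (memLocalRing_of_memLocalIdeal hmj)
    have hprod : Cfsg.MemLocalRing M (x * ∏ i ∈ S, (x - m i)) := by
      apply memLocalRing_mul hM hx
      apply memLocalRing_prod hM
      intro i hi
      exact memLocalRing_sub hM hx
        (memLocalRing_of_memLocalIdeal (hm i (Finset.mem_insert_of_mem hi)))
    have h' : Cfsg.MemLocalIdeal M ((x - m j) * (x * ∏ i ∈ S, (x - m i))) := by
      have e : (x - m j) * (x * ∏ i ∈ S, (x - m i)) = x * ((x - m j) * ∏ i ∈ S, (x - m i)) := by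
        ring
      rw [e]; exact h
    rcases memLocalIdeal_or_of_mul hM hfac hprod h' with h1 | h1
    · have := memLocalIdeal_add hM h1 hmj
      rwa [sub_add_cancel] at this
    · exact ih (fun i hi => hm i (Finset.mem_insert_of_mem hi)) h1

/-- **The block of a multiplicative functional.** -/
theorem exists_block_of_functional (hM : Cfsg.IsPModular p M) (Λ : (G → ℂ) → ℂ)
    (hadd : ∀ a b : G → ℂ, Λ (a + b) = Λ a + Λ b)
    (hsmul : ∀ (c : ℂ) (a : G → ℂ), Λ (c • a) = c * Λ a)
    (hR : ∀ a : G → ℂ, IsRCF M a → Cfsg.MemLocalRing M (Λ a))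
    (hmul : ∀ a b : G → ℂ, IsRCF M a → IsRCF M b →
      Cfsg.MemLocalIdeal M (Λ (conv a b) - Λ a * Λ b))
    (hone : Λ (deltaOne : G → ℂ) = 1) :
    ∃ B : Set (Cfsg.IrrCharacter G), Cfsg.IsPBlock M B ∧
      Cfsg.MemLocalIdeal M (Λ (Cfsg.blockCoeff B) - 1) ∧
      ∀ χ ∈ B, ∀ a : G → ℂ, IsRCF M a → Cfsg.MemLocalIdeal M (Λ a - omega (χ : G → ℂ) a) := by
  classical
  haveI : Fintype (Cfsg.IrrCharacter G) := Fintype.ofFinite _
  have hzero : Λ 0 = 0 := by
    have := hsmul 0 0
    simpa using this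
  have hneg : ∀ a : G → ℂ, Λ (-a) = - Λ a := by
    intro a
    have := hsmul (-1) a
    simpa using this
  have hsub : ∀ a b : G → ℂ, Λ (a - b) = Λ a - Λ b := by
    intro a b
    rw [sub_eq_add_neg, hadd, hneg, ← sub_eq_add_neg]
  have hsum : ∀ (s : Finset (Set (Cfsg.IrrCharacter G))) (f : Set (Cfsg.IrrCharacter G) → G → ℂ),
      Λ (∑ i ∈ s, f i) = ∑ i ∈ s, Λ (f i) := by
    intro s f
    induction s using Finset.induction_on with
    | empty => simp [hzero]
    | insert i s hi ih => rw [Finset.sum_insert hi, Finset.sum_insert hi, hadd, ih]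
  -- Step 1: the block
  have key := exists_unique_of_orthogonal_idempotents hM (blocksFinset M G)
    (fun B => Λ (Cfsg.blockCoeff B))
    (by
      intro B hB
      rw [mem_blocksFinset] at hB
      exact hR _ (IsRCF.blockCoeff hM hB))
    (by
      intro B hB
      rw [mem_blocksFinset] at hB
      have := hmul _ _ (IsRCF.blockCoeff hM hB) (IsRCF.blockCoeff hM hB)
      rw [conv_blockCoeff_self] at this
      have h2 := memLocalIdeal_neg this
      rwa [neg_sub] at h2)
    (by
      intro B hB B' hB' hne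
      rw [mem_blocksFinset] at hB hB'
      have hz := conv_blockCoeff_of_disjoint B B' (disjoint_of_isPBlock_of_ne hM hB hB' hne)
      have := hmul _ _ (IsRCF.blockCoeff hM hB) (IsRCF.blockCoeff hM hB')
      rw [hz, hzero, zero_sub] at this
      have h2 := memLocalIdeal_neg this
      rwa [neg_neg] at h2)
    (by
      rw [← hsum, sum_blockCoeff_blocksFinset hM, hone, sub_self]
      exact memLocalIdeal_zero hM)
  obtain ⟨B, hB, hB1, _⟩ := key
  rw [mem_blocksFinset] at hB
  refine ⟨B, hB, hB1, ?_⟩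
  intro χ hχ a ha
  have heR := IsRCF.blockCoeff hM hB
  -- Step 2
  set n : G → ℂ := conv a (Cfsg.blockCoeff B) - omega (χ : G → ℂ) a • Cfsg.blockCoeff B with hn
  have hnR : IsRCF M n :=
    IsRCF.sub hM (IsRCF.conv hM ha heR) (IsRCF.smul hM heR (IsRCF.omega hM ha χ))
  set m : Cfsg.IrrCharacter G → ℂ := fun ψ => omega (ψ : G → ℂ) n with hm
  have hmval : ∀ ψ : Cfsg.IrrCharacter G, m ψ
      = if ψ ∈ B then omega (ψ : G → ℂ) a - omega (χ : G → ℂ) a else 0 := by
    intro ψ
    simp only [hm, hn]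
    rw [omega_sub, omega_smul, omega_conv ψ _ _ ha.1 heR.1, omega_blockCoeff]
    split_ifs <;> ring
  have hmM : ∀ ψ : Cfsg.IrrCharacter G, Cfsg.MemLocalIdeal M (m ψ) := by
    intro ψ
    rw [hmval]
    by_cases hψ : ψ ∈ B
    · rw [if_pos hψ]
      exact omega_sub_memLocalIdeal hM ψ χ (sameBlock_of_mem hM hB hψ hχ) a ha.1 ha.2
    · rw [if_neg hψ]; exact memLocalIdeal_zero hM
  have hΛn : Cfsg.MemLocalRing M (Λ n) := hR n hnR
  have hind : ∀ S : Finset (Cfsg.IrrCharacter G), ∃ w : G → ℂ, IsRCF M w ∧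
      (∀ ψ : Cfsg.IrrCharacter G, omega (ψ : G → ℂ) w = m ψ * ∏ i ∈ S, (m ψ - m i)) ∧
      Cfsg.MemLocalIdeal M (Λ w - Λ n * ∏ i ∈ S, (Λ n - m i)) := by
    intro S
    induction S using Finset.induction_on with
    | empty =>
      refine ⟨n, hnR, fun ψ => by simp [hm], ?_⟩
      simp only [Finset.prod_empty, mul_one, sub_self]
      exact memLocalIdeal_zero hM
    | insert j S hj ih =>
      obtain ⟨w, hwR, hwω, hwΛ⟩ := ih
      have hfR : IsRCF M (n - m j • (deltaOne : G → ℂ)) :=
        IsRCF.sub hM hnR (IsRCF.smul hM (IsRCF.deltaOne hM) (memLocalRing_of_memLocalIdeal (hmM j)))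
      refine ⟨conv w (n - m j • (deltaOne : G → ℂ)), IsRCF.conv hM hwR hfR, ?_, ?_⟩
      · intro ψ
        have hne : (ψ : G → ℂ) 1 ≠ 0 := Cfsg.Agent.Lib.Helper25.irr_one_ne_zero ψ.2
        rw [omega_conv ψ _ _ hwR.1 hfR.1, hwω ψ, omega_sub, omega_smul, omega_deltaOne _ hne,
          Finset.prod_insert hj]
        simp only [hm]
        ring
      · have h1 := hmul _ _ hwR hfR
        have h2 : Λ (n - m j • (deltaOne : G → ℂ)) = Λ n - m j := by
          rw [hsub, hsmul, hone, mul_one]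
        rw [h2] at h1
        rw [Finset.prod_insert hj]
        have hfac : Cfsg.MemLocalRing M (Λ n - m j) :=
          memLocalRing_sub hM hΛn (memLocalRing_of_memLocalIdeal (hmM j))
        have h3 := memLocalIdeal_mul_right hM hwΛ hfac
        have h4 := memLocalIdeal_add hM h1 h3
        have e : Λ (conv w (n - m j • (deltaOne : G → ℂ))) - Λ w * (Λ n - m j)
            + (Λ w - Λ n * ∏ i ∈ S, (Λ n - m i)) * (Λ n - m j)
            = Λ (conv w (n - m j • (deltaOne : G → ℂ)))
              - Λ n * ((Λ n - m j) * ∏ i ∈ S, (Λ n - m i)) := by ring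
        rw [e] at h4
        exact h4
  obtain ⟨w, hwR, hwω, hwΛ⟩ := hind Finset.univ
  have hw0 : w = 0 := by
    apply eq_zero_of_omega_eq_zero w hwR.1
    intro ψ
    rw [hwω ψ]
    apply mul_eq_zero_of_right
    apply Finset.prod_eq_zero (Finset.mem_univ ψ)
    rw [sub_self]
  rw [hw0, hzero, zero_sub] at hwΛ
  have hwΛ' := memLocalIdeal_neg hwΛ
  rw [neg_neg] at hwΛ'
  have hΛnM : Cfsg.MemLocalIdeal M (Λ n) :=
    memLocalIdeal_of_mul_prod_sub hM Finset.univ (Λ n) m hΛn (fun i _ => hmM i) hwΛ'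
  -- unfold Λ n
  have h5 : Λ n = Λ (conv a (Cfsg.blockCoeff B)) - omega (χ : G → ℂ) a * Λ (Cfsg.blockCoeff B) := by
    rw [hn, hsub, hsmul]
  have h6 := hmul a _ ha heR
  have hΛa : Cfsg.MemLocalRing M (Λ a) := hR a ha
  have hωa : Cfsg.MemLocalRing M (omega (χ : G → ℂ) a) := IsRCF.omega hM ha χ
  -- Λ a - ω a = Λ n - (Λ(conv) - Λ a Λ e) - (Λ a - ω a)(Λ e - 1) ... compute
  have h7 : Λ a - omega (χ : G → ℂ) a
      = Λ n - (Λ (conv a (Cfsg.blockCoeff B)) - Λ a * Λ (Cfsg.blockCoeff B))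
        - (Λ a - omega (χ : G → ℂ) a) * (Λ (Cfsg.blockCoeff B) - 1) := by
    rw [h5]; ring
  rw [h7]
  apply memLocalIdeal_sub hM (memLocalIdeal_sub hM hΛnM h6)
  exact memLocalIdeal_mul_left hM (memLocalRing_sub hM hΛa hωa) hB1

end

end Cfsg.Agent.Lib.Helper7
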