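import Mathlib
import Cfsg.Prelude.Def_Blocks
import Cfsg.Agent.Lib.Helper24.BrauerMap
import Cfsg.Agent.Lib.Helper24.NormalPCentral
import Cfsg.Agent.Lib.Helper7.Functional
import Cfsg.Agent.Lib.Helper7.InducedBlock

/-!
# Restriction to `H` with `P C_G(P) ≤ H ≤ N_G(P)` is multiplicative modulo the local ideal
(helper7 library)

* `omega_restrict_conv_of_normal`: for `ξ ∈ Irr(H)`, `a ↦ ω_ξ(a|_H)` is multiplicative modulo the
  local ideal on local-integral class functions of `G`.
* `inducedBlockDefined_of_normal`: hence `b^G` is defined for every block `b` of `H`.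
-/

set_option autoImplicit false

namespace Cfsg.Agent.Lib.Helper7

open Cfsg.Agent.Lib.Helper2 Cfsg.Agent.Lib.Helper24
open scoped ComplexConjugate

section

variable {G : Type*} [Group G] [Fintype G] {p : ℕ} {M : Ideal Cfsg.AlgInt}

/-- The part of a convolution coming from outside `H` is in the local ideal at the elements
centralizing `P`, when `P ≤ H` and `C_G(P) ≤ H`. -/
theorem conv_sub_conv_restrict_memLocalIdeal (hM : Cfsg.IsPModular p M) (H P : Subgroup G)
    [Fintype H] (hP : IsPGroup p P) (hPH : P ≤ H)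
    (hCH : Subgroup.centralizer (P : Set G) ≤ H) (a b : G → ℂ) (ha : IsRCF M a)
    (hb : IsRCF M b) (h : H) (hh : (h : G) ∈ Subgroup.centralizer (P : Set G)) :
    Cfsg.MemLocalIdeal M (conv a b (h : G) - conv (restrictTo H a) (restrictTo H b) h) := by
  classical
  let F : G → ℂ := fun k => a k * b (k⁻¹ * (h : G))
  have h1 : conv a b (h : G) = ∑ k : G, F k := rfl
  have h2 : conv (restrictTo H a) (restrictTo H b) h = ∑ k : H, F k := by
    rw [conv_apply]
    rfl
  have h3 : ∑ k : H, F k = ∑ k : G, if k ∈ H then F k else 0 := by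
    rw [← Finset.sum_filter]
    exact (Finset.sum_subtype (Finset.univ.filter (· ∈ H)) (by simp) F).symm
  have h4 : conv a b (h : G) - conv (restrictTo H a) (restrictTo H b) h
      = ∑ k : G, if k ∈ H then 0 else F k := by
    rw [h1, h2, h3, ← Finset.sum_sub_distrib]
    apply Finset.sum_congr rfl
    intro k _
    split_ifs <;> ring
  rw [h4]
  apply sum_memLocalIdeal_of_conj hM P hP
  · intro u hu k
    have hmem : u * k * u⁻¹ ∈ H ↔ k ∈ H := by
      constructor
      · intro hk
        have : k = u⁻¹ * (u * k * u⁻¹) * u := by group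
        rw [this]
        exact H.mul_mem (H.mul_mem (H.inv_mem (hPH hu)) hk) (hPH hu)
      · intro hk
        exact H.mul_mem (H.mul_mem (hPH hu) hk) (H.inv_mem (hPH hu))
    by_cases hk : k ∈ H
    · rw [if_pos hk, if_pos (hmem.mpr hk)]
    · rw [if_neg hk, if_neg (fun h' => hk (hmem.mp h'))]
      simp only [F]
      rw [ha.1]
      have hcomm : u * (h : G) = (h : G) * u := by
        rw [Subgroup.mem_centralizer_iff] at hh
        exact hh u hu
      have : (u * k * u⁻¹)⁻¹ * (h : G) = u * (k⁻¹ * (h : G)) * u⁻¹ := by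
        have : (h : G) = u * (h : G) * u⁻¹ := by rw [hcomm]; group
        conv_lhs => rw [this]
        group
      rw [this, hb.1]
  · intro k
    split_ifs
    · exact memLocalRing_zero hM
    · exact memLocalRing_mul hM (ha.2 k) (hb.2 _)
  · intro k hk
    have hkC : k ∈ Subgroup.centralizer (P : Set G) := by
      rw [Subgroup.mem_centralizer_iff]
      intro u hu
      have := hk u hu
      calc u * k = u * k * u⁻¹ * u := by group
        _ = k * u := by rw [this]
    rw [if_pos (hCH hkC)]
    exact memLocalIdeal_zero hM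

/-- **Restriction to `H` followed by a central character of `H` is multiplicative modulo the
local ideal**, for `P ≤ H`, `C_G(P) ≤ H ≤ N_G(P)`. -/
theorem omega_restrict_conv_of_normal [Fact p.Prime] (hM : Cfsg.IsPModular p M)
    (H P : Subgroup G) [Fintype H]
    (hP : IsPGroup p P) (hPH : P ≤ H) (hCH : Subgroup.centralizer (P : Set G) ≤ H)
    (hHN : H ≤ Subgroup.normalizer (P : Set G)) (ξ : Cfsg.IrrCharacter H) (a b : G → ℂ)
    (ha : IsRCF M a) (hb : IsRCF M b) :
    Cfsg.MemLocalIdeal M (omega (ξ : H → ℂ) (restrictTo H (conv a b))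
      - omega (ξ : H → ℂ) (restrictTo H a) * omega (ξ : H → ℂ) (restrictTo H b)) := by
  classical
  have hac : Cfsg.IsClassFunction H (restrictTo H a) := restrictTo_isClassFunction H a ha.1
  have hbc : Cfsg.IsClassFunction H (restrictTo H b) := restrictTo_isClassFunction H b hb.1
  have habc : Cfsg.IsClassFunction H (restrictTo H (conv a b)) :=
    restrictTo_isClassFunction H _ (conv_isClassFunction a b ha.1 hb.1)
  have hcc : Cfsg.IsClassFunction H (conv (restrictTo H a) (restrictTo H b)) :=
    conv_isClassFunction _ _ hac hbc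
  rw [← omega_conv ξ _ _ hac hbc, ← omega_sub, omega_eq_sum]
  haveI : (P.subgroupOf H).Normal := Subgroup.normal_subgroupOf_of_le_normalizer hHN
  have hQ : IsPGroup p (P.subgroupOf H) :=
    hP.comap_of_injective H.subtype H.subtype_injective
  apply sum_mul_inv_index_mem (MlocC hM)
  · intro g x
    simp only
    rw [isClassFunction_sub habc hcc g x,
      centralChar_isClassFunction _ (IrrCharacter.isClassFunction ξ)]
  · intro h
    show Cfsg.MemLocalIdeal M _
    have hdR : Cfsg.MemLocalRing M ((restrictTo H (conv a b)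
        - conv (restrictTo H a) (restrictTo H b)) h) := by
      simp only [Pi.sub_apply]
      apply memLocalRing_sub hM
      · exact conv_memLocalRing hM a b ha.2 hb.2 _
      · exact conv_memLocalRing hM _ _ (fun k => ha.2 _) (fun k => hb.2 _) _
    by_cases hh : (h : G) ∈ Subgroup.centralizer (P : Set G)
    · apply memLocalIdeal_mul_right hM _ (centralChar_memLocalRing hM ξ h)
      exact conv_sub_conv_restrict_memLocalIdeal hM H P hP hPH hCH a b ha hb h hh
    · apply memLocalIdeal_mul_left hM hdR
      apply centralChar_memLocalIdeal_of_notMem_centralizer hM (P.subgroupOf H) hQ h _ ξ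
      intro hcon
      apply hh
      rw [Subgroup.mem_centralizer_iff] at hcon ⊢
      intro u hu
      have := hcon ⟨u, hPH hu⟩ (by
        show (⟨u, hPH hu⟩ : H) ∈ P.subgroupOf H
        rw [Subgroup.mem_subgroupOf]; exact hu)
      have h2 := congrArg (Subtype.val : H → G) this
      simpa using h2

/-- the restriction of `deltaOne` -/
theorem restrictTo_deltaOne (H : Subgroup G) [Fintype H] :
    restrictTo H (deltaOne : G → ℂ) = (deltaOne : H → ℂ) := by
  classical
  ext c
  unfold restrictTo Cfsg.Agent.Lib.Helper24.deltaOne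
  by_cases hc : c = 1
  · subst hc; simp
  · have : (c : G) ≠ 1 := fun h' => hc (Subtype.ext h')
    simp [hc, this]

/-- **The induced block is defined** for blocks of `H` when `P ≤ H`, `C_G(P) ≤ H ≤ N_G(P)`. -/
theorem isInducedBlock_of_normal [Fact p.Prime] (hM : Cfsg.IsPModular p M)
    (H P : Subgroup G) [Fintype H]
    (hP : IsPGroup p P) (hPH : P ≤ H) (hCH : Subgroup.centralizer (P : Set G) ≤ H)
    (hHN : H ≤ Subgroup.normalizer (P : Set G)) (b : Set (Cfsg.IrrCharacter H))
    (hb : Cfsg.IsPBlock M b) :
    ∃ B : Set (Cfsg.IrrCharacter G), Cfsg.IsInducedBlock M H b B ∧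
      ∀ ξ ∈ b, Cfsg.MemLocalIdeal M
        (omega (ξ : H → ℂ) (restrictTo H (Cfsg.blockCoeff B)) - 1) := by
  classical
  obtain ⟨ξ₀, hξ₀⟩ := isPBlock_nonempty hM hb
  obtain ⟨B, hB, hB1, hcong⟩ := exists_block_of_functional hM
    (fun a => omega (ξ₀ : H → ℂ) (restrictTo H a))
    (fun a c => by simp only [restrictTo_add, omega_add])
    (fun c a => by simp only [restrictTo_smul, omega_smul])
    (fun a ha => omega_memLocalRing hM ξ₀ _ (restrictTo_isClassFunction H a ha.1)
      (fun h => ha.2 _))
    (fun a c ha hc => omega_restrict_conv_of_normal hM H P hP hPH hCH hHN ξ₀ a c ha hc)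
    (by
      rw [restrictTo_deltaOne, omega_deltaOne _ (Cfsg.Agent.Lib.Helper25.irr_one_ne_zero ξ₀.2)])
  refine ⟨B, ⟨hb, hB, ?_⟩, ?_⟩
  · intro ξ hξ χ hχ g
    have h1 := inducedCentralChar_sub_memLocalIdeal H hM ξ ξ₀ (sameBlock_of_mem hM hb hξ hξ₀) g
    have h2 := hcong χ hχ (classIndicator g) (IsRCF.classIndicator hM g)
    rw [omega_classIndicator _ (IrrCharacter.isClassFunction χ)] at h2
    have h3 : omega (ξ₀ : H → ℂ) (restrictTo H (classIndicator g))
        = Cfsg.inducedCentralChar H (ξ₀ : H → ℂ) g := by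
      rw [inducedCentralChar_eq_omega]
      rfl
    rw [h3] at h2
    have := memLocalIdeal_add hM h1 h2
    rwa [sub_add_sub_cancel] at this
  · intro ξ hξ
    have hsame := sameBlock_of_mem hM hb hξ hξ₀
    have heR := IsRCF.blockCoeff hM hB
    have h1 := omega_sub_memLocalIdeal hM ξ ξ₀ hsame (restrictTo H (Cfsg.blockCoeff B))
      (restrictTo_isClassFunction H _ heR.1) (fun h => heR.2 _)
    have := memLocalIdeal_add hM h1 hB1
    rwa [sub_add_sub_cancel] at this

end

end Cfsg.Agent.Lib.Helper7
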