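import Mathlib
import Cfsg.Prelude.Def_Blocks
import Cfsg.Agent.Lib.Helper7.RestrictMult

/-!
# Idempotents modulo the local ideal and existence of Brauer correspondents (helper7 library)

* `memLocalIdeal_of_idem_of_omega` (NIL): a local-integral class function that is idempotent
  modulo the local ideal and all of whose central character values are in the local ideal has all
  its values in the local ideal.
* `omega_sub_omega_truncate` (SUPP): for a normal `p`-subgroup `Q`, central characters only see
  the part of a class function supported on `C_G(Q)`, modulo the local ideal.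
* `exists_isInducedBlock_of_le`: if `P ≤ C_G(g)` for `g` with unit idempotent coefficient of `B`
  and `P C_G(P) ≤ H ≤ N_G(P)`, some block of `H` induces `B`.
-/

set_option autoImplicit false

namespace Cfsg.Agent.Lib.Helper7

open Cfsg.Agent.Lib.Helper2 Cfsg.Agent.Lib.Helper24
open scoped ComplexConjugate

section

variable {G : Type*} [Group G] [Fintype G] {p : ℕ} {M : Ideal Cfsg.AlgInt}

/-- convolution with a function with values in the local ideal -/
theorem conv_memLocalIdeal_left (hM : Cfsg.IsPModular p M) (a b : G → ℂ)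
    (ha : ∀ g, Cfsg.MemLocalIdeal M (a g)) (hb : ∀ g, Cfsg.MemLocalRing M (b g)) (g : G) :
    Cfsg.MemLocalIdeal M (conv a b g) := by
  rw [conv_apply]
  apply memLocalIdeal_sum hM
  intro h _
  exact memLocalIdeal_mul_right hM (ha h) (hb _)

theorem conv_sub_left (a a' b : G → ℂ) : conv (a - a') b = conv a b - conv a' b := by
  ext g
  simp only [conv_apply, Pi.sub_apply, sub_mul, Finset.sum_sub_distrib]

theorem conv_sub_right (a b b' : G → ℂ) : conv a (b - b') = conv a b - conv a b' := by
  ext g
  simp only [conv_apply, Pi.sub_apply, mul_sub, Finset.sum_sub_distrib]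

theorem conv_smul_right (a b : G → ℂ) (c : ℂ) : conv a (c • b) = c • conv a b := by
  ext g
  simp only [conv_apply, Pi.smul_apply, smul_eq_mul, Finset.mul_sum]
  apply Finset.sum_congr rfl
  intro h _
  ring

theorem conv_deltaOne_right (a : G → ℂ) : conv a (deltaOne : G → ℂ) = a := by
  classical
  ext g
  rw [conv_apply, Finset.sum_eq_single g]
  · unfold Cfsg.Agent.Lib.Helper24.deltaOne
    simp
  · intro h _ hne
    unfold Cfsg.Agent.Lib.Helper24.deltaOne
    rw [if_neg, mul_zero]
    intro h1
    apply hne
    have : g = h * (h⁻¹ * g) := by group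
    rw [this, h1, mul_one]
  · intro h; exact absurd (Finset.mem_univ _) h

/-- (NIL) -/
theorem memLocalIdeal_of_idem_of_omega (hM : Cfsg.IsPModular p M) (ε : G → ℂ) (hε : IsRCF M ε)
    (hidem : ∀ g, Cfsg.MemLocalIdeal M (conv ε ε g - ε g))
    (hω : ∀ χ : Cfsg.IrrCharacter G, Cfsg.MemLocalIdeal M (omega (χ : G → ℂ) ε)) (g : G) :
    Cfsg.MemLocalIdeal M (ε g) := by
  classical
  haveI : Fintype (Cfsg.IrrCharacter G) := Fintype.ofFinite _
  have hind : ∀ S : Finset (Cfsg.IrrCharacter G), S.Nonempty → ∃ w : G → ℂ, IsRCF M w ∧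
      (∀ ψ : Cfsg.IrrCharacter G, omega (ψ : G → ℂ) w
        = ∏ i ∈ S, (omega (ψ : G → ℂ) ε - omega (i : G → ℂ) ε)) ∧
      ∀ g, Cfsg.MemLocalIdeal M (w g - ε g) := by
    intro S hS
    induction hS using Finset.Nonempty.cons_induction with
    | singleton j =>
      refine ⟨ε - omega (j : G → ℂ) ε • (deltaOne : G → ℂ),
        IsRCF.sub hM hε (IsRCF.smul hM (IsRCF.deltaOne hM) (IsRCF.omega hM hε j)), ?_, ?_⟩
      · intro ψ
        have hne : (ψ : G → ℂ) 1 ≠ 0 := Cfsg.Agent.Lib.Helper25.irr_one_ne_zero ψ.2
        rw [Finset.prod_singleton, omega_sub, omega_smul, omega_deltaOne _ hne, mul_one]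
      · intro g
        simp only [Pi.sub_apply, Pi.smul_apply, smul_eq_mul, sub_sub_cancel_left]
        apply memLocalIdeal_neg
        exact memLocalIdeal_mul_right hM (hω j) ((IsRCF.deltaOne hM).2 g)
    | cons j S hj hS ih =>
      obtain ⟨w, hwR, hwω, hwε⟩ := ih
      have hfR : IsRCF M (ε - omega (j : G → ℂ) ε • (deltaOne : G → ℂ)) :=
        IsRCF.sub hM hε (IsRCF.smul hM (IsRCF.deltaOne hM) (IsRCF.omega hM hε j))
      refine ⟨conv w (ε - omega (j : G → ℂ) ε • (deltaOne : G → ℂ)), IsRCF.conv hM hwR hfR,
        ?_, ?_⟩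
      · intro ψ
        have hne : (ψ : G → ℂ) 1 ≠ 0 := Cfsg.Agent.Lib.Helper25.irr_one_ne_zero ψ.2
        rw [omega_conv ψ _ _ hwR.1 hfR.1, hwω ψ, omega_sub, omega_smul, omega_deltaOne _ hne,
          Finset.prod_cons]
        ring
      · intro g
        rw [conv_sub_right, conv_smul_right, conv_deltaOne_right]
        simp only [Pi.sub_apply, Pi.smul_apply, smul_eq_mul]
        -- conv w ε g - m * w g - ε g
        have h1 : Cfsg.MemLocalIdeal M (conv (w - ε) ε g) :=
          conv_memLocalIdeal_left hM _ _ (fun x => hwε x) hε.2 g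
        rw [conv_sub_left] at h1
        simp only [Pi.sub_apply] at h1
        have h2 := hidem g
        have h3 : Cfsg.MemLocalIdeal M (omega (j : G → ℂ) ε * w g) :=
          memLocalIdeal_mul_right hM (hω j) (hwR.2 g)
        have e : conv w ε g - omega (j : G → ℂ) ε * w g - ε g
            = (conv w ε g - conv ε ε g) + (conv ε ε g - ε g) - omega (j : G → ℂ) ε * w g := by
          ring
        rw [e]
        exact memLocalIdeal_sub hM (memLocalIdeal_add hM h1 h2) h3
  have hne : (Finset.univ : Finset (Cfsg.IrrCharacter G)).Nonempty :=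
    ⟨trivialIrr G, Finset.mem_univ _⟩
  obtain ⟨w, hwR, hwω, hwε⟩ := hind Finset.univ hne
  have hw0 : w = 0 := by
    apply eq_zero_of_omega_eq_zero w hwR.1
    intro ψ
    rw [hwω ψ]
    apply Finset.prod_eq_zero (Finset.mem_univ ψ)
    rw [sub_self]
  have := hwε g
  rw [hw0] at this
  simp only [Pi.zero_apply, zero_sub] at this
  have h2 := memLocalIdeal_neg this
  rwa [neg_neg] at h2

/-- (SUPP) -/
theorem omega_sub_omega_truncate [Fact p.Prime] (hM : Cfsg.IsPModular p M) (Q : Subgroup G)
    [Q.Normal] (hQ : IsPGroup p Q) (f : G → ℂ) (hf : IsRCF M f) (χ : Cfsg.IrrCharacter G)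
    [DecidablePred (· ∈ Subgroup.centralizer (Q : Set G))] :
    Cfsg.MemLocalIdeal M (omega (χ : G → ℂ) f
      - omega (χ : G → ℂ) (fun g => if g ∈ Subgroup.centralizer (Q : Set G) then f g else 0)) := by
  rw [← omega_sub, omega_eq_sum]
  have hCn : (Subgroup.centralizer (Q : Set G)).Normal := inferInstance
  apply sum_mul_inv_index_mem (MlocC hM)
  · intro g x
    simp only [Pi.sub_apply]
    have hmem : x * g * x⁻¹ ∈ Subgroup.centralizer (Q : Set G)
        ↔ g ∈ Subgroup.centralizer (Q : Set G) := by
      constructor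
      · intro h
        have := hCn.conj_mem _ h x⁻¹
        simpa [mul_assoc] using this
      · intro h
        exact hCn.conj_mem _ h x
    rw [hf.1, centralChar_isClassFunction _ (IrrCharacter.isClassFunction χ)]
    by_cases hg : g ∈ Subgroup.centralizer (Q : Set G)
    · rw [if_pos hg, if_pos (hmem.mpr hg)]
    · rw [if_neg hg, if_neg (fun h => hg (hmem.mp h))]
  · intro g
    show Cfsg.MemLocalIdeal M _
    simp only [Pi.sub_apply]
    by_cases hg : g ∈ Subgroup.centralizer (Q : Set G)
    · rw [if_pos hg, sub_self, zero_mul]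
      exact memLocalIdeal_zero hM
    · rw [if_neg hg, sub_zero]
      exact memLocalIdeal_mul_left hM (hf.2 g)
        (centralChar_memLocalIdeal_of_notMem_centralizer hM Q hQ g hg χ)

omit [Fintype G] in
theorem mem_centralizer_subgroupOf_iff (H P : Subgroup G) (hPH : P ≤ H) (h : H) :
    h ∈ Subgroup.centralizer ((P.subgroupOf H : Subgroup H) : Set H)
      ↔ (h : G) ∈ Subgroup.centralizer (P : Set G) := by
  rw [Subgroup.mem_centralizer_iff, Subgroup.mem_centralizer_iff]
  constructor
  · intro hcon u hu
    have := hcon ⟨u, hPH hu⟩ (by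
      show (⟨u, hPH hu⟩ : H) ∈ P.subgroupOf H
      rw [Subgroup.mem_subgroupOf]; exact hu)
    have h2 := congrArg (Subtype.val : H → G) this
    simpa using h2
  · intro hcon u hu
    have hu' : (u : G) ∈ P := by
      have : u ∈ P.subgroupOf H := hu
      rwa [Subgroup.mem_subgroupOf] at this
    apply Subtype.ext
    have := hcon (u : G) hu'
    simpa using this

/-- the truncation to `C_G(P)` of the restriction to `H` of a function on `G` -/
noncomputable def truncTo (H P : Subgroup G) (a : G → ℂ) : H → ℂ := fun h => by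
  classical exact if (h : G) ∈ Subgroup.centralizer (P : Set G) then a h else 0

omit [Fintype G] in
theorem truncTo_apply (H P : Subgroup G) (a : G → ℂ) (h : H)
    [Decidable ((h : G) ∈ Subgroup.centralizer (P : Set G))] :
    truncTo H P a h = if (h : G) ∈ Subgroup.centralizer (P : Set G) then a h else 0 := by
  unfold truncTo
  congr

omit [Fintype G] in
theorem truncTo_isRCF (hM : Cfsg.IsPModular p M) (H P : Subgroup G)
    (hHN : H ≤ Subgroup.normalizer (P : Set G)) (a : G → ℂ) (ha : IsRCF M a) :
    IsRCF M (truncTo H P a) := by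
  classical
  refine ⟨?_, ?_⟩
  · intro h x
    rw [truncTo_apply, truncTo_apply]
    have hmem : ((x * h * x⁻¹ : H) : G) ∈ Subgroup.centralizer (P : Set G)
        ↔ (h : G) ∈ Subgroup.centralizer (P : Set G) := by
      have hx := hHN x.2
      rw [Subgroup.mem_normalizer_iff] at hx
      simp only [Subgroup.coe_mul, Subgroup.coe_inv, Subgroup.mem_centralizer_iff]
      constructor
      · intro hc u hu
        have hu' : (x : G) * u * (x : G)⁻¹ ∈ P := (hx u).mp hu
        have := hc _ hu'
        have e1 : (x : G) * u * (x : G)⁻¹ * ((x : G) * (h : G) * (x : G)⁻¹)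
            = (x : G) * (u * (h : G)) * (x : G)⁻¹ := by group
        have e2 : (x : G) * (h : G) * (x : G)⁻¹ * ((x : G) * u * (x : G)⁻¹)
            = (x : G) * ((h : G) * u) * (x : G)⁻¹ := by group
        rw [e1, e2] at this
        exact mul_left_cancel (mul_right_cancel this)
      · intro hc u hu
        have hu' : (x : G)⁻¹ * u * (x : G) ∈ P := by
          have := (hx ((x : G)⁻¹ * u * (x : G))).mpr (by
            have : (x : G) * ((x : G)⁻¹ * u * (x : G)) * (x : G)⁻¹ = u := by group
            rw [this]; exact hu)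
          exact this
        have := hc _ hu'
        calc u * ((x : G) * (h : G) * (x : G)⁻¹)
            = (x : G) * (((x : G)⁻¹ * u * (x : G)) * (h : G)) * (x : G)⁻¹ := by group
          _ = (x : G) * ((h : G) * ((x : G)⁻¹ * u * (x : G))) * (x : G)⁻¹ := by rw [this]
          _ = (x : G) * (h : G) * (x : G)⁻¹ * u := by group
    by_cases hh : (h : G) ∈ Subgroup.centralizer (P : Set G)
    · rw [if_pos hh, if_pos (hmem.mpr hh)]
      simp only [Subgroup.coe_mul, Subgroup.coe_inv]
      exact ha.1 _ _
    · rw [if_neg hh, if_neg (fun h' => hh (hmem.mp h'))]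
  · intro h
    rw [truncTo_apply]
    split_ifs
    · exact ha.2 _
    · exact memLocalRing_zero hM

/-- (IDEM) the truncation of an idempotent is idempotent modulo the local ideal -/
theorem truncTo_idem (hM : Cfsg.IsPModular p M) (H P : Subgroup G) [Fintype H]
    (hP : IsPGroup p P) (hCH : Subgroup.centralizer (P : Set G) ≤ H) (e : G → ℂ)
    (he : IsRCF M e) (hee : conv e e = e) (h : H) :
    Cfsg.MemLocalIdeal M (conv (truncTo H P e) (truncTo H P e) h - truncTo H P e h) := by
  classical
  haveI : Fintype (Subgroup.centralizer (P : Set G)) := Fintype.ofFinite _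
  by_cases hh : (h : G) ∈ Subgroup.centralizer (P : Set G)
  · -- reindex
    let F : G → ℂ := fun k => e k * e (k⁻¹ * (h : G))
    have h1 : conv (truncTo H P e) (truncTo H P e) h
        = ∑ k : G, if k ∈ Subgroup.centralizer (P : Set G) then F k else 0 := by
      rw [conv_apply]
      have h2 : ∀ k : H, truncTo H P e k * truncTo H P e (k⁻¹ * h)
          = if (k : G) ∈ Subgroup.centralizer (P : Set G) then F k else 0 := by
        intro k
        rw [truncTo_apply, truncTo_apply]
        by_cases hk : (k : G) ∈ Subgroup.centralizer (P : Set G)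
        · have hkh : ((k⁻¹ * h : H) : G) ∈ Subgroup.centralizer (P : Set G) := by
            simp only [Subgroup.coe_mul, Subgroup.coe_inv]
            exact Subgroup.mul_mem _ (Subgroup.inv_mem _ hk) hh
          rw [if_pos hk, if_pos hkh, if_pos hk]
          simp only [F, Subgroup.coe_mul, Subgroup.coe_inv]
        · rw [if_neg hk, if_neg hk, zero_mul]
      rw [Finset.sum_congr rfl (fun k _ => h2 k)]
      have h3 : ∑ k : H, (if (k : G) ∈ Subgroup.centralizer (P : Set G) then F k else 0)
          = ∑ k : G, if k ∈ H then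
              (if k ∈ Subgroup.centralizer (P : Set G) then F k else 0) else 0 := by
        have h3' := @Finset.sum_subtype G ℂ _ (fun k => k ∈ H) (inferInstanceAs (Fintype H))
          (Finset.univ.filter (· ∈ H))
          (by simp) (fun k => if k ∈ Subgroup.centralizer (P : Set G) then F k else 0)
        rw [Finset.sum_filter] at h3'
        exact h3'.symm
      rw [h3]
      apply Finset.sum_congr rfl
      intro k _
      by_cases hk : k ∈ Subgroup.centralizer (P : Set G)
      · rw [if_pos (hCH hk)]
      · rw [if_neg hk]; split_ifs <;> rfl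
    have h4 : (∑ k : G, if k ∈ Subgroup.centralizer (P : Set G) then F k else 0)
        = conv (restrictTo (Subgroup.centralizer (P : Set G)) e)
            (restrictTo (Subgroup.centralizer (P : Set G)) e) ⟨(h : G), hh⟩ := by
      rw [conv_apply]
      have h4' := @Finset.sum_subtype G ℂ _ (fun k => k ∈ Subgroup.centralizer (P : Set G))
        (inferInstanceAs (Fintype (Subgroup.centralizer (P : Set G))))
        (Finset.univ.filter (· ∈ Subgroup.centralizer (P : Set G))) (by simp) F
      rw [Finset.sum_filter] at h4'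
      rw [h4']
      rfl
    have h5 := conv_restrict_sub_memLocalIdeal hM P hP e e he.2 he.2
      (fun u _ g => he.1 g u) (fun u _ g => he.1 g u) ⟨(h : G), hh⟩
    rw [hee] at h5
    rw [h1, h4, truncTo_apply, if_pos hh]
    have := memLocalIdeal_neg h5
    rwa [neg_sub] at this
  · have h1 : conv (truncTo H P e) (truncTo H P e) h = 0 := by
      rw [conv_apply]
      apply Finset.sum_eq_zero
      intro k _
      rw [truncTo_apply, truncTo_apply]
      by_cases hk : (k : G) ∈ Subgroup.centralizer (P : Set G)
      · have hkh : ((k⁻¹ * h : H) : G) ∉ Subgroup.centralizer (P : Set G) := by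
          intro hc
          apply hh
          have : (h : G) = (k : G) * ((k⁻¹ * h : H) : G) := by
            simp only [Subgroup.coe_mul, Subgroup.coe_inv]; group
          rw [this]
          exact Subgroup.mul_mem _ hk hc
        rw [if_neg hkh, mul_zero]
      · rw [if_neg hk, zero_mul]
    rw [h1, truncTo_apply, if_neg hh, sub_self]
    exact memLocalIdeal_zero hM

/-- (EXB) If `P` centralizes an element `g` at which the idempotent coefficient of the block `B`
is a unit, and `P ≤ H`, `C_G(P) ≤ H ≤ N_G(P)`, then some block of `H` induces `B`. -/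
theorem exists_isInducedBlock_of_le [Fact p.Prime] (hM : Cfsg.IsPModular p M)
    (H P : Subgroup G) [Fintype H]
    (hP : IsPGroup p P) (hPH : P ≤ H) (hCH : Subgroup.centralizer (P : Set G) ≤ H)
    (hHN : H ≤ Subgroup.normalizer (P : Set G)) (B : Set (Cfsg.IrrCharacter G))
    (hB : Cfsg.IsPBlock M B) (g : G) (hgP : g ∈ Subgroup.centralizer (P : Set G))
    (hgB : ¬ Cfsg.MemLocalIdeal M (Cfsg.blockCoeff B g)) :
    ∃ b : Set (Cfsg.IrrCharacter H), Cfsg.IsInducedBlock M H b B := by
  classical
  by_contra hcon
  push Not at hcon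
  have heR := IsRCF.blockCoeff hM hB
  haveI : (P.subgroupOf H).Normal := Subgroup.normal_subgroupOf_of_le_normalizer hHN
  have hQ : IsPGroup p (P.subgroupOf H) :=
    hP.comap_of_injective H.subtype H.subtype_injective
  -- all central characters of H vanish on ε
  have h1 : ∀ ξ : Cfsg.IrrCharacter H, Cfsg.MemLocalIdeal M
      (omega (ξ : H → ℂ) (restrictTo H (Cfsg.blockCoeff B))) := by
    intro ξ
    obtain ⟨B', hB', _⟩ := isInducedBlock_of_normal hM H P hP hPH hCH hHN
      (Cfsg.blockOf M (ξ : H → ℂ)) ⟨ξ, rfl⟩
    have hne : B' ≠ B := by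
      intro h
      rw [h] at hB'
      exact hcon _ hB'
    obtain ⟨χ', hχ'⟩ := isPBlock_nonempty hM hB'.2.1
    have hχ'B : χ' ∉ B := by
      intro h
      exact Set.disjoint_left.mp (disjoint_of_isPBlock_of_ne hM hB'.2.1 hB hne) hχ' h
    have h2 := omega_restrict_sub_memLocalIdeal H hM (ξ : H → ℂ) χ'
      (fun x => hB'.2.2 ξ (mem_blockOf_self hM ξ) χ' hχ' x) (Cfsg.blockCoeff B) heR.1 heR.2
    rw [omega_blockCoeff, if_neg hχ'B, sub_zero] at h2
    exact h2
  -- hence on the truncation
  have h2 : ∀ ξ : Cfsg.IrrCharacter H, Cfsg.MemLocalIdeal M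
      (omega (ξ : H → ℂ) (truncTo H P (Cfsg.blockCoeff B))) := by
    intro ξ
    have hR : IsRCF M (restrictTo H (Cfsg.blockCoeff B)) :=
      ⟨restrictTo_isClassFunction H _ heR.1, fun h => heR.2 _⟩
    have h3 := omega_sub_omega_truncate hM (P.subgroupOf H) hQ _ hR ξ
    have h4 : (fun h : H => if h ∈ Subgroup.centralizer ((P.subgroupOf H : Subgroup H) : Set H)
        then restrictTo H (Cfsg.blockCoeff B) h else 0) = truncTo H P (Cfsg.blockCoeff B) := by
      ext h
      rw [truncTo_apply]
      by_cases hh : (h : G) ∈ Subgroup.centralizer (P : Set G)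
      · rw [if_pos hh, if_pos ((mem_centralizer_subgroupOf_iff H P hPH h).mpr hh)]
        rfl
      · rw [if_neg hh, if_neg (fun h' => hh ((mem_centralizer_subgroupOf_iff H P hPH h).mp h'))]
    rw [h4] at h3
    have h5 := memLocalIdeal_sub hM (h1 ξ) h3
    rwa [sub_sub_cancel] at h5
  have h3 := memLocalIdeal_of_idem_of_omega hM (truncTo H P (Cfsg.blockCoeff B))
    (truncTo_isRCF hM H P hHN _ heR)
    (fun h => truncTo_idem hM H P hP hCH _ heR (conv_blockCoeff_self B) h) h2
    ⟨g, hCH hgP⟩
  rw [truncTo_apply, if_pos hgP] at h3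
  exact hgB h3

end

end Cfsg.Agent.Lib.Helper7
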