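import Mathlib
import Cfsg.Prelude.Def_Blocks
import Cfsg.Agent.Lib.Helper7.BrauerIdem
import Cfsg.Agent.Lib.Helper7.DefectOrder
import Cfsg.Agent.Lib.Helper1.BaerSuzuki
import Cfsg.Agent.S0917
import Cfsg.Agent.S0912

/-!
# Towards Brauer's first main theorem (helper7 library)

`D` a `p`-subgroup of `G`, `N = N_G(D)`.

* `MaxIn p D h`: `D` is maximal among the `p`-subgroups of `C_G(h) ∩ N_G(D)`.
* `MaxIn.sylow`: then `D` is maximal among the `p`-subgroups of `C_G(h)`.
* `exists_normalizer_conj`: if moreover `D ≤ C_G(c h c⁻¹)` then `c h c⁻¹ = n h n⁻¹`, `n ∈ N_G(D)`.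
* `inducedCentralChar_sub_centralChar_of_maxIn`: `λ_ξ^G(cl_G h) ≡ λ_ξ(cl_N h)`.
-/

set_option autoImplicit false

namespace Cfsg.Agent.Lib.Helper7

open Cfsg.Agent.Lib.Helper2 Cfsg.Agent.Lib.Helper24
open scoped ComplexConjugate

section Group

variable {G : Type*} [Group G] [Finite G] {p : ℕ}

/-- `D ≤ C_G(h)` and `D` is maximal among the `p`-subgroups of `C_G(h) ∩ N_G(D)`. -/
def MaxIn (p : ℕ) (D : Subgroup G) (h : G) : Prop :=
  D ≤ Subgroup.centralizer ({h} : Set G) ∧
  ∀ T : Subgroup G, IsPGroup p T → D ≤ T → T ≤ Subgroup.centralizer ({h} : Set G) →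
    T ≤ Subgroup.normalizer (D : Set G) → T = D

/-- then `D` is maximal among the `p`-subgroups of `C_G(h)` -/
theorem MaxIn.sylow [Fact p.Prime] {D : Subgroup G} {h : G} (hmax : MaxIn p D h)
    (S : Subgroup G) (hS : IsPGroup p S) (hDS : D ≤ S)
    (hSh : S ≤ Subgroup.centralizer ({h} : Set G)) : S = D := by
  by_contra hne
  have hlt : D < S := lt_of_le_of_ne hDS (fun h' => hne h'.symm)
  haveI : Finite S := inferInstance
  have hnil : Group.IsNilpotent S := hS.isNilpotent
  obtain ⟨u, huS, huN, huD⟩ :=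
    Cfsg.Agent.Lib.Helper1.exists_mem_normalizer_notMem_of_lt hnil hlt
  have hT : D ⊔ Subgroup.zpowers u ≤ S := sup_le hDS ((Subgroup.zpowers_le).mpr huS)
  have h1 := hmax.2 (D ⊔ Subgroup.zpowers u) (hS.to_le hT) le_sup_left (hT.trans hSh)
    (sup_le Subgroup.le_normalizer ((Subgroup.zpowers_le).mpr huN))
  apply huD
  rw [← h1]
  exact le_sup_right (a := D) (Subgroup.mem_zpowers u)

omit [Finite G] in
/-- conjugate subgroups -/
theorem mem_map_conj_iff (D : Subgroup G) (c u : G) :
    u ∈ D.map (MulAut.conj c).toMonoidHom ↔ c⁻¹ * u * c ∈ D := by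
  constructor
  · rintro ⟨v, hv, rfl⟩
    simpa [mul_assoc] using hv
  · intro h
    exact ⟨c⁻¹ * u * c, h, by simp [mul_assoc]⟩

/-- If `D` is a maximal `p`-subgroup of `C_G(h)` and `D ≤ C_G(c h c⁻¹)`, then `c h c⁻¹` is
conjugate to `h` by an element of `N_G(D)`. -/
theorem exists_normalizer_conj [Fact p.Prime] {D : Subgroup G} (hDp : IsPGroup p D) {h : G}
    (hDh : D ≤ Subgroup.centralizer ({h} : Set G))
    (hmax : ∀ S : Subgroup G, IsPGroup p S → D ≤ S →
      S ≤ Subgroup.centralizer ({h} : Set G) → S = D)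
    (c : G) (hc : D ≤ Subgroup.centralizer ({c * h * c⁻¹} : Set G)) :
    ∃ n ∈ Subgroup.normalizer (D : Set G), n * h * n⁻¹ = c * h * c⁻¹ := by
  classical
  -- the Sylow subgroup of C(h) containing D
  have hDp' : IsPGroup p (D.subgroupOf (Subgroup.centralizer ({h} : Set G))) :=
    hDp.comap_of_injective _ (Subgroup.subtype_injective _)
  obtain ⟨Q₀, hQ₀⟩ := hDp'.exists_le_sylow
  have hQ₀D : (Q₀ : Subgroup (Subgroup.centralizer ({h} : Set G))).map
      (Subgroup.centralizer ({h} : Set G)).subtype = D := by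
    apply hmax _ (Q₀.2.map _)
    · intro u hu
      exact ⟨⟨u, hDh hu⟩, hQ₀ (by rw [Subgroup.mem_subgroupOf]; exact hu), rfl⟩
    · rintro _ ⟨v, _, rfl⟩
      exact v.2
  -- D₁ = c⁻¹ D c ≤ C(h)
  have hD₁h : D.map (MulAut.conj c⁻¹).toMonoidHom ≤ Subgroup.centralizer ({h} : Set G) := by
    rintro _ ⟨u, hu, rfl⟩
    have := hc hu
    rw [Subgroup.mem_centralizer_singleton_iff] at this ⊢
    simp only [MulEquiv.coe_toMonoidHom, MulAut.conj_apply, inv_inv]
    calc c⁻¹ * u * c * h = c⁻¹ * (u * (c * h * c⁻¹)) * c := by group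
      _ = c⁻¹ * (c * h * c⁻¹ * u) * c := by rw [this]
      _ = h * (c⁻¹ * u * c) := by group
  have hD₁p : IsPGroup p (D.map (MulAut.conj c⁻¹).toMonoidHom) := hDp.map _
  have hD₁p' : IsPGroup p ((D.map (MulAut.conj c⁻¹).toMonoidHom).subgroupOf
      (Subgroup.centralizer ({h} : Set G))) :=
    hD₁p.comap_of_injective _ (Subgroup.subtype_injective _)
  obtain ⟨Q₁, hQ₁⟩ := hD₁p'.exists_le_sylow
  obtain ⟨z, hz⟩ := MulAction.exists_smul_eq (Subgroup.centralizer ({h} : Set G)) Q₀ Q₁
  -- D₁ ≤ z D z⁻¹, hence equal by cardinality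
  have hle : D.map (MulAut.conj c⁻¹).toMonoidHom ≤ D.map (MulAut.conj (z : G)).toMonoidHom := by
    intro u hu
    have hu' : (⟨u, hD₁h hu⟩ : Subgroup.centralizer ({h} : Set G))
        ∈ (Q₁ : Subgroup (Subgroup.centralizer ({h} : Set G))) :=
      hQ₁ (by rw [Subgroup.mem_subgroupOf]; exact hu)
    rw [← hz, Sylow.coe_subgroup_smul, Subgroup.mem_pointwise_smul_iff_inv_smul_mem] at hu'
    rw [mem_map_conj_iff, ← hQ₀D]
    refine ⟨_, hu', ?_⟩
    simp [MulAut.smul_def, mul_assoc]
  have hcard : Nat.card (D.map (MulAut.conj (z : G)).toMonoidHom)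
      ≤ Nat.card (D.map (MulAut.conj c⁻¹).toMonoidHom) := by
    rw [Subgroup.card_map_of_injective (MulAut.conj (z : G)).injective,
      Subgroup.card_map_of_injective (MulAut.conj c⁻¹).injective]
  have heq : D.map (MulAut.conj c⁻¹).toMonoidHom = D.map (MulAut.conj (z : G)).toMonoidHom :=
    Subgroup.eq_of_le_of_card_ge hle hcard
  refine ⟨c * (z : G), ?_, ?_⟩
  · rw [Subgroup.mem_normalizer_iff]
    intro u
    -- (cz) u (cz)⁻¹ ∈ D ↔ u ∈ D
    have key : ∀ v : G, v ∈ D ↔ c * (z : G) * v * (c * (z : G))⁻¹ ∈ D := by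
      intro v
      constructor
      · intro hv
        have h1 : (z : G) * v * (z : G)⁻¹ ∈ D.map (MulAut.conj (z : G)).toMonoidHom :=
          ⟨v, hv, rfl⟩
        rw [← heq, mem_map_conj_iff] at h1
        have e : c * (z : G) * v * (c * (z : G))⁻¹ = c⁻¹⁻¹ * ((z : G) * v * (z : G)⁻¹) * c⁻¹ := by
          group
        rw [e]; exact h1
      · intro hv
        have h1 : c⁻¹ * (c * (z : G) * v * (c * (z : G))⁻¹) * c⁻¹⁻¹
            ∈ D.map (MulAut.conj c⁻¹).toMonoidHom := ⟨_, hv, rfl⟩
        rw [heq, mem_map_conj_iff] at h1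
        have e : (z : G)⁻¹ * (c⁻¹ * (c * (z : G) * v * (c * (z : G))⁻¹) * c⁻¹⁻¹) * (z : G) = v := by
          group
        rw [e] at h1; exact h1
    exact key u
  · have hzh : (z : G) * h = h * (z : G) := by
      have := z.2
      rw [Subgroup.mem_centralizer_singleton_iff] at this
      exact this
    calc c * (z : G) * h * (c * (z : G))⁻¹ = c * ((z : G) * h) * (z : G)⁻¹ * c⁻¹ := by group
      _ = c * (h * (z : G)) * (z : G)⁻¹ * c⁻¹ := by rw [hzh]
      _ = c * h * c⁻¹ := by group

omit [Finite G] in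
/-- `D ∩ N` is normal in `N = N_G(D)`, so its conjugates in `N` are itself -/
theorem map_conj_subgroupOf_normalizer (D : Subgroup G)
    (x : Subgroup.normalizer (D : Set G)) :
    (D.subgroupOf (Subgroup.normalizer (D : Set G))).map (MulAut.conj x).toMonoidHom
      = D.subgroupOf (Subgroup.normalizer (D : Set G)) := by
  haveI : (D.subgroupOf (Subgroup.normalizer (D : Set G))).Normal :=
    Subgroup.normal_subgroupOf_of_le_normalizer le_rfl
  ext u
  rw [mem_map_conj_iff]
  constructor
  · intro h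
    have := Subgroup.Normal.conj_mem (inferInstance :
      (D.subgroupOf (Subgroup.normalizer (D : Set G))).Normal) _ h x
    simpa [mul_assoc] using this
  · intro h
    have := Subgroup.Normal.conj_mem (inferInstance :
      (D.subgroupOf (Subgroup.normalizer (D : Set G))).Normal) _ h x⁻¹
    simpa [mul_assoc] using this

/-- from the Sylow condition in `N = N_G(D)` to `MaxIn` -/
theorem maxIn_of_sylCentLe [Fact p.Prime] (D : Subgroup G)
    (n : Subgroup.normalizer (D : Set G))
    (hDn : D ≤ Subgroup.centralizer ({(n : G)} : Set G))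
    [Fintype (Subgroup.normalizer (D : Set G))]
    (h : SylCentLe p (D.subgroupOf (Subgroup.normalizer (D : Set G))) n) :
    MaxIn p D (n : G) := by
  refine ⟨hDn, ?_⟩
  intro T hT hDT hTn hTN
  apply le_antisymm _ hDT
  have hT' : IsPGroup p (T.subgroupOf (Subgroup.normalizer (D : Set G))) :=
    hT.comap_of_injective _ (Subgroup.subtype_injective _)
  have hT'n : T.subgroupOf (Subgroup.normalizer (D : Set G))
      ≤ Subgroup.centralizer ({n} : Set (Subgroup.normalizer (D : Set G))) := by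
    intro u hu
    rw [Subgroup.mem_subgroupOf] at hu
    have := hTn hu
    rw [Subgroup.mem_centralizer_singleton_iff] at this ⊢
    apply Subtype.ext
    simpa using this
  obtain ⟨x, hx⟩ := h.exists_le _ hT' hT'n
  rw [map_conj_subgroupOf_normalizer] at hx
  intro u hu
  have := hx (show (⟨u, hTN hu⟩ : Subgroup.normalizer (D : Set G))
    ∈ T.subgroupOf (Subgroup.normalizer (D : Set G)) by
      rw [Subgroup.mem_subgroupOf]; exact hu)
  rw [Subgroup.mem_subgroupOf] at this
  exact this

end Group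

section Blocks

variable {G : Type*} [Group G] [Fintype G] {p : ℕ} {M : Ideal Cfsg.AlgInt}

/-- **(Lemma C)** If `D` is a maximal `p`-subgroup of `C_G(h)`, `h ∈ N = N_G(D)`, then the
central character of `ξ ∈ Irr(N)` induced to `G` agrees at `h` with the central character of `ξ`
modulo the local ideal. -/
theorem inducedCentralChar_sub_centralChar_of_maxIn [Fact p.Prime] (hM : Cfsg.IsPModular p M)
    (D : Subgroup G) (hDp : IsPGroup p D) [Fintype (Subgroup.normalizer (D : Set G))]
    (h : Subgroup.normalizer (D : Set G)) (hmax : MaxIn p D (h : G))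
    (ξ : Cfsg.IrrCharacter (Subgroup.normalizer (D : Set G))) :
    Cfsg.MemLocalIdeal M (Cfsg.inducedCentralChar (Subgroup.normalizer (D : Set G))
      (ξ : Subgroup.normalizer (D : Set G) → ℂ) (h : G)
      - Cfsg.centralChar (ξ : Subgroup.normalizer (D : Set G) → ℂ) h) := by
  classical
  haveI : (D.subgroupOf (Subgroup.normalizer (D : Set G))).Normal :=
    Subgroup.normal_subgroupOf_of_le_normalizer le_rfl
  have hQ : IsPGroup p (D.subgroupOf (Subgroup.normalizer (D : Set G))) :=
    hDp.comap_of_injective _ (Subgroup.subtype_injective _)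
  rw [inducedCentralChar_eq_omega]
  have hR : IsRCF M (classIndicatorOn (Subgroup.normalizer (D : Set G)) (h : G)) :=
    ⟨classIndicatorOn_isClassFunction _ _, classIndicatorOn_memLocalRing _ hM _⟩
  have h1 := omega_sub_omega_truncate hM (D.subgroupOf (Subgroup.normalizer (D : Set G))) hQ
    _ hR ξ
  have h2 : (fun n : Subgroup.normalizer (D : Set G) =>
      if n ∈ Subgroup.centralizer ((D.subgroupOf (Subgroup.normalizer (D : Set G)) :
        Subgroup (Subgroup.normalizer (D : Set G))) : Set (Subgroup.normalizer (D : Set G)))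
      then classIndicatorOn (Subgroup.normalizer (D : Set G)) (h : G) n else 0)
      = classIndicator h := by
    ext n
    have hiff := mem_centralizer_subgroupOf_iff (Subgroup.normalizer (D : Set G)) D
      Subgroup.le_normalizer n
    unfold classIndicatorOn classIndicator
    by_cases hn : IsConj h n
    · -- n is N-conjugate to h: then G-conjugate and in C(D)
      obtain ⟨x, hx⟩ := isConj_iff.mp hn
      have hG : IsConj (h : G) (n : G) := by
        rw [isConj_iff]
        exact ⟨(x : G), by rw [← hx]; simp⟩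
      have hnC : (n : G) ∈ Subgroup.centralizer (D : Set G) := by
        rw [← hx]
        rw [Subgroup.mem_centralizer_iff]
        intro u hu
        have hxN := x.2
        rw [Subgroup.mem_normalizer_iff] at hxN
        have hu' : (x : G)⁻¹ * u * (x : G) ∈ D := by
          have := (hxN ((x : G)⁻¹ * u * (x : G))).mpr (by
            have e : (x : G) * ((x : G)⁻¹ * u * (x : G)) * (x : G)⁻¹ = u := by group
            rw [e]; exact hu)
          exact this
        have hc := hmax.1 hu'
        rw [Subgroup.mem_centralizer_singleton_iff] at hc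
        simp only [Subgroup.coe_mul, Subgroup.coe_inv]
        calc u * ((x : G) * (h : G) * (x : G)⁻¹)
            = (x : G) * (((x : G)⁻¹ * u * (x : G)) * (h : G)) * (x : G)⁻¹ := by group
          _ = (x : G) * ((h : G) * ((x : G)⁻¹ * u * (x : G))) * (x : G)⁻¹ := by rw [hc]
          _ = (x : G) * (h : G) * (x : G)⁻¹ * u := by group
      rw [if_pos (hiff.mpr hnC), if_pos hG, if_pos hn]
    · rw [if_neg hn]
      by_cases hnC : (n : G) ∈ Subgroup.centralizer (D : Set G)
      · rw [if_pos (hiff.mpr hnC), if_neg]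
        intro hG
        apply hn
        obtain ⟨c, hc⟩ := isConj_iff.mp hG
        have hDc : D ≤ Subgroup.centralizer ({c * (h : G) * c⁻¹} : Set G) := by
          intro u hu
          rw [hc, Subgroup.mem_centralizer_singleton_iff]
          rw [Subgroup.mem_centralizer_iff] at hnC
          exact hnC u hu
        obtain ⟨m, hmN, hm⟩ := exists_normalizer_conj hDp hmax.1
          (fun S hS hDS hSh => hmax.sylow S hS hDS hSh) c hDc
        rw [isConj_iff]
        refine ⟨⟨m, hmN⟩, ?_⟩
        apply Subtype.ext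
        simp only [Subgroup.coe_mul, Subgroup.coe_inv]
        rw [hm, hc]
      · rw [if_neg (fun h' => hnC (hiff.mp h'))]
  rw [h2, omega_classIndicator _ (IrrCharacter.isClassFunction ξ)] at h1
  exact h1

omit [Fintype G] in
/-- a maximal `p`-subgroup of `C_G(h)` is (the image of) a Sylow `p`-subgroup of `C_G(h)` -/
theorem exists_sylow_map_eq [Finite G] [Fact p.Prime] {D : Subgroup G} (hDp : IsPGroup p D) {h : G}
    (hDh : D ≤ Subgroup.centralizer ({h} : Set G))
    (hmax : ∀ S : Subgroup G, IsPGroup p S → D ≤ S →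
      S ≤ Subgroup.centralizer ({h} : Set G) → S = D) :
    ∃ Q₀ : Sylow p (Subgroup.centralizer ({h} : Set G)),
      (Q₀ : Subgroup (Subgroup.centralizer ({h} : Set G))).map
        (Subgroup.centralizer ({h} : Set G)).subtype = D := by
  have hDp' : IsPGroup p (D.subgroupOf (Subgroup.centralizer ({h} : Set G))) :=
    hDp.comap_of_injective _ (Subgroup.subtype_injective _)
  obtain ⟨Q₀, hQ₀⟩ := hDp'.exists_le_sylow
  refine ⟨Q₀, ?_⟩
  apply hmax _ (Q₀.2.map _)
  · intro u hu
    exact ⟨⟨u, hDh hu⟩, hQ₀ (by rw [Subgroup.mem_subgroupOf]; exact hu), rfl⟩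
  · rintro _ ⟨v, _, rfl⟩
    exact v.2

/-- data extracted from a block of `N_G(D)` with defect group `D` -/
theorem maxIn_of_isDefectGroup [Fact p.Prime] (D : Subgroup G)
    [Fintype (Subgroup.normalizer (D : Set G))]
    (b : Set (Cfsg.IrrCharacter (Subgroup.normalizer (D : Set G))))
    (hdef : Cfsg.IsDefectGroup p M b (D.subgroupOf (Subgroup.normalizer (D : Set G)))) :
    ∃ k : Subgroup.normalizer (D : Set G), Cfsg.IsDefectClass M b k ∧ MaxIn p D (k : G) ∧
      SylCentLe p (D.subgroupOf (Subgroup.normalizer (D : Set G))) k := by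
  obtain ⟨k, hk, Q, hQ⟩ := hdef
  have hDk : D ≤ Subgroup.centralizer ({(k : G)} : Set G) := by
    intro u hu
    have h1 : (⟨u, Subgroup.le_normalizer hu⟩ : Subgroup.normalizer (D : Set G))
        ∈ D.subgroupOf (Subgroup.normalizer (D : Set G)) := by
      rw [Subgroup.mem_subgroupOf]; exact hu
    rw [hQ] at h1
    obtain ⟨v, _, hv⟩ := h1
    have hv2 := v.2
    rw [Subgroup.mem_centralizer_singleton_iff] at hv2 ⊢
    have h3 := congrArg (Subtype.val : Subgroup.normalizer (D : Set G) → G) hv2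
    have h4 : ((v : Subgroup.normalizer (D : Set G)) : G) = u := by
      have := congrArg (Subtype.val : Subgroup.normalizer (D : Set G) → G) hv
      simpa using this
    simp only [Subgroup.coe_mul, h4] at h3
    exact h3
  have hsyl : SylCentLe p (D.subgroupOf (Subgroup.normalizer (D : Set G))) k := by
    refine ⟨1, Q, ?_⟩
    rw [← hQ]
    intro u hu
    exact ⟨u, hu, by simp⟩
  exact ⟨k, hk, maxIn_of_sylCentLe D k hDk hsyl, hsyl⟩

/-- **Brauer's first main theorem, (i)**: a block of `N_G(D)` with defect group `D` induces a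
block of `G` with defect group `D`. -/
theorem first_main_induced [Fact p.Prime] (hM : Cfsg.IsPModular p M) (D : Subgroup G)
    (hDp : IsPGroup p D) [Fintype (Subgroup.normalizer (D : Set G))]
    (b : Set (Cfsg.IrrCharacter (Subgroup.normalizer (D : Set G)))) (hb : Cfsg.IsPBlock M b)
    (hdef : Cfsg.IsDefectGroup p M b (D.subgroupOf (Subgroup.normalizer (D : Set G)))) :
    ∃ B : Set (Cfsg.IrrCharacter G), Cfsg.IsPBlock M B ∧ Cfsg.IsDefectGroup p M B D ∧
      Cfsg.IsInducedBlock M (Subgroup.normalizer (D : Set G)) b B := by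
  classical
  obtain ⟨B, hind, _⟩ := isInducedBlock_of_normal hM (Subgroup.normalizer (D : Set G)) D hDp
    Subgroup.le_normalizer (Subgroup.centralizer_le_normalizer _) le_rfl b hb
  have hB := hind.2.1
  refine ⟨B, hB, ?_, hind⟩
  obtain ⟨k, hk, hmax, _⟩ := maxIn_of_isDefectGroup D b hdef
  obtain ⟨ξ, hξ⟩ := isPBlock_nonempty hM hb
  obtain ⟨χ, hχ⟩ := isPBlock_nonempty hM hB
  have hC := inducedCentralChar_sub_centralChar_of_maxIn hM D hDp k hmax ξ
  have hunit : ¬ Cfsg.MemLocalIdeal M (Cfsg.centralChar (χ : G → ℂ) (k : G)) := by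
    intro hcon
    apply hk.2.2 ξ hξ
    have h1 := hind.2.2 ξ hξ χ hχ (k : G)
    have h2 := memLocalIdeal_add hM h1 hcon
    rw [sub_add_cancel] at h2
    have h3 := memLocalIdeal_sub hM h2 hC
    rwa [sub_sub_cancel] at h3
  obtain ⟨Q₀, hQ₀⟩ := exists_sylow_map_eq hDp hmax.1
    (fun S hS hDS hSh => hmax.sylow S hS hDS hSh)
  obtain ⟨g₁, hg₁⟩ := Cfsg.Agent.Lib.Helper24.exists_isDefectClass hM B hB
  obtain ⟨Q₁⟩ : Nonempty (Sylow p (Subgroup.centralizer ({g₁} : Set G))) := inferInstance
  have hmm := minmax hM B hB (k : G) g₁ Q₀ χ hχ hunit hg₁.2.1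
  rw [hQ₀] at hmm
  obtain ⟨x, hx⟩ := hmm.forall Q₁
  have hE₁ : Cfsg.IsDefectGroup p M B ((Q₁ : Subgroup (Subgroup.centralizer ({g₁} : Set G))).map
      (Subgroup.centralizer ({g₁} : Set G)).subtype) := ⟨g₁, hg₁, Q₁, rfl⟩
  have hcard₁ := card_of_isDefectGroup hM B hB _ hE₁
  obtain ⟨E, hE, hle⟩ := Cfsg.Agent.S0917.result p M hM _ b hb B hB hind _ hdef
  have hcardE := card_of_isDefectGroup hM B hB E hE
  rw [Subgroup.subgroupOf_map_subtype, inf_of_le_left Subgroup.le_normalizer] at hle
  have h4 : Nat.card E ≤ Nat.card D := by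
    rw [hcardE, ← hcard₁]
    have h6 := Subgroup.card_le_of_le hx
    have h7 : Nat.card (D.map (MulAut.conj x).toMonoidHom) = Nat.card D :=
      Subgroup.card_map_of_injective (MulAut.conj x).injective
    rw [h7] at h6
    exact h6
  have h5 : D = E := Subgroup.eq_of_le_of_card_ge hle h4
  rw [h5]; exact hE

/-- **Brauer's first main theorem, (ii) existence**: a block of `G` with defect group `D` is
induced from a block of `N_G(D)` with defect group `D`. -/
theorem first_main_exists [Fact p.Prime] (hM : Cfsg.IsPModular p M) (D : Subgroup G)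
    [Fintype (Subgroup.normalizer (D : Set G))]
    (B : Set (Cfsg.IrrCharacter G)) (hB : Cfsg.IsPBlock M B)
    (hD : Cfsg.IsDefectGroup p M B D) :
    ∃ b : Set (Cfsg.IrrCharacter (Subgroup.normalizer (D : Set G))), Cfsg.IsPBlock M b ∧
      Cfsg.IsDefectGroup p M b (D.subgroupOf (Subgroup.normalizer (D : Set G))) ∧
      Cfsg.IsInducedBlock M (Subgroup.normalizer (D : Set G)) b B := by
  classical
  have hcardD := card_of_isDefectGroup hM B hB D hD
  obtain ⟨g₀, hg₀, hDle, hDc⟩ := exists_of_isDefectGroup hD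
  have hDp : IsPGroup p D := IsPGroup.of_card hDc
  have hDN : D ≤ Subgroup.normalizer (D : Set G) := Subgroup.le_normalizer
  have hCN : Subgroup.centralizer (D : Set G) ≤ Subgroup.normalizer (D : Set G) :=
    Subgroup.centralizer_le_normalizer _
  have hg₀D : g₀ ∈ Subgroup.centralizer (D : Set G) := by
    rw [Subgroup.mem_centralizer_iff]
    intro u hu
    have := hDle hu
    rw [Subgroup.mem_centralizer_singleton_iff] at this
    exact this
  obtain ⟨b, hind⟩ := exists_isInducedBlock_of_le hM (Subgroup.normalizer (D : Set G)) D hDp hDN hCN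
    le_rfl B hB g₀ hg₀D hg₀.2.1
  refine ⟨b, hind.1, ?_, hind⟩
  obtain ⟨Db, hDb⟩ := exists_isDefectGroup hM b hind.1
  obtain ⟨E, hE, hle⟩ := Cfsg.Agent.S0917.result p M hM _ b hind.1 B hB hind Db hDb
  have hcore := Cfsg.Agent.S0912.result p M hM b hind.1 Db hDb
  have hcardE := card_of_isDefectGroup hM B hB E hE
  haveI : (D.subgroupOf (Subgroup.normalizer (D : Set G))).Normal :=
    Subgroup.normal_subgroupOf_of_le_normalizer le_rfl
  have hQ : IsPGroup p (D.subgroupOf (Subgroup.normalizer (D : Set G))) :=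
    hDp.comap_of_injective _ (Subgroup.subtype_injective _)
  have h1 : D.subgroupOf (Subgroup.normalizer (D : Set G)) ≤ Db :=
    (Cfsg.Agent.Lib.Helper13.le_pCore _ inferInstance hQ).trans hcore
  -- cardinalities
  have h2 : Nat.card Db ≤ Nat.card (D.subgroupOf (Subgroup.normalizer (D : Set G))) := by
    have e1 : Nat.card (D.subgroupOf (Subgroup.normalizer (D : Set G))) = Nat.card D :=
      Nat.card_congr (Subgroup.subgroupOfEquivOfLe hDN).toEquiv
    have e2 : Nat.card Db = Nat.card (Db.map (Subgroup.normalizer (D : Set G)).subtype) :=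
      (Subgroup.card_map_of_injective (Subgroup.subtype_injective _)).symm
    rw [e1, e2, hcardD, ← hcardE]
    exact Subgroup.card_le_of_le hle
  have h3 : D.subgroupOf (Subgroup.normalizer (D : Set G)) = Db :=
    Subgroup.eq_of_le_of_card_ge h1 h2
  rw [h3]; exact hDb

/-- **Brauer's first main theorem, (ii) uniqueness**. -/
theorem first_main_unique [Fact p.Prime] (hM : Cfsg.IsPModular p M) (D : Subgroup G)
    (hDp : IsPGroup p D) [Fintype (Subgroup.normalizer (D : Set G))]
    (B : Set (Cfsg.IrrCharacter G))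
    (b₁ b₂ : Set (Cfsg.IrrCharacter (Subgroup.normalizer (D : Set G))))
    (hdef₂ : Cfsg.IsDefectGroup p M b₂ (D.subgroupOf (Subgroup.normalizer (D : Set G))))
    (hind₁ : Cfsg.IsInducedBlock M (Subgroup.normalizer (D : Set G)) b₁ B)
    (hind₂ : Cfsg.IsInducedBlock M (Subgroup.normalizer (D : Set G)) b₂ B) : b₁ = b₂ := by
  classical
  have hb₁ := hind₁.1
  have hb₂ := hind₂.1
  have hB := hind₁.2.1
  obtain ⟨ξ₁, hξ₁⟩ := isPBlock_nonempty hM hb₁
  obtain ⟨ξ₂, hξ₂⟩ := isPBlock_nonempty hM hb₂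
  obtain ⟨χ, hχ⟩ := isPBlock_nonempty hM hB
  haveI : (D.subgroupOf (Subgroup.normalizer (D : Set G))).Normal :=
    Subgroup.normal_subgroupOf_of_le_normalizer le_rfl
  have hQ : IsPGroup p (D.subgroupOf (Subgroup.normalizer (D : Set G))) :=
    hDp.comap_of_injective _ (Subgroup.subtype_injective _)
  obtain ⟨k₂, hk₂, Q₂, hQ₂⟩ := hdef₂
  have he₂R := IsRCF.blockCoeff hM hb₂
  -- the key pointwise congruence
  have key : ∀ n : Subgroup.normalizer (D : Set G), Cfsg.MemLocalIdeal M
      (Cfsg.blockCoeff b₂ n * (Cfsg.centralChar (ξ₁ : _ → ℂ) n - Cfsg.centralChar (ξ₂ : _ → ℂ) n)) := by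
    intro n
    by_cases hn : Cfsg.MemLocalIdeal M (Cfsg.blockCoeff b₂ n)
    · exact memLocalIdeal_mul_right hM hn (memLocalRing_sub hM (centralChar_memLocalRing hM ξ₁ n)
        (centralChar_memLocalRing hM ξ₂ n))
    · apply memLocalIdeal_mul_left hM (he₂R.2 n)
      -- n centralizes D
      have hnC : n ∈ Subgroup.centralizer ((D.subgroupOf (Subgroup.normalizer (D : Set G)) :
          Subgroup (Subgroup.normalizer (D : Set G))) : Set (Subgroup.normalizer (D : Set G))) := by
        by_contra hcon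
        apply hn
        rw [blockCoeff_eq_zero_of_notMem hM _ (fun g hg χ' =>
          centralChar_memLocalIdeal_of_notMem_centralizer hM _ hQ g hg χ') b₂ hb₂ n hcon]
        exact memLocalIdeal_zero hM
      have hnC' := (mem_centralizer_subgroupOf_iff _ D Subgroup.le_normalizer n).mp hnC
      have hDn : D ≤ Subgroup.centralizer ({(n : G)} : Set G) := by
        intro u hu
        rw [Subgroup.mem_centralizer_singleton_iff]
        rw [Subgroup.mem_centralizer_iff] at hnC'
        exact hnC' u hu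
      have hmm := minmax hM b₂ hb₂ k₂ n Q₂ ξ₂ hξ₂ (hk₂.2.2 ξ₂ hξ₂) hn
      rw [← hQ₂] at hmm
      have hmax := maxIn_of_sylCentLe D n hDn hmm
      have hC₁ := inducedCentralChar_sub_centralChar_of_maxIn hM D hDp n hmax ξ₁
      have hC₂ := inducedCentralChar_sub_centralChar_of_maxIn hM D hDp n hmax ξ₂
      have hI₁ := hind₁.2.2 ξ₁ hξ₁ χ hχ (n : G)
      have hI₂ := hind₂.2.2 ξ₂ hξ₂ χ hχ (n : G)
      have h1 := memLocalIdeal_sub hM (memLocalIdeal_sub hM hI₁ hC₁) (memLocalIdeal_sub hM hI₂ hC₂)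
      have e : (Cfsg.inducedCentralChar (Subgroup.normalizer (D : Set G)) (ξ₁ : _ → ℂ) (n : G)
            - Cfsg.centralChar (χ : G → ℂ) (n : G)
          - (Cfsg.inducedCentralChar (Subgroup.normalizer (D : Set G)) (ξ₁ : _ → ℂ) (n : G)
            - Cfsg.centralChar (ξ₁ : _ → ℂ) n))
          - (Cfsg.inducedCentralChar (Subgroup.normalizer (D : Set G)) (ξ₂ : _ → ℂ) (n : G)
            - Cfsg.centralChar (χ : G → ℂ) (n : G)
          - (Cfsg.inducedCentralChar (Subgroup.normalizer (D : Set G)) (ξ₂ : _ → ℂ) (n : G)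
            - Cfsg.centralChar (ξ₂ : _ → ℂ) n))
          = Cfsg.centralChar (ξ₁ : _ → ℂ) n - Cfsg.centralChar (ξ₂ : _ → ℂ) n := by ring
      rw [e] at h1
      exact h1
  -- hence ω_{ξ₁}(e_{b₂}) ≡ ω_{ξ₂}(e_{b₂}) = 1
  have hdiff : Cfsg.MemLocalIdeal M (omega (ξ₁ : _ → ℂ) (Cfsg.blockCoeff b₂)
      - omega (ξ₂ : _ → ℂ) (Cfsg.blockCoeff b₂)) := by
    rw [omega_eq_sum, omega_eq_sum, ← Finset.sum_sub_distrib]
    have e : ∀ n : Subgroup.normalizer (D : Set G),
        (Cfsg.blockCoeff b₂ n * Cfsg.centralChar (ξ₁ : _ → ℂ) n)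
          * ((Subgroup.centralizer ({n} : Set (Subgroup.normalizer (D : Set G)))).index : ℂ)⁻¹
        - (Cfsg.blockCoeff b₂ n * Cfsg.centralChar (ξ₂ : _ → ℂ) n)
          * ((Subgroup.centralizer ({n} : Set (Subgroup.normalizer (D : Set G)))).index : ℂ)⁻¹
        = (Cfsg.blockCoeff b₂ n * (Cfsg.centralChar (ξ₁ : _ → ℂ) n - Cfsg.centralChar (ξ₂ : _ → ℂ) n))
          * ((Subgroup.centralizer ({n} : Set (Subgroup.normalizer (D : Set G)))).index : ℂ)⁻¹ := by
      intro n; ring
    rw [Finset.sum_congr rfl (fun n _ => e n)]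
    apply sum_mul_inv_index_mem (MlocC hM)
    · intro g x
      simp only
      rw [he₂R.1, centralChar_isClassFunction _ (IrrCharacter.isClassFunction ξ₁),
        centralChar_isClassFunction _ (IrrCharacter.isClassFunction ξ₂)]
    · intro n
      exact key n
  rw [omega_blockCoeff, omega_blockCoeff, if_pos hξ₂] at hdiff
  have hξ₁b₂ : ξ₁ ∈ b₂ := by
    by_contra hcon
    rw [if_neg hcon, zero_sub] at hdiff
    have := memLocalIdeal_neg hdiff
    rw [neg_neg] at this
    exact not_memLocalIdeal_one hM this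
  rw [eq_blockOf_of_mem hM hb₁ hξ₁, eq_blockOf_of_mem hM hb₂ hξ₁b₂]

end Blocks

end Cfsg.Agent.Lib.Helper7
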