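import Mathlib
import Cfsg.Prelude.Def_Blocks
import Cfsg.Agent.Lib.Helper24.DefectCount
import Cfsg.Agent.Lib.Helper24.NormalPBlock
import Cfsg.Agent.Lib.Helper24.BrauerPairs
import Cfsg.Agent.Lib.Helper25.Kernel
import Cfsg.Agent.Lib.Helper7.PPrimeNormal

/-!
# Blocks of a group with a normal Sylow `p`-subgroup (helper7 library)

* `memLocalIdeal_of_omega_of_not_dvd`: in a `p'`-group a class function all of whose central
  character values lie in the local ideal has all its values in the local ideal.
* `pushQ`: push-forward of a function to a quotient group.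
* `memLocalIdeal_of_omega_of_normal_sylow`: the same for class functions supported on the
  `p`-regular elements of `C_G(Q)`, `Q` a normal Sylow `p`-subgroup.
* `isDefectGroup_of_normal_sylow`, `card_blocks_eq_of_normal_sylow`.
-/

set_option autoImplicit false

namespace Cfsg.Agent.Lib.Helper7

open Cfsg.Agent.Lib.Helper2 Cfsg.Agent.Lib.Helper24
open scoped ComplexConjugate

section PPrime

variable {G : Type*} [Group G] [Fintype G] {p : ℕ} {M : Ideal Cfsg.AlgInt}

/-- In a group of order prime to `p`, a class function all of whose central character values lie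
in the local ideal has all its values in the local ideal. -/
theorem memLocalIdeal_of_omega_of_not_dvd (hM : Cfsg.IsPModular p M) (hp : ¬ p ∣ Nat.card G)
    (z : G → ℂ) (hz : Cfsg.IsClassFunction G z)
    (hω : ∀ θ : Cfsg.IrrCharacter G, Cfsg.MemLocalIdeal M (omega (θ : G → ℂ) z)) (g : G) :
    Cfsg.MemLocalIdeal M (z g) := by
  classical
  haveI : Fintype (Cfsg.IrrCharacter G) := Fintype.ofFinite _
  have hexp : z = ∑ θ : Cfsg.IrrCharacter G,
      omega (θ : G → ℂ) z • Cfsg.blockCoeff ({θ} : Set (Cfsg.IrrCharacter G)) := by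
    apply eq_of_omega_eq _ _ hz
      (isClassFunction_sum _ _ (fun θ _ => isClassFunction_smul _ (blockCoeff_isClassFunction _)))
    intro χ
    rw [omega_sum]
    simp_rw [omega_smul, omega_blockCoeff]
    rw [Finset.sum_eq_single χ]
    · simp
    · intro θ _ hθ
      have : χ ∉ ({θ} : Set (Cfsg.IrrCharacter G)) := by
        intro h
        exact hθ (Set.mem_singleton_iff.mp h).symm
      rw [if_neg this, mul_zero]
    · intro h
      exact absurd (Finset.mem_univ χ) h
  rw [hexp, Finset.sum_apply]
  apply memLocalIdeal_sum hM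
  intro θ _
  simp only [Pi.smul_apply, smul_eq_mul]
  apply memLocalIdeal_mul_right hM (hω θ)
  rw [← blockOf_eq_singleton_of_not_dvd hM hp θ]
  exact blockCoeff_memLocalRing hM _ ⟨θ, rfl⟩ g

end PPrime

section Push

variable {G : Type*} [Group G] [Fintype G] (N : Subgroup G) [hN : N.Normal] [Fintype (G ⧸ N)]

/-- push-forward of a function on `G` to the quotient `G ⧸ N` (summing over the fibres) -/
noncomputable def pushQ (z : G → ℂ) : G ⧸ N → ℂ := fun q =>
  ∑ g : G, by classical exact if (g : G ⧸ N) = q then z g else 0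

theorem pushQ_apply [DecidableEq (G ⧸ N)] (z : G → ℂ) (q : G ⧸ N) :
    pushQ N z q = ∑ g : G, if (g : G ⧸ N) = q then z g else 0 := by
  unfold pushQ
  apply Finset.sum_congr rfl
  intro g _
  congr

theorem sum_pushQ_mul (z : G → ℂ) (θ : G ⧸ N → ℂ) :
    ∑ q : G ⧸ N, pushQ N z q * θ q = ∑ g : G, z g * θ (g : G ⧸ N) := by
  classical
  simp_rw [pushQ_apply, Finset.sum_mul]
  rw [Finset.sum_comm]
  apply Finset.sum_congr rfl
  intro g _
  rw [Finset.sum_eq_single (g : G ⧸ N)]
  · rw [if_pos rfl]
  · intro q _ hq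
    rw [if_neg (Ne.symm hq), zero_mul]
  · intro h
    exact absurd (Finset.mem_univ _) h

theorem omega_pushQ (θ : G ⧸ N → ℂ) (z : G → ℂ) :
    omega θ (pushQ N z) = omega (fun g : G => θ (g : G ⧸ N)) z := by
  unfold omega
  rw [sum_pushQ_mul]
  rfl

theorem pushQ_isClassFunction (z : G → ℂ) (hz : Cfsg.IsClassFunction G z) :
    Cfsg.IsClassFunction (G ⧸ N) (pushQ N z) := by
  classical
  intro q x
  obtain ⟨x, rfl⟩ := QuotientGroup.mk_surjective x
  rw [pushQ_apply, pushQ_apply]
  rw [← Equiv.sum_comp (MulAut.conj x).toEquiv]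
  apply Finset.sum_congr rfl
  intro g _
  have h1 : ((MulAut.conj x).toEquiv g : G) = x * g * x⁻¹ := by simp [MulAut.conj_apply]
  rw [h1, hz g x]
  have h2 : (((x * g * x⁻¹ : G) : G ⧸ N) = (x : G ⧸ N) * q * (x : G ⧸ N)⁻¹) ↔ ((g : G ⧸ N) = q) := by
    rw [QuotientGroup.mk_mul, QuotientGroup.mk_mul, QuotientGroup.mk_inv]
    constructor
    · intro h
      have := mul_right_cancel h
      exact mul_left_cancel this
    · intro h
      rw [h]
  by_cases h : (g : G ⧸ N) = q
  · rw [if_pos h, if_pos (h2.mpr h)]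
  · rw [if_neg h, if_neg (fun h' => h (h2.mp h'))]

end Push

section NormalSylow

variable {G : Type*} [Group G] [Fintype G] {p : ℕ} [hp : Fact p.Prime] {M : Ideal Cfsg.AlgInt}

omit [Fintype G] in
/-- a `p`-element `u` commuting with `g`, with `g` and `g * u` both `p`-regular, is trivial -/
theorem eq_one_of_regular_mul {g u : G} [Finite G] (hcomm : Commute g u) (hu : ∃ k : ℕ, orderOf u = p ^ k)
    (hg : ¬ p ∣ orderOf g) (hgu : ¬ p ∣ orderOf (g * u)) : u = 1 := by
  obtain ⟨k, hk⟩ := hu
  have h1 : u ^ (orderOf g * orderOf (g * u)) = 1 := by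
    have hc : Commute g⁻¹ (g * u) :=
      Commute.inv_left (Commute.mul_right (Commute.refl g) hcomm)
    have h2 : (g⁻¹ * (g * u)) ^ (orderOf g * orderOf (g * u)) = 1 := by
      rw [hc.mul_pow, inv_pow, pow_mul, pow_orderOf_eq_one, one_pow, inv_one, one_mul, mul_comm,
        pow_mul, pow_orderOf_eq_one, one_pow]
    rwa [inv_mul_cancel_left] at h2
  have h3 : orderOf u ∣ orderOf g * orderOf (g * u) := orderOf_dvd_of_pow_eq_one h1
  rw [hk] at h3
  have hcop : Nat.Coprime (p ^ k) (orderOf g * orderOf (g * u)) := by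
    apply Nat.Coprime.pow_left
    apply Nat.Coprime.mul_right
    · exact (Nat.Prime.coprime_iff_not_dvd hp.out).mpr hg
    · exact (Nat.Prime.coprime_iff_not_dvd hp.out).mpr hgu
  have h4 : p ^ k = 1 := Nat.eq_one_of_dvd_coprimes hcop (dvd_refl _) h3
  rw [h4] at hk
  exact orderOf_eq_one_iff.mp hk

/-- On a `p`-regular element of `C_G(Q)` the push-forward to `G ⧸ Q` of a function supported on
such elements has the same value. -/
theorem pushQ_of_supp (Q : Subgroup G) [Q.Normal] [Fintype (G ⧸ Q)] (hQp : IsPGroup p Q)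
    (y : G → ℂ)
    (hsupp : ∀ g, y g ≠ 0 → ¬ p ∣ orderOf g ∧ g ∈ Subgroup.centralizer (Q : Set G))
    (g : G) (hg : ¬ p ∣ orderOf g) (hgQ : g ∈ Subgroup.centralizer (Q : Set G)) :
    pushQ Q y (g : G ⧸ Q) = y g := by
  classical
  rw [pushQ_apply, Finset.sum_eq_single g]
  · rw [if_pos rfl]
  · intro g' _ hne
    by_cases hq : (g' : G ⧸ Q) = (g : G ⧸ Q)
    · rw [if_pos hq]
      by_contra hy
      apply hne
      obtain ⟨hreg', hcent'⟩ := hsupp g' hy
      have hu : g⁻¹ * g' ∈ Q := by
        have := QuotientGroup.eq.mp hq.symm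
        exact this
      have hcomm : Commute g (g⁻¹ * g') := by
        have := (Subgroup.mem_centralizer_iff.mp hgQ) (g⁻¹ * g') hu
        exact this.symm
      have hpu : ∃ k : ℕ, orderOf (g⁻¹ * g') = p ^ k := by
        obtain ⟨k, hk⟩ := hQp ⟨g⁻¹ * g', hu⟩
        have h1 : (g⁻¹ * g') ^ (p ^ k) = 1 := by
          have := congrArg Subtype.val hk
          simpa using this
        obtain ⟨j, _, hj⟩ := (Nat.dvd_prime_pow hp.out).mp (orderOf_dvd_of_pow_eq_one h1)
        exact ⟨j, hj⟩
      have hgu : ¬ p ∣ orderOf (g * (g⁻¹ * g')) := by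
        rw [mul_inv_cancel_left]; exact hreg'
      have := eq_one_of_regular_mul hcomm hpu hg hgu
      rw [inv_mul_eq_one] at this
      exact this.symm
    · rw [if_neg hq]
  · intro h
    exact absurd (Finset.mem_univ _) h

/-- **Key lemma for a normal Sylow `p`-subgroup `Q`.**  A class function supported on the
`p`-regular elements of `C_G(Q)` all of whose central character values lie in the local ideal
has all its values in the local ideal. -/
theorem memLocalIdeal_of_omega_of_normal_sylow (hM : Cfsg.IsPModular p M) (Q : Subgroup G)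
    [Q.Normal] (hQp : IsPGroup p Q) (hQi : ¬ p ∣ Q.index) (y : G → ℂ)
    (hy : Cfsg.IsClassFunction G y)
    (hsupp : ∀ g, y g ≠ 0 → ¬ p ∣ orderOf g ∧ g ∈ Subgroup.centralizer (Q : Set G))
    (hω : ∀ χ : Cfsg.IrrCharacter G, Cfsg.MemLocalIdeal M (omega (χ : G → ℂ) y)) (g : G) :
    Cfsg.MemLocalIdeal M (y g) := by
  classical
  haveI : Fintype (G ⧸ Q) := Fintype.ofFinite _
  by_cases h0 : y g = 0
  · rw [h0]; exact memLocalIdeal_zero hM
  obtain ⟨hreg, hcent⟩ := hsupp g h0
  rw [← pushQ_of_supp Q hQp y hsupp g hreg hcent]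
  apply memLocalIdeal_of_omega_of_not_dvd hM _ _ (pushQ_isClassFunction Q y hy)
  · intro θ
    rw [omega_pushQ]
    exact hω ⟨_, Cfsg.Agent.Lib.Helper25.isIrrCharacter_inflation Q θ.2⟩
  · rw [← Subgroup.index_eq_card]
    exact hQi

/-- With a normal Sylow `p`-subgroup `Q`, every block has defect group `Q`. -/
theorem isDefectGroup_of_normal_sylow (hM : Cfsg.IsPModular p M) (Q : Subgroup G)
    [Q.Normal] (hQp : IsPGroup p Q) (hQi : ¬ p ∣ Q.index) (B : Set (Cfsg.IrrCharacter G))
    (hB : Cfsg.IsPBlock M B) : Cfsg.IsDefectGroup p M B Q := by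
  classical
  obtain ⟨g, hg⟩ := exists_isDefectClass hM B hB
  obtain ⟨χ, hχ⟩ := isPBlock_nonempty hM hB
  have hgQ : g ∈ Subgroup.centralizer (Q : Set G) := by
    by_contra hcon
    exact hg.2.2 χ hχ (centralChar_memLocalIdeal_of_notMem_centralizer hM Q hQp g hcon χ)
  have hle : Q ≤ Subgroup.centralizer ({g} : Set G) := by
    intro u hu
    rw [Subgroup.mem_centralizer_iff]
    intro x hx
    rw [Set.mem_singleton_iff] at hx
    subst hx
    exact (Subgroup.mem_centralizer_iff.mp hgQ u hu).symm
  apply isDefectGroup_of_le_centralizer hg Q hle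
  obtain ⟨k, hk⟩ := IsPGroup.iff_card.mp hQp
  have hGne : Nat.card G ≠ 0 := Nat.card_pos.ne'
  have hCne : Nat.card (Subgroup.centralizer ({g} : Set G)) ≠ 0 := Nat.card_pos.ne'
  have h1 : (Nat.card G).factorization p = k := by
    rw [← Subgroup.card_mul_index Q, hk,
      Nat.factorization_mul (pow_ne_zero _ hp.out.ne_zero) (fun h => hQi (by rw [h]; exact dvd_zero p)),
      Finsupp.add_apply, Nat.Prime.factorization_pow hp.out, Finsupp.single_eq_same,
      Nat.factorization_eq_zero_of_not_dvd hQi, add_zero]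
  have h2 : (Nat.card (Subgroup.centralizer ({g} : Set G))).factorization p ≤ k := by
    rw [← h1]
    exact (Nat.factorization_le_iff_dvd hCne hGne).mpr (Subgroup.card_subgroup_dvd_card _) p
  have h3 : k ≤ (Nat.card (Subgroup.centralizer ({g} : Set G))).factorization p := by
    apply (Nat.Prime.pow_dvd_iff_le_factorization hp.out hCne).mp
    rw [← hk]
    exact Subgroup.card_dvd_of_le hle
  rw [hk, le_antisymm h2 h3]

/-- membership of a class in the family of classes of `p`-regular elements of `C_G(Q)` can be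
tested on any representative -/
theorem forall_mk_iff (Q : Subgroup G) [Q.Normal] (g : G) :
    (∀ n : G, ConjClasses.mk n = ConjClasses.mk g →
      ¬ p ∣ orderOf n ∧ n ∈ Subgroup.centralizer (Q : Set G)) ↔
    (¬ p ∣ orderOf g ∧ g ∈ Subgroup.centralizer (Q : Set G)) := by
  constructor
  · intro h
    exact h g rfl
  · rintro ⟨h1, h2⟩ n hn
    rw [ConjClasses.mk_eq_mk_iff_isConj, isConj_iff] at hn
    obtain ⟨c, hc⟩ := hn
    have hg : g = c * n * c⁻¹ := hc.symm
    have hn' : n = c⁻¹ * g * c⁻¹⁻¹ := by rw [hg]; group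
    constructor
    · have h3 : orderOf (c⁻¹ * g * c⁻¹⁻¹) = orderOf g := by
        have := (MulAut.conj c⁻¹).orderOf_eq g
        simpa [MulAut.conj_apply] using this
      rw [hn', h3]
      exact h1
    · rw [hn']
      exact (inferInstance : (Subgroup.centralizer (Q : Set G)).Normal).conj_mem g h2 c⁻¹

/-- **Blocks of a group with a normal Sylow `p`-subgroup `Q`**: their number is the number of
classes of `p`-regular elements of `C_G(Q)`. -/
theorem card_blocks_eq_of_normal_sylow (hM : Cfsg.IsPModular p M) (Q : Subgroup G)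
    [Q.Normal] (hQp : IsPGroup p Q) (hQi : ¬ p ∣ Q.index) :
    Nat.card {B : Set (Cfsg.IrrCharacter G) // Cfsg.IsPBlock M B} =
      Nat.card {C : ConjClasses G // ∀ n : G, ConjClasses.mk n = C →
        ¬ p ∣ orderOf n ∧ n ∈ Subgroup.centralizer (Q : Set G)} := by
  classical
  apply le_antisymm
  · apply card_blocks_le_card_classes hM {B : Set (Cfsg.IrrCharacter G) | Cfsg.IsPBlock M B}
      (fun B h => h)
      {C : ConjClasses G | ∀ n : G, ConjClasses.mk n = C →
        ¬ p ∣ orderOf n ∧ n ∈ Subgroup.centralizer (Q : Set G)}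
    intro B hB B' hB' χ hχ g hg
    by_cases hreg : p ∣ orderOf g
    · rw [blockCoeff_eq_zero_of_singular hM B' hB' g hreg, zero_mul]
      exact memLocalIdeal_zero hM
    · by_cases hcent : g ∈ Subgroup.centralizer (Q : Set G)
      · exfalso
        apply hg
        exact (forall_mk_iff Q g).mpr ⟨hreg, hcent⟩
      · exact memLocalIdeal_mul_left hM (blockCoeff_memLocalRing hM B' hB' g)
          (centralChar_memLocalIdeal_of_notMem_centralizer hM Q hQp g hcent χ)
  · haveI : Fintype (ConjClasses G) := Fintype.ofFinite _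
    haveI : Fintype {B : Set (Cfsg.IrrCharacter G) // Cfsg.IsPBlock M B} := Fintype.ofFinite _
    haveI : Fintype {C : ConjClasses G // ∀ n : G, ConjClasses.mk n = C →
        ¬ p ∣ orderOf n ∧ n ∈ Subgroup.centralizer (Q : Set G)} := Fintype.ofFinite _
    rw [Nat.card_eq_fintype_card, Nat.card_eq_fintype_card]
    haveI : Nontrivial (Rloc hM ⧸ Mloc hM) := Ideal.Quotient.nontrivial_iff.mpr (Mloc_ne_top hM)
    have hχex : ∀ B : {B : Set (Cfsg.IrrCharacter G) // Cfsg.IsPBlock M B},
        ∃ χ : Cfsg.IrrCharacter G, χ ∈ B.1 := fun B => isPBlock_nonempty hM B.2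
    choose χB hχB using hχex
    let rep : ConjClasses G → G := fun K => Quotient.out K
    have hrep : ∀ K, ConjClasses.mk (rep K) = K := fun K => Quotient.out_eq K
    let A : Matrix {C : ConjClasses G // ∀ n : G, ConjClasses.mk n = C →
        ¬ p ∣ orderOf n ∧ n ∈ Subgroup.centralizer (Q : Set G)}
        {B : Set (Cfsg.IrrCharacter G) // Cfsg.IsPBlock M B} (Rloc hM ⧸ Mloc hM) := fun K B =>
      Ideal.Quotient.mk (Mloc hM) ⟨Cfsg.blockCoeff B.1 (rep K.1),
        blockCoeff_memLocalRing hM B.1 B.2 (rep K.1)⟩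
    let Cm : Matrix {B : Set (Cfsg.IrrCharacter G) // Cfsg.IsPBlock M B}
        {C : ConjClasses G // ∀ n : G, ConjClasses.mk n = C →
        ¬ p ∣ orderOf n ∧ n ∈ Subgroup.centralizer (Q : Set G)} (Rloc hM ⧸ Mloc hM) := fun B K =>
      Ideal.Quotient.mk (Mloc hM) ⟨Cfsg.centralChar (χB B).1 (rep K.1),
        centralChar_memLocalRing hM (χB B) (rep K.1)⟩
    apply card_le_card_of_mul_eq_one A Cm
    ext K K'
    rw [Matrix.mul_apply, Matrix.one_apply]
    simp only [A, Cm]
    simp_rw [← map_mul]
    rw [← map_sum]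
    have hδ : (if K = K' then (1 : Rloc hM ⧸ Mloc hM) else 0)
        = Ideal.Quotient.mk (Mloc hM) (if K = K' then 1 else 0) := by
      split_ifs <;> simp
    rw [hδ, Ideal.Quotient.eq, mem_Mloc]
    have hcoe : ((∑ B : {B : Set (Cfsg.IrrCharacter G) // Cfsg.IsPBlock M B},
        (⟨Cfsg.blockCoeff B.1 (rep K.1), blockCoeff_memLocalRing hM B.1 B.2 (rep K.1)⟩ : Rloc hM)
        * ⟨Cfsg.centralChar (χB B).1 (rep K'.1), centralChar_memLocalRing hM (χB B) (rep K'.1)⟩
        - (if K = K' then 1 else 0) : Rloc hM) : ℂ)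
        = ∑ B : {B : Set (Cfsg.IrrCharacter G) // Cfsg.IsPBlock M B},
          Cfsg.blockCoeff B.1 (rep K.1) * Cfsg.centralChar (χB B).1 (rep K'.1)
          - (if K = K' then 1 else 0) := by
      rw [AddSubgroupClass.coe_sub, AddSubmonoidClass.coe_finsetSum]
      congr 1
      split_ifs <;> simp
    rw [hcoe]
    -- the class function `y`
    set y : G → ℂ := (∑ B : {B : Set (Cfsg.IrrCharacter G) // Cfsg.IsPBlock M B},
        Cfsg.centralChar (χB B).1 (rep K'.1) • Cfsg.blockCoeff B.1) - classIndicator (rep K'.1)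
      with hy
    have hyK : ∑ B : {B : Set (Cfsg.IrrCharacter G) // Cfsg.IsPBlock M B},
          Cfsg.blockCoeff B.1 (rep K.1) * Cfsg.centralChar (χB B).1 (rep K'.1)
          - (if K = K' then 1 else 0) = y (rep K.1) := by
      rw [hy, Pi.sub_apply, Finset.sum_apply]
      congr 1
      · apply Finset.sum_congr rfl
        intro B _
        simp only [Pi.smul_apply, smul_eq_mul]
        ring
      · unfold classIndicator
        have : IsConj (rep K'.1) (rep K.1) ↔ K = K' := by
          rw [← ConjClasses.mk_eq_mk_iff_isConj, hrep, hrep]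
          constructor
          · intro h; exact Subtype.ext h.symm
          · intro h; rw [h]
        by_cases h : K = K'
        · rw [if_pos h, if_pos (this.mpr h)]
        · rw [if_neg h, if_neg (fun h' => h (this.mp h'))]
    rw [hyK]
    have hycl : Cfsg.IsClassFunction G y := by
      apply isClassFunction_sub
      · apply isClassFunction_sum
        intro B _
        exact isClassFunction_smul _ (blockCoeff_isClassFunction _)
      · exact classIndicator_isClassFunction _
    apply memLocalIdeal_of_omega_of_normal_sylow hM Q hQp hQi y hycl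
    · intro g hg
      by_contra hcon
      apply hg
      have hcon' : p ∣ orderOf g ∨ g ∉ Subgroup.centralizer (Q : Set G) := by
        by_contra h
        push Not at h
        exact hcon ⟨h.1, h.2⟩
      rw [hy, Pi.sub_apply, Finset.sum_apply]
      have h1 : ∀ B : {B : Set (Cfsg.IrrCharacter G) // Cfsg.IsPBlock M B},
          Cfsg.blockCoeff B.1 g = 0 := by
        intro B
        rcases hcon' with h | h
        · exact blockCoeff_eq_zero_of_singular hM B.1 B.2 g h
        · exact blockCoeff_eq_zero_of_notMem_centralizer hM Q hQp B.1 B.2 g h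
      have h2 : classIndicator (rep K'.1) g = 0 := by
        unfold classIndicator
        rw [if_neg]
        intro hconj
        apply hcon
        have h3 : ConjClasses.mk g = K'.1 := by
          rw [← hrep K'.1]
          exact (ConjClasses.mk_eq_mk_iff_isConj.mpr hconj).symm
        exact K'.2 g h3
      rw [h2, sub_zero]
      apply Finset.sum_eq_zero
      intro B _
      simp only [Pi.smul_apply, smul_eq_mul]
      rw [h1 B, mul_zero]
    · intro χ
      rw [hy, omega_sub, omega_sum, omega_classIndicator _ (IrrCharacter.isClassFunction χ)]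
      simp_rw [omega_smul, omega_blockCoeff]
      rw [Finset.sum_eq_single (⟨Cfsg.blockOf M (χ : G → ℂ), ⟨χ, rfl⟩⟩ :
        {B : Set (Cfsg.IrrCharacter G) // Cfsg.IsPBlock M B})]
      · rw [if_pos (mem_blockOf_self hM χ), mul_one]
        have hsame := hχB (⟨Cfsg.blockOf M (χ : G → ℂ), ⟨χ, rfl⟩⟩ :
          {B : Set (Cfsg.IrrCharacter G) // Cfsg.IsPBlock M B})
        have := hsame (rep K'.1)
        have h4 := memLocalIdeal_neg this
        rwa [neg_sub] at h4
      · intro B _ hB
        rw [if_neg, mul_zero]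
        intro hmem
        apply hB
        apply Subtype.ext
        exact eq_blockOf_of_mem hM B.2 hmem
      · intro h
        exact absurd (Finset.mem_univ _) h

end NormalSylow

end Cfsg.Agent.Lib.Helper7
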