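import Mathlib
import Cfsg.Prelude.Def_Blocks

/-!
# `p`-parts of elements (helper7)

* `exists_isPPart`: every element of finite order has a `p`-part.
* `isConj_of_pow_conj`: if `g ^ k * c = c * h ^ k` with `p ∤ k`, then the `p`-parts of `g` and
  `h` are conjugate (by `c`).
-/

set_option autoImplicit false

namespace Cfsg.Agent.Lib.Helper7

variable {G : Type*} [Group G]

theorem exists_isPPart (p : ℕ) [hp : Fact p.Prime] (g : G) (hg : IsOfFinOrder g) :
    ∃ z : G, Cfsg.IsPPart p g z := by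
  have hn : orderOf g ≠ 0 := (orderOf_pos_iff.mpr hg).ne'
  set n := orderOf g with hn_def
  set a := n.factorization p with ha
  set m := n / p ^ a with hm
  have hnm : p ^ a * m = n := Nat.ordProj_mul_ordCompl_eq_self n p
  have hcop : Nat.Coprime p m := Nat.coprime_ordCompl hp.out hn
  have hcop' : Nat.Coprime (p ^ a) m := Nat.Coprime.pow_left a hcop
  have hbez : ((p ^ a : ℕ) : ℤ) * Nat.gcdA (p ^ a) m + (m : ℤ) * Nat.gcdB (p ^ a) m = 1 := by
    have := Nat.gcd_eq_gcd_ab (p ^ a) m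
    rw [hcop'.gcd_eq_one] at this
    exact_mod_cast this.symm
  refine ⟨g ^ ((m : ℤ) * Nat.gcdB (p ^ a) m), g ^ (((p ^ a : ℕ) : ℤ) * Nat.gcdA (p ^ a) m),
    ?_, ?_, ?_, ?_⟩
  · rw [← zpow_add, add_comm, hbez, zpow_one]
  · exact (Commute.refl g).zpow_zpow _ _
  · have h1 : (g ^ ((m : ℤ) * Nat.gcdB (p ^ a) m)) ^ (p ^ a) = 1 := by
      rw [← zpow_natCast, ← zpow_mul]
      have : (m : ℤ) * Nat.gcdB (p ^ a) m * ((p ^ a : ℕ) : ℤ)
          = ((n : ℕ) : ℤ) * Nat.gcdB (p ^ a) m := by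
        rw [← hnm]; push_cast; ring
      rw [this, zpow_mul, zpow_natCast, hn_def, pow_orderOf_eq_one, one_zpow]
    have h2 := orderOf_dvd_of_pow_eq_one h1
    obtain ⟨k, _, hk⟩ := (Nat.dvd_prime_pow hp.out).mp h2
    exact ⟨k, hk⟩
  · have h1 : (g ^ (((p ^ a : ℕ) : ℤ) * Nat.gcdA (p ^ a) m)) ^ m = 1 := by
      rw [← zpow_natCast, ← zpow_mul]
      have : ((p ^ a : ℕ) : ℤ) * Nat.gcdA (p ^ a) m * (m : ℤ)
          = ((n : ℕ) : ℤ) * Nat.gcdA (p ^ a) m := by
        rw [← hnm]; push_cast; ring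
      rw [this, zpow_mul, zpow_natCast, hn_def, pow_orderOf_eq_one, one_zpow]
    have h2 := orderOf_dvd_of_pow_eq_one h1
    intro hdiv
    have : p ∣ m := dvd_trans hdiv h2
    have := Nat.Coprime.eq_one_of_dvd hcop this
    exact hp.out.one_lt.ne' this

/-- If `g ^ k * c = c * h ^ k` with `p ∤ k` then the `p`-part of `g` is the conjugate by `c` of
the `p`-part of `h`. -/
theorem pPart_conj_of_pow_conj (p : ℕ) [hp : Fact p.Prime] {g h x y c : G} {k : ℕ}
    (hx : Cfsg.IsPPart p g x) (hy : Cfsg.IsPPart p h y) (hk : ¬ p ∣ k)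
    (hc : g ^ k * c = c * h ^ k) : x = c * y * c⁻¹ := by
  obtain ⟨x', hxg, hxc, ⟨a, hxa⟩, hx'⟩ := hx
  obtain ⟨y', hyh, hyc, ⟨b, hyb⟩, hy'⟩ := hy
  set m := orderOf x' with hm
  set m' := orderOf y' with hm'
  set t := k * (m * m') with ht
  have hgt : g ^ t = x ^ t := by
    rw [← hxg, hxc.mul_pow]
    have : x' ^ t = 1 := by
      have : t = m * (k * m') := by rw [ht]; ring
      rw [this, pow_mul, hm, pow_orderOf_eq_one, one_pow]
    rw [this, mul_one]
  have hht : h ^ t = y ^ t := by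
    rw [← hyh, hyc.mul_pow]
    have : y' ^ t = 1 := by
      have : t = m' * (k * m) := by rw [ht]; ring
      rw [this, pow_mul, hm', pow_orderOf_eq_one, one_pow]
    rw [this, mul_one]
  have hconj : g ^ t = c * h ^ t * c⁻¹ := by
    rw [ht, pow_mul, pow_mul h]
    have h1 : g ^ k = c * h ^ k * c⁻¹ := by rw [← hc]; group
    rw [h1, conj_pow]
  have hcop : Nat.Coprime t (p ^ (a + b)) := by
    apply Nat.Coprime.pow_right
    rw [ht]
    apply Nat.Coprime.mul_left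
    · exact ((Nat.Prime.coprime_iff_not_dvd hp.out).mpr hk).symm
    · apply Nat.Coprime.mul_left
      · exact ((Nat.Prime.coprime_iff_not_dvd hp.out).mpr hx').symm
      · exact ((Nat.Prime.coprime_iff_not_dvd hp.out).mpr hy').symm
  have hxn : x ^ (p ^ (a + b)) = 1 := by
    rw [pow_add, pow_mul, ← hxa, pow_orderOf_eq_one, one_pow]
  have hyn : y ^ (p ^ (a + b)) = 1 := by
    rw [pow_add, mul_comm, pow_mul, ← hyb, pow_orderOf_eq_one, one_pow]
  -- Bezout
  have hbez : (t : ℤ) * Nat.gcdA t (p ^ (a + b)) + ((p ^ (a + b) : ℕ) : ℤ) * Nat.gcdB t (p ^ (a + b))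
      = 1 := by
    have := Nat.gcd_eq_gcd_ab t (p ^ (a + b))
    rw [hcop.gcd_eq_one] at this
    exact_mod_cast this.symm
  have key : ∀ w : G, w ^ (p ^ (a + b)) = 1 → (w ^ t) ^ (Nat.gcdA t (p ^ (a + b))) = w := by
    intro w hw
    have h1 : w = w ^ ((t : ℤ) * Nat.gcdA t (p ^ (a + b))
        + ((p ^ (a + b) : ℕ) : ℤ) * Nat.gcdB t (p ^ (a + b))) := by
      rw [hbez, zpow_one]
    have h2 : w ^ (((p ^ (a + b) : ℕ) : ℤ) * Nat.gcdB t (p ^ (a + b))) = 1 := by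
      rw [zpow_mul, zpow_natCast, hw, one_zpow]
    rw [zpow_add, h2, mul_one, zpow_mul, zpow_natCast] at h1
    exact h1.symm
  have hxt : x ^ t = c * y ^ t * c⁻¹ := by rw [← hgt, hconj, hht]
  calc x = (x ^ t) ^ (Nat.gcdA t (p ^ (a + b))) := (key x hxn).symm
    _ = (c * y ^ t * c⁻¹) ^ (Nat.gcdA t (p ^ (a + b))) := by rw [hxt]
    _ = c * (y ^ t) ^ (Nat.gcdA t (p ^ (a + b))) * c⁻¹ := by rw [conj_zpow]
    _ = c * y * c⁻¹ := by rw [key y hyn]

theorem isConj_of_pow_conj (p : ℕ) [hp : Fact p.Prime] {g h x y c : G} {k : ℕ}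
    (hx : Cfsg.IsPPart p g x) (hy : Cfsg.IsPPart p h y) (hk : ¬ p ∣ k)
    (hc : g ^ k * c = c * h ^ k) : IsConj y x := by
  rw [isConj_iff]
  exact ⟨c, (pPart_conj_of_pow_conj p hx hy hk hc).symm⟩

/-- uniqueness of the `p`-part -/
theorem isPPart_unique (p : ℕ) [hp : Fact p.Prime] {g x y : G}
    (hx : Cfsg.IsPPart p g x) (hy : Cfsg.IsPPart p g y) : x = y := by
  have := pPart_conj_of_pow_conj p (c := 1) (k := 1) hx hy
    (fun h => hp.out.one_lt.ne' (Nat.dvd_one.mp h)) (by simp)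
  simpa using this

/-- conjugating a `p`-part -/
theorem isPPart_conj (p : ℕ) {g x : G} (c : G) (hx : Cfsg.IsPPart p g x) :
    Cfsg.IsPPart p (c * g * c⁻¹) (c * x * c⁻¹) := by
  obtain ⟨y, hxy, hcomm, ⟨a, ha⟩, hy⟩ := hx
  refine ⟨c * y * c⁻¹, ?_, ?_, ⟨a, ?_⟩, ?_⟩
  · rw [← hxy]; group
  · have h := hcomm.eq
    show c * x * c⁻¹ * (c * y * c⁻¹) = c * y * c⁻¹ * (c * x * c⁻¹)
    calc c * x * c⁻¹ * (c * y * c⁻¹) = c * (x * y) * c⁻¹ := by group
      _ = c * (y * x) * c⁻¹ := by rw [h]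
      _ = c * y * c⁻¹ * (c * x * c⁻¹) := by group
  · rw [← ha]
    have := (MulAut.conj c).orderOf_eq x
    simpa using this
  · have := (MulAut.conj c).orderOf_eq y
    have h2 : orderOf (c * y * c⁻¹) = orderOf y := by simpa using this
    rwa [h2]

end Cfsg.Agent.Lib.Helper7
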