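import Mathlib
import Cfsg.Prelude.Def_Blocks
import Cfsg.Agent.Lib.Helper7.PPart

/-!
# More on `p`-parts (helper7 library)
-/

set_option autoImplicit false

namespace Cfsg.Agent.Lib.Helper7

variable {G : Type*} [Group G]

/-- `p`-parts are preserved by homomorphisms -/
theorem isPPart_map (p : ℕ) [hp : Fact p.Prime] {H : Type*} [Group H] (f : G →* H) {g z : G}
    (hz : Cfsg.IsPPart p g z) : Cfsg.IsPPart p (f g) (f z) := by
  obtain ⟨y, hzy, hcomm, ⟨k, hk⟩, hy⟩ := hz
  refine ⟨f y, ?_, ?_, ?_, ?_⟩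
  · rw [← map_mul, hzy]
  · exact hcomm.map f
  · have h1 : orderOf (f z) ∣ p ^ k := by
      rw [← hk]; exact orderOf_map_dvd f z
    obtain ⟨j, _, hj⟩ := (Nat.dvd_prime_pow hp.out).mp h1
    exact ⟨j, hj⟩
  · intro h
    exact hy (dvd_trans h (orderOf_map_dvd f y))

theorem isPPart_coe (p : ℕ) [Fact p.Prime] {H : Subgroup G} {h z : H}
    (hz : Cfsg.IsPPart p h z) : Cfsg.IsPPart p (h : G) (z : G) :=
  isPPart_map p H.subtype hz

/-- a `p`-part in `G` of an element of a subgroup `H` is a `p`-part in `H` -/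
theorem exists_isPPart_of_coe (p : ℕ) [Fact p.Prime] [Finite G] {H : Subgroup G} (h : H) {z : G}
    (hz : Cfsg.IsPPart p (h : G) z) : ∃ z' : H, (z' : G) = z ∧ Cfsg.IsPPart p h z' := by
  obtain ⟨z', hz'⟩ := exists_isPPart p h (isOfFinOrder_of_finite h)
  exact ⟨z', isPPart_unique p (isPPart_coe p hz') hz, hz'⟩

/-- the `p`-part is a power of the element -/
theorem isPPart_mem_zpowers (p : ℕ) [Fact p.Prime] [Finite G] {g z : G}
    (hz : Cfsg.IsPPart p g z) : z ∈ Subgroup.zpowers g := by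
  obtain ⟨z', hz', _⟩ := exists_isPPart_of_coe p
    (⟨g, Subgroup.mem_zpowers g⟩ : Subgroup.zpowers g) (z := z) hz
  rw [← hz']
  exact z'.2

/-- the `p`-part of a `p`-regular element is trivial -/
theorem isPPart_eq_one_of_regular (p : ℕ) [Fact p.Prime] {g z : G} (hg : ¬ p ∣ orderOf g)
    (hz : Cfsg.IsPPart p g z) : z = 1 := by
  have h1 : Cfsg.IsPPart p g 1 := ⟨g, one_mul g, Commute.one_left g, ⟨0, by simp⟩, hg⟩
  exact isPPart_unique p hz h1

/-- the `p`-part commutes with everything commuting with the element -/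
theorem isPPart_commute (p : ℕ) [Fact p.Prime] [Finite G] {g z w : G}
    (hz : Cfsg.IsPPart p g z) (hw : g * w = w * g) : z * w = w * z := by
  obtain ⟨k, hk⟩ := Subgroup.mem_zpowers_iff.mp (isPPart_mem_zpowers p hz)
  rw [← hk]
  have : Commute g w := hw
  exact (this.zpow_left k).eq

end Cfsg.Agent.Lib.Helper7
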