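import Mathlib
import Cfsg.Prelude.Def_Blocks
import Cfsg.Agent.Lib.Helper24.BlockOrtho
import Cfsg.Agent.Lib.Helper24.Defect
import Cfsg.Agent.Lib.Helper24.NormalPCentral
import Cfsg.Agent.Lib.Helper25.Kernel
import Cfsg.Agent.Lib.Helper25.Codegree
import Cfsg.Agent.Lib.Helper7.DefectOrder
import Cfsg.Agent.Lib.Helper7.PPart2
import Cfsg.Agent.Lib.Helper7.NormalSylow
import Cfsg.Agent.Lib.Helper7.FirstMain
import Cfsg.Agent.S0914

/-!
# Blocks with a normal defect group; central characters and `p`-parts (helper7 library)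

* `blockCoeff_one_ne_zero`
* `exists_mem_ker_of_normal_pgroup`: every block contains a character having a given normal
  `p`-subgroup in its kernel.
* `irr_eq_zero_of_singular_of_not_dvd`: characters of defect zero vanish on `p`-singular elements.
* `pPart_mem_of_normal_defect`: if the block `b` has the normal defect group `P` and the central
  character of `b` does not vanish (mod the local ideal) at `h`, then the `p`-part of `h` lies
  in `P`.
* `exists_conj_centralizer_pPart`: the general case (Navarro 4.14-type statement).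
-/

set_option autoImplicit false

namespace Cfsg.Agent.Lib.Helper7

open Cfsg.Agent.Lib.Helper2 Cfsg.Agent.Lib.Helper24
open scoped ComplexConjugate

section

variable {G : Type*} [Group G] [Fintype G] {p : ℕ} {M : Ideal Cfsg.AlgInt}

/-- the coefficient at `1` of the idempotent of a nonempty set of characters is nonzero -/
theorem blockCoeff_one_ne_zero (B : Set (Cfsg.IrrCharacter G)) (χ : Cfsg.IrrCharacter G)
    (hχ : χ ∈ B) : Cfsg.blockCoeff B (1 : G) ≠ 0 := by
  classical
  haveI : Fintype (Cfsg.IrrCharacter G) := Fintype.ofFinite _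
  rw [blockCoeff_eq_sum]
  have h2 : ∀ ψ : Cfsg.IrrCharacter G,
      (if ψ ∈ B then (ψ : G → ℂ) 1 * conj ((ψ : G → ℂ) 1) else 0)
      = ((if ψ ∈ B then Cfsg.charDegree (ψ : G → ℂ) ^ 2 else 0 : ℕ) : ℂ) := by
    intro ψ
    by_cases hψ : ψ ∈ B
    · rw [if_pos hψ, if_pos hψ,
        Cfsg.Agent.Lib.Helper25.char_one_eq_charDegree
          (Cfsg.Agent.Lib.Helper25.isCharacter_of_irr ψ.2)]
      simp only [Complex.conj_natCast, Nat.cast_pow]
      ring
    · rw [if_neg hψ, if_neg hψ, Nat.cast_zero]
  rw [Finset.sum_congr rfl (fun ψ _ => h2 ψ), ← Nat.cast_sum]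
  apply mul_ne_zero
  · exact inv_ne_zero (by exact_mod_cast Nat.card_pos.ne')
  · rw [Nat.cast_ne_zero]
    intro h0
    rw [Finset.sum_eq_zero_iff] at h0
    have h3 := h0 χ (Finset.mem_univ _)
    rw [if_pos hχ] at h3
    have h4 := irr_charDegree_pos χ
    have h5 : Cfsg.charDegree (χ : G → ℂ) = 0 := (pow_eq_zero_iff two_ne_zero).mp h3
    omega

/-- Every block contains a character having a given normal `p`-subgroup in its kernel. -/
theorem exists_mem_ker_of_normal_pgroup (hM : Cfsg.IsPModular p M) (P : Subgroup G) [P.Normal]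
    (hP : IsPGroup p P) (B : Set (Cfsg.IrrCharacter G)) (hB : Cfsg.IsPBlock M B) :
    ∃ ψ ∈ B, ∀ u ∈ P, (ψ : G → ℂ) u = (ψ : G → ℂ) 1 := by
  classical
  haveI : Fintype (Cfsg.IrrCharacter G) := Fintype.ofFinite _
  letI : Fintype P := Fintype.ofFinite _
  haveI : Fact p.Prime := ⟨hM.1⟩
  by_contra hcon
  push Not at hcon
  have hzero : ∀ ψ ∈ B, ∑ u : P, (ψ : G → ℂ) (u : G) = 0 := by
    intro ψ hψ
    rcases Cfsg.Agent.Lib.Helper25.sum_normal_char ψ.2 P with h | h
    · obtain ⟨u, hu, hne⟩ := hcon ψ hψ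
      exact absurd (h u hu) hne
    · simpa using h 1
  have h1 : ∑ u : P, Cfsg.blockCoeff B (u : G) = 0 := by
    simp_rw [blockCoeff_eq_sum]
    rw [← Finset.mul_sum, Finset.sum_comm]
    have : ∀ χ : Cfsg.IrrCharacter G,
        ∑ u : P, (if χ ∈ B then (χ : G → ℂ) 1 * conj ((χ : G → ℂ) (u : G)) else 0) = 0 := by
      intro χ
      by_cases h : χ ∈ B
      · simp only [if_pos h]
        rw [← Finset.mul_sum, ← map_sum, hzero χ h, map_zero, mul_zero]
      · simp only [if_neg h, Finset.sum_const_zero]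
    rw [Finset.sum_congr rfl (fun χ _ => this χ), Finset.sum_const_zero, mul_zero]
  have h2 : ∑ u : P, Cfsg.blockCoeff B (u : G) = Cfsg.blockCoeff B 1 := by
    rw [Finset.sum_eq_single (1 : P)]
    · rfl
    · intro u _ hu
      apply blockCoeff_eq_zero_of_singular hM B hB
      obtain ⟨k, hk⟩ := (IsPGroup.iff_orderOf.mp hP) u
      rw [Subgroup.orderOf_coe, hk]
      cases k with
      | zero =>
        exfalso
        apply hu
        rw [pow_zero] at hk
        exact orderOf_eq_one_iff.mp hk
      | succ k => exact dvd_pow_self p (Nat.succ_ne_zero k)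
    · intro h
      exact absurd (Finset.mem_univ _) h
  obtain ⟨χ, hχ⟩ := isPBlock_nonempty hM hB
  exact blockCoeff_one_ne_zero B χ hχ (h2 ▸ h1)

end

section DefectZero

variable {G : Type*} [Group G] [Finite G] {p : ℕ} {M : Ideal Cfsg.AlgInt}

/-- Characters of defect zero vanish on `p`-singular elements. -/
theorem irr_eq_zero_of_singular_of_not_dvd [Fact p.Prime] (hM : Cfsg.IsPModular p M)
    (χ : Cfsg.IrrCharacter G) (h : ¬ p ∣ Nat.card G / Cfsg.charDegree (χ : G → ℂ)) (y : G)
    (hy : p ∣ orderOf y) : (χ : G → ℂ) y = 0 := by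
  classical
  letI : Fintype G := Fintype.ofFinite G
  have hB := (Cfsg.Agent.S0914.result p M hM χ).mp h
  have hBl : Cfsg.IsPBlock M ({χ} : Set (Cfsg.IrrCharacter G)) := ⟨χ, hB.symm⟩
  have hne : (χ : G → ℂ) 1 ≠ 0 := Cfsg.Agent.Lib.Helper25.irr_one_ne_zero χ.2
  have := blockCoeff_eq_zero_of_singular hM _ hBl y hy
  unfold Cfsg.blockCoeff at this
  rw [finsum_mem_singleton] at this
  have hG : (Nat.card G : ℂ)⁻¹ ≠ 0 := inv_ne_zero (by exact_mod_cast Nat.card_pos.ne')
  rcases mul_eq_zero.mp this with h | h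
  · exact absurd h hG
  · rcases mul_eq_zero.mp h with h | h
    · exact absurd h hne
    · simpa using h

end DefectZero

section NormalDefect

variable {G : Type*} [Group G] [Fintype G] {p : ℕ} [hp : Fact p.Prime] {M : Ideal Cfsg.AlgInt}

/-- If the block `b` has the normal defect group `P` and the central character of a member of
`b` at `h` is not in the local ideal, then the `p`-part of `h` lies in `P`. -/
theorem pPart_mem_of_normal_defect (hM : Cfsg.IsPModular p M) (P : Subgroup G) [P.Normal]
    (b : Set (Cfsg.IrrCharacter G)) (hb : Cfsg.IsPBlock M b) (hD : Cfsg.IsDefectGroup p M b P)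
    (ξ : Cfsg.IrrCharacter G) (hξ : ξ ∈ b) (h : G)
    (hω : ¬ Cfsg.MemLocalIdeal M (Cfsg.centralChar (ξ : G → ℂ) h)) (z : G)
    (hz : Cfsg.IsPPart p h z) : z ∈ P := by
  classical
  obtain ⟨g₀, hg₀, hPle, hcard⟩ := exists_of_isDefectGroup hD
  have hPp : IsPGroup p P := IsPGroup.of_card hcard
  obtain ⟨ψ, hψ, hker⟩ := exists_mem_ker_of_normal_pgroup hM P hPp b hb
  -- the central character of `ψ` at `h` is a unit
  have hωψ : ¬ Cfsg.MemLocalIdeal M (Cfsg.centralChar (ψ : G → ℂ) h) := by
    intro hcon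
    apply hω
    have h1 := sameBlock_of_mem hM hb hξ hψ h
    have h2 := memLocalIdeal_add hM h1 hcon
    rwa [sub_add_cancel] at h2
  obtain ⟨ψ', hψ'irr, hψ'⟩ := Cfsg.Agent.Lib.Helper25.exists_deflation P ψ.2 hker
  by_contra hzP
  -- the image of `h` in `G ⧸ P` is `p`-singular
  have hsing : p ∣ orderOf ((h : G) : G ⧸ P) := by
    by_contra hreg
    have hz' := isPPart_map p (QuotientGroup.mk' P) hz
    have := isPPart_eq_one_of_regular p hreg hz'
    exact hzP ((QuotientGroup.eq_one_iff z).mp this)
  -- `ψ'` has defect zero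
  have hdeg : Cfsg.charDegree ψ' = Cfsg.charDegree (ψ : G → ℂ) := by
    unfold Cfsg.charDegree
    rw [hψ' 1]
    rfl
  have hdef0 : ¬ p ∣ Nat.card (G ⧸ P) / Cfsg.charDegree ψ' := by
    have hdvd : Cfsg.charDegree ψ' ∣ Nat.card (G ⧸ P) :=
      Cfsg.Agent.Lib.Helper25.charDegree_dvd_card hψ'irr
    obtain ⟨m, hm⟩ := hdvd
    have hdpos : 0 < Cfsg.charDegree ψ' := by rw [hdeg]; exact irr_charDegree_pos ψ
    have hm' : Nat.card (G ⧸ P) / Cfsg.charDegree ψ' = m := by
      rw [hm]; exact Nat.mul_div_cancel_left m hdpos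
    rw [hm']
    have hmne : m ≠ 0 := by
      intro h0
      rw [h0, mul_zero] at hm
      exact Nat.card_pos.ne' hm
    -- valuations
    have h1 := factorization_index_le_of_centralChar hM ψ g₀ (hg₀.2.2 ψ hψ)
    rw [factorization_index_centralizer] at h1
    have hPne : Nat.card P ≠ 0 := Nat.card_pos.ne'
    have hIne : P.index ≠ 0 := Subgroup.index_ne_zero_of_finite
    have h2 : (Nat.card G).factorization p
        = (Nat.card (Subgroup.centralizer ({g₀} : Set G))).factorization p
          + P.index.factorization p := by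
      rw [← Subgroup.card_mul_index P, Nat.factorization_mul hPne hIne, Finsupp.add_apply, hcard,
        Nat.Prime.factorization_pow hp.out, Finsupp.single_eq_same]
    have h3 : (Nat.card (G ⧸ P)).factorization p
        = (Cfsg.charDegree ψ').factorization p + m.factorization p := by
      rw [hm, Nat.factorization_mul hdpos.ne' hmne, Finsupp.add_apply]
    rw [← Subgroup.index_eq_card, hdeg] at h3
    have h4 : m.factorization p = 0 := by omega
    rcases (Nat.factorization_eq_zero_iff m p).mp h4 with h5 | h5 | h5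
    · exact absurd hp.out h5
    · exact h5
    · exact absurd h5 hmne
  have hvan := irr_eq_zero_of_singular_of_not_dvd hM (⟨ψ', hψ'irr⟩ : Cfsg.IrrCharacter (G ⧸ P))
    hdef0 ((h : G) : G ⧸ P) hsing
  apply hωψ
  unfold Cfsg.centralChar
  rw [hψ' h]
  have : ψ' ((h : G) : G ⧸ P) = 0 := hvan
  rw [this, mul_zero, zero_div]
  exact memLocalIdeal_zero hM

omit hp in
/-- if the induced central character at `g` is a unit then some conjugate of `g` in `H` has a
central character which is a unit -/
theorem exists_conj_of_inducedCentralChar (hM : Cfsg.IsPModular p M) (H : Subgroup G)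
    [Fintype H] (ξ : Cfsg.IrrCharacter H) (g : G)
    (hg : ¬ Cfsg.MemLocalIdeal M (Cfsg.inducedCentralChar H (ξ : H → ℂ) g)) :
    ∃ h : H, IsConj g (h : G) ∧ ¬ Cfsg.MemLocalIdeal M (Cfsg.centralChar (ξ : H → ℂ) h) := by
  classical
  by_contra hcon
  push Not at hcon
  apply hg
  rw [inducedCentralChar_eq_omega, omega_eq_sum]
  apply sum_mul_inv_index_mem (MlocC hM)
  · intro h x
    simp only
    rw [classIndicatorOn_isClassFunction H g h x,
      centralChar_isClassFunction _ (IrrCharacter.isClassFunction ξ)]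
  · intro h
    unfold classIndicatorOn classIndicator
    by_cases hc : IsConj g (h : G)
    · rw [if_pos hc, one_mul]
      exact hcon h hc
    · rw [if_neg hc, zero_mul]
      exact memLocalIdeal_zero hM

/-- Let `B` be a block with defect group `P` and `g` an element at which the central character
of `B` is a unit.  Then some conjugate `x` of `g` centralizes `P` and has its `p`-part in
`Z(P)`. -/
theorem exists_conj_centralizer_pPart (hM : Cfsg.IsPModular p M)
    (B : Set (Cfsg.IrrCharacter G)) (hB : Cfsg.IsPBlock M B) (P : Subgroup G)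
    (hP : Cfsg.IsDefectGroup p M B P) (g : G) (χ : Cfsg.IrrCharacter G) (hχ : χ ∈ B)
    (hg : ¬ Cfsg.MemLocalIdeal M (Cfsg.centralChar (χ : G → ℂ) g)) :
    ∃ x : G, IsConj g x ∧ x ∈ Subgroup.centralizer (P : Set G) ∧
      ∀ z : G, Cfsg.IsPPart p x z → z ∈ P ∧ ∀ w ∈ P, z * w = w * z := by
  classical
  letI : Fintype (Subgroup.normalizer (P : Set G)) := Fintype.ofFinite _
  obtain ⟨b, hb, hbdef, hind⟩ := first_main_exists hM P B hB hP
  obtain ⟨ξ, hξ⟩ := isPBlock_nonempty hM hb
  have h1 := hind.2.2 ξ hξ χ hχ g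
  have h2 : ¬ Cfsg.MemLocalIdeal M
      (Cfsg.inducedCentralChar (Subgroup.normalizer (P : Set G))
        (ξ : Subgroup.normalizer (P : Set G) → ℂ) g) := by
    intro hcon
    apply hg
    have := memLocalIdeal_sub hM hcon h1
    rwa [sub_sub_cancel] at this
  obtain ⟨h, hconj, hωh⟩ := exists_conj_of_inducedCentralChar hM _ ξ g h2
  haveI hQn : (P.subgroupOf (Subgroup.normalizer (P : Set G))).Normal :=
    Subgroup.normal_subgroupOf_of_le_normalizer le_rfl
  obtain ⟨g₀, hg₀, hPle, hcard⟩ := exists_of_isDefectGroup hP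
  have hPp : IsPGroup p P := IsPGroup.of_card hcard
  have hQp : IsPGroup p (P.subgroupOf (Subgroup.normalizer (P : Set G))) :=
    hPp.comap_of_injective _ (Subgroup.subtype_injective _)
  have hcent : h ∈ Subgroup.centralizer
      ((P.subgroupOf (Subgroup.normalizer (P : Set G)) :
        Subgroup (Subgroup.normalizer (P : Set G))) : Set (Subgroup.normalizer (P : Set G))) := by
    by_contra hcon
    exact hωh (centralChar_memLocalIdeal_of_notMem_centralizer hM _ hQp h hcon ξ)
  have hcentG : (h : G) ∈ Subgroup.centralizer (P : Set G) :=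
    (mem_centralizer_subgroupOf_iff _ P Subgroup.le_normalizer h).mp hcent
  refine ⟨(h : G), hconj, hcentG, ?_⟩
  intro z hz
  obtain ⟨z', hz'eq, hz'⟩ := exists_isPPart_of_coe p h hz
  have hmem := pPart_mem_of_normal_defect hM _ b hb hbdef ξ hξ h hωh z' hz'
  constructor
  · rw [← hz'eq]
    exact Subgroup.mem_subgroupOf.mp hmem
  · intro w hw
    apply isPPart_commute p hz
    exact ((Subgroup.mem_centralizer_iff.mp hcentG) w hw).symm

end NormalDefect

end Cfsg.Agent.Lib.Helper7
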