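import Mathlib

set_option autoImplicit false

namespace Cfsg.Agent.Lib.Helper7

/-- If the Sylow `p`-subgroups have order `p`, then the number of elements of order `p` is
`n_p * (p - 1)`. -/
theorem card_orderOf_eq_prime_of_card_sylow_eq_prime {G : Type*} [Group G] [Finite G] {p : ℕ}
    [Fact p.Prime] (S : Sylow p G) (hS : Nat.card (S : Subgroup G) = p) :
    Nat.card {x : G // orderOf x = p} = Nat.card (Sylow p G) * (p - 1) := by
  classical
  have hp : p.Prime := Fact.out
  have : Fintype (Sylow p G) := Fintype.ofFinite _
  have hmult : p ^ (Nat.card G).factorization p = p := by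
    rw [← Sylow.card_eq_multiplicity S, hS]
  have hcardQ : ∀ Q : Sylow p G, Nat.card (Q : Subgroup G) = p := by
    intro Q; rw [Sylow.card_eq_multiplicity Q, hmult]
  have hz : ∀ x : {x : G // orderOf x = p},
      Nat.card (Subgroup.zpowers x.1) = p ^ (Nat.card G).factorization p := by
    intro x; rw [Nat.card_zpowers, x.2, hmult]
  let f : {x : G // orderOf x = p} → Sylow p G := fun x => Sylow.ofCard (Subgroup.zpowers x.1) (hz x)
  have h1 : Nat.card {x : G // orderOf x = p} = Nat.card (Σ Q, {x : {x : G // orderOf x = p} // f x = Q}) :=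
    (Nat.card_congr (Equiv.sigmaFiberEquiv f)).symm
  rw [h1, Nat.card_sigma]
  have h2 : ∀ Q : Sylow p G, Nat.card {x : {x : G // orderOf x = p} // f x = Q} = p - 1 := by
    intro Q
    have h3 : Nat.card {x : (Q : Subgroup G) // x ≠ 1} = p - 1 := by
      have : Fintype (Q : Subgroup G) := Fintype.ofFinite _
      rw [Nat.card_eq_fintype_card, Fintype.card_subtype_compl, Fintype.card_subtype_eq,
        ← Nat.card_eq_fintype_card, hcardQ Q]
    rw [← h3]
    apply Nat.card_congr
    refine
      { toFun := fun x => ⟨⟨x.1.1, ?_⟩, ?_⟩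
        invFun := fun y => ⟨⟨y.1.1, ?_⟩, ?_⟩
        left_inv := fun x => rfl
        right_inv := fun y => rfl }
    · have h := x.2
      have : x.1.1 ∈ ((f x.1 : Sylow p G) : Subgroup G) := by
        show x.1.1 ∈ Subgroup.zpowers x.1.1
        exact Subgroup.mem_zpowers _
      rw [h] at this
      exact this
    · intro h
      have h' : x.1.1 = 1 := congrArg Subtype.val h
      have := x.1.2
      rw [h', orderOf_one] at this
      exact hp.one_lt.ne this
    · have hy1 : (y.1 : G) ≠ 1 := fun h => y.2 (Subtype.ext h)
      have hd : orderOf (y.1 : G) ∣ p := by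
        have := orderOf_dvd_natCard (y.1 : (Q : Subgroup G))
        rwa [hcardQ Q, ← Subgroup.orderOf_coe] at this
      rcases (Nat.dvd_prime hp).mp hd with h | h
      · exact absurd (orderOf_eq_one_iff.mp h) hy1
      · exact h
    · apply Sylow.ext
      show Subgroup.zpowers (y.1 : G) = Q
      apply Subgroup.eq_of_le_of_card_ge
      · rw [Subgroup.zpowers_le]; exact y.1.2
      · rw [hcardQ Q, Nat.card_zpowers]
        have hy1 : (y.1 : G) ≠ 1 := fun h => y.2 (Subtype.ext h)
        have hd : orderOf (y.1 : G) ∣ p := by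
          have := orderOf_dvd_natCard (y.1 : (Q : Subgroup G))
          rwa [hcardQ Q, ← Subgroup.orderOf_coe] at this
        rcases (Nat.dvd_prime hp).mp hd with h | h
        · exact absurd (orderOf_eq_one_iff.mp h) hy1
        · exact h.ge
  simp only [h2, Finset.sum_const, Finset.card_univ, smul_eq_mul, Nat.card_eq_fintype_card]

end Cfsg.Agent.Lib.Helper7
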