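import Mathlib

set_option autoImplicit false

namespace Cfsg.Agent.Lib.Helper7

/-- A Sylow subgroup is normal if there is only one Sylow subgroup. -/
theorem sylow_normal_of_card_eq_one {G : Type*} [Group G] {p : ℕ} (P : Sylow p G)
    (h : Nat.card (Sylow p G) = 1) : (P : Subgroup G).Normal := by
  have : Subsingleton (Sylow p G) := (Nat.card_eq_one_iff_unique.mp h).1
  exact Sylow.normal_of_subsingleton P

/-- If the index of a Sylow `p`-subgroup is at most `p`, there is just one Sylow `p`-subgroup. -/
theorem card_sylow_eq_one_of_index_le {G : Type*} [Group G] [Finite G] {p : ℕ} [Fact p.Prime]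
    (P : Sylow p G) (h : (P : Subgroup G).index ≤ p) : Nat.card (Sylow p G) = 1 := by
  have hp : p.Prime := Fact.out
  have h1 := Sylow.card_dvd_index P
  have h2 := card_sylow_modEq_one p G
  have hpos : 0 < (P : Subgroup G).index := Nat.pos_of_ne_zero (Subgroup.index_ne_zero_of_finite)
  have h3 : Nat.card (Sylow p G) ≤ p := (Nat.le_of_dvd hpos h1).trans h
  have h4 : 0 < Nat.card (Sylow p G) := Nat.pos_of_dvd_of_pos h1 hpos
  unfold Nat.ModEq at h2
  rw [Nat.mod_eq_of_lt hp.one_lt] at h2
  rcases Nat.lt_or_ge (Nat.card (Sylow p G)) p with h5 | h5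
  · rwa [Nat.mod_eq_of_lt h5] at h2
  · have : Nat.card (Sylow p G) = p := le_antisymm h3 h5
    rw [this, Nat.mod_self] at h2
    omega

/-- If the index of a Sylow `p`-subgroup is at most `p`, it is normal. -/
theorem sylow_normal_of_index_le {G : Type*} [Group G] [Finite G] {p : ℕ} [Fact p.Prime]
    (P : Sylow p G) (h : (P : Subgroup G).index ≤ p) : (P : Subgroup G).Normal :=
  sylow_normal_of_card_eq_one P (card_sylow_eq_one_of_index_le P h)

/-- The number of Sylow subgroups is positive. -/
theorem card_sylow_pos {G : Type*} [Group G] [Finite G] {p : ℕ} [Fact p.Prime] :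
    0 < Nat.card (Sylow p G) := Nat.card_pos

/-- `|H| * |K : H| = |K|` for `H ≤ K`. -/
theorem card_mul_relIndex {G : Type*} [Group G] {H K : Subgroup G} (h : H ≤ K) :
    Nat.card H * H.relIndex K = Nat.card K := by
  have := Subgroup.relIndex_mul_relIndex (⊥ : Subgroup G) H K bot_le h
  rwa [Subgroup.relIndex_bot_left, Subgroup.relIndex_bot_left] at this

/-- The N/C theorem: `|N(H) : C(H)|` divides `|Aut H|`. -/
theorem relIndex_centralizer_normalizer_dvd {G : Type*} [Group G] (H : Subgroup G) :
    (Subgroup.centralizer (H : Set G)).relIndex (Subgroup.normalizer (H : Set G)) ∣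
      Nat.card (MulAut H) := by
  have key := Subgroup.card_dvd_of_injective _
    (QuotientGroup.kerLift_injective H.normalizerMonoidHom)
  rwa [Subgroup.normalizerMonoidHom_ker, ← Subgroup.index, ← Subgroup.relIndex] at key

/-- A finite simple group with a Sylow `p`-subgroup `P ≠ 1` such that `N(P) ≤ C(P)` has order `p`
(Burnside's transfer theorem). -/
theorem card_eq_prime_of_simple_of_normalizer_le_centralizer {G : Type*} [Group G] [Finite G]
    [IsSimpleGroup G] {p : ℕ} [Fact p.Prime] (P : Sylow p G) (hdvd : p ∣ Nat.card G)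
    (hP : Subgroup.normalizer ((P : Subgroup G) : Set G) ≤
      Subgroup.centralizer ((P : Subgroup G) : Set G)) : Nat.card G = p := by
  have hp : p.Prime := Fact.out
  have hK := MonoidHom.ker_transferSylow_isComplement' P hP
  have hKn : (MonoidHom.transferSylow P hP).ker.Normal := MonoidHom.normal_ker _
  rcases hKn.eq_bot_or_eq_top with h | h
  · rw [h, Subgroup.isComplement'_bot_left] at hK
    -- `P = ⊤`, so `G` is commutative
    have hcomm : ∀ a b : G, a * b = b * a := by
      intro a b
      have ha : a ∈ Subgroup.centralizer ((P : Subgroup G) : Set G) :=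
        hP (Subgroup.le_normalizer (by rw [hK]; trivial))
      have hb : b ∈ ((P : Subgroup G) : Set G) := by
        show b ∈ (P : Subgroup G)
        rw [hK]; trivial
      exact (Subgroup.mem_centralizer_iff.mp ha b hb).symm
    letI : CommGroup G := { ‹Group G› with mul_comm := hcomm }
    have hprime : (Nat.card G).Prime := IsSimpleGroup.prime_card
    exact ((Nat.prime_dvd_prime_iff_eq hp hprime).mp hdvd).symm
  · rw [h, Subgroup.isComplement'_top_left] at hK
    exact absurd hK (P.ne_bot_of_dvd_card hdvd)

/-- In a finite simple group whose order is not `p`, if a Sylow `p`-subgroup `P` has order `p`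
then `|N(P) : P|` is not coprime to `p - 1`. -/
theorem not_coprime_of_simple_of_card_sylow_eq_prime {G : Type*} [Group G] [Finite G]
    [IsSimpleGroup G] {p : ℕ} [Fact p.Prime] (P : Sylow p G)
    (hcard : Nat.card (P : Subgroup G) = p) (hG : Nat.card G ≠ p) :
    ¬ Nat.Coprime ((P : Subgroup G).relIndex (Subgroup.normalizer ((P : Subgroup G) : Set G)))
      (p - 1) := by
  have hp : p.Prime := Fact.out
  intro hcop
  have hcyc : IsCyclic (P : Subgroup G) := isCyclic_of_prime_card hcard
  have hPC : (P : Subgroup G) ≤ Subgroup.centralizer ((P : Subgroup G) : Set G) := by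
    rw [Subgroup.le_centralizer_iff_isMulCommutative]
    exact ⟨⟨fun a b => (IsCyclic.commGroup (α := (P : Subgroup G))).mul_comm a b⟩⟩
  have h1 : (Subgroup.centralizer ((P : Subgroup G) : Set G)).relIndex
      (Subgroup.normalizer ((P : Subgroup G) : Set G)) ∣
      (P : Subgroup G).relIndex (Subgroup.normalizer ((P : Subgroup G) : Set G)) :=
    Subgroup.relIndex_dvd_of_le_left _ hPC
  have h2 := relIndex_centralizer_normalizer_dvd (P : Subgroup G)
  rw [hcyc.card_mulAut, hcard, Nat.totient_prime hp] at h2
  have h3 := Nat.eq_one_of_dvd_coprimes hcop h1 h2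
  rw [Subgroup.relIndex_eq_one] at h3
  have hdvd : p ∣ Nat.card G := by
    rw [← hcard]; exact Subgroup.card_subgroup_dvd_card _
  exact hG (card_eq_prime_of_simple_of_normalizer_le_centralizer P hdvd h3)

/-- `|P| * |N(P) : P| * n_p = |G|`. -/
theorem card_mul_relIndex_normalizer_mul_card_sylow {G : Type*} [Group G] [Finite G] {p : ℕ}
    [Fact p.Prime] (P : Sylow p G) :
    Nat.card (P : Subgroup G) *
      (P : Subgroup G).relIndex (Subgroup.normalizer ((P : Subgroup G) : Set G)) *
      Nat.card (Sylow p G) = Nat.card G := by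
  rw [card_mul_relIndex Subgroup.le_normalizer]
  have h := Sylow.card_eq_index_normalizer P
  have h' : Nat.card (Sylow p G) = (Subgroup.normalizer ((P : Subgroup G) : Set G)).index := h
  rw [h', Subgroup.card_mul_index]

/-- In a simple group, a nontrivial proper Sylow subgroup is not unique. -/
theorem card_sylow_ne_one_of_simple {G : Type*} [Group G] [Finite G] [IsSimpleGroup G] {p : ℕ}
    [Fact p.Prime] (P : Sylow p G) (h1 : Nat.card (P : Subgroup G) ≠ 1)
    (h2 : Nat.card (P : Subgroup G) ≠ Nat.card G) : Nat.card (Sylow p G) ≠ 1 := by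
  intro h
  have hn := sylow_normal_of_card_eq_one P h
  rcases hn.eq_bot_or_eq_top with h' | h'
  · apply h1; rw [h']; simp
  · apply h2; rw [h']; simp

/-- If a simple group has a proper subgroup `H`, its order divides `(index H)!`. -/
theorem card_dvd_factorial_index_of_simple {G : Type*} [Group G] [Finite G] [IsSimpleGroup G]
    (H : Subgroup G) (hH : H ≠ ⊤) : Nat.card G ∣ (H.index).factorial := by
  classical
  have : Fintype (G ⧸ H) := Fintype.ofFinite _
  have hinj : Function.Injective (MulAction.toPermHom G (G ⧸ H)) := by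
    rw [← MonoidHom.ker_eq_bot_iff]
    rcases (Subgroup.Normal.eq_bot_or_eq_top (H := (MulAction.toPermHom G (G ⧸ H)).ker)
      inferInstance) with h | h
    · exact h
    · exfalso
      apply hH
      rw [eq_top_iff]
      intro g _
      have hg : g ∈ (MulAction.toPermHom G (G ⧸ H)).ker := by rw [h]; trivial
      rw [MonoidHom.mem_ker] at hg
      have h3 : g • ((1 : G) : G ⧸ H) = ((1 : G) : G ⧸ H) := by
        have := congrArg (fun σ : Equiv.Perm (G ⧸ H) => σ ((1 : G) : G ⧸ H)) hg
        simpa using this
      rw [MulAction.Quotient.smul_mk, QuotientGroup.eq] at h3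
      simpa using h3
  have := Subgroup.card_dvd_of_injective _ hinj
  rwa [Nat.card_eq_fintype_card (α := Equiv.Perm (G ⧸ H)), Fintype.card_perm,
    ← Nat.card_eq_fintype_card, ← Subgroup.index_eq_card] at this

/-- In a simple group, with a nontrivial proper Sylow `p`-subgroup, the order divides `n_p !`. -/
theorem card_dvd_factorial_card_sylow_of_simple {G : Type*} [Group G] [Finite G] [IsSimpleGroup G]
    {p : ℕ} [Fact p.Prime] (P : Sylow p G) (h1 : Nat.card (P : Subgroup G) ≠ 1)
    (h2 : Nat.card (P : Subgroup G) ≠ Nat.card G) :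
    Nat.card G ∣ (Nat.card (Sylow p G)).factorial := by
  have h : Nat.card (Sylow p G) = (Subgroup.normalizer ((P : Subgroup G) : Set G)).index :=
    Sylow.card_eq_index_normalizer P
  rw [h]
  apply card_dvd_factorial_index_of_simple
  intro htop
  apply card_sylow_ne_one_of_simple P h1 h2
  rw [h, htop, Subgroup.index_top]

/-- The order of a Sylow `p`-subgroup of a group of order `p ^ k * m` with `p ∤ m`. -/
theorem card_sylow_subgroup_eq {G : Type*} [Group G] [Finite G] {p : ℕ} [Fact p.Prime]
    (P : Sylow p G) (k m : ℕ) (hG : Nat.card G = p ^ k * m) (hm : ¬ p ∣ m) :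
    Nat.card (P : Subgroup G) = p ^ k := by
  have hp : p.Prime := Fact.out
  have hm0 : m ≠ 0 := by
    rintro rfl
    exact hm (dvd_zero p)
  rw [Sylow.card_eq_multiplicity, hG, Nat.factorization_mul (pow_ne_zero k hp.ne_zero) hm0,
    Finsupp.add_apply, hp.factorization_pow, Finsupp.single_eq_same,
    Nat.factorization_eq_zero_of_not_dvd hm, add_zero]

end Cfsg.Agent.Lib.Helper7
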