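import Mathlib
import Cfsg.Prelude.Def_Characters
import Cfsg.Agent.Lib.Helper2.Regular
import Cfsg.Agent.Lib.Helper25.Complete

/-!
# Averaging an irreducible character over the cosets of a normal subgroup (helper7 library)
-/

set_option autoImplicit false

namespace Cfsg.Agent.Lib.Helper7

open Cfsg.Agent.Lib.Helper2

section

variable {G : Type*} [Group G] (N : Subgroup G) [hN : N.Normal] [Fintype N]
  {V : Type*} [AddCommGroup V] [Module ℂ V] [FiniteDimensional ℂ V]

/-- The averaging operator of a representation over a subgroup. -/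
noncomputable def avgOp (ρ : Representation ℂ G V) : Module.End ℂ V :=
  (Nat.card N : ℂ)⁻¹ • ∑ n : N, ρ (n : G)

omit [FiniteDimensional ℂ V] in
theorem avgOp_comm (ρ : Representation ℂ G V) (g : G) :
    avgOp N ρ * ρ g = ρ g * avgOp N ρ := by
  unfold avgOp
  rw [smul_mul_assoc, mul_smul_comm]
  congr 1
  rw [Finset.sum_mul, Finset.mul_sum]
  rw [← Equiv.sum_comp (MulAut.conjNormal (H := N) g).toEquiv
    (fun n : N => ρ (n : G) * ρ g)]
  apply Finset.sum_congr rfl
  intro n _
  have h1 : (((MulAut.conjNormal (H := N) g).toEquiv n : N) : G) = g * n * g⁻¹ := by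
    simp [MulAut.conjNormal_apply]
  rw [h1]
  rw [← map_mul, ← map_mul]
  congr 1
  group

omit [FiniteDimensional ℂ V] hN in
theorem avgOp_idem (ρ : Representation ℂ G V) : avgOp N ρ * avgOp N ρ = avgOp N ρ := by
  have hNne : (Nat.card N : ℂ) ≠ 0 := by
    exact_mod_cast Nat.card_pos.ne'
  unfold avgOp
  rw [smul_mul_assoc, mul_smul_comm, smul_smul, Finset.sum_mul]
  have h1 : ∀ n : N, ρ (n : G) * ∑ m : N, ρ (m : G) = ∑ m : N, ρ (m : G) := by
    intro n
    rw [Finset.mul_sum]
    rw [← Equiv.sum_comp (Equiv.mulLeft n) (fun m : N => ρ (m : G))]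
    apply Finset.sum_congr rfl
    intro m _
    rw [← map_mul]
    rfl
  simp only [h1]
  rw [Finset.sum_const, Finset.card_univ, ← Nat.card_eq_fintype_card, ← Nat.cast_smul_eq_nsmul ℂ,
    smul_smul]
  congr 1
  field_simp

omit [FiniteDimensional ℂ V] hN in
theorem trace_avgOp_comp (ρ : Representation ℂ G V) (g : G) :
    LinearMap.trace ℂ V (avgOp N ρ * ρ g)
      = (Nat.card N : ℂ)⁻¹ * ∑ n : N, ρ.character ((n : G) * g) := by
  unfold avgOp Representation.character
  rw [smul_mul_assoc, map_smul, smul_eq_mul, Finset.sum_mul, map_sum]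
  congr 1
  apply Finset.sum_congr rfl
  intro n _
  rw [map_mul ρ]

/-- For an irreducible representation, the averaging operator over a normal subgroup is `0` or
the identity. -/
theorem avgOp_eq_zero_or_id (ρ : Representation ℂ G V) (h : ρ.IsIrreducible) :
    avgOp N ρ = 0 ∨ avgOp N ρ = 1 := by
  obtain ⟨c, hc⟩ := Cfsg.Agent.Lib.Helper25.schur_scalar ρ h (avgOp N ρ) (avgOp_comm N ρ)
  have hid := avgOp_idem N ρ
  rw [hc] at hid ⊢
  have : Nontrivial V := by
    have := h
    exact nontrivial_of_isIrreducible ρ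
  obtain ⟨v, hv⟩ := exists_ne (0 : V)
  have h2 := LinearMap.congr_fun hid v
  simp only [Module.End.mul_apply, LinearMap.smul_apply, LinearMap.id_apply, smul_smul,
    map_smul] at h2
  have h3 : (c * c - c) • v = 0 := by rw [sub_smul, h2, sub_self]
  rcases smul_eq_zero.mp h3 with h4 | h4
  · have h5 : c * (c - 1) = 0 := by linear_combination h4
    rcases mul_eq_zero.mp h5 with h6 | h6
    · left; rw [h6, zero_smul]
    · right; rw [sub_eq_zero.mp h6, one_smul]; rfl
  · exact absurd h4 hv

end

section Char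

variable {G : Type*} [Group G] (N : Subgroup G) [hN : N.Normal] [Fintype N]

/-- The coset average over a normal subgroup of an irreducible character `μ` is `μ` or `0`. -/
theorem avg_irr {μ : G → ℂ} (hμ : Cfsg.IsIrrCharacter G μ) :
    (∀ g : G, (Nat.card N : ℂ)⁻¹ * ∑ n : N, μ ((n : G) * g) = μ g) ∨
    (∀ g : G, (Nat.card N : ℂ)⁻¹ * ∑ n : N, μ ((n : G) * g) = 0) := by
  obtain ⟨k, ρ, hirr, rfl⟩ := hμ
  rcases avgOp_eq_zero_or_id N ρ hirr with h0 | h1
  · right
    intro g
    rw [← trace_avgOp_comp N ρ g, h0]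
    simp
  · left
    intro g
    rw [← trace_avgOp_comp N ρ g, h1, one_mul]
    rfl

end Char

end Cfsg.Agent.Lib.Helper7
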