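import Mathlib
import Cfsg.Prelude.Def_Characters
import Cfsg.Agent.Lib.Helper7.Induced

set_option autoImplicit false

namespace Cfsg.Agent.Lib.Helper7

open Cfsg

/-- The number of `x` with `x⁻¹ g x ∈ H`. -/
noncomputable def conjCount {G : Type*} [Group G] (H : Subgroup G) (g : G) : ℕ :=
  Nat.card {x : G // x⁻¹ * g * x ∈ H}

/-- A bijection `G ≃ (G ⧸ K) × K` whose first component is the quotient map. -/
noncomputable def groupEquivQuotProd {G : Type*} [Group G] (K : Subgroup G) : G ≃ (G ⧸ K) × K where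
  toFun x := ((x : G ⧸ K), ⟨((x : G ⧸ K)).out⁻¹ * x, by
    rw [← QuotientGroup.eq]; exact QuotientGroup.out_eq' _⟩)
  invFun c := c.1.out * c.2
  left_inv x := by simp
  right_inv c := by
    obtain ⟨q, k⟩ := c
    have h1 : (((q.out * (k : G) : G)) : G ⧸ K) = q := by
      rw [QuotientGroup.mk_mul_of_mem _ k.2]
      exact QuotientGroup.out_eq' q
    apply Prod.ext
    · exact h1
    · apply Subtype.ext
      simp only
      rw [h1]
      simp

theorem groupEquivQuotProd_fst {G : Type*} [Group G] (K : Subgroup G) (x : G) :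
    (groupEquivQuotProd K x).1 = (x : G ⧸ K) := rfl

theorem indFun_one_apply {G : Type*} [Group G] [Fintype G] (H : Subgroup G) (g : G) :
    indFun H (fun _ => (1 : ℂ)) g = (conjCount H g : ℂ) / (Nat.card H : ℂ) := by
  classical
  rw [indFun_apply, div_eq_inv_mul]
  congr 1
  have h1 : ∀ x : G, extendByZero H (fun _ => (1 : ℂ)) (x⁻¹ * g * x) =
      if x⁻¹ * g * x ∈ H then 1 else 0 := by
    intro x
    split_ifs with h
    · rw [extendByZero_apply_mem H _ h]
    · rw [extendByZero_apply_not_mem H _ h]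
  simp_rw [h1]
  rw [Finset.sum_boole, conjCount, Nat.card_eq_fintype_card, Fintype.card_subtype]

theorem conjCount_conj {G : Type*} [Group G] (H : Subgroup G) (t g : G) :
    conjCount (H.map (MulAut.conj t).toMonoidHom) g = conjCount H g := by
  unfold conjCount
  apply Nat.card_congr
  refine
    { toFun := fun x => ⟨x.1 * t, ?_⟩
      invFun := fun x => ⟨x.1 * t⁻¹, ?_⟩
      left_inv := fun x => Subtype.ext (by simp)
      right_inv := fun x => Subtype.ext (by simp) }
  · obtain ⟨x, hx⟩ := x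
    obtain ⟨h, hh, hxh⟩ := Subgroup.mem_map.mp hx
    have : (x * t)⁻¹ * g * (x * t) = h := by
      have h2 : t * h * t⁻¹ = x⁻¹ * g * x := by simpa using hxh
      calc (x * t)⁻¹ * g * (x * t) = t⁻¹ * (x⁻¹ * g * x) * t := by group
        _ = t⁻¹ * (t * h * t⁻¹) * t := by rw [h2]
        _ = h := by group
    show (x * t)⁻¹ * g * (x * t) ∈ H
    rw [this]; exact hh
  · obtain ⟨x, hx⟩ := x
    show (x * t⁻¹)⁻¹ * g * (x * t⁻¹) ∈ H.map (MulAut.conj t).toMonoidHom
    refine Subgroup.mem_map.mpr ⟨x⁻¹ * g * x, hx, ?_⟩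
    simp only [MulEquiv.coe_toMonoidHom, MulAut.conj_apply]
    group

theorem conjCount_eq_card_mul_fixed {G : Type*} [Group G] [Finite G] (K : Subgroup G) (g : G) :
    conjCount K g = Nat.card {q : G ⧸ K // g • q = q} * Nat.card K := by
  unfold conjCount
  rw [← Nat.card_prod]
  apply Nat.card_congr
  have hiff : ∀ x : G, x⁻¹ * g * x ∈ K ↔ g • ((x : G) : G ⧸ K) = ((x : G) : G ⧸ K) := by
    intro x
    rw [MulAction.Quotient.smul_mk, eq_comm, QuotientGroup.eq]
    simp [mul_assoc]
  calc {x : G // x⁻¹ * g * x ∈ K} ≃ {x : G // g • ((groupEquivQuotProd K x).1) = (groupEquivQuotProd K x).1} :=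
        Equiv.subtypeEquivRight (fun x => by rw [groupEquivQuotProd_fst]; exact hiff x)
    _ ≃ {c : (G ⧸ K) × K // g • c.1 = c.1} :=
        (groupEquivQuotProd K).subtypeEquiv (fun x => Iff.rfl)
    _ ≃ {q : G ⧸ K // g • q = q} × K :=
        { toFun := fun c => (⟨c.1.1, c.2⟩, c.1.2)
          invFun := fun d => ⟨(d.1.1, d.2), d.1.2⟩
          left_inv := fun c => rfl
          right_inv := fun d => rfl }

end Cfsg.Agent.Lib.Helper7
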