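import Mathlib
import Cfsg.Prelude.Def_Blocks
import Cfsg.Agent.Lib.Helper24.Osima
import Cfsg.Agent.Lib.Helper25.Kernel
import Cfsg.Agent.Lib.Helper7.PermChar
import Cfsg.Agent.Lib.Helper7.Averaging

/-!
# Blocks and quotients by normal `p'`-subgroups (helper7 library)
-/

set_option autoImplicit false

namespace Cfsg.Agent.Lib.Helper7

open Cfsg.Agent.Lib.Helper2 Cfsg.Agent.Lib.Helper24
open scoped ComplexConjugate

section

variable {G : Type*} [Group G] [Fintype G] (N : Subgroup G) [hN : N.Normal] [Fintype N]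
  [Fintype (G ⧸ N)]

omit hN in
/-- summing a function of the coset over the group -/
theorem sum_comp_mk (F : G ⧸ N → ℂ) :
    ∑ g : G, F (g : G ⧸ N) = (Nat.card N : ℂ) * ∑ q : G ⧸ N, F q := by
  rw [← Equiv.sum_comp (groupEquivQuotProd N).symm (fun g : G => F (g : G ⧸ N)),
    Fintype.sum_prod_type]
  have h1 : ∀ (q : G ⧸ N) (n : N), F (((groupEquivQuotProd N).symm (q, n) : G) : G ⧸ N) = F q := by
    intro q n
    have := groupEquivQuotProd_fst N ((groupEquivQuotProd N).symm (q, n))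
    rw [Equiv.apply_symm_apply] at this
    rw [← this]
  simp only [h1]
  rw [Finset.mul_sum]
  apply Finset.sum_congr rfl
  intro q _
  rw [Finset.sum_const, Finset.card_univ, nsmul_eq_mul, Nat.card_eq_fintype_card]

/-- `omega` of an inflated function at an inflated (and normalised) central element -/
theorem omega_inflation (θ a : G ⧸ N → ℂ) :
    omega (fun g : G => θ (g : G ⧸ N)) (fun g : G => (Nat.card N : ℂ)⁻¹ * a (g : G ⧸ N))
      = omega θ a := by
  unfold omega
  have hNne : (Nat.card N : ℂ) ≠ 0 := by exact_mod_cast Nat.card_pos.ne'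
  have h1 : ∑ g : G, (Nat.card N : ℂ)⁻¹ * a (g : G ⧸ N) * θ (g : G ⧸ N)
      = ∑ q : G ⧸ N, a q * θ q := by
    have := sum_comp_mk N (fun q => (Nat.card N : ℂ)⁻¹ * a q * θ q)
    rw [this, Finset.mul_sum]
    apply Finset.sum_congr rfl
    intro q _
    field_simp
  rw [h1]
  rfl

variable {p : ℕ} {M : Ideal Cfsg.AlgInt}

/-- If two characters of `G ⧸ N` (with `p ∤ |N|`) have inflations in the same block of `G`, they
are in the same block of `G ⧸ N`. -/
theorem sameBlock_of_inflation (hM : Cfsg.IsPModular p M) (hpN : ¬ p ∣ Nat.card N)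
    (χ ψ : Cfsg.IrrCharacter (G ⧸ N))
    (h : Cfsg.SameBlock M (fun g : G => (χ : G ⧸ N → ℂ) (g : G ⧸ N))
      (fun g : G => (ψ : G ⧸ N → ℂ) (g : G ⧸ N))) :
    Cfsg.SameBlock M (χ : G ⧸ N → ℂ) (ψ : G ⧸ N → ℂ) := by
  classical
  intro q
  rw [← omega_classIndicator _ (IrrCharacter.isClassFunction χ),
    ← omega_classIndicator _ (IrrCharacter.isClassFunction ψ),
    ← omega_inflation N, ← omega_inflation N (ψ : G ⧸ N → ℂ)]
  have hχ : Cfsg.IsIrrCharacter G (fun g : G => (χ : G ⧸ N → ℂ) (g : G ⧸ N)) :=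
    Cfsg.Agent.Lib.Helper25.isIrrCharacter_inflation N χ.2
  have hψ : Cfsg.IsIrrCharacter G (fun g : G => (ψ : G ⧸ N → ℂ) (g : G ⧸ N)) :=
    Cfsg.Agent.Lib.Helper25.isIrrCharacter_inflation N ψ.2
  apply omega_sub_memLocalIdeal hM ⟨_, hχ⟩ ⟨_, hψ⟩ h
  · intro g x
    simp only
    congr 1
    have := classIndicator_isClassFunction q (g : G ⧸ N) (x : G ⧸ N)
    simpa using this
  · intro g
    apply memLocalRing_mul hM (memLocalRing_natCast_inv hM hpN)
    unfold classIndicator
    split_ifs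
    · exact memLocalRing_one hM
    · exact memLocalRing_zero hM

omit [Fintype (G ⧸ N)] in
/-- If `ψ` lies in the block of a character with `N` (of order prime to `p`) in its kernel, then
`N` is in the kernel of `ψ`. -/
theorem kernel_of_sameBlock (hM : Cfsg.IsPModular p M) (hpN : ¬ p ∣ Nat.card N)
    (χ ψ : Cfsg.IrrCharacter G) (hχ : ∀ n ∈ N, (χ : G → ℂ) n = (χ : G → ℂ) 1)
    (h : Cfsg.SameBlock M (χ : G → ℂ) (ψ : G → ℂ)) :
    ∀ n ∈ N, (ψ : G → ℂ) n = (ψ : G → ℂ) 1 := by
  classical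
  set a : G → ℂ := fun g => if g ∈ N then (Nat.card N : ℂ)⁻¹ else 0 with ha
  have hNne : (Nat.card N : ℂ) ≠ 0 := by exact_mod_cast Nat.card_pos.ne'
  have hacf : Cfsg.IsClassFunction G a := by
    intro g x
    simp only [ha]
    have : x * g * x⁻¹ ∈ N ↔ g ∈ N := by
      constructor
      · intro hh
        have := hN.conj_mem _ hh x⁻¹
        have e : x⁻¹ * (x * g * x⁻¹) * x⁻¹⁻¹ = g := by group
        rwa [e] at this
      · intro hh
        exact hN.conj_mem _ hh x
    simp only [this]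
  have haint : ∀ g, Cfsg.MemLocalRing M (a g) := by
    intro g
    simp only [ha]
    split_ifs
    · exact memLocalRing_natCast_inv hM hpN
    · exact memLocalRing_zero hM
  have homega : ∀ θ : G → ℂ, omega θ a = ((Nat.card N : ℂ)⁻¹ * ∑ n : N, θ ((n : G) * 1)) / θ 1 := by
    intro θ
    unfold omega
    congr 1
    simp only [ha, mul_one]
    have h1 : ∀ g : G, (if g ∈ N then (Nat.card N : ℂ)⁻¹ else 0) * θ g
        = if g ∈ N then (Nat.card N : ℂ)⁻¹ * θ g else 0 := by
      intro g; split_ifs <;> simp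
    rw [Finset.sum_congr rfl (fun g _ => h1 g), ← Finset.sum_filter, Finset.mul_sum]
    rw [← Finset.sum_subtype (Finset.univ.filter (fun g : G => g ∈ N)) (p := fun g => g ∈ N)
      (by intro x; simp) (fun g => (Nat.card N : ℂ)⁻¹ * θ g)]
  have hsub := omega_sub_memLocalIdeal hM χ ψ h a hacf haint
  rw [homega, homega] at hsub
  have hχ1 : ((Nat.card N : ℂ)⁻¹ * ∑ n : N, (χ : G → ℂ) ((n : G) * 1)) / (χ : G → ℂ) 1 = 1 := by
    have : ∀ n : N, (χ : G → ℂ) ((n : G) * 1) = (χ : G → ℂ) 1 := by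
      intro n; rw [mul_one]; exact hχ n n.2
    simp only [this]
    rw [Finset.sum_const, Finset.card_univ, nsmul_eq_mul, ← Nat.card_eq_fintype_card]
    have hχne := IsIrrCharacter.apply_one_ne_zero χ.2
    field_simp
  rw [hχ1] at hsub
  rcases avg_irr N ψ.2 with hψ | hψ
  · intro m hm
    have h1 := hψ m
    have h2 := hψ 1
    rw [← h1, ← h2]
    congr 1
    rw [← Equiv.sum_comp (Equiv.mulRight (⟨m, hm⟩ : N)) (fun n : N => (ψ : G → ℂ) ((n : G) * 1))]
    apply Finset.sum_congr rfl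
    intro n _
    simp
  · exfalso
    rw [hψ 1, zero_div, sub_zero] at hsub
    exact not_memLocalIdeal_one hM hsub

end

end Cfsg.Agent.Lib.Helper7
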