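import Mathlib
import Cfsg.Agent.Lib.Helper13.NormalPComplement
import Cfsg.Agent.Lib.Helper17.SylowNormal

set_option autoImplicit false

namespace Cfsg.Agent.Lib.Helper7

open Cfsg.Agent.Lib.Helper13 Cfsg.Agent.Lib.Helper17

variable {H : Type*} [Group H] [Finite H] {p : ℕ} [Fact p.Prime]

/-- Burnside's transfer theorem, with the normal `p`-complement described as containing all
`p'`-elements. -/
theorem exists_normal_pPrime_of_normalizer_le_centralizer (Q : Sylow p H)
    (hQ : Subgroup.normalizer ((Q : Subgroup H) : Set H) ≤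
      Subgroup.centralizer ((Q : Subgroup H) : Set H)) :
    ∃ K : Subgroup H, K.Normal ∧ ¬ p ∣ Nat.card K ∧ ∀ x : H, (orderOf x).Coprime p → x ∈ K := by
  have hp : p.Prime := Fact.out
  refine ⟨(MonoidHom.transferSylow Q hQ).ker, inferInstance,
    MonoidHom.not_dvd_card_ker_transferSylow Q hQ, ?_⟩
  intro x hx
  rw [MonoidHom.mem_ker]
  have h1 : orderOf (MonoidHom.transferSylow Q hQ x) ∣ orderOf x := orderOf_map_dvd _ x
  obtain ⟨k, hk⟩ := (IsPGroup.iff_orderOf.mp (Q.isPGroup')) (MonoidHom.transferSylow Q hQ x)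
  have hk0 : k = 0 := by
    by_contra hne
    have h2 : p ∣ orderOf x := dvd_trans (hk ▸ dvd_pow_self p hne) h1
    exact (Nat.Prime.coprime_iff_not_dvd hp).1 hx.symm h2
  rw [hk0, pow_zero, orderOf_eq_one_iff] at hk
  exact hk

/-- A group whose Sylow `p`-subgroups are cyclic, `p` at most the smallest prime divisor of the
order, has a normal `p`-complement containing all `p'`-elements. -/
theorem exists_normal_pPrime_of_cyclic_sylow (hmin : ∀ q : ℕ, q.Prime → q ∣ Nat.card H → p ≤ q)
    (Q : Sylow p H) (hQ : IsCyclic (Q : Subgroup H)) :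
    ∃ K : Subgroup H, K.Normal ∧ ¬ p ∣ Nat.card K ∧ ∀ x : H, (orderOf x).Coprime p → x ∈ K := by
  have hp : p.Prime := Fact.out
  by_cases hdvd : p ∣ Nat.card H
  · apply exists_normal_pPrime_of_normalizer_le_centralizer Q
    have hmf : (Nat.card H).minFac = p := by
      apply le_antisymm
      · exact Nat.minFac_le_of_dvd hp.two_le hdvd
      · have h1 : Nat.card H ≠ 1 := by
          intro h; rw [h] at hdvd
          exact hp.one_lt.ne' (Nat.le_antisymm (Nat.le_of_dvd one_pos hdvd) hp.one_lt.le)
        exact hmin _ (Nat.minFac_prime h1) (Nat.minFac_dvd _)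
    exact IsCyclic.normalizer_le_centralizer hmf hQ
  · exact ⟨⊤, inferInstance, by rwa [Subgroup.card_top], fun x _ => Subgroup.mem_top x⟩

/-- If the focal subgroup of a Sylow `p`-subgroup `S` is cyclic (`p` the smallest prime divisor),
then `S` has a normal complement. -/
theorem exists_normal_complement_of_focal_cyclic (hmin : ∀ q : ℕ, q.Prime → q ∣ Nat.card H → p ≤ q)
    (S : Sylow p H) (hcyc : IsCyclic (Subgroup.focalSubgroup (S : Subgroup H))) :
    ∃ N : Subgroup H, N.Normal ∧ N.IsComplement' (S : Subgroup H) := by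
  have hp : p.Prime := Fact.out
  set K : Subgroup H := (Subgroup.transferFocal (S : Subgroup H)).ker with hK
  have hKn : K.Normal := MonoidHom.normal_ker _
  have hKS : K ⊓ (S : Subgroup H) = Subgroup.focalSubgroup (S : Subgroup H) :=
    Subgroup.ker_transferFocal_inf_eq_focalSubgroup S
  -- Sylow p-subgroup of K
  let Q : Sylow p K := sylowInfNormal S K
  have hQc : IsCyclic (Q : Subgroup K) := by
    let f : (Q : Subgroup K) →* Subgroup.focalSubgroup (S : Subgroup H) :=
      { toFun := fun x => ⟨x.1.1, by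
          rw [← hKS]
          exact ⟨x.1.2, by
            have h1 : x.1 ∈ (S : Subgroup H).subgroupOf K := x.2
            exact Subgroup.mem_subgroupOf.mp h1⟩⟩
        map_one' := rfl
        map_mul' := fun x y => rfl }
    have hf : Function.Injective f := by
      intro x y hxy
      apply Subtype.ext; apply Subtype.ext
      exact congrArg (fun z : Subgroup.focalSubgroup (S : Subgroup H) => (z : H)) hxy
    exact isCyclic_of_injective f hf
  have hminK : ∀ q : ℕ, q.Prime → q ∣ Nat.card K → p ≤ q := fun q hq hqK =>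
    hmin q hq (hqK.trans (Subgroup.card_subgroup_dvd_card K))
  obtain ⟨M₀, hM₀n, hM₀p, hM₀all⟩ := exists_normal_pPrime_of_cyclic_sylow hminK Q hQc
  -- p'-elements of H lie in K
  have hpK : ∀ x : H, (orderOf x).Coprime p → x ∈ K := by
    intro x hx
    rw [hK, MonoidHom.mem_ker]
    have h1 : orderOf (Subgroup.transferFocal (S : Subgroup H) x) ∣ orderOf x := orderOf_map_dvd _ x
    have hPG : IsPGroup p ((S : Subgroup H) ⧸ Subgroup.focalSubgroupOf (S : Subgroup H)) :=
      S.2.to_quotient _
    obtain ⟨k, hk⟩ := (IsPGroup.iff_orderOf.mp hPG) (Subgroup.transferFocal (S : Subgroup H) x)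
    have hk0 : k = 0 := by
      by_contra hne
      have h2 : p ∣ orderOf x := dvd_trans (hk ▸ dvd_pow_self p hne) h1
      exact (Nat.Prime.coprime_iff_not_dvd hp).1 hx.symm h2
    rw [hk0, pow_zero, orderOf_eq_one_iff] at hk
    exact hk
  set M : Subgroup H := M₀.map K.subtype with hM
  have hMcard : Nat.card M = Nat.card M₀ := Subgroup.card_map_of_injective K.subtype_injective
  have hMp : ¬ p ∣ Nat.card M := by rw [hMcard]; exact hM₀p
  have hMall : ∀ x : H, (orderOf x).Coprime p → x ∈ M := by
    intro x hx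
    have hxK := hpK x hx
    refine ⟨⟨x, hxK⟩, hM₀all ⟨x, hxK⟩ ?_, rfl⟩
    rwa [← Subgroup.orderOf_coe]
  have hMord : ∀ x ∈ M, (orderOf x).Coprime p := by
    intro x hx
    rw [Nat.coprime_comm, Nat.Prime.coprime_iff_not_dvd hp]
    intro hdvd
    apply hMp
    have : orderOf (⟨x, hx⟩ : M) ∣ Nat.card M := orderOf_dvd_natCard _
    rw [← Subgroup.orderOf_coe] at this
    exact hdvd.trans this
  have hMn : M.Normal := by
    constructor
    intro x hx g
    apply hMall
    have : orderOf (g * x * g⁻¹) = orderOf x := by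
      have h : SemiconjBy g x (g * x * g⁻¹) := by
        unfold SemiconjBy; group
      exact (h.orderOf_eq g).symm
    rw [this]
    exact hMord x hx
  exact ⟨M, hMn, isComplement'_of_contains_pPrime_elements S M hMp hMall⟩

end Cfsg.Agent.Lib.Helper7
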