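import Mathlib
import Cfsg.Prelude.Def_GeometricClasses

/-!
# Vocabulary for S5630 (Aschbacher's theorem for `GL_n(F)`, `n ≥ 3`)  (helper7)

Every subgroup `H` of `GL (Fin n) F` (`F` a finite field, `n ≥ 3`) lies in a member of one of the eight geometric classes
or is in the residual class.  The hypotheses `H ≤ SL` and "H does not cover PSL" of the frozen statement are not needed.

* `InClass H`       : `H` lies in a member of a class (`Cfsg.Geo.InLinearClass`);
* `Irr H`, `AbsIrr H`: `H` acts (absolutely) irreducibly (frozen `ActsIrreducibly`, `ActsAbsolutelyIrreducibly` of `matrixSet H`);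
* `NormBy H N`      : `N` is normalised by `H`;
* `RealModScal F₀ H`: after one change of basis every element of `H` is a scalar multiple of a matrix over the subfield `F₀`;
* `QP H`            : every subgroup of `H` normalised by `H` is scalar or absolutely irreducible.
-/

set_option autoImplicit false

namespace Cfsg.Agent.Lib.Helper7.Asch

open Matrix Cfsg.Geo

variable {F : Type*} [Field F] {n : ℕ}

/-- `H` lies in a member of one of the eight geometric classes -/
def InClass [Fintype F] (H : Subgroup (GL (Fin n) F)) : Prop :=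
  ∃ M : Subgroup (GL (Fin n) F), InLinearClass n F M ∧ H ≤ M

/-- `H` acts irreducibly -/
def Irr (H : Subgroup (GL (Fin n) F)) : Prop := ActsIrreducibly (matrixSet H)

/-- `H` acts absolutely irreducibly -/
def AbsIrr (H : Subgroup (GL (Fin n) F)) : Prop := ActsAbsolutelyIrreducibly (matrixSet H)

/-- `N` is normalised by `H` -/
def NormBy (H N : Subgroup (GL (Fin n) F)) : Prop := ∀ h ∈ H, ∀ x ∈ N, h * x * h⁻¹ ∈ N

/-- `H` is realisable modulo scalars over the subfield `F₀` -/
def RealModScal (F₀ : Subfield F) (H : Subgroup (GL (Fin n) F)) : Prop :=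
  ∃ B : GL (Fin n) F, ∀ h ∈ H, ∃ c : Fˣ, ∀ i j,
    ((c : F) • ((B : Matrix (Fin n) (Fin n) F) * (h : Matrix (Fin n) (Fin n) F) *
      ((B⁻¹ : GL (Fin n) F) : Matrix (Fin n) (Fin n) F))) i j ∈ F₀

/-- every subgroup of `H` normalised by `H` is scalar or absolutely irreducible -/
def QP (H : Subgroup (GL (Fin n) F)) : Prop :=
  ∀ N : Subgroup (GL (Fin n) F), N ≤ H → NormBy H N → N ≤ scalars (Fin n) F ∨ AbsIrr N

/-- `L` modulo its scalars is simple: every subgroup of `L` normalised by `L` is scalar or `L` -/
def SimpleModScal (L : Subgroup (GL (Fin n) F)) : Prop :=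
  ∀ K : Subgroup (GL (Fin n) F), K ≤ L → NormBy L K → K ≤ scalars (Fin n) F ∨ K = L

end Cfsg.Agent.Lib.Helper7.Asch
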