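import Mathlib
import Cfsg.Prelude.Def_GeometricClasses

/-!
# S5664 (extension-field subgroup `Sp_{n/r}(q^r).r` is maximal in `Sp_n(q)`): basic definitions

Instance-free vocabulary over a general index type `ι`, modelled on `Helper17.ExtFDefs`.
`ρ : L →ₐ[F] Matrix ι ι F` is the embedded field, vectors are `ι → F`, `GL ι F` acts by
`act g v = g *ᵥ v`.  `f` is the alternating `F`-form, `B` the `L`-valued alternating form with
`f = τ ∘ B`.
-/

set_option autoImplicit false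

namespace Cfsg.Agent.Lib.Helper7.SpExt

open Matrix

variable {F : Type*} [Field F] {L : Type*} [Field L] [Algebra F L] {ι : Type} [Fintype ι]
  [DecidableEq ι]

/-- action of `GL` on column vectors -/
def act (g : GL ι F) (v : ι → F) : ι → F :=
  (g : Matrix ι ι F) *ᵥ v

@[simp] lemma act_one (v : ι → F) : act (1 : GL ι F) v = v := by
  simp [act]

@[simp] lemma act_mul (g h : GL ι F) (v : ι → F) : act (g * h) v = act g (act h v) := by
  simp [act, Matrix.mulVec_mulVec]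

@[simp] lemma act_inv_act (g : GL ι F) (v : ι → F) : act g⁻¹ (act g v) = v := by
  rw [← act_mul, inv_mul_cancel, act_one]

@[simp] lemma act_act_inv (g : GL ι F) (v : ι → F) : act g (act g⁻¹ v) = v := by
  rw [← act_mul, mul_inv_cancel, act_one]

lemma act_add (g : GL ι F) (v w : ι → F) : act g (v + w) = act g v + act g w := by
  simp [act, Matrix.mulVec_add]

lemma act_sub (g : GL ι F) (v w : ι → F) : act g (v - w) = act g v - act g w := by
  simp [act, Matrix.mulVec_sub]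

lemma act_neg (g : GL ι F) (v : ι → F) : act g (-v) = -act g v := by
  simp [act, Matrix.mulVec_neg]

@[simp] lemma act_zero (g : GL ι F) : act g (0 : ι → F) = 0 := by
  simp [act]

lemma act_smul (g : GL ι F) (c : F) (v : ι → F) : act g (c • v) = c • act g v := by
  simp [act, Matrix.mulVec_smul]

lemma act_injective (g : GL ι F) : Function.Injective (act g) := by
  intro v w h
  have := congrArg (act g⁻¹) h
  simpa using this

lemma act_eq_zero_iff (g : GL ι F) (v : ι → F) : act g v = 0 ↔ v = 0 := by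
  constructor
  · intro h
    exact act_injective g (by rw [h, act_zero])
  · rintro rfl; exact act_zero g

/-- a `GL` element is determined by its action -/
lemma gl_ext {g h : GL ι F} (H : ∀ v, act g v = act h v) : g = h := by
  apply Units.ext
  apply Matrix.toLin'.injective
  apply LinearMap.ext
  intro v
  simpa [act, Matrix.toLin'_apply] using H v

/-- the `F`-linear map underlying `g` -/
def actL (g : GL ι F) : (ι → F) →ₗ[F] (ι → F) :=
  Matrix.mulVecLin (g : Matrix ι ι F)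

@[simp] lemma actL_apply (g : GL ι F) (v : ι → F) : actL g v = act g v := rfl

/-- a pair of mutually inverse linear maps gives a `GL` element -/
lemma exists_gl (f f' : (ι → F) →ₗ[F] (ι → F)) (h₁ : ∀ v, f (f' v) = v)
    (h₂ : ∀ v, f' (f v) = v) :
    ∃ g : GL ι F, (∀ v, act g v = f v) ∧ (∀ v, act g⁻¹ v = f' v) := by
  have e1 : LinearMap.toMatrix' f * LinearMap.toMatrix' f' = 1 := by
    rw [← LinearMap.toMatrix'_comp, ← LinearMap.toMatrix'_id]
    congr 1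
    exact LinearMap.ext fun v => by simp [h₁]
  have e2 : LinearMap.toMatrix' f' * LinearMap.toMatrix' f = 1 := by
    rw [← LinearMap.toMatrix'_comp, ← LinearMap.toMatrix'_id]
    congr 1
    exact LinearMap.ext fun v => by simp [h₂]
  refine ⟨⟨LinearMap.toMatrix' f, LinearMap.toMatrix' f', e1, e2⟩, ?_, ?_⟩
  · intro v
    change LinearMap.toMatrix' f *ᵥ v = f v
    rw [← Matrix.toLin'_apply, Matrix.toLin'_toMatrix']
  · intro v
    change LinearMap.toMatrix' f' *ᵥ v = f' v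
    rw [← Matrix.toLin'_apply, Matrix.toLin'_toMatrix']

/-- the orbit map `a ↦ ρ a *ᵥ v` -/
def orb (ρ : L →ₐ[F] Matrix ι ι F) (v : ι → F) : L →ₗ[F] (ι → F) where
  toFun a := ρ a *ᵥ v
  map_add' a b := by rw [map_add, Matrix.add_mulVec]
  map_smul' c a := by rw [map_smul, Matrix.smul_mulVec, RingHom.id_apply]

@[simp] lemma orb_apply (ρ : L →ₐ[F] Matrix ι ι F) (v : ι → F) (a : L) :
    orb ρ v a = ρ a *ᵥ v := rfl

/-- the `L`-point of `v`, as an `F`-subspace -/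
def pt (ρ : L →ₐ[F] Matrix ι ι F) (v : ι → F) : Submodule F (ι → F) :=
  LinearMap.range (orb ρ v)

lemma mem_pt (ρ : L →ₐ[F] Matrix ι ι F) (v x : ι → F) :
    x ∈ pt ρ v ↔ ∃ a : L, ρ a *ᵥ v = x := Iff.rfl

lemma self_mem_pt (ρ : L →ₐ[F] Matrix ι ι F) (v : ι → F) : v ∈ pt ρ v :=
  ⟨1, by simp⟩

lemma smul_mem_pt (ρ : L →ₐ[F] Matrix ι ι F) (v : ι → F) (a : L) :
    ρ a *ᵥ v ∈ pt ρ v := ⟨a, rfl⟩

/-- the image under `g` of the `L`-point of `v` -/
def Img (ρ : L →ₐ[F] Matrix ι ι F) (g : GL ι F) (v : ι → F) : Submodule F (ι → F) :=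
  (pt ρ v).map (actL g)

lemma mem_Img (ρ : L →ₐ[F] Matrix ι ι F) (g : GL ι F) (v x : ι → F) :
    x ∈ Img ρ g v ↔ ∃ a : L, act g (ρ a *ᵥ v) = x := by
  constructor
  · rintro ⟨y, ⟨a, rfl⟩, rfl⟩
    exact ⟨a, rfl⟩
  · rintro ⟨a, rfl⟩
    exact ⟨ρ a *ᵥ v, ⟨a, rfl⟩, rfl⟩

lemma Img_one (ρ : L →ₐ[F] Matrix ι ι F) (v : ι → F) : Img ρ 1 v = pt ρ v := by
  ext x
  rw [mem_Img, mem_pt]
  simp

/-- `g` normalises the embedded field -/
def Normalizes (ρ : L →ₐ[F] Matrix ι ι F) (g : GL ι F) : Prop :=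
  ∀ a : L, ∃ b : L, (g : Matrix ι ι F) * ρ a = ρ b * (g : Matrix ι ι F)

lemma rho_mul_mulVec (ρ : L →ₐ[F] Matrix ι ι F) (a b : L) (v : ι → F) :
    ρ (a * b) *ᵥ v = ρ a *ᵥ (ρ b *ᵥ v) := by
  rw [map_mul, Matrix.mulVec_mulVec]

lemma rho_one_mulVec (ρ : L →ₐ[F] Matrix ι ι F) (v : ι → F) :
    ρ 1 *ᵥ v = v := by
  rw [map_one, Matrix.one_mulVec]

lemma rho_add_mulVec (ρ : L →ₐ[F] Matrix ι ι F) (a b : L) (v : ι → F) :
    ρ (a + b) *ᵥ v = ρ a *ᵥ v + ρ b *ᵥ v := by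
  rw [map_add, Matrix.add_mulVec]

lemma rho_sub_mulVec (ρ : L →ₐ[F] Matrix ι ι F) (a b : L) (v : ι → F) :
    ρ (a - b) *ᵥ v = ρ a *ᵥ v - ρ b *ᵥ v := by
  rw [map_sub, Matrix.sub_mulVec]

lemma rho_neg_mulVec (ρ : L →ₐ[F] Matrix ι ι F) (a : L) (v : ι → F) :
    ρ (-a) *ᵥ v = -(ρ a *ᵥ v) := by
  rw [map_neg, Matrix.neg_mulVec]

lemma rho_zero_mulVec (ρ : L →ₐ[F] Matrix ι ι F) (v : ι → F) :
    ρ 0 *ᵥ v = 0 := by
  rw [map_zero, Matrix.zero_mulVec]

lemma rho_algebraMap_mulVec (ρ : L →ₐ[F] Matrix ι ι F) (c : F) (v : ι → F) :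
    ρ (algebraMap F L c) *ᵥ v = c • v := by
  rw [AlgHom.commutes, Matrix.algebraMap_eq_diagonal]
  ext i
  simp [Matrix.mulVec_diagonal]

lemma rho_smul_mulVec (ρ : L →ₐ[F] Matrix ι ι F) (c : F) (a : L) (v : ι → F) :
    ρ (c • a) *ᵥ v = c • (ρ a *ᵥ v) := by
  rw [map_smul, Matrix.smul_mulVec]

/-- `x ↦ x + τ x • b` on `L` -/
def addRk (τ : L →ₗ[F] F) (b : L) : L →ₗ[F] L :=
  LinearMap.id + (LinearMap.toSpanSingleton F L b) ∘ₗ τ

@[simp] lemma addRk_apply (τ : L →ₗ[F] F) (b x : L) : addRk τ b x = x + τ x • b := by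
  simp [addRk]

/-! ## the symplectic structure -/

/-- `B` is a non-degenerate `L`-bilinear alternating form on `V = ι → F` (an `L`-space through `ρ`)
and `f = τ ∘ B`. -/
structure SpStr (ρ : L →ₐ[F] Matrix ι ι F) (f : (ι → F) →ₗ[F] (ι → F) →ₗ[F] F) (τ : L →ₗ[F] F)
    (B : (ι → F) →ₗ[F] (ι → F) →ₗ[F] L) : Prop where
  nondeg : ∀ v, v ≠ 0 → ∃ w, f v w ≠ 0
  lin : ∀ a v w, B (ρ a *ᵥ v) w = a * B v w
  alt : ∀ v, B v v = 0
  tr : ∀ v w, f v w = τ (B v w)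

/-- the isometry group of `f` -/
def isom (f : (ι → F) →ₗ[F] (ι → F) →ₗ[F] F) : Subgroup (GL ι F) where
  carrier := {g | ∀ v w, f (act g v) (act g w) = f v w}
  mul_mem' {a b} ha hb := by
    intro v w
    rw [act_mul, act_mul, ha, hb]
  one_mem' := by
    intro v w
    simp
  inv_mem' {a} ha := by
    intro v w
    have h := ha (act a⁻¹ v) (act a⁻¹ w)
    rw [act_act_inv, act_act_inv] at h
    exact h.symm

lemma mem_isom (f : (ι → F) →ₗ[F] (ι → F) →ₗ[F] F) (g : GL ι F) :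
    g ∈ isom f ↔ ∀ v w, f (act g v) (act g w) = f v w := Iff.rfl

/-- the group `Sp_L(B)` of `L`-linear isometries of `B` -/
def SpL (ρ : L →ₐ[F] Matrix ι ι F) (B : (ι → F) →ₗ[F] (ι → F) →ₗ[F] L) : Subgroup (GL ι F) where
  carrier := {g | (∀ a v, act g (ρ a *ᵥ v) = ρ a *ᵥ act g v) ∧
    ∀ v w, B (act g v) (act g w) = B v w}
  mul_mem' {a b} ha hb := by
    refine ⟨?_, ?_⟩
    · intro c v
      rw [act_mul, act_mul, hb.1, ha.1]
    · intro v w
      rw [act_mul, act_mul, ha.2, hb.2]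
  one_mem' := by
    refine ⟨?_, ?_⟩
    · intro c v
      simp
    · intro v w
      simp
  inv_mem' {a} ha := by
    refine ⟨?_, ?_⟩
    · intro c v
      apply act_injective a
      rw [ha.1, act_act_inv, act_act_inv]
    · intro v w
      have h := ha.2 (act a⁻¹ v) (act a⁻¹ w)
      rw [act_act_inv, act_act_inv] at h
      exact h.symm

lemma mem_SpL (ρ : L →ₐ[F] Matrix ι ι F) (B : (ι → F) →ₗ[F] (ι → F) →ₗ[F] L) (g : GL ι F) :
    g ∈ SpL ρ B ↔ (∀ a v, act g (ρ a *ᵥ v) = ρ a *ᵥ act g v) ∧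
      ∀ v w, B (act g v) (act g w) = B v w := Iff.rfl

/-- `g` is the `L`-transvection `v ↦ v + (a B(v,u)) u` -/
def IsRoot (ρ : L →ₐ[F] Matrix ι ι F) (B : (ι → F) →ₗ[F] (ι → F) →ₗ[F] L) (u : ι → F) (a : L)
    (g : GL ι F) : Prop :=
  ∀ v, act g v = v + ρ (a * B v u) *ᵥ u

/-- `g` is the `F`-transvection `v ↦ v + c f(v,u) u` -/
def IsTv (f : (ι → F) →ₗ[F] (ι → F) →ₗ[F] F) (u : ι → F) (c : F) (g : GL ι F) : Prop :=
  ∀ v, act g v = v + (c * f v u) • u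

/-- `H` contains a non-trivial `F`-transvection -/
def HasTv (f : (ι → F) →ₗ[F] (ι → F) →ₗ[F] F) (H : Subgroup (GL ι F)) : Prop :=
  ∃ (u : ι → F) (c : F), u ≠ 0 ∧ c ≠ 0 ∧ ∀ g : GL ι F, IsTv f u c g → g ∈ H

/-- a pair of `H`-images of `L`-points which meet non-trivially and are not perpendicular -/
def TPair (ρ : L →ₐ[F] Matrix ι ι F) (f : (ι → F) →ₗ[F] (ι → F) →ₗ[F] F) (H : Subgroup (GL ι F))
    (h h' : GL ι F) (v v' : ι → F) : Prop :=
  h ∈ H ∧ h' ∈ H ∧ v ≠ 0 ∧ v' ≠ 0 ∧ Img ρ h v ⊓ Img ρ h' v' ≠ ⊥ ∧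
    ∃ x ∈ Img ρ h v, ∃ y ∈ Img ρ h' v', f x y ≠ 0

/-- the configuration produced by the maximal-intersection argument: an `L`-point `pt ρ v₁` and
the image under `g₀ ∈ H` of an `L`-point, meeting in an `F`-hyperplane of both and not
perpendicular. -/
def Config (ρ : L →ₐ[F] Matrix ι ι F) (f : (ι → F) →ₗ[F] (ι → F) →ₗ[F] F) (H : Subgroup (GL ι F))
    (r : ℕ) (v₁ v₀ : ι → F) (g₀ : GL ι F) : Prop :=
  g₀ ∈ H ∧ v₁ ≠ 0 ∧ v₀ ≠ 0 ∧ Module.finrank F ↥(pt ρ v₁ ⊓ Img ρ g₀ v₀) + 1 = r ∧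
    ∃ x ∈ pt ρ v₁, ∃ y ∈ Img ρ g₀ v₀, f x y ≠ 0

/-- `H` contains the "Siegel element" `v ↦ v + g₀ (M (B (g₀⁻¹ v, v₀)) v₀)` attached to the
`F`-endomorphism `M` of `L` -/
def InM (ρ : L →ₐ[F] Matrix ι ι F) (B : (ι → F) →ₗ[F] (ι → F) →ₗ[F] L) (H : Subgroup (GL ι F))
    (g₀ : GL ι F) (v₀ : ι → F) (M : L →ₗ[F] L) : Prop :=
  ∀ g : GL ι F, (∀ v, act g v = v + act g₀ (ρ (M (B (act g₀⁻¹ v) v₀)) *ᵥ v₀)) → g ∈ H

/-- the conjugate `g ρ(c) g⁻¹` of a field element, as a matrix -/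
def conjE (ρ : L →ₐ[F] Matrix ι ι F) (g : GL ι F) (c : L) : Matrix ι ι F :=
  (g : Matrix ι ι F) * ρ c * ((g⁻¹ : GL ι F) : Matrix ι ι F)

lemma conjE_mulVec (ρ : L →ₐ[F] Matrix ι ι F) (g : GL ι F) (c : L) (v : ι → F) :
    conjE ρ g c *ᵥ v = act g (ρ c *ᵥ act g⁻¹ v) := by
  simp [conjE, act, Matrix.mulVec_mulVec, Matrix.mul_assoc]

/-- a field subalgebra of the matrix algebra, as a field -/
noncomputable abbrev fieldOf [Nonempty ι] {r : ℕ} (K : Subalgebra F (Matrix ι ι F))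
    (hK : Cfsg.Geo.IsFieldSubalgebra r K) : Field ↥K :=
  IsField.toField (R := ↥K)
    { exists_pair_ne := by
        refine ⟨0, 1, ?_⟩
        intro h
        have := congrArg Subtype.val h
        exact zero_ne_one this
      mul_comm := fun a b => Subtype.ext (hK.comm a a.2 b b.2)
      mul_inv_cancel := by
        intro a ha
        have ha' : (a : Matrix ι ι F) ≠ 0 := fun h => ha (Subtype.ext h)
        obtain ⟨y, hy, hxy⟩ := hK.inv a a.2 ha'
        exact ⟨⟨y, hy⟩, Subtype.ext hxy⟩ }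

end Cfsg.Agent.Lib.Helper7.SpExt
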