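import Mathlib
import Cfsg.Agent.Lib.Helper7.SpExtDefs

/-!
# S5664 FO-BASa: basic facts on `SpStr`
-/

set_option autoImplicit false

namespace Cfsg.Agent.Lib.Helper7.SpExt

open Matrix Module

variable {F : Type*} [Field F] {L : Type*} [Field L] [Algebra F L] {ι : Type} [Fintype ι]
  [DecidableEq ι] {ρ : L →ₐ[F] Matrix ι ι F} {f : (ι → F) →ₗ[F] (ι → F) →ₗ[F] F} {τ : L →ₗ[F] F}
  {B : (ι → F) →ₗ[F] (ι → F) →ₗ[F] L}

theorem B_skew (S : SpStr ρ f τ B) (v w : ι → F) : B v w = -B w v := by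
  have h := S.alt (v + w)
  simp only [map_add, LinearMap.add_apply, S.alt, zero_add, add_zero] at h
  exact eq_neg_of_add_eq_zero_right h

theorem B_lin_right (S : SpStr ρ f τ B) (a : L) (v w : ι → F) :
    B v (ρ a *ᵥ w) = a * B v w := by
  rw [B_skew S, S.lin, B_skew S w v]
  ring

theorem f_alt (S : SpStr ρ f τ B) (v : ι → F) : f v v = 0 := by
  rw [S.tr, S.alt, map_zero]

theorem f_skew (S : SpStr ρ f τ B) (v w : ι → F) : f v w = -f w v := by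
  rw [S.tr, S.tr, B_skew S, map_neg]

theorem f_rho_left (S : SpStr ρ f τ B) (a : L) (v w : ι → F) :
    f (ρ a *ᵥ v) w = τ (a * B v w) := by
  rw [S.tr, S.lin]

theorem f_rho_right (S : SpStr ρ f τ B) (a : L) (v w : ι → F) :
    f v (ρ a *ᵥ w) = τ (a * B v w) := by
  rw [S.tr, B_lin_right S]

theorem tau_ne (S : SpStr ρ f τ B) {v : ι → F} (hv : v ≠ 0) : τ ≠ 0 := by
  obtain ⟨w, hw⟩ := S.nondeg v hv
  intro h
  apply hw
  rw [S.tr, h, LinearMap.zero_apply]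

theorem tau_sep {τ : L →ₗ[F] F} (hτ : τ ≠ 0) (x : L) (h : ∀ c, τ (c * x) = 0) : x = 0 := by
  by_contra hx
  apply hτ
  apply LinearMap.ext
  intro y
  have := h (y * x⁻¹)
  rw [mul_assoc, inv_mul_cancel₀ hx, mul_one] at this
  rw [this, LinearMap.zero_apply]

theorem B_nondeg (S : SpStr ρ f τ B) {v : ι → F} (hv : v ≠ 0) : ∃ w, B v w = 1 := by
  obtain ⟨w₀, hw₀⟩ := S.nondeg v hv
  have hb : B v w₀ ≠ 0 := by
    intro h
    apply hw₀
    rw [S.tr, h, map_zero]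
  refine ⟨ρ (B v w₀)⁻¹ *ᵥ w₀, ?_⟩
  rw [B_lin_right S, inv_mul_cancel₀ hb]

theorem SpL_le_isom (S : SpStr ρ f τ B) : SpL ρ B ≤ isom f := by
  intro g hg v w
  rw [S.tr, S.tr, hg.2]

theorem Img_isotropic (S : SpStr ρ f τ B) {g : GL ι F} (hg : g ∈ isom f) (v : ι → F) :
    ∀ x ∈ Img ρ g v, ∀ y ∈ Img ρ g v, f x y = 0 := by
  intro x hx y hy
  rw [mem_Img] at hx hy
  obtain ⟨a, rfl⟩ := hx
  obtain ⟨b, rfl⟩ := hy
  rw [hg, f_rho_left S, B_lin_right S, S.alt, mul_zero, mul_zero, map_zero]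

end Cfsg.Agent.Lib.Helper7.SpExt
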