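import Mathlib
import Cfsg.Agent.Lib.Helper9.SURUDefs

/-!
# S2282 farm-out (architect helper9): FO-A12 (`av_Dp_*`, `av_uh_*`) and FO-A3 (`av_Wp_*`)
-/

set_option autoImplicit false
set_option linter.unusedSectionVars false
set_option linter.unusedVariables false

namespace Cfsg.Agent.Lib.Helper7.SURU

open Matrix Cfsg.Agent.Lib.Helper6 Cfsg.Agent.S0779 Cfsg.Agent.S0781
open Cfsg.Agent.Lib.Helper6.SUG Cfsg.Agent.Lib.Helper13 Cfsg.Agent.Lib.Helper9.SUGen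
open Cfsg.Agent.Lib.Helper9.SURU

section A
variable {F : Type*} [Field F] [Fintype F] {q n m : ℕ}

local notation "hh" => Cfsg.hermForm n F q

variable (hF : Fintype.card F = q ^ 2) (𝔉 : Frm F q n m)

/-- `av g⁻¹ x = y` follows from `av g y = x` -/
theorem av_inv_eq_of {g : ↥(Cfsg.SU n F q)} {x y : Fin n → F} (h : av g y = x) : av g⁻¹ x = y := by
  rw [← h, av_inv_av]

include hF in
theorem neg_one_pow_q : ((-1 : F)) ^ q = -1 := by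
  rw [neg_pow_q hF, one_pow]

/-- the action of `sT k` -/
theorem av_sT (k : ℕ) (x : Fin n → F) :
    av (sT hF 𝔉 k) x = x - hh x (𝔉.e (k + 1)) • 𝔉.f k + hh x (𝔉.f k) • 𝔉.e (k + 1) := by
  unfold sT
  rw [av_sg, neg_one_pow_q hF]
  module

theorem av_sT_e (k i : ℕ) :
    av (sT hF 𝔉 k) (𝔉.e i) = if i = k then 𝔉.e i + 𝔉.e (i + 1) else 𝔉.e i := by
  rw [av_sT, 𝔉.hee, 𝔉.hef]
  by_cases hik : i = k
  · subst hik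
    rw [if_pos rfl]
    by_cases him : i < m
    · rw [if_pos ⟨rfl, him⟩]; module
    · rw [if_neg (fun h => him h.2), 𝔉.e_junk (i + 1) (by omega)]; module
  · rw [if_neg hik, if_neg (fun h => hik h.1)]; module

theorem av_sT_f (k i : ℕ) (hik : i ≠ k + 1) : av (sT hF 𝔉 k) (𝔉.f i) = 𝔉.f i := by
  rw [av_sT, 𝔉.hff, 𝔉.hfe hF, if_neg (fun h => hik h.1)]; module

theorem av_sT_f_succ (k : ℕ) (hk : k + 1 < m) :
    av (sT hF 𝔉 k) (𝔉.f (k + 1)) = 𝔉.f (k + 1) - 𝔉.f k := by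
  rw [av_sT, 𝔉.hff, 𝔉.hfe hF, if_pos ⟨rfl, hk⟩]; module

theorem av_sT_w (k : ℕ) : av (sT hF 𝔉 k) 𝔉.w = 𝔉.w := by
  rw [av_sT, 𝔉.hwe hF, 𝔉.hwf hF]; module

/-! ### A1: the Siegel chain `Dp` -/

theorem av_Dp_e (k i : ℕ) :
    av (Dp hF 𝔉 k) (𝔉.e i) = if i < k then 𝔉.e i + 𝔉.e (i + 1) else 𝔉.e i := by
  induction k generalizing i with
  | zero => simp [Dp, av_one]
  | succ k ih =>
    show av (Dp hF 𝔉 k * sT hF 𝔉 k) (𝔉.e i) = _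
    rw [av_mul, av_sT_e]
    by_cases hik : i = k
    · subst hik
      rw [if_pos rfl, av_add, ih, ih, if_neg (lt_irrefl _), if_neg (by omega), if_pos (by omega)]
    · rw [if_neg hik, ih]
      by_cases h : i < k
      · rw [if_pos h, if_pos (by omega)]
      · rw [if_neg h, if_neg (by omega)]

theorem av_Dp_f_of_lt (k i : ℕ) (hik : k < i) : av (Dp hF 𝔉 k) (𝔉.f i) = 𝔉.f i := by
  induction k with
  | zero => simp [Dp, av_one]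
  | succ k ih =>
    show av (Dp hF 𝔉 k * sT hF 𝔉 k) (𝔉.f i) = _
    rw [av_mul, av_sT_f hF 𝔉 k i (by omega), ih (by omega)]

theorem av_Dp_f0 (k : ℕ) : av (Dp hF 𝔉 k) (𝔉.f 0) = 𝔉.f 0 := by
  induction k with
  | zero => simp [Dp, av_one]
  | succ k ih =>
    show av (Dp hF 𝔉 k * sT hF 𝔉 k) (𝔉.f 0) = _
    rw [av_mul, av_sT_f hF 𝔉 k 0 (by omega), ih]

theorem av_Dp_w (k : ℕ) : av (Dp hF 𝔉 k) 𝔉.w = 𝔉.w := by
  induction k with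
  | zero => simp [Dp, av_one]
  | succ k ih =>
    show av (Dp hF 𝔉 k * sT hF 𝔉 k) 𝔉.w = _
    rw [av_mul, av_sT_w, ih]

theorem av_Dp_f1 (hm : 1 < m) (k : ℕ) (hk : 1 ≤ k) :
    av (Dp hF 𝔉 k) (𝔉.f 1) = 𝔉.f 1 - 𝔉.f 0 := by
  induction k with
  | zero => omega
  | succ k ih =>
    show av (Dp hF 𝔉 k * sT hF 𝔉 k) (𝔉.f 1) = _
    rw [av_mul]
    by_cases hk0 : k = 0
    · subst hk0
      rw [av_sT_f_succ hF 𝔉 0 hm]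
      simp [Dp, av_one]
    · rw [av_sT_f hF 𝔉 k 1 (by omega), ih (by omega)]

theorem av_Dp_inv_f (k j : ℕ) (hj : j + 1 ≤ k) (hjm : j + 1 < m) :
    av (Dp hF 𝔉 k)⁻¹ (𝔉.f (j + 1)) = 𝔉.f (j + 1) + 𝔉.f j := by
  induction k with
  | zero => omega
  | succ k ih =>
    show av (Dp hF 𝔉 k * sT hF 𝔉 k)⁻¹ (𝔉.f (j + 1)) = _
    rw [_root_.mul_inv_rev, av_mul]
    by_cases hjk : j = k
    · subst hjk
      rw [av_inv_eq_of (av_Dp_f_of_lt hF 𝔉 j (j + 1) (by omega))]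
      apply av_inv_eq_of
      rw [av_add, av_sT_f_succ hF 𝔉 j hjm, av_sT_f hF 𝔉 j j (by omega)]
      module
    · rw [ih (by omega)]
      apply av_inv_eq_of
      rw [av_add, av_sT_f hF 𝔉 k (j + 1) (by omega), av_sT_f hF 𝔉 k j (by omega)]

/-! ### A2: the regular unipotent element `uh = Dp m * E0 t d` -/

theorem av_E0 (t d : F) (hd : HP q t d) (x : Fin n → F) :
    av (E0 hF 𝔉 t d) x =
      x + hh x (𝔉.e 0) • (t • 𝔉.w - d • 𝔉.e 0) - (t ^ q * hh x 𝔉.w) • 𝔉.e 0 := by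
  unfold E0
  rw [av_hsT hF _ _ _ _ _ t d hd]

theorem av_uh_e (t d : F) (hd : HP q t d) (i : ℕ) :
    av (uh hF 𝔉 t d) (𝔉.e i) = 𝔉.e i + 𝔉.e (i + 1) := by
  unfold uh
  rw [av_mul, av_E0 hF 𝔉 t d hd, 𝔉.hee, 𝔉.hew]
  have : 𝔉.e i + (0 : F) • (t • 𝔉.w - d • 𝔉.e 0) - (t ^ q * 0) • 𝔉.e 0 = 𝔉.e i := by module
  rw [this, av_Dp_e]
  by_cases h : i < m
  · rw [if_pos h]
  · rw [if_neg h, 𝔉.e_junk (i + 1) (by omega), add_zero]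

theorem av_uh_w (hm : 0 < m) (t d : F) (hd : HP q t d) :
    av (uh hF 𝔉 t d) 𝔉.w = 𝔉.w - t ^ q • (𝔉.e 0 + 𝔉.e 1) := by
  unfold uh
  rw [av_mul, av_E0 hF 𝔉 t d hd, 𝔉.hwe hF, 𝔉.hww]
  have : 𝔉.w + (0 : F) • (t • 𝔉.w - d • 𝔉.e 0) - (t ^ q * 1) • 𝔉.e 0 = 𝔉.w - t ^ q • 𝔉.e 0 := by
    module
  rw [this, av_sub, av_smul, av_Dp_w, av_Dp_e, if_pos hm]

theorem av_uh_f0 (hm : 0 < m) (t d : F) (hd : HP q t d) :
    av (uh hF 𝔉 t d) (𝔉.f 0) = 𝔉.f 0 + t • 𝔉.w - d • (𝔉.e 0 + 𝔉.e 1) := by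
  unfold uh
  rw [av_mul, av_E0 hF 𝔉 t d hd, 𝔉.hfe hF, if_pos ⟨rfl, hm⟩, 𝔉.hfw]
  have : 𝔉.f 0 + (1 : F) • (t • 𝔉.w - d • 𝔉.e 0) - (t ^ q * 0) • 𝔉.e 0
      = 𝔉.f 0 + t • 𝔉.w - d • 𝔉.e 0 := by module
  rw [this, av_sub, av_add, av_smul, av_smul, av_Dp_w, av_Dp_f0, av_Dp_e, if_pos hm]

theorem av_E0_f (t d : F) (hd : HP q t d) (i : ℕ) (hi : i ≠ 0) :
    av (E0 hF 𝔉 t d) (𝔉.f i) = 𝔉.f i := by
  rw [av_E0 hF 𝔉 t d hd, 𝔉.hfe hF, if_neg (fun h => hi h.1), 𝔉.hfw]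
  module

theorem av_uh_f1 (hm : 1 < m) (t d : F) (hd : HP q t d) :
    av (uh hF 𝔉 t d) (𝔉.f 1) = 𝔉.f 1 - 𝔉.f 0 := by
  unfold uh
  rw [av_mul, av_E0_f hF 𝔉 t d hd 1 one_ne_zero, av_Dp_f1 hF 𝔉 hm m (by omega)]

theorem av_uh_inv_w (hm : 0 < m) (t d : F) (hd : HP q t d) :
    av (uh hF 𝔉 t d)⁻¹ 𝔉.w = 𝔉.w + t ^ q • 𝔉.e 0 := by
  apply av_inv_eq_of
  rw [av_add, av_smul, av_uh_w hF 𝔉 hm t d hd, av_uh_e hF 𝔉 t d hd]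
  module

theorem av_uh_inv_f0 (hm : 0 < m) (t d : F) (hd : HP q t d) :
    av (uh hF 𝔉 t d)⁻¹ (𝔉.f 0) = 𝔉.f 0 - t • 𝔉.w - d ^ q • 𝔉.e 0 := by
  apply av_inv_eq_of
  rw [av_sub, av_sub, av_smul, av_smul, av_uh_w hF 𝔉 hm t d hd, av_uh_e hF 𝔉 t d hd,
    av_uh_f0 hF 𝔉 hm t d hd]
  have hd' : d + d ^ q = t * t ^ q := hd
  have h2 : d ^ q = t * t ^ q - d := by rw [← hd']; ring
  rw [h2]
  module

theorem av_uh_inv_f1 (hm : 1 < m) (t d : F) (hd : HP q t d) :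
    av (uh hF 𝔉 t d)⁻¹ (𝔉.f 1) = 𝔉.f 1 + 𝔉.f 0 - t • 𝔉.w - d ^ q • 𝔉.e 0 := by
  have h0 := av_uh_inv_f0 hF 𝔉 (by omega : 0 < m) t d hd
  apply av_inv_eq_of
  have e1 : 𝔉.f 1 + 𝔉.f 0 - t • 𝔉.w - d ^ q • 𝔉.e 0
      = 𝔉.f 1 + (𝔉.f 0 - t • 𝔉.w - d ^ q • 𝔉.e 0) := by module
  rw [e1, av_add, av_uh_f1 hF 𝔉 hm t d hd, ← h0, av_av_inv]
  module

theorem av_uh_inv_f (t d : F) (hd : HP q t d) (j : ℕ) (hj : j + 2 < m) :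
    av (uh hF 𝔉 t d)⁻¹ (𝔉.f (j + 2)) = 𝔉.f (j + 2) + 𝔉.f (j + 1) := by
  unfold uh
  rw [_root_.mul_inv_rev, av_mul, av_Dp_inv_f hF 𝔉 m (j + 1) (by omega) (by omega)]
  apply av_inv_eq_of
  rw [av_add, av_E0_f hF 𝔉 t d hd (j + 1 + 1) (by omega), av_E0_f hF 𝔉 t d hd (j + 1) (by omega)]

end A

end Cfsg.Agent.Lib.Helper7.SURU
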