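import Mathlib
import Cfsg.Agent.Lib.Helper9.SURUDefs
import Cfsg.Agent.Lib.Helper7.SURUA12

/-!
# S2282 farm-out (architect helper9): FO-A3 (`av_Wp_*`)
-/

set_option autoImplicit false
set_option linter.unusedSectionVars false
set_option linter.unusedVariables false

namespace Cfsg.Agent.Lib.Helper7.SURU

open Matrix Cfsg.Agent.Lib.Helper6 Cfsg.Agent.S0779 Cfsg.Agent.S0781
open Cfsg.Agent.Lib.Helper6.SUG Cfsg.Agent.Lib.Helper13 Cfsg.Agent.Lib.Helper9.SUGen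
open Cfsg.Agent.Lib.Helper9.SURU

section A
variable {F : Type*} [Field F] [Fintype F] {q n m : ℕ}

local notation "hh" => Cfsg.hermForm n F q

variable (hF : Fintype.card F = q ^ 2) (𝔉 : Frm F q n m)

theorem av_eq_of_zero {n : ℕ} (g : ↥(Cfsg.SU n F q)) (x y : Fin n → F) (hx : x = 0) (hy : y = 0) :
    av g x = y := by
  subst hx; subst hy; exact av_zero g

/-- the action of the `k`-th Weyl element on the frame -/
theorem av_wlk_e (κ : F) (hκ : κ ^ q = -κ) (hκ0 : κ ≠ 0) (k i : ℕ) :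
    av (wl hF (𝔉.e k) (𝔉.f k) (𝔉.hee k k) (𝔉.hff k k) κ hκ) (𝔉.e i) =
      if i = k then (-κ⁻¹) • 𝔉.f i else 𝔉.e i := by
  by_cases hik : i = k
  · subst hik
    rw [if_pos rfl]
    by_cases him : i < m
    · exact av_wl_e hF _ _ _ _ (𝔉.hef_same him) κ hκ hκ0
    · exact av_eq_of_zero _ _ _ (𝔉.e_junk i (by omega))
        (by rw [𝔉.f_junk i (by omega), smul_zero])
  · rw [if_neg hik]
    exact av_wl_fix hF _ _ _ _ κ hκ _ (𝔉.hee i k) (𝔉.hef_ne hik)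

theorem av_wlk_f (κ : F) (hκ : κ ^ q = -κ) (hκ0 : κ ≠ 0) (k i : ℕ) :
    av (wl hF (𝔉.e k) (𝔉.f k) (𝔉.hee k k) (𝔉.hff k k) κ hκ) (𝔉.f i) =
      if i = k then κ • 𝔉.e i else 𝔉.f i := by
  by_cases hik : i = k
  · subst hik
    rw [if_pos rfl]
    by_cases him : i < m
    · exact av_wl_f hF _ _ _ _ (𝔉.hef_same him) κ hκ hκ0
    · exact av_eq_of_zero _ _ _ (𝔉.f_junk i (by omega))
        (by rw [𝔉.e_junk i (by omega), smul_zero])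
  · rw [if_neg hik]
    refine av_wl_fix hF _ _ _ _ κ hκ _ ?_ (𝔉.hff i k)
    rw [𝔉.hfe hF, if_neg (fun h => hik h.1)]

theorem av_wlk_w (κ : F) (hκ : κ ^ q = -κ) (k : ℕ) :
    av (wl hF (𝔉.e k) (𝔉.f k) (𝔉.hee k k) (𝔉.hff k k) κ hκ) 𝔉.w = 𝔉.w :=
  av_wl_fix hF _ _ _ _ κ hκ _ (𝔉.hwe hF k) (𝔉.hwf hF k)

/-! ### A3: the Weyl product `Wp` -/

theorem av_Wp_ef (κ : F) (hκ : κ ^ q = -κ) (hκ0 : κ ≠ 0) (k : ℕ) :
    (∀ i, av (Wp hF 𝔉 κ hκ k) (𝔉.e i) = if i < k then (-κ⁻¹) • 𝔉.f i else 𝔉.e i) ∧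
    (∀ i, av (Wp hF 𝔉 κ hκ k) (𝔉.f i) = if i < k then κ • 𝔉.e i else 𝔉.f i) := by
  induction k with
  | zero => simp [Wp, av_one]
  | succ k ih =>
    obtain ⟨ihe, ihf⟩ := ih
    constructor
    · intro i
      show av (Wp hF 𝔉 κ hκ k * wl hF (𝔉.e k) (𝔉.f k) (𝔉.hee k k) (𝔉.hff k k) κ hκ) (𝔉.e i) = _
      rw [av_mul, av_wlk_e hF 𝔉 κ hκ hκ0]
      by_cases hik : i = k
      · subst hik
        rw [if_pos rfl, av_smul, ihf, if_neg (lt_irrefl _), if_pos (by omega)]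
      · rw [if_neg hik, ihe]
        by_cases h : i < k
        · rw [if_pos h, if_pos (by omega)]
        · rw [if_neg h, if_neg (by omega)]
    · intro i
      show av (Wp hF 𝔉 κ hκ k * wl hF (𝔉.e k) (𝔉.f k) (𝔉.hee k k) (𝔉.hff k k) κ hκ) (𝔉.f i) = _
      rw [av_mul, av_wlk_f hF 𝔉 κ hκ hκ0]
      by_cases hik : i = k
      · subst hik
        rw [if_pos rfl, av_smul, ihe, if_neg (lt_irrefl _), if_pos (by omega)]
      · rw [if_neg hik, ihf]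
        by_cases h : i < k
        · rw [if_pos h, if_pos (by omega)]
        · rw [if_neg h, if_neg (by omega)]

theorem av_Wp_e (κ : F) (hκ : κ ^ q = -κ) (hκ0 : κ ≠ 0) (k i : ℕ) :
    av (Wp hF 𝔉 κ hκ k) (𝔉.e i) = if i < k then (-κ⁻¹) • 𝔉.f i else 𝔉.e i :=
  (av_Wp_ef hF 𝔉 κ hκ hκ0 k).1 i

theorem av_Wp_f (κ : F) (hκ : κ ^ q = -κ) (hκ0 : κ ≠ 0) (k i : ℕ) :
    av (Wp hF 𝔉 κ hκ k) (𝔉.f i) = if i < k then κ • 𝔉.e i else 𝔉.f i :=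
  (av_Wp_ef hF 𝔉 κ hκ hκ0 k).2 i

theorem av_Wp_w (κ : F) (hκ : κ ^ q = -κ) (k : ℕ) :
    av (Wp hF 𝔉 κ hκ k) 𝔉.w = 𝔉.w := by
  induction k with
  | zero => simp [Wp, av_one]
  | succ k ih =>
    show av (Wp hF 𝔉 κ hκ k * wl hF (𝔉.e k) (𝔉.f k) (𝔉.hee k k) (𝔉.hff k k) κ hκ) 𝔉.w = _
    rw [av_mul, av_wlk_w, ih]

theorem av_Wp_inv_e (κ : F) (hκ : κ ^ q = -κ) (hκ0 : κ ≠ 0) (k i : ℕ) :
    av (Wp hF 𝔉 κ hκ k)⁻¹ (𝔉.e i) = if i < k then κ⁻¹ • 𝔉.f i else 𝔉.e i := by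
  apply av_inv_eq_of
  by_cases h : i < k
  · rw [if_pos h, av_smul, av_Wp_f hF 𝔉 κ hκ hκ0, if_pos h, smul_smul, inv_mul_cancel₀ hκ0,
      one_smul]
  · rw [if_neg h, av_Wp_e hF 𝔉 κ hκ hκ0, if_neg h]

theorem av_Wp_inv_f (κ : F) (hκ : κ ^ q = -κ) (hκ0 : κ ≠ 0) (k i : ℕ) :
    av (Wp hF 𝔉 κ hκ k)⁻¹ (𝔉.f i) = if i < k then (-κ) • 𝔉.e i else 𝔉.f i := by
  apply av_inv_eq_of
  by_cases h : i < k
  · rw [if_pos h, av_smul, av_Wp_e hF 𝔉 κ hκ hκ0, if_pos h, smul_smul]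
    have : -κ * -κ⁻¹ = 1 := by field_simp
    rw [this, one_smul]
  · rw [if_neg h, av_Wp_f hF 𝔉 κ hκ hκ0, if_neg h]

end A

end Cfsg.Agent.Lib.Helper7.SURU
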