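import Mathlib

set_option autoImplicit false

namespace Cfsg.Agent.Lib.Helper7

open MulAction

/-- If a group acts on a finite type, fixing `x₀`, and every other orbit has size divisible by `m`,
then the size of the type is `1` modulo `m`. -/
theorem card_modEq_one_of_orbits {P X : Type*} [Group P] [MulAction P X] [Finite X] (m : ℕ) (x₀ : X)
    (hfix : ∀ g : P, g • x₀ = x₀)
    (hdiv : ∀ x : X, x ≠ x₀ → m ∣ Nat.card (MulAction.orbit P x)) :
    Nat.card X ≡ 1 [MOD m] := by
  classical
  have : Fintype X := Fintype.ofFinite X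
  have : Fintype (orbitRel.Quotient P X) := Fintype.ofFinite _
  have h1 : Nat.card X = ∑ ω : orbitRel.Quotient P X, Nat.card ω.orbit := by
    rw [Nat.card_congr (selfEquivSigmaOrbits' P X), Nat.card_sigma]
  let ω₀ : orbitRel.Quotient P X := Quotient.mk'' x₀
  have h2 : Nat.card ω₀.orbit = 1 := by
    have : ω₀.orbit = {x₀} := by
      rw [orbitRel.Quotient.orbit_mk]
      ext y
      simp only [Set.mem_singleton_iff]
      constructor
      · rintro ⟨g, rfl⟩
        exact hfix g
      · rintro rfl
        exact mem_orbit_self _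
    rw [this]
    simp
  have h3 : ∀ ω : orbitRel.Quotient P X, ω ≠ ω₀ → m ∣ Nat.card ω.orbit := by
    intro ω hω
    induction ω using Quotient.inductionOn' with
    | h x =>
      rw [orbitRel.Quotient.orbit_mk]
      apply hdiv
      rintro rfl
      exact hω rfl
  have h4 : m ∣ ∑ ω ∈ Finset.univ.erase ω₀, Nat.card ω.orbit := by
    apply Finset.dvd_sum
    intro ω hω
    exact h3 ω (Finset.ne_of_mem_erase hω)
  obtain ⟨c, hc⟩ := h4
  have h5 : Nat.card X = 1 + m * c := by
    rw [h1, ← Finset.add_sum_erase Finset.univ _ (Finset.mem_univ ω₀), h2, hc]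
  rw [h5]
  unfold Nat.ModEq
  rw [Nat.add_mul_mod_self_left]

end Cfsg.Agent.Lib.Helper7
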