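import Mathlib

set_option autoImplicit false

namespace Cfsg.Agent.Lib.Helper7

open MulAction

/-- If `m` divides the size of every orbit then `m` divides the size of the set. -/
theorem dvd_card_of_dvd_orbits {P X : Type*} [Group P] [MulAction P X] [Finite X] (m : ℕ)
    (hdiv : ∀ x : X, m ∣ Nat.card (MulAction.orbit P x)) : m ∣ Nat.card X := by
  classical
  have : Fintype X := Fintype.ofFinite X
  have : Fintype (orbitRel.Quotient P X) := Fintype.ofFinite _
  have h1 : Nat.card X = ∑ ω : orbitRel.Quotient P X, Nat.card ω.orbit := by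
    rw [Nat.card_congr (selfEquivSigmaOrbits' P X), Nat.card_sigma]
  rw [h1]
  apply Finset.dvd_sum
  intro ω _
  induction ω using Quotient.inductionOn' with
  | h x =>
    rw [orbitRel.Quotient.orbit_mk]
    exact hdiv x

/-- orbit-stabilizer with `Nat.card` -/
theorem card_orbit_mul_card_stabilizer {P X : Type*} [Group P] [MulAction P X] [Finite P] (x : X) :
    Nat.card (MulAction.orbit P x) * Nat.card (MulAction.stabilizer P x) = Nat.card P := by
  rw [Nat.card_congr (MulAction.orbitEquivQuotientStabilizer P x), ← Subgroup.index_eq_card,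
    Subgroup.index_mul_card]

/-- The order of a `p`-subgroup divides the order of a Sylow `p`-subgroup. -/
theorem card_dvd_card_sylow_of_isPGroup {K : Type*} [Group K] [Finite K] {p : ℕ} [Fact p.Prime]
    (Q : Subgroup K) (hQ : IsPGroup p Q) (S : Sylow p K) : Nat.card Q ∣ Nat.card S := by
  obtain ⟨R, hR⟩ := hQ.exists_le_sylow
  have h1 : Nat.card Q ∣ Nat.card (R : Subgroup K) := Subgroup.card_dvd_of_le hR
  rwa [Sylow.card_eq_multiplicity, ← Sylow.card_eq_multiplicity S] at h1

/-- Centralizers of conjugate elements have the same order. -/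
theorem card_centralizer_eq_of_isConj {G : Type*} [Group G] {g y : G} (h : IsConj g y) :
    Nat.card (Subgroup.centralizer ({y} : Set G)) = Nat.card (Subgroup.centralizer ({g} : Set G)) := by
  obtain ⟨c, rfl⟩ := isConj_iff.mp h
  apply Nat.card_congr
  refine
    { toFun := fun x => ⟨c⁻¹ * x.1 * c, ?_⟩
      invFun := fun x => ⟨c * x.1 * c⁻¹, ?_⟩
      left_inv := fun x => Subtype.ext (by simp [mul_assoc])
      right_inv := fun x => Subtype.ext (by simp [mul_assoc]) }
  · have := Subgroup.mem_centralizer_iff.mp x.2 (c * g * c⁻¹) rfl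
    rw [Subgroup.mem_centralizer_iff]
    intro w hw
    rw [Set.mem_singleton_iff] at hw
    subst hw
    calc w * (c⁻¹ * x.1 * c) = c⁻¹ * ((c * w * c⁻¹) * x.1) * c := by group
      _ = c⁻¹ * (x.1 * (c * w * c⁻¹)) * c := by rw [this]
      _ = c⁻¹ * x.1 * c * w := by group
  · have := Subgroup.mem_centralizer_iff.mp x.2 g rfl
    rw [Subgroup.mem_centralizer_iff]
    intro w hw
    rw [Set.mem_singleton_iff] at hw
    subst hw
    calc c * g * c⁻¹ * (c * x.1 * c⁻¹) = c * (g * x.1) * c⁻¹ := by group
      _ = c * (x.1 * g) * c⁻¹ := by rw [this]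
      _ = c * x.1 * c⁻¹ * (c * g * c⁻¹) := by group

end Cfsg.Agent.Lib.Helper7
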