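import Mathlib
import Cfsg.Prelude.Def_Blocks
import Cfsg.Agent.Lib.Helper2.Completeness
import Cfsg.Agent.Lib.Helper7.BrauerIdem
import Cfsg.Agent.Lib.Helper7.RestrictMult
import Cfsg.Agent.Lib.Helper7.PPart2
import Cfsg.Agent.Lib.Helper24.BrauerGood
import Cfsg.Agent.Lib.Helper24.BrauerPairs
import Cfsg.Agent.Lib.Helper24.OverNormalizer
import Cfsg.Agent.Lib.Helper24.BlockOrtho

/-!
# Towards Brauer's second main theorem (helper7 library)

* `conv_assoc`, `conv_comm_of_isClassFunction_right`, `conv_idem_of_central`: convolution algebra.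
* `exists_conv_inverse`: `1 + m` is invertible when `m` has coefficients in the local ideal.
* `exists_twist_conj`: a twisting function for conjugation by `h` off `C_G(h_p)`.
* `conv_blockCoeff_memLocalIdeal_of_ne` (KEY): for `b^G = B ≠ B'`, `P ≤ H`, `C_G(P) ≤ H`, the
  idempotent `e_b e_{B'}` is killed by the Brauer map at `P`.
* `repSum` lemmas and `trace_eq_zero_of_twist_unit`.
* `sum_blockCoeff_mul_irr_eq_zero`: Isaacs' Lemma 15.47: `χ(f_b h) = 0` for `χ ∉ b^G` and
  `C_G(h_p) ≤ H`.
-/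

set_option autoImplicit false

namespace Cfsg.Agent.Lib.Helper7

open Cfsg.Agent.Lib.Helper2 Cfsg.Agent.Lib.Helper24
open scoped ComplexConjugate

section ConvAlgebra

variable {G : Type*} [Group G] [Fintype G]

theorem conv_assoc (a b c : G → ℂ) : conv (conv a b) c = conv a (conv b c) := by
  ext g
  simp only [conv_apply, Finset.sum_mul, Finset.mul_sum]
  rw [Finset.sum_comm]
  apply Finset.sum_congr rfl
  intro h _
  rw [← Equiv.sum_comp (Equiv.mulLeft h)]
  apply Finset.sum_congr rfl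
  intro k _
  simp only [Equiv.coe_mulLeft]
  have e1 : h⁻¹ * (h * k) = k := by group
  have e2 : (h * k)⁻¹ * g = k⁻¹ * (h⁻¹ * g) := by group
  rw [e1, e2, mul_assoc]

/-- class functions are central for convolution -/
theorem conv_comm_of_isClassFunction_right (a f : G → ℂ) (hf : Cfsg.IsClassFunction G f) :
    conv a f = conv f a := by
  symm
  ext g
  rw [conv_apply, conv_apply]
  rw [← Equiv.sum_comp ((Equiv.inv G).trans (Equiv.mulLeft g))]
  apply Finset.sum_congr rfl
  intro h _
  simp only [Equiv.trans_apply, Equiv.inv_apply, Equiv.coe_mulLeft]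
  have e1 : (g * h⁻¹)⁻¹ * g = h := by group
  rw [e1, mul_comm]
  congr 1
  have := hf (g * h⁻¹) h⁻¹
  rw [← this]
  congr 1
  group

theorem conv_deltaOne_left (a : G → ℂ) : conv (deltaOne : G → ℂ) a = a := by
  rw [← conv_comm_of_isClassFunction_right a _ deltaOne_isClassFunction, conv_deltaOne_right]

theorem conv_add_left (a a' b : G → ℂ) : conv (a + a') b = conv a b + conv a' b := by
  ext g
  simp only [conv_apply, Pi.add_apply, add_mul, Finset.sum_add_distrib]

theorem conv_add_right (a b b' : G → ℂ) : conv a (b + b') = conv a b + conv a b' := by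
  ext g
  simp only [conv_apply, Pi.add_apply, mul_add, Finset.sum_add_distrib]

/-- the product of an idempotent with a central idempotent is an idempotent -/
theorem conv_idem_of_central (a f : G → ℂ) (ha : conv a a = a) (hf : conv f f = f)
    (hfc : Cfsg.IsClassFunction G f) : conv (conv a f) (conv a f) = conv a f := by
  rw [conv_assoc, ← conv_assoc f a f, ← conv_comm_of_isClassFunction_right a f hfc,
    conv_assoc a f f, hf, ← conv_assoc, ha]

end ConvAlgebra


section Inverse

variable {G : Type*} [Group G] [Fintype G] {p : ℕ} {M : Ideal Cfsg.AlgInt}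

/-- `1 + m` is invertible for convolution when `m` has values in the local ideal -/
theorem exists_conv_inverse (hM : Cfsg.IsPModular p M) (m : G → ℂ)
    (hm : ∀ g, Cfsg.MemLocalIdeal M (m g)) :
    ∃ w : G → ℂ, conv ((deltaOne : G → ℂ) + m) w = deltaOne := by
  classical
  set R := Rloc hM with hR
  have hmR : ∀ g, Cfsg.MemLocalRing M (m g) := fun g => memLocalRing_of_memLocalIdeal (hm g)
  let NR : Matrix G G R := Matrix.of fun g' g => ⟨m (g' * g⁻¹), hmR _⟩
  let q := Ideal.Quotient.mk (Mloc hM)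
  have hNq : NR.map q = 0 := by
    ext g' g
    rw [Matrix.map_apply, Matrix.zero_apply]
    apply Ideal.Quotient.eq_zero_iff_mem.mpr
    rw [mem_Mloc]
    exact hm _
  have hdetq : q (Matrix.det (1 + NR)) = 1 := by
    rw [RingHom.map_det, RingHom.mapMatrix_apply, Matrix.map_add _ (map_add q), hNq, add_zero,
      Matrix.map_one _ (map_zero q) (map_one q), Matrix.det_one]
  have hdetR : Matrix.det (1 + NR) ≠ 0 := by
    intro h0
    rw [h0, map_zero] at hdetq
    have : (1 : R) ∈ Mloc hM := by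
      rw [← Ideal.Quotient.eq_zero_iff_mem]
      exact hdetq.symm
    exact Mloc_ne_top hM ((Ideal.eq_top_iff_one _).mpr this)
  let N : Matrix G G ℂ := Matrix.of fun g' g => m (g' * g⁻¹)
  have hNN : (1 + NR).map (Subring.subtype R) = 1 + N := by
    ext g' g
    simp only [Matrix.map_apply, Matrix.add_apply, Subring.subtype_apply, Subring.coe_add, NR, N,
      Matrix.of_apply]
    congr 1
    by_cases hgg : g' = g
    · rw [hgg, Matrix.one_apply_eq, Matrix.one_apply_eq]; rfl
    · rw [Matrix.one_apply_ne hgg, Matrix.one_apply_ne hgg]; rfl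
  have hdet : Matrix.det (1 + N) ≠ 0 := by
    rw [← hNN]
    have := RingHom.map_det (Subring.subtype R) (1 + NR)
    rw [RingHom.mapMatrix_apply] at this
    rw [← this]
    intro h0
    apply hdetR
    exact Subtype.ext h0
  have hunit : IsUnit (Matrix.det (1 + N)) := isUnit_iff_ne_zero.mpr hdet
  refine ⟨(1 + N)⁻¹.mulVec deltaOne, ?_⟩
  have h1 : ∀ w : G → ℂ, conv ((deltaOne : G → ℂ) + m) w = (1 + N).mulVec w := by
    intro w
    ext g'
    rw [Matrix.add_mulVec, Matrix.one_mulVec, Pi.add_apply]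
    have e1 : conv ((deltaOne : G → ℂ) + m) w = conv deltaOne w + conv m w := by
      ext g
      simp only [conv_apply, Pi.add_apply, add_mul, Finset.sum_add_distrib]
    have e2 : conv (deltaOne : G → ℂ) w = w := by
      ext g
      rw [conv_apply, Finset.sum_eq_single 1]
      · unfold Cfsg.Agent.Lib.Helper24.deltaOne
        simp
      · intro h _ hne
        unfold Cfsg.Agent.Lib.Helper24.deltaOne
        rw [if_neg hne, zero_mul]
      · intro h; exact absurd (Finset.mem_univ _) h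
    rw [e1, e2, Pi.add_apply]
    congr 1
    rw [conv_apply, Matrix.mulVec, dotProduct]
    rw [← Equiv.sum_comp ((Equiv.inv G).trans (Equiv.mulLeft g'))]
    apply Finset.sum_congr rfl
    intro g _
    simp only [Equiv.trans_apply, Equiv.inv_apply, Equiv.coe_mulLeft, N, Matrix.of_apply]
    congr 2
    group
  rw [h1, Matrix.mulVec_mulVec, Matrix.mul_nonsing_inv _ hunit, Matrix.one_mulVec]

end Inverse


section Twist

variable {G : Type*} [Group G] [Finite G]

/-- if `h ^ k` commutes with `g` and `p ∤ k`, the `p`-part of `h` commutes with `g` -/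
theorem commute_pPart_of_commute_pow (p : ℕ) [hp : Fact p.Prime] {h x g : G}
    (hx : Cfsg.IsPPart p h x) {k : ℕ} (hk : ¬ p ∣ k) (hc : Commute (h ^ k) g) : Commute x g := by
  obtain ⟨j, hj⟩ := Subgroup.mem_zpowers_iff.mp (isPPart_mem_zpowers p hx)
  obtain ⟨_, _, _, ⟨s, hs⟩, _⟩ := hx
  have hcop : Nat.Coprime k (p ^ s) :=
    Nat.Coprime.pow_right _ ((Nat.Prime.coprime_iff_not_dvd hp.out).mpr hk).symm
  have hgcd : Int.gcd (k : ℤ) ((p ^ s : ℕ) : ℤ) = 1 := by
    rw [Int.gcd_natCast_natCast]; exact hcop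
  have hbez := Int.gcd_eq_gcd_ab (k : ℤ) ((p ^ s : ℕ) : ℤ)
  rw [hgcd] at hbez
  set a := Int.gcdA (k : ℤ) ((p ^ s : ℕ) : ℤ)
  set b := Int.gcdB (k : ℤ) ((p ^ s : ℕ) : ℤ)
  have hxk : Commute (x ^ k) g := by
    rw [← hj, ← zpow_natCast, ← zpow_mul, mul_comm, zpow_mul, zpow_natCast]
    exact hc.zpow_left j
  have hxp : x ^ ((p ^ s : ℕ) : ℤ) = 1 := by
    rw [zpow_natCast, ← hs, pow_orderOf_eq_one]
  have hx1 : (x ^ k) ^ a = x := by
    calc (x ^ k) ^ a = x ^ ((k : ℤ) * a) * (x ^ ((p ^ s : ℕ) : ℤ)) ^ b := by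
          rw [hxp, one_zpow, mul_one, zpow_mul, zpow_natCast]
      _ = x ^ ((k : ℤ) * a + ((p ^ s : ℕ) : ℤ) * b) := by rw [zpow_add, zpow_mul _ _ b]
      _ = x := by rw [← hbez]; simp
  rw [← hx1]
  exact hxk.zpow_left a

/-- a twisting function for conjugation by `h` off the centralizer of the `p`-part of `h` -/
theorem exists_twist_conj (p : ℕ) [hp : Fact p.Prime] {h x : G} (hx : Cfsg.IsPPart p h x)
    (ζ : ℂ) (hζ : ζ ^ p = 1) :
    ∃ δ : G → ℂ, (∀ g, δ g ^ p = 1) ∧
      ∀ g, g ∉ Subgroup.centralizer ({x} : Set G) → δ (h * g * h⁻¹) = ζ * δ g := by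
  classical
  set C := Subgroup.centralizer ({x} : Set G) with hC
  have hhC : h ∈ C := by
    rw [hC, Subgroup.mem_centralizer_singleton_iff]
    exact (isPPart_commute p hx rfl).symm
  have hmem : ∀ g : G, g ∉ C ↔ (MulAut.conj h).toEquiv g ∉ C := by
    intro g
    show g ∉ C ↔ h * g * h⁻¹ ∉ C
    constructor
    · intro hg hcon
      apply hg
      have := C.mul_mem (C.mul_mem (C.inv_mem hhC) hcon) hhC
      have e : h⁻¹ * (h * g * h⁻¹) * h = g := by group
      rwa [e] at this
    · intro hg hcon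
      exact hg (C.mul_mem (C.mul_mem hhC hcon) (C.inv_mem hhC))
  let σ : Equiv.Perm {g : G // g ∉ C} := (MulAut.conj h).toEquiv.subtypeEquiv hmem
  have hσ : ∀ g : {g : G // g ∉ C}, ((σ g : {g : G // g ∉ C}) : G) = h * g * h⁻¹ := fun g => rfl
  have hσpow : ∀ (k : ℕ) (g : {g : G // g ∉ C}),
      (((σ ^ k) g : {g : G // g ∉ C}) : G) = h ^ k * g * (h ^ k)⁻¹ := by
    intro k
    induction k with
    | zero => intro g; simp
    | succ k ih =>
      intro g
      rw [pow_succ', Equiv.Perm.mul_apply, hσ, ih, pow_succ']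
      group
  obtain ⟨f, hf1, hf2⟩ := exists_twist σ p ζ hζ (by
    intro g k hk
    by_contra hpk
    have h1 := hσpow k g
    rw [hk] at h1
    have hc : Commute (h ^ k) (g : G) := by
      show h ^ k * g = g * h ^ k
      have : h ^ k * g = (h ^ k * g * (h ^ k)⁻¹) * h ^ k := by group
      rw [this, ← h1]
    have := commute_pPart_of_commute_pow p hx hpk hc
    apply g.2
    show (g : G) ∈ Subgroup.centralizer ({x} : Set G)
    rw [Subgroup.mem_centralizer_singleton_iff]
    exact this.eq.symm)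
  refine ⟨fun g => if hg : g ∉ C then f ⟨g, hg⟩ else 1, ?_, ?_⟩
  · intro g
    simp only
    by_cases hg : g ∉ C
    · rw [dif_pos hg]; exact hf1 _
    · rw [dif_neg hg]; exact one_pow _
  · intro g hg
    have hg' : h * g * h⁻¹ ∉ C := (hmem g).mp hg
    simp only
    rw [dif_pos hg', dif_pos hg]
    exact hf2 ⟨g, hg⟩

end Twist


section Key

variable {G : Type*} [Group G] [Fintype G] {p : ℕ} {M : Ideal Cfsg.AlgInt}

/-- **Key step**: if `b^G = B ≠ B'`, `P ≤ H` a `p`-subgroup with `C_G(P) ≤ H`, then the product of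
the idempotents of `b` and `B'` has coefficients in the local ideal on `C_G(P)`. -/
theorem conv_blockCoeff_memLocalIdeal_of_ne [Fact p.Prime] (hM : Cfsg.IsPModular p M)
    (H P : Subgroup G) [Fintype H] (hP : IsPGroup p P) (hPH : P ≤ H)
    (hCH : Subgroup.centralizer (P : Set G) ≤ H)
    (b : Set (Cfsg.IrrCharacter H)) (B B' : Set (Cfsg.IrrCharacter G))
    (hind : Cfsg.IsInducedBlock M H b B) (hB' : Cfsg.IsPBlock M B') (hne : B' ≠ B)
    (c : G) (hc : c ∈ Subgroup.centralizer (P : Set G)) :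
    Cfsg.MemLocalIdeal M
      (conv (Cfsg.extendByZero H (Cfsg.blockCoeff b)) (Cfsg.blockCoeff B') c) := by
  classical
  haveI : Fintype (Subgroup.centralizer (P : Set G)) := Fintype.ofFinite _
  obtain ⟨hb, hB, hcong⟩ := hind
  set C := Subgroup.centralizer (P : Set G) with hC
  set a : G → ℂ := Cfsg.extendByZero H (Cfsg.blockCoeff b) with ha
  set f : G → ℂ := Cfsg.blockCoeff B' with hf
  have hbcf : Cfsg.IsClassFunction H (Cfsg.blockCoeff b) := blockCoeff_isClassFunction b
  have haR : ∀ g, Cfsg.MemLocalRing M (a g) :=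
    extZ_memLocalRing hM H _ (fun k => blockCoeff_memLocalRing hM b hb k)
  have hfR : ∀ g, Cfsg.MemLocalRing M (f g) := fun g => blockCoeff_memLocalRing hM B' hB' g
  have hfcf : Cfsg.IsClassFunction G f := blockCoeff_isClassFunction B'
  have hainv : ∀ u ∈ H, ∀ g, a (u * g * u⁻¹) = a g := fun u hu g =>
    extZ_conj_of_mem H _ hbcf u hu g
  have hfinv : ∀ u : G, ∀ g, f (u * g * u⁻¹) = f g := fun u g => hfcf g u
  set E : G → ℂ := conv a f with hE
  have hER : ∀ g, Cfsg.MemLocalRing M (E g) := conv_memLocalRing hM a f haR hfR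
  have hEinv : ∀ u ∈ H, ∀ g, E (u * g * u⁻¹) = E g := fun u hu g =>
    conv_conj_invariant a f u (hainv u hu) (hfinv u) g
  have haa : conv a a = a := by
    rw [ha, conv_extZ, conv_blockCoeff_self]
  have hff : conv f f = f := conv_blockCoeff_self B'
  have hEE : conv E E = E := conv_idem_of_central a f haa hff hfcf
  -- the restriction to `C`
  set ε : C → ℂ := restrictTo C E with hε
  have hεcf : Cfsg.IsClassFunction C ε := by
    intro g x
    exact hEinv (x : G) (hCH x.2) (g : G)
  have hεR : IsRCF M ε := ⟨hεcf, fun g => hER _⟩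
  have hidem : ∀ g, Cfsg.MemLocalIdeal M (conv ε ε g - ε g) := by
    intro g
    have h1 := conv_restrict_sub_memLocalIdeal hM P hP E E hER hER
      (fun u hu g => hEinv u (hPH hu) g) (fun u hu g => hEinv u (hPH hu) g) g
    rw [hEE] at h1
    have h2 := memLocalIdeal_neg h1
    rw [neg_sub] at h2
    exact h2
  have hω : ∀ θ : Cfsg.IrrCharacter C, Cfsg.MemLocalIdeal M (omega (θ : C → ℂ) ε) := by
    intro θ
    set aC : C → ℂ := restrictTo C a with haC
    set fC : C → ℂ := restrictTo C f with hfC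
    have haCcf : Cfsg.IsClassFunction C aC := restrictTo_extZ_isClassFunction hCH _ hbcf
    have hfCcf : Cfsg.IsClassFunction C fC := restrictTo_isClassFunction C f hfcf
    have haCR : ∀ g, Cfsg.MemLocalRing M (aC g) := fun g => haR _
    have hfCR : ∀ g, Cfsg.MemLocalRing M (fC g) := fun g => hfR _
    have h1 : ∀ g : C, Cfsg.MemLocalIdeal M (ε g - conv aC fC g) := fun g =>
      conv_restrict_sub_memLocalIdeal hM P hP a f haR hfR (fun u hu g => hainv u (hPH hu) g)
        (fun u _ g => hfinv u g) g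
    have h2 : Cfsg.MemLocalIdeal M (omega (θ : C → ℂ) ε - omega (θ : C → ℂ) (conv aC fC)) := by
      rw [← omega_sub]
      apply omega_memLocalIdeal_of_coeff hM θ
      · exact isClassFunction_sub hεcf (conv_isClassFunction _ _ haCcf hfCcf)
      · exact h1
    rw [omega_conv θ aC fC haCcf hfCcf] at h2
    have hθ1 : (θ : C → ℂ) 1 ≠ 0 := Cfsg.Agent.Lib.Helper25.irr_one_ne_zero θ.2
    obtain ⟨b', hb', _, hΛ⟩ := exists_block_of_functional (G := H) hM
      (fun α : H → ℂ => omega (θ : C → ℂ) (restrictTo C (Cfsg.extendByZero H α)))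
      (fun α β => by simp only [extZ_add, restrictTo_add, omega_add])
      (fun c α => by simp only [extZ_smul, restrictTo_smul, omega_smul])
      (fun α hα => omega_memLocalRing hM θ _ (restrictTo_extZ_isClassFunction hCH α hα.1)
        (fun g => extZ_memLocalRing hM H α hα.2 _))
      (fun α β hα hβ => by
        rw [← conv_extZ]
        exact omega_restrict_conv hM P hP _ _ (extZ_memLocalRing hM H α hα.2)
          (extZ_memLocalRing hM H β hβ.2)
          (fun u hu g => extZ_conj_of_mem H α hα.1 u (hPH hu) g)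
          (fun u hu g => extZ_conj_of_mem H β hβ.1 u (hPH hu) g)
          (restrictTo_extZ_isClassFunction hCH α hα.1)
          (restrictTo_extZ_isClassFunction hCH β hβ.1)
          (by
            rw [conv_extZ]
            exact restrictTo_extZ_isClassFunction hCH _ (conv_isClassFunction _ _ hα.1 hβ.1))
          θ)
      (by
        rw [extZ_deltaOne, restrictTo_deltaOne, omega_deltaOne _ hθ1])
    obtain ⟨ψ, hψ⟩ := isPBlock_nonempty hM hb'
    have h3 := hΛ ψ hψ (Cfsg.blockCoeff b) (IsRCF.blockCoeff hM hb)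
    have h4 := hΛ ψ hψ (restrictTo H f) ⟨restrictTo_isClassFunction H f hfcf, fun h => hfR _⟩
    rw [restrictTo_extZ_restrictTo hCH f] at h4
    rw [omega_blockCoeff] at h3
    have hprod : Cfsg.MemLocalIdeal M (omega (θ : C → ℂ) aC * omega (θ : C → ℂ) fC) := by
      by_cases hψb : ψ ∈ b
      · obtain ⟨χ₀, hχ₀⟩ := isPBlock_nonempty hM hB
        have h5 := omega_restrict_sub_memLocalIdeal H hM (ψ : H → ℂ) χ₀ (hcong ψ hψb χ₀ hχ₀) f
          hfcf hfR
        have hχ₀B' : χ₀ ∉ B' := fun h =>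
          Set.disjoint_left.mp (disjoint_of_isPBlock_of_ne hM hB' hB hne) h hχ₀
        have h6 : omega (χ₀ : G → ℂ) f = 0 := by
          rw [hf, omega_blockCoeff, if_neg hχ₀B']
        rw [h6, sub_zero] at h5
        have h7 : Cfsg.MemLocalIdeal M (omega (θ : C → ℂ) fC) := by
          have := memLocalIdeal_add hM h4 h5
          have e : omega (θ : C → ℂ) fC - omega (ψ : H → ℂ) (restrictTo H f)
              + omega (ψ : H → ℂ) (fun h : H => f h) = omega (θ : C → ℂ) fC := by
            show omega (θ : C → ℂ) fC - omega (ψ : H → ℂ) (restrictTo H f)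
              + omega (ψ : H → ℂ) (restrictTo H f) = omega (θ : C → ℂ) fC
            ring
          rwa [e] at this
        exact memLocalIdeal_mul_left hM (omega_memLocalRing hM θ aC haCcf haCR) h7
      · rw [if_neg hψb, sub_zero] at h3
        exact memLocalIdeal_mul_right hM h3 (omega_memLocalRing hM θ fC hfCcf hfCR)
    have := memLocalIdeal_add hM h2 hprod
    rwa [sub_add_cancel] at this
  exact memLocalIdeal_of_idem_of_omega hM ε hεR hidem hω ⟨c, hc⟩

end Key


section RepSum

variable {G : Type*} [Group G] [Fintype G] {V : Type*} [AddCommGroup V] [Module ℂ V]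

theorem repSum_add' (ρ : Representation ℂ G V) (a b : G → ℂ) :
    repSum ρ (a + b) = repSum ρ a + repSum ρ b := by
  unfold repSum
  simp only [Pi.add_apply, add_smul, Finset.sum_add_distrib]

theorem repSum_sub' (ρ : Representation ℂ G V) (a b : G → ℂ) :
    repSum ρ (a - b) = repSum ρ a - repSum ρ b := by
  unfold repSum
  simp only [Pi.sub_apply, sub_smul, Finset.sum_sub_distrib]

theorem repSum_smul' (ρ : Representation ℂ G V) (c : ℂ) (a : G → ℂ) :
    repSum ρ (c • a) = c • repSum ρ a := by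
  unfold repSum
  simp only [Pi.smul_apply, smul_eq_mul, Finset.smul_sum, mul_smul]

theorem repSum_deltaOne' (ρ : Representation ℂ G V) : repSum ρ (deltaOne : G → ℂ) = 1 := by
  classical
  unfold repSum
  rw [Finset.sum_eq_single 1]
  · unfold deltaOne
    simp
  · intro g _ hg
    unfold deltaOne
    rw [if_neg hg, zero_smul]
  · intro h; exact absurd (Finset.mem_univ _) h

theorem rho_mul_repSum (ρ : Representation ℂ G V) (h : G) (c : G → ℂ) :
    ρ h * repSum ρ c = repSum ρ (fun g => c (h⁻¹ * g)) := by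
  unfold repSum
  rw [Finset.mul_sum, ← Equiv.sum_comp (Equiv.mulLeft h⁻¹)]
  apply Finset.sum_congr rfl
  intro g _
  simp only [Equiv.coe_mulLeft]
  rw [mul_smul_comm, ← map_mul]
  congr 2
  group

theorem repSum_mul_rho (ρ : Representation ℂ G V) (h : G) (c : G → ℂ) :
    repSum ρ c * ρ h = repSum ρ (fun g => c (g * h⁻¹)) := by
  unfold repSum
  rw [Finset.sum_mul, ← Equiv.sum_comp (Equiv.mulRight h⁻¹)]
  apply Finset.sum_congr rfl
  intro g _
  simp only [Equiv.coe_mulRight]
  rw [smul_mul_assoc, ← map_mul]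
  congr 2
  group

end RepSum


theorem trace_eq_zero_of_twist_unit {V : Type*} [AddCommGroup V] [Module ℂ V]
    [FiniteDimensional ℂ V] (R E U T W : Module.End ℂ V) (ζ : ℂ) (hζ : ζ ≠ 1)
    (hTW : T * W = 1) (hU1 : U = T * E) (hU2 : U = E * T) (hUR : U * R = ζ • (R * U)) :
    LinearMap.trace ℂ V (R * E) = 0 := by
  have hWT : W * T = 1 := mul_eq_one_comm.mp hTW
  have hUW : U * W = E := by rw [hU2, mul_assoc, hTW, mul_one]
  have hWU : W * U = E := by rw [hU1, ← mul_assoc, hWT, one_mul]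
  set t := LinearMap.trace ℂ V (R * E) with ht
  have h1 : LinearMap.trace ℂ V (U * R * W) = ζ * t := by
    rw [hUR, smul_mul_assoc, map_smul, smul_eq_mul, mul_assoc, hUW]
  have h2 : LinearMap.trace ℂ V (U * R * W) = t := by
    rw [mul_assoc, LinearMap.trace_mul_comm, mul_assoc, hWU]
  have h3 : (ζ - 1) * t = 0 := by
    rw [sub_mul, one_mul, ← h1, h2, sub_self]
  rcases mul_eq_zero.mp h3 with h | h
  · exact absurd (sub_eq_zero.mp h) hζ
  · exact h


section Main

variable {G : Type*} [Group G] [Fintype G] {p : ℕ} {M : Ideal Cfsg.AlgInt}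

/-- **Isaacs, Lemma 15.47**: if `b^G = B`, `h ∈ H` with `C_G(h_p) ≤ H` and `χ ∉ B`, then
`χ (f_b h) = 0`. -/
theorem sum_blockCoeff_mul_irr_eq_zero [hp : Fact p.Prime] (hM : Cfsg.IsPModular p M)
    (H : Subgroup G) [Fintype H] (b : Set (Cfsg.IrrCharacter H)) (B : Set (Cfsg.IrrCharacter G))
    (hind : Cfsg.IsInducedBlock M H b B) (h : H) (x : G) (hx : Cfsg.IsPPart p (h : G) x)
    (hC : Subgroup.centralizer ({x} : Set G) ≤ H) (χ : Cfsg.IrrCharacter G) (hχ : χ ∉ B) :
    ∑ k : H, Cfsg.blockCoeff b k * (χ : G → ℂ) ((k : G) * (h : G)) = 0 := by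
  classical
  obtain ⟨hb, hB, hcong⟩ := hind
  -- the block of `χ`
  set B' := Cfsg.blockOf M (χ : G → ℂ) with hB'def
  have hB' : Cfsg.IsPBlock M B' := ⟨χ, rfl⟩
  have hχB' : χ ∈ B' := mem_blockOf_self hM χ
  have hne : B' ≠ B := fun he => hχ (he ▸ hχB')
  -- the `p`-subgroup
  set P := Subgroup.zpowers x with hPdef
  have hxord : ∃ s : ℕ, orderOf x = p ^ s := hx.choose_spec.2.2.1
  obtain ⟨s, hs⟩ := hxord
  have hP : IsPGroup p P := by
    apply IsPGroup.of_card (n := s)
    rw [hPdef, Nat.card_zpowers, hs]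
  have hxH : x ∈ H := by
    have h1 := isPPart_mem_zpowers p hx
    have h2 : Subgroup.zpowers (h : G) ≤ H := (Subgroup.zpowers_le).mpr h.2
    exact h2 h1
  have hPH : P ≤ H := (Subgroup.zpowers_le).mpr hxH
  have hCP : Subgroup.centralizer (P : Set G) = Subgroup.centralizer ({x} : Set G) := by
    rw [hPdef, Subgroup.zpowers_eq_closure, Subgroup.centralizer_closure]
  have hCH : Subgroup.centralizer (P : Set G) ≤ H := by rw [hCP]; exact hC
  set Cx := Subgroup.centralizer ({x} : Set G) with hCx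
  have hhCx : (h : G) ∈ Cx := by
    rw [hCx, Subgroup.mem_centralizer_singleton_iff]
    exact (isPPart_commute p hx rfl).symm
  -- the idempotent
  set a : G → ℂ := Cfsg.extendByZero H (Cfsg.blockCoeff b) with ha
  set f : G → ℂ := Cfsg.blockCoeff B' with hf
  have hbcf : Cfsg.IsClassFunction H (Cfsg.blockCoeff b) := blockCoeff_isClassFunction b
  have haR : ∀ g, Cfsg.MemLocalRing M (a g) :=
    extZ_memLocalRing hM H _ (fun k => blockCoeff_memLocalRing hM b hb k)
  have hfR : ∀ g, Cfsg.MemLocalRing M (f g) := fun g => blockCoeff_memLocalRing hM B' hB' g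
  have hfcf : Cfsg.IsClassFunction G f := blockCoeff_isClassFunction B'
  have hainv : ∀ u ∈ H, ∀ g, a (u * g * u⁻¹) = a g := fun u hu g =>
    extZ_conj_of_mem H _ hbcf u hu g
  have hfinv : ∀ u : G, ∀ g, f (u * g * u⁻¹) = f g := fun u g => hfcf g u
  obtain ⟨E, hE⟩ : ∃ E : G → ℂ, E = conv a f := ⟨_, rfl⟩
  have hER : ∀ g, Cfsg.MemLocalRing M (E g) := by rw [hE]; exact conv_memLocalRing hM a f haR hfR
  have hEinv : ∀ u ∈ H, ∀ g, E (u * g * u⁻¹) = E g := fun u hu g => by
    rw [hE]; exact conv_conj_invariant a f u (hainv u hu) (hfinv u) g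
  have haa : conv a a = a := by
    rw [ha, conv_extZ, conv_blockCoeff_self]
  have hff : conv f f = f := conv_blockCoeff_self B'
  have hEE : conv E E = E := by rw [hE]; exact conv_idem_of_central a f haa hff hfcf
  have hkey : ∀ c ∈ Cx, Cfsg.MemLocalIdeal M (E c) := by
    intro c hc
    have hc' : c ∈ Subgroup.centralizer (P : Set G) := by rw [hCP]; exact hc
    rw [hE]
    exact conv_blockCoeff_memLocalIdeal_of_ne hM H P hP hPH hCH b B B' ⟨hb, hB, hcong⟩ hB' hne c hc'
  -- the root of unity and the twist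
  have hp0 : p ≠ 0 := hp.out.ne_zero
  set ζ : ℂ := Complex.exp (2 * Real.pi * Complex.I / p) with hζdef
  have hprim : IsPrimitiveRoot ζ p := Complex.isPrimitiveRoot_exp p hp0
  have hζp : ζ ^ p = 1 := hprim.pow_eq_one
  have hζ1 : ζ ≠ 1 := hprim.ne_one hp.out.one_lt
  obtain ⟨δ, hδ1, hδ2⟩ := exists_twist_conj p hx ζ hζp
  have hδI : ∀ g, Cfsg.MemLocalIdeal M (δ g - 1) := by
    intro g
    apply memLocalIdeal_sub_one_of_pow_eq_one hM (k := 1)
    rw [pow_one]; exact hδ1 g
  -- the twisted element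
  obtain ⟨u₀, hu₀⟩ : ∃ u₀ : G → ℂ, u₀ = fun g => if g ∈ Cx then 0 else δ g * E g := ⟨_, rfl⟩
  obtain ⟨m, hm⟩ : ∃ m : G → ℂ, m = u₀ - E := ⟨_, rfl⟩
  have hmI : ∀ g, Cfsg.MemLocalIdeal M (m g) := by
    intro g
    simp only [hm, hu₀, Pi.sub_apply]
    by_cases hg : g ∈ Cx
    · rw [if_pos hg, zero_sub]
      exact memLocalIdeal_neg (hkey g hg)
    · rw [if_neg hg]
      have : δ g * E g - E g = (δ g - 1) * E g := by ring
      rw [this]
      exact memLocalIdeal_mul_right hM (hδI g) (hER g)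
  obtain ⟨m', hm'⟩ : ∃ m' : G → ℂ, m' = conv E (conv m E) := ⟨_, rfl⟩
  have hm'I : ∀ g, Cfsg.MemLocalIdeal M (m' g) := by
    intro g
    rw [hm', conv_apply]
    apply memLocalIdeal_sum hM
    intro k _
    exact memLocalIdeal_mul_left hM (hER k) (conv_memLocalIdeal_left hM m E hmI hER _)
  obtain ⟨w, hw⟩ := exists_conv_inverse hM m' hm'I
  -- the representation
  obtain ⟨n, ρ, hρ, hρχ⟩ := χ.2
  haveI := hρ
  set Et := repSum ρ E with hEt
  set Mt := repSum ρ m with hMt
  set Wt := repSum ρ w with hWt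
  set Tt := repSum ρ ((deltaOne : G → ℂ) + m') with hTt
  set Ut := repSum ρ u₀ with hUt
  have hEtEt : Et * Et = Et := by rw [hEt, ← repSum_conv, hEE]
  have hTt' : Tt = 1 + Et * Mt * Et := by
    rw [hTt, repSum_add', repSum_deltaOne', hm', repSum_conv, repSum_conv, ← mul_assoc]
  have hTW : Tt * Wt = 1 := by
    rw [hTt, hWt, ← repSum_conv, hw, repSum_deltaOne']
  have hUt' : Ut = Mt + Et := by
    rw [hUt, hMt, hEt, ← repSum_add']
    congr 1
    rw [hm]; ring
  set U := Et * Ut * Et with hU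
  have hU1 : U = Tt * Et := by
    rw [hU, hTt', hUt', mul_add, add_mul, add_mul, one_mul, hEtEt, hEtEt, mul_assoc (Et * Mt) Et Et,
      hEtEt, add_comm]
  have hU2 : U = Et * Tt := by
    rw [hU, hTt', hUt', mul_add, add_mul, mul_add, mul_one, hEtEt, hEtEt, ← mul_assoc Et (Et * Mt) Et,
      ← mul_assoc Et Et Mt, hEtEt, add_comm]
  -- commutation with `ρ h`
  have hEρ : Et * ρ (h : G) = ρ (h : G) * Et := by
    rw [hEt, repSum_mul_rho, rho_mul_repSum]
    congr 1
    funext g
    have := hEinv (h : G) h.2 ((h : G)⁻¹ * g)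
    rw [← this]
    congr 1
    group
  have hUρ₀ : Ut * ρ (h : G) = ζ • (ρ (h : G) * Ut) := by
    rw [hUt, repSum_mul_rho, rho_mul_repSum, ← repSum_smul']
    congr 1
    funext g
    simp only [Pi.smul_apply, smul_eq_mul, hu₀]
    have e1 : g * (h : G)⁻¹ = (h : G) * ((h : G)⁻¹ * g) * (h : G)⁻¹ := by group
    by_cases hg : (h : G)⁻¹ * g ∈ Cx
    · have hg' : g * (h : G)⁻¹ ∈ Cx := by
        rw [e1]
        exact Cx.mul_mem (Cx.mul_mem hhCx hg) (Cx.inv_mem hhCx)
      rw [if_pos hg, if_pos hg', mul_zero]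
    · have hg' : g * (h : G)⁻¹ ∉ Cx := by
        intro hcon
        apply hg
        have := Cx.mul_mem (Cx.mul_mem (Cx.inv_mem hhCx) hcon) hhCx
        have e2 : (h : G)⁻¹ * (g * (h : G)⁻¹) * (h : G) = (h : G)⁻¹ * g := by group
        rwa [e2] at this
      rw [if_neg hg, if_neg hg']
      rw [e1, hδ2 _ hg, hEinv (h : G) h.2]
      ring
  have hUR : U * ρ (h : G) = ζ • (ρ (h : G) * U) := by
    rw [hU, mul_assoc, hEρ, ← mul_assoc, mul_assoc Et Ut, hUρ₀, mul_smul_comm, smul_mul_assoc,
      ← mul_assoc, hEρ]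
    simp only [mul_assoc]
  have htr := trace_eq_zero_of_twist_unit (ρ (h : G)) Et U Tt Wt ζ hζ1 hTW hU1 hU2 hUR
  -- identify the trace
  have hχ1 : (χ : G → ℂ) 1 ≠ 0 := Cfsg.Agent.Lib.Helper25.irr_one_ne_zero χ.2
  have hn : (Module.finrank ℂ (Fin n → ℂ) : ℂ) = (χ : G → ℂ) 1 := by
    rw [← hρχ, Representation.char_one]
  have hft : repSum ρ f = 1 := by
    rw [repSum_irreducible ρ f hfcf, hn, hρχ]
    have h1 : omega (χ : G → ℂ) f = 1 := by rw [hf, omega_blockCoeff, if_pos hχB']
    unfold omega at h1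
    have h2 : ((χ : G → ℂ) 1)⁻¹ * ∑ g : G, f g * (χ : G → ℂ) g = 1 := by
      rw [← h1]; field_simp
    rw [h2, one_smul]
    rfl
  have hEt' : Et = repSum ρ a := by
    rw [hEt, hE, repSum_conv, hft, mul_one]
  rw [hEt', rho_mul_repSum, trace_repSum, hρχ] at htr
  rw [← htr]
  -- reindex
  have h1 : ∑ g : G, a ((h : G)⁻¹ * g) * (χ : G → ℂ) g
      = ∑ g : G, a g * (χ : G → ℂ) ((h : G) * g) := by
    rw [← Equiv.sum_comp (Equiv.mulLeft (h : G))]
    apply Finset.sum_congr rfl
    intro g _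
    simp only [Equiv.coe_mulLeft]
    congr 2
    group
  rw [h1, ha, Cfsg.Agent.Lib.Helper11.sum_extendByZero_mul H (Cfsg.blockCoeff b)
    (fun g => (χ : G → ℂ) ((h : G) * g))]
  apply Finset.sum_congr rfl
  intro k _
  congr 1
  have := IrrCharacter.isClassFunction χ ((k : G) * (h : G)) (h : G)
  rw [← this]
  group

end Main


end Cfsg.Agent.Lib.Helper7
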