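import Mathlib
import Cfsg.Agent.S0923
import Cfsg.Agent.S0924
import Cfsg.Agent.S0953
import Cfsg.Agent.Lib.Helper2.Column
import Cfsg.Agent.Lib.Helper7.PPart

/-!
# Block orthogonality on a `p`-section

For a `p`-element `z` of `G` with centralizer `H`, a block `B` of `G` and `p`-regular
`y, y' ∈ H`:
`∑_{ζ ∈ B} ζ(z y) conj ζ(z y') = ∑_{ψ} ψ(y) conj ψ(y')`, the second sum over the irreducible
characters of `H` lying in blocks which induce `B`.
-/

set_option autoImplicit false
open scoped ComplexConjugate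
open Cfsg

namespace Cfsg.Agent.Lib.Helper7

open Cfsg.Agent.Lib.Helper24 Cfsg.Agent.Lib.Helper2

/-- membership in a block is symmetric -/
theorem mem_blockOf_symm {K : Type*} [Group K] [Finite K] {p : ℕ} {M : Ideal Cfsg.AlgInt}
    (hM : Cfsg.IsPModular p M) {ψ ψ' : Cfsg.IrrCharacter K}
    (h : ψ' ∈ Cfsg.blockOf M (ψ : K → ℂ)) : ψ ∈ Cfsg.blockOf M (ψ' : K → ℂ) := by
  letI : Fintype K := Fintype.ofFinite K
  rw [← eq_blockOf_of_mem hM ⟨ψ, rfl⟩ h]
  exact mem_blockOf_self hM ψ

/-- over a union of blocks, a function whose block sums vanish sums to zero -/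
theorem sum_ite_eq_zero_of_block_sums {K : Type*} [Group K] [Finite K] {p : ℕ}
    (M : Ideal Cfsg.AlgInt) (hM : Cfsg.IsPModular p M)
    [Fintype (Cfsg.IrrCharacter K)] (S : Set (Cfsg.IrrCharacter K)) [DecidablePred (· ∈ S)]
    (hS : ∀ ψ ψ' : Cfsg.IrrCharacter K, ψ ∈ S → ψ' ∈ Cfsg.blockOf M (ψ : K → ℂ) → ψ' ∈ S)
    (f : Cfsg.IrrCharacter K → ℂ)
    (h : ∀ ψ₀ ∈ S, ∑ᶠ ψ ∈ Cfsg.blockOf M (ψ₀ : K → ℂ), f ψ = 0) :
    ∑ ψ : Cfsg.IrrCharacter K, (if ψ ∈ S then f ψ else 0) = 0 := by
  classical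
  apply Cfsg.Agent.S0924.sum_eq_zero_of_block_sums M hM
  intro ψ₀
  by_cases h0 : ψ₀ ∈ S
  · rw [← h ψ₀ h0]
    apply finsum_mem_congr rfl
    intro ψ hψ
    rw [if_pos (hS ψ₀ ψ h0 hψ)]
  · refine (finsum_mem_congr rfl ?_).trans (finsum_mem_zero _)
    intro ψ hψ
    rw [if_neg]
    intro hψS
    exact h0 (hS ψ ψ₀ hψS (mem_blockOf_symm hM hψ))

section
variable {G : Type*} [Group G] [Fintype G] {p : ℕ} {M : Ideal Cfsg.AlgInt}

/-- the shifted character on a centralizer is a class function -/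
theorem isClassFunction_shift (χ : Cfsg.IrrCharacter G) (z : G) :
    Cfsg.IsClassFunction (Subgroup.centralizer ({z} : Set G))
      (fun c : Subgroup.centralizer ({z} : Set G) => (χ : G → ℂ) (z * (c : G))) := by
  intro g t
  have ht : Commute z (t : G) := (Subgroup.mem_centralizer_singleton_iff.mp t.2).symm
  have e : z * ((t * g * t⁻¹ : Subgroup.centralizer ({z} : Set G)) : G)
      = (t : G) * (z * (g : G)) * (t : G)⁻¹ := by
    push_cast
    calc z * ((t : G) * (g : G) * (t : G)⁻¹) = (z * (t : G)) * (g : G) * (t : G)⁻¹ := by group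
      _ = ((t : G) * z) * (g : G) * (t : G)⁻¹ := by rw [ht.eq]
      _ = (t : G) * (z * (g : G)) * (t : G)⁻¹ := by group
  show (χ : G → ℂ) (z * ((t * g * t⁻¹ : Subgroup.centralizer ({z} : Set G)) : G))
    = (χ : G → ℂ) (z * (g : G))
  rw [e]
  exact IrrCharacter.isClassFunction χ _ _

/-- conjugacy inside a `p`-section comes from the centralizer -/
theorem isConj_of_section [Fact p.Prime] (z : G) (hz : ∃ k : ℕ, orderOf z = p ^ k)
    (c y : Subgroup.centralizer ({z} : Set G)) (hc : ¬ p ∣ orderOf c) (hy : ¬ p ∣ orderOf y)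
    (h : IsConj (z * (c : G)) (z * (y : G))) : IsConj c y := by
  obtain ⟨g, hg⟩ := isConj_iff.mp h
  have hcG : ¬ p ∣ orderOf (c : G) := by rw [Subgroup.orderOf_coe]; exact hc
  have hyG : ¬ p ∣ orderOf (y : G) := by rw [Subgroup.orderOf_coe]; exact hy
  have hzc : Commute z (c : G) := (Subgroup.mem_centralizer_singleton_iff.mp c.2).symm
  have hzy : Commute z (y : G) := (Subgroup.mem_centralizer_singleton_iff.mp y.2).symm
  have h1 : Cfsg.IsPPart p (z * (c : G)) z := ⟨(c : G), rfl, hzc, hz, hcG⟩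
  have h2 : Cfsg.IsPPart p (z * (y : G)) z := ⟨(y : G), rfl, hzy, hz, hyG⟩
  have h3 := isPPart_conj p g h1
  rw [hg] at h3
  have hgz : g * z * g⁻¹ = z := isPPart_unique p h3 h2
  have hgH : g ∈ Subgroup.centralizer ({z} : Set G) := by
    rw [Subgroup.mem_centralizer_singleton_iff]
    calc g * z = g * z * g⁻¹ * g := by group
      _ = z * g := by rw [hgz]
  refine isConj_iff.mpr ⟨⟨g, hgH⟩, ?_⟩
  apply Subtype.ext
  push_cast
  have : g * (z * (c : G)) * g⁻¹ = (g * z * g⁻¹) * (g * (c : G) * g⁻¹) := by group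
  rw [this, hgz] at hg
  exact mul_left_cancel hg

/-- the centralizer of `z y` in `G` and of `y` in `C_G(z)` have the same order -/
theorem card_centralizer_section [Fact p.Prime] (z : G) (hz : ∃ k : ℕ, orderOf z = p ^ k)
    (y : Subgroup.centralizer ({z} : Set G)) (hy : ¬ p ∣ orderOf y) :
    Nat.card (Subgroup.centralizer ({z * (y : G)} : Set G))
      = Nat.card (Subgroup.centralizer ({y} : Set (Subgroup.centralizer ({z} : Set G)))) := by
  have hyG : ¬ p ∣ orderOf (y : G) := by rw [Subgroup.orderOf_coe]; exact hy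
  have hzy : Commute z (y : G) := (Subgroup.mem_centralizer_singleton_iff.mp y.2).symm
  have h2 : Cfsg.IsPPart p (z * (y : G)) z := ⟨(y : G), rfl, hzy, hz, hyG⟩
  have hmap : (Subgroup.centralizer ({y} : Set (Subgroup.centralizer ({z} : Set G)))).map
      (Subgroup.centralizer ({z} : Set G)).subtype
      = Subgroup.centralizer ({z * (y : G)} : Set G) := by
    ext g
    constructor
    · rintro ⟨h, hh, rfl⟩
      have hh' := Subgroup.mem_centralizer_singleton_iff.mp hh
      have hhz := Subgroup.mem_centralizer_singleton_iff.mp h.2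
      rw [Subgroup.mem_centralizer_singleton_iff]
      have hhy : (h : G) * (y : G) = (y : G) * (h : G) := by
        have := congrArg (Subtype.val) hh'
        simpa using this
      show (h : G) * (z * (y : G)) = z * (y : G) * (h : G)
      calc (h : G) * (z * (y : G)) = ((h : G) * z) * (y : G) := by group
        _ = (z * (h : G)) * (y : G) := by rw [hhz]
        _ = z * ((h : G) * (y : G)) := by group
        _ = z * ((y : G) * (h : G)) := by rw [hhy]
        _ = z * (y : G) * (h : G) := by group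
    · intro hg
      have hg' := Subgroup.mem_centralizer_singleton_iff.mp hg
      have hconj : g * (z * (y : G)) * g⁻¹ = z * (y : G) := by
        rw [hg']; group
      have h3 := isPPart_conj p g h2
      rw [hconj] at h3
      have hgz : g * z * g⁻¹ = z := isPPart_unique p h3 h2
      have hgH : g ∈ Subgroup.centralizer ({z} : Set G) := by
        rw [Subgroup.mem_centralizer_singleton_iff]
        calc g * z = g * z * g⁻¹ * g := by group
          _ = z * g := by rw [hgz]
      refine ⟨⟨g, hgH⟩, ?_, rfl⟩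
      show (⟨g, hgH⟩ : Subgroup.centralizer ({z} : Set G))
        ∈ Subgroup.centralizer ({y} : Set (Subgroup.centralizer ({z} : Set G)))
      rw [Subgroup.mem_centralizer_singleton_iff]
      apply Subtype.ext
      push_cast
      have : g * (z * (y : G)) * g⁻¹ = (g * z * g⁻¹) * (g * (y : G) * g⁻¹) := by group
      rw [this, hgz] at hconj
      have h5 := mul_left_cancel hconj
      calc g * (y : G) = g * (y : G) * g⁻¹ * g := by group
        _ = (y : G) * g := by rw [h5]
  rw [← hmap]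
  exact Nat.card_congr
    (Subgroup.equivMapOfInjective _ _ (Subgroup.subtype_injective _)).toEquiv.symm

/-- **Block orthogonality on a `p`-section**, a consequence of Brauer's second main theorem. -/
theorem section_block_orthogonality [Fact p.Prime] (hM : Cfsg.IsPModular p M)
    (z : G) (hz : ∃ k : ℕ, orderOf z = p ^ k)
    (B : Set (Cfsg.IrrCharacter G)) (hB : Cfsg.IsPBlock M B)
    [Fintype (Cfsg.IrrCharacter G)]
    [Fintype (Cfsg.IrrCharacter (Subgroup.centralizer ({z} : Set G)))]
    [DecidablePred (· ∈ B)]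
    [DecidablePred (fun ψ : Cfsg.IrrCharacter (Subgroup.centralizer ({z} : Set G)) =>
      Cfsg.IsInducedBlock M (Subgroup.centralizer ({z} : Set G))
        (Cfsg.blockOf M (ψ : Subgroup.centralizer ({z} : Set G) → ℂ)) B)]
    (y y' : Subgroup.centralizer ({z} : Set G)) (hy : ¬ p ∣ orderOf y)
    (hy' : ¬ p ∣ orderOf y') :
    ∑ ζ : Cfsg.IrrCharacter G, (if ζ ∈ B then
        (ζ : G → ℂ) (z * (y : G)) * conj ((ζ : G → ℂ) (z * (y' : G))) else 0)
    = ∑ ψ : Cfsg.IrrCharacter (Subgroup.centralizer ({z} : Set G)),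
        (if Cfsg.IsInducedBlock M (Subgroup.centralizer ({z} : Set G))
            (Cfsg.blockOf M (ψ : Subgroup.centralizer ({z} : Set G) → ℂ)) B
          then (ψ : Subgroup.centralizer ({z} : Set G) → ℂ) y
            * conj ((ψ : Subgroup.centralizer ({z} : Set G) → ℂ) y') else 0) := by
  classical
  letI : Fintype (Subgroup.centralizer ({z} : Set G)) := Fintype.ofFinite _
  have hcf := fun ζ : Cfsg.IrrCharacter G => isClassFunction_shift ζ z
  obtain ⟨S, hSdef⟩ : ∃ S : Set (Cfsg.IrrCharacter (Subgroup.centralizer ({z} : Set G))),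
      S = {ψ : Cfsg.IrrCharacter (Subgroup.centralizer ({z} : Set G)) |
        Cfsg.IsInducedBlock M (Subgroup.centralizer ({z} : Set G))
        (Cfsg.blockOf M (ψ : Subgroup.centralizer ({z} : Set G) → ℂ)) B} := ⟨_, rfl⟩
  have hSmem : ∀ ψ : Cfsg.IrrCharacter (Subgroup.centralizer ({z} : Set G)),
      ψ ∈ S ↔ Cfsg.IsInducedBlock M (Subgroup.centralizer ({z} : Set G))
        (Cfsg.blockOf M (ψ : Subgroup.centralizer ({z} : Set G) → ℂ)) B := by
    intro ψ; rw [hSdef]; rfl
  have hSunion : ∀ ψ ψ' : Cfsg.IrrCharacter (Subgroup.centralizer ({z} : Set G)),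
      ψ ∈ S → ψ' ∈ Cfsg.blockOf M (ψ : Subgroup.centralizer ({z} : Set G) → ℂ) → ψ' ∈ S := by
    intro ψ ψ' h h'
    rw [hSmem] at h ⊢
    rw [← eq_blockOf_of_mem hM ⟨ψ, rfl⟩ h']; exact h
  have hScompl : ∀ ψ ψ' : Cfsg.IrrCharacter (Subgroup.centralizer ({z} : Set G)),
      ψ ∈ Sᶜ → ψ' ∈ Cfsg.blockOf M (ψ : Subgroup.centralizer ({z} : Set G) → ℂ) → ψ' ∈ Sᶜ := by
    intro ψ ψ' h h' h''
    exact h (hSunion ψ' ψ h'' (mem_blockOf_symm hM h'))
  -- the coefficients
  obtain ⟨a, ha⟩ : ∃ a : Cfsg.IrrCharacter G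
      → Cfsg.IrrCharacter (Subgroup.centralizer ({z} : Set G)) → ℂ,
      a = fun (ζ : Cfsg.IrrCharacter G)
        (ψ : Cfsg.IrrCharacter (Subgroup.centralizer ({z} : Set G))) => Cfsg.classInner
        (fun c : Subgroup.centralizer ({z} : Set G) => (ζ : G → ℂ) (z * (c : G)))
        (ψ : Subgroup.centralizer ({z} : Set G) → ℂ) := ⟨_, rfl⟩
  have hexp : ∀ (ζ : Cfsg.IrrCharacter G) (w : Subgroup.centralizer ({z} : Set G)),
      (ζ : G → ℂ) (z * (w : G)) = ∑ ψ : Cfsg.IrrCharacter (Subgroup.centralizer ({z} : Set G)),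
        a ζ ψ * (ψ : Subgroup.centralizer ({z} : Set G) → ℂ) w := by
    intro ζ w
    have := congrFun (classFunction_expansion _ (hcf ζ)) w
    simp only [Finset.sum_apply, Pi.smul_apply, smul_eq_mul] at this
    rw [ha]
    exact this
  have hbp : ∀ (ζ : Cfsg.IrrCharacter G) (ψ₀ : Cfsg.IrrCharacter (Subgroup.centralizer ({z} : Set G)))
      (w : Subgroup.centralizer ({z} : Set G)),
      ∑ᶠ ψ ∈ Cfsg.blockOf M (ψ₀ : Subgroup.centralizer ({z} : Set G) → ℂ),
        a ζ ψ * (ψ : Subgroup.centralizer ({z} : Set G) → ℂ) w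
      = Cfsg.blockPart (Cfsg.blockOf M (ψ₀ : Subgroup.centralizer ({z} : Set G) → ℂ))
        (fun c : Subgroup.centralizer ({z} : Set G) => (ζ : G → ℂ) (z * (c : G))) w := by
    intro ζ ψ₀ w
    rw [ha]
    unfold Cfsg.blockPart
    congr!
  -- Step 1: the second main theorem
  have key1 : ∀ (ζ : Cfsg.IrrCharacter G) (w : Subgroup.centralizer ({z} : Set G)),
      ¬ p ∣ orderOf w →
      ∑ ψ : Cfsg.IrrCharacter (Subgroup.centralizer ({z} : Set G)),
        (if ψ ∈ S then a ζ ψ * (ψ : Subgroup.centralizer ({z} : Set G) → ℂ) w else 0)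
      = if ζ ∈ B then (ζ : G → ℂ) (z * (w : G)) else 0 := by
    intro ζ w hw
    by_cases hζ : ζ ∈ B
    · rw [if_pos hζ, hexp ζ w]
      have h0 := sum_ite_eq_zero_of_block_sums M hM Sᶜ hScompl
        (fun ψ => a ζ ψ * (ψ : Subgroup.centralizer ({z} : Set G) → ℂ) w) (by
          intro ψ₀ hψ₀
          rw [hbp]
          apply Cfsg.Agent.S0923.result p M hM z hz B hB ζ hζ _ ⟨ψ₀, rfl⟩ _ w hw
          intro hind
          exact hψ₀ ((hSmem ψ₀).mpr hind))
      have hsplit : ∑ ψ : Cfsg.IrrCharacter (Subgroup.centralizer ({z} : Set G)),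
            a ζ ψ * (ψ : Subgroup.centralizer ({z} : Set G) → ℂ) w
          = ∑ ψ : Cfsg.IrrCharacter (Subgroup.centralizer ({z} : Set G)),
            (if ψ ∈ S then a ζ ψ * (ψ : Subgroup.centralizer ({z} : Set G) → ℂ) w else 0)
          + ∑ ψ : Cfsg.IrrCharacter (Subgroup.centralizer ({z} : Set G)),
            (if ψ ∈ Sᶜ then a ζ ψ * (ψ : Subgroup.centralizer ({z} : Set G) → ℂ) w else 0) := by
        rw [← Finset.sum_add_distrib]
        apply Finset.sum_congr rfl
        intro ψ _
        by_cases hψ : ψ ∈ S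
        · rw [if_pos hψ, if_neg (fun h : ψ ∈ Sᶜ => h hψ), add_zero]
        · rw [if_neg hψ, if_pos (show ψ ∈ Sᶜ from hψ), zero_add]
      rw [hsplit, h0, add_zero]
    · rw [if_neg hζ]
      apply sum_ite_eq_zero_of_block_sums M hM S hSunion
      intro ψ₀ hψ₀
      rw [hbp]
      apply Cfsg.Agent.S0923.result p M hM z hz (Cfsg.blockOf M (ζ : G → ℂ)) ⟨ζ, rfl⟩ ζ
        (mem_blockOf_self hM ζ) _ ⟨ψ₀, rfl⟩ _ w hw
      intro hind
      apply hζ
      have := Cfsg.Agent.S0953.isInducedBlock_unique hM _ _ _ _ hind ((hSmem ψ₀).mp hψ₀)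
      rw [← this]
      exact mem_blockOf_self hM ζ
  -- Step 2: the kernel `T`
  obtain ⟨T, hT⟩ : ∃ T : Subgroup.centralizer ({z} : Set G) → ℂ,
      T = fun c => ∑ ψ : Cfsg.IrrCharacter (Subgroup.centralizer ({z} : Set G)),
        (if ψ ∈ S then (ψ : Subgroup.centralizer ({z} : Set G) → ℂ) y
          * conj ((ψ : Subgroup.centralizer ({z} : Set G) → ℂ) c) else 0) := ⟨_, rfl⟩
  have hTsing : ∀ c : Subgroup.centralizer ({z} : Set G), p ∣ orderOf c → T c = 0 := by
    intro c hc
    rw [hT]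
    apply sum_ite_eq_zero_of_block_sums M hM S hSunion
    intro ψ₀ _
    exact weak_block_orthogonality hM _ ⟨ψ₀, rfl⟩ y c hy hc
  have hTcf : ∀ c c' : Subgroup.centralizer ({z} : Set G), IsConj c c' → T c = T c' := by
    intro c c' hcc
    obtain ⟨t, ht⟩ := isConj_iff.mp hcc
    rw [hT]
    apply Finset.sum_congr rfl
    intro ψ _
    rw [← ht, IrrCharacter.isClassFunction ψ c t]
  have hcardH : (Nat.card (Subgroup.centralizer ({z} : Set G)) : ℂ) ≠ 0 := by
    exact_mod_cast Nat.card_pos.ne'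
  have key2 : ∀ ζ : Cfsg.IrrCharacter G,
      ∑ ψ : Cfsg.IrrCharacter (Subgroup.centralizer ({z} : Set G)),
        (if ψ ∈ S then a ζ ψ * (ψ : Subgroup.centralizer ({z} : Set G) → ℂ) y else 0)
      = (Nat.card (Subgroup.centralizer ({z} : Set G)) : ℂ)⁻¹
        * ∑ c : Subgroup.centralizer ({z} : Set G), (ζ : G → ℂ) (z * (c : G)) * T c := by
    intro ζ
    rw [hT, ha]
    simp only [Cfsg.classInner, Finset.mul_sum]
    rw [Finset.sum_comm]
    apply Finset.sum_congr rfl
    intro ψ _
    by_cases hψ : ψ ∈ S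
    · simp only [if_pos hψ]
      rw [Finset.sum_mul]
      apply Finset.sum_congr rfl
      intro c _
      ring
    · simp only [if_neg hψ, mul_zero, Finset.sum_const_zero]
  -- Step 3
  have hL : ∑ ζ : Cfsg.IrrCharacter G, (if ζ ∈ B then
        (ζ : G → ℂ) (z * (y : G)) * conj ((ζ : G → ℂ) (z * (y' : G))) else 0)
      = ∑ ζ : Cfsg.IrrCharacter G,
        ((Nat.card (Subgroup.centralizer ({z} : Set G)) : ℂ)⁻¹
          * ∑ c : Subgroup.centralizer ({z} : Set G), (ζ : G → ℂ) (z * (c : G)) * T c)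
        * conj ((ζ : G → ℂ) (z * (y' : G))) := by
    apply Finset.sum_congr rfl
    intro ζ _
    rw [← key2 ζ, key1 ζ y hy]
    by_cases hζ : ζ ∈ B
    · rw [if_pos hζ, if_pos hζ]
    · rw [if_neg hζ, if_neg hζ, zero_mul]
  rw [hL]
  have hL2 : ∑ ζ : Cfsg.IrrCharacter G,
        ((Nat.card (Subgroup.centralizer ({z} : Set G)) : ℂ)⁻¹
          * ∑ c : Subgroup.centralizer ({z} : Set G), (ζ : G → ℂ) (z * (c : G)) * T c)
        * conj ((ζ : G → ℂ) (z * (y' : G)))
      = (Nat.card (Subgroup.centralizer ({z} : Set G)) : ℂ)⁻¹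
        * ∑ c : Subgroup.centralizer ({z} : Set G), T c
          * ∑ ζ : Cfsg.IrrCharacter G, (ζ : G → ℂ) (z * (c : G))
            * conj ((ζ : G → ℂ) (z * (y' : G))) := by
    simp only [Finset.mul_sum, Finset.sum_mul]
    rw [Finset.sum_comm]
    apply Finset.sum_congr rfl
    intro c _
    apply Finset.sum_congr rfl
    intro ζ _
    ring
  rw [hL2]
  have hterm : ∀ c : Subgroup.centralizer ({z} : Set G),
      T c * ∑ ζ : Cfsg.IrrCharacter G, (ζ : G → ℂ) (z * (c : G))
            * conj ((ζ : G → ℂ) (z * (y' : G)))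
      = if IsConj y' c then T y' * (Nat.card (Subgroup.centralizer
          ({y'} : Set (Subgroup.centralizer ({z} : Set G)))) : ℂ) else 0 := by
    intro c
    rw [column_orthogonality]
    by_cases hc : p ∣ orderOf c
    · rw [hTsing c hc, zero_mul, if_neg]
      intro hcc
      obtain ⟨t, ht⟩ := isConj_iff.mp hcc
      apply hy'
      have : orderOf c = orderOf y' := by
        rw [← ht]
        exact (MulAut.conj t).orderOf_eq y'
      rwa [← this]
    · by_cases hcc : IsConj y' c
      · rw [if_pos hcc, if_pos, ← hTcf y' c hcc]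
        · congr 2
          have e1 : Nat.card (Subgroup.centralizer ({z * (c : G)} : Set G))
              = Nat.card (Subgroup.centralizer ({z * (y' : G)} : Set G)) := by
            obtain ⟨t, ht⟩ := isConj_iff.mp hcc
            have hzt : Commute z (t : G) := (Subgroup.mem_centralizer_singleton_iff.mp t.2).symm
            have e : z * (c : G) = (t : G) * (z * (y' : G)) * (t : G)⁻¹ := by
              rw [← ht]
              push_cast
              calc z * ((t : G) * (y' : G) * (t : G)⁻¹)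
                  = (z * (t : G)) * (y' : G) * (t : G)⁻¹ := by group
                _ = ((t : G) * z) * (y' : G) * (t : G)⁻¹ := by rw [hzt.eq]
                _ = (t : G) * (z * (y' : G)) * (t : G)⁻¹ := by group
            rw [e]
            have hmap : (Subgroup.centralizer ({z * (y' : G)} : Set G)).map
                (MulAut.conj (t : G)).toMonoidHom
                = Subgroup.centralizer ({(t : G) * (z * (y' : G)) * (t : G)⁻¹} : Set G) := by
              ext g
              simp only [Subgroup.mem_map, Subgroup.mem_centralizer_singleton_iff,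
                MulEquiv.coe_toMonoidHom, MulAut.conj_apply]
              constructor
              · rintro ⟨u, hu, rfl⟩
                calc (t : G) * u * (t : G)⁻¹ * ((t : G) * (z * (y' : G)) * (t : G)⁻¹)
                    = (t : G) * (u * (z * (y' : G))) * (t : G)⁻¹ := by group
                  _ = (t : G) * ((z * (y' : G)) * u) * (t : G)⁻¹ := by rw [hu]
                  _ = (t : G) * (z * (y' : G)) * (t : G)⁻¹ * ((t : G) * u * (t : G)⁻¹) := by
                    group
              · intro hg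
                refine ⟨(t : G)⁻¹ * g * (t : G), ?_, by group⟩
                calc (t : G)⁻¹ * g * (t : G) * (z * (y' : G))
                    = (t : G)⁻¹ * (g * ((t : G) * (z * (y' : G)) * (t : G)⁻¹)) * (t : G) := by
                      group
                  _ = (t : G)⁻¹ * (((t : G) * (z * (y' : G)) * (t : G)⁻¹) * g) * (t : G) := by
                      rw [hg]
                  _ = z * (y' : G) * ((t : G)⁻¹ * g * (t : G)) := by group
            rw [← hmap]
            exact Nat.card_congr (Subgroup.equivMapOfInjective _ _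
              (MulAut.conj (t : G)).injective).toEquiv.symm
          rw [e1, card_centralizer_section z hz y' hy']
        · obtain ⟨t, ht⟩ := isConj_iff.mp hcc
          have hzt : Commute z (t : G) := (Subgroup.mem_centralizer_singleton_iff.mp t.2).symm
          refine isConj_iff.mpr ⟨(t : G)⁻¹, ?_⟩
          rw [← ht]
          push_cast
          calc (t : G)⁻¹ * (z * ((t : G) * (y' : G) * (t : G)⁻¹)) * (t : G)⁻¹⁻¹
              = (t : G)⁻¹ * (z * (t : G)) * (y' : G) := by group
            _ = (t : G)⁻¹ * ((t : G) * z) * (y' : G) := by rw [hzt.eq]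
            _ = z * (y' : G) := by group
      · rw [if_neg hcc, if_neg, mul_zero]
        intro h
        exact hcc (isConj_of_section z hz c y' hc hy' h).symm
  rw [Finset.sum_congr rfl (fun c _ => hterm c), ← Finset.sum_filter, Finset.sum_const,
    nsmul_eq_mul]
  have hcount := card_centralizer_mul_card_conj y'
  have hcount' : (Nat.card (Subgroup.centralizer
      ({y'} : Set (Subgroup.centralizer ({z} : Set G)))) : ℂ)
      * ((Finset.univ.filter (fun c => IsConj y' c)).card : ℂ)
      = (Nat.card (Subgroup.centralizer ({z} : Set G)) : ℂ) := by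
    rw [← hcount]
    push_cast
    congr 2
    rw [Nat.card_eq_fintype_card, Fintype.card_subtype]
  have hfin : (Nat.card (Subgroup.centralizer ({z} : Set G)) : ℂ)⁻¹
      * (((Finset.univ.filter (fun c => IsConj y' c)).card : ℂ)
        * (T y' * (Nat.card (Subgroup.centralizer
          ({y'} : Set (Subgroup.centralizer ({z} : Set G)))) : ℂ))) = T y' := by
    rw [← hcount']
    rw [← hcount'] at hcardH
    have hA := left_ne_zero_of_mul hcardH
    have hN := right_ne_zero_of_mul hcardH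
    field_simp
  rw [hfin, hT]
  apply Finset.sum_congr rfl
  intro ψ _
  by_cases hψ : ψ ∈ S
  · rw [if_pos hψ, if_pos ((hSmem ψ).mp hψ)]
  · rw [if_neg hψ, if_neg (fun h => hψ ((hSmem ψ).mpr h))]

/-- **Second main theorem, expansion form**: on the `p`-regular elements `w` of `C_G(z)` the
function `c ↦ ζ (z c)` is the sum of its components in the blocks inducing the block of `ζ`. -/
theorem section_expansion [Fact p.Prime] (hM : Cfsg.IsPModular p M)
    (z : G) (hz : ∃ k : ℕ, orderOf z = p ^ k)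
    (B : Set (Cfsg.IrrCharacter G)) (hB : Cfsg.IsPBlock M B)
    [Fintype (Cfsg.IrrCharacter (Subgroup.centralizer ({z} : Set G)))]
    [Fintype (Subgroup.centralizer ({z} : Set G))]
    [DecidablePred (· ∈ B)]
    [DecidablePred (fun ψ : Cfsg.IrrCharacter (Subgroup.centralizer ({z} : Set G)) =>
      Cfsg.IsInducedBlock M (Subgroup.centralizer ({z} : Set G))
        (Cfsg.blockOf M (ψ : Subgroup.centralizer ({z} : Set G) → ℂ)) B)]
    (ζ : Cfsg.IrrCharacter G)
    (w : Subgroup.centralizer ({z} : Set G)) (hw : ¬ p ∣ orderOf w) :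
    ∑ ψ : Cfsg.IrrCharacter (Subgroup.centralizer ({z} : Set G)),
        (if Cfsg.IsInducedBlock M (Subgroup.centralizer ({z} : Set G))
            (Cfsg.blockOf M (ψ : Subgroup.centralizer ({z} : Set G) → ℂ)) B
          then Cfsg.classInner
              (fun c : Subgroup.centralizer ({z} : Set G) => (ζ : G → ℂ) (z * (c : G)))
              (ψ : Subgroup.centralizer ({z} : Set G) → ℂ)
            * (ψ : Subgroup.centralizer ({z} : Set G) → ℂ) w else 0)
      = if ζ ∈ B then (ζ : G → ℂ) (z * (w : G)) else 0 := by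
  classical
  have hFin : ‹Fintype (Subgroup.centralizer ({z} : Set G))›
      = Fintype.ofFinite _ := Subsingleton.elim _ _
  subst hFin
  letI : Fintype (Subgroup.centralizer ({z} : Set G)) := Fintype.ofFinite _
  have hcf := fun ζ : Cfsg.IrrCharacter G => isClassFunction_shift ζ z
  obtain ⟨S, hSdef⟩ : ∃ S : Set (Cfsg.IrrCharacter (Subgroup.centralizer ({z} : Set G))),
      S = {ψ : Cfsg.IrrCharacter (Subgroup.centralizer ({z} : Set G)) |
        Cfsg.IsInducedBlock M (Subgroup.centralizer ({z} : Set G))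
        (Cfsg.blockOf M (ψ : Subgroup.centralizer ({z} : Set G) → ℂ)) B} := ⟨_, rfl⟩
  have hSmem : ∀ ψ : Cfsg.IrrCharacter (Subgroup.centralizer ({z} : Set G)),
      ψ ∈ S ↔ Cfsg.IsInducedBlock M (Subgroup.centralizer ({z} : Set G))
        (Cfsg.blockOf M (ψ : Subgroup.centralizer ({z} : Set G) → ℂ)) B := by
    intro ψ; rw [hSdef]; rfl
  have hSunion : ∀ ψ ψ' : Cfsg.IrrCharacter (Subgroup.centralizer ({z} : Set G)),
      ψ ∈ S → ψ' ∈ Cfsg.blockOf M (ψ : Subgroup.centralizer ({z} : Set G) → ℂ) → ψ' ∈ S := by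
    intro ψ ψ' h h'
    rw [hSmem] at h ⊢
    rw [← eq_blockOf_of_mem hM ⟨ψ, rfl⟩ h']; exact h
  have hScompl : ∀ ψ ψ' : Cfsg.IrrCharacter (Subgroup.centralizer ({z} : Set G)),
      ψ ∈ Sᶜ → ψ' ∈ Cfsg.blockOf M (ψ : Subgroup.centralizer ({z} : Set G) → ℂ) → ψ' ∈ Sᶜ := by
    intro ψ ψ' h h' h''
    exact h (hSunion ψ' ψ h'' (mem_blockOf_symm hM h'))
  -- the coefficients
  obtain ⟨a, ha⟩ : ∃ a : Cfsg.IrrCharacter G
      → Cfsg.IrrCharacter (Subgroup.centralizer ({z} : Set G)) → ℂ,
      a = fun (ζ : Cfsg.IrrCharacter G)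
        (ψ : Cfsg.IrrCharacter (Subgroup.centralizer ({z} : Set G))) => Cfsg.classInner
        (fun c : Subgroup.centralizer ({z} : Set G) => (ζ : G → ℂ) (z * (c : G)))
        (ψ : Subgroup.centralizer ({z} : Set G) → ℂ) := ⟨_, rfl⟩
  have hexp : ∀ (ζ : Cfsg.IrrCharacter G) (w : Subgroup.centralizer ({z} : Set G)),
      (ζ : G → ℂ) (z * (w : G)) = ∑ ψ : Cfsg.IrrCharacter (Subgroup.centralizer ({z} : Set G)),
        a ζ ψ * (ψ : Subgroup.centralizer ({z} : Set G) → ℂ) w := by
    intro ζ w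
    have := congrFun (classFunction_expansion _ (hcf ζ)) w
    simp only [Finset.sum_apply, Pi.smul_apply, smul_eq_mul] at this
    rw [ha]
    exact this
  have hbp : ∀ (ζ : Cfsg.IrrCharacter G) (ψ₀ : Cfsg.IrrCharacter (Subgroup.centralizer ({z} : Set G)))
      (w : Subgroup.centralizer ({z} : Set G)),
      ∑ᶠ ψ ∈ Cfsg.blockOf M (ψ₀ : Subgroup.centralizer ({z} : Set G) → ℂ),
        a ζ ψ * (ψ : Subgroup.centralizer ({z} : Set G) → ℂ) w
      = Cfsg.blockPart (Cfsg.blockOf M (ψ₀ : Subgroup.centralizer ({z} : Set G) → ℂ))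
        (fun c : Subgroup.centralizer ({z} : Set G) => (ζ : G → ℂ) (z * (c : G))) w := by
    intro ζ ψ₀ w
    rw [ha]
    unfold Cfsg.blockPart
    congr!
  -- Step 1: the second main theorem
  have key1 : ∀ (ζ : Cfsg.IrrCharacter G) (w : Subgroup.centralizer ({z} : Set G)),
      ¬ p ∣ orderOf w →
      ∑ ψ : Cfsg.IrrCharacter (Subgroup.centralizer ({z} : Set G)),
        (if ψ ∈ S then a ζ ψ * (ψ : Subgroup.centralizer ({z} : Set G) → ℂ) w else 0)
      = if ζ ∈ B then (ζ : G → ℂ) (z * (w : G)) else 0 := by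
    intro ζ w hw
    by_cases hζ : ζ ∈ B
    · rw [if_pos hζ, hexp ζ w]
      have h0 := sum_ite_eq_zero_of_block_sums M hM Sᶜ hScompl
        (fun ψ => a ζ ψ * (ψ : Subgroup.centralizer ({z} : Set G) → ℂ) w) (by
          intro ψ₀ hψ₀
          rw [hbp]
          apply Cfsg.Agent.S0923.result p M hM z hz B hB ζ hζ _ ⟨ψ₀, rfl⟩ _ w hw
          intro hind
          exact hψ₀ ((hSmem ψ₀).mpr hind))
      have hsplit : ∑ ψ : Cfsg.IrrCharacter (Subgroup.centralizer ({z} : Set G)),
            a ζ ψ * (ψ : Subgroup.centralizer ({z} : Set G) → ℂ) w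
          = ∑ ψ : Cfsg.IrrCharacter (Subgroup.centralizer ({z} : Set G)),
            (if ψ ∈ S then a ζ ψ * (ψ : Subgroup.centralizer ({z} : Set G) → ℂ) w else 0)
          + ∑ ψ : Cfsg.IrrCharacter (Subgroup.centralizer ({z} : Set G)),
            (if ψ ∈ Sᶜ then a ζ ψ * (ψ : Subgroup.centralizer ({z} : Set G) → ℂ) w else 0) := by
        rw [← Finset.sum_add_distrib]
        apply Finset.sum_congr rfl
        intro ψ _
        by_cases hψ : ψ ∈ S
        · rw [if_pos hψ, if_neg (fun h : ψ ∈ Sᶜ => h hψ), add_zero]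
        · rw [if_neg hψ, if_pos (show ψ ∈ Sᶜ from hψ), zero_add]
      rw [hsplit, h0, add_zero]
    · rw [if_neg hζ]
      apply sum_ite_eq_zero_of_block_sums M hM S hSunion
      intro ψ₀ hψ₀
      rw [hbp]
      apply Cfsg.Agent.S0923.result p M hM z hz (Cfsg.blockOf M (ζ : G → ℂ)) ⟨ζ, rfl⟩ ζ
        (mem_blockOf_self hM ζ) _ ⟨ψ₀, rfl⟩ _ w hw
      intro hind
      apply hζ
      have := Cfsg.Agent.S0953.isInducedBlock_unique hM _ _ _ _ hind ((hSmem ψ₀).mp hψ₀)
      rw [← this]
      exact mem_blockOf_self hM ζ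
  rw [← key1 ζ w hw, ha]
  apply Finset.sum_congr rfl
  intro ψ _
  by_cases hψ : ψ ∈ S
  · rw [if_pos hψ, if_pos ((hSmem ψ).mp hψ)]
  · rw [if_neg hψ, if_neg (fun h => hψ ((hSmem ψ).mpr h))]

end

end Cfsg.Agent.Lib.Helper7
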