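import Mathlib
import Cfsg.Agent.Lib.Helper7.SectionOrtho
import Cfsg.Agent.S0936
import Cfsg.Agent.S0919
import Cfsg.Agent.Lib.Helper24.Principal

/-!
# The principal block on a `p`-section

Consequences of Brauer's second and third main theorems for the principal block.
-/

set_option autoImplicit false
open scoped ComplexConjugate
open Cfsg

namespace Cfsg.Agent.Lib.Helper7

open Cfsg.Agent.Lib.Helper24 Cfsg.Agent.Lib.Helper2

section
variable {G : Type*} [Group G] [Fintype G] {p : ℕ} {M : Ideal Cfsg.AlgInt}

/-- every block of the centralizer of a `p`-element has an induced block -/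
theorem inducedBlockDefined_centralizer [Fact p.Prime] (hM : Cfsg.IsPModular p M)
    (z : G) (hz : ∃ k : ℕ, orderOf z = p ^ k)
    (b : Set (Cfsg.IrrCharacter (Subgroup.centralizer ({z} : Set G))))
    (hb : Cfsg.IsPBlock M b) :
    Cfsg.InducedBlockDefined M (Subgroup.centralizer ({z} : Set G)) b := by
  obtain ⟨s, hs⟩ := hz
  have hCP : Subgroup.centralizer ((Subgroup.zpowers z : Subgroup G) : Set G)
      = Subgroup.centralizer ({z} : Set G) := by
    rw [Subgroup.zpowers_eq_closure, Subgroup.centralizer_closure]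
  have hzC : z ∈ Subgroup.centralizer ({z} : Set G) := by
    rw [Subgroup.mem_centralizer_singleton_iff]
  have hP : IsPGroup p (Subgroup.zpowers z) := by
    apply IsPGroup.of_card (n := s)
    rw [Nat.card_zpowers, hs]
  exact Cfsg.Agent.S0919.result p M hM (Subgroup.zpowers z)
    (Subgroup.centralizer ({z} : Set G)) hP
    ((Subgroup.zpowers_le).mpr hzC) (le_of_eq hCP)
    (by rw [← hCP]; exact Subgroup.centralizer_le_normalizer _) b hb

/-- **Third main theorem** for the centralizer of a `p`-element -/
theorem isInducedBlock_principal_iff [Fact p.Prime] (hM : Cfsg.IsPModular p M)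
    (z : G) (hz : ∃ k : ℕ, orderOf z = p ^ k)
    (ψ : Cfsg.IrrCharacter (Subgroup.centralizer ({z} : Set G))) :
    Cfsg.IsInducedBlock M (Subgroup.centralizer ({z} : Set G))
        (Cfsg.blockOf M (ψ : Subgroup.centralizer ({z} : Set G) → ℂ)) (Cfsg.principalBlock M G)
      ↔ ψ ∈ Cfsg.principalBlock M (Subgroup.centralizer ({z} : Set G)) := by
  letI : Fintype (Subgroup.centralizer ({z} : Set G)) := Fintype.ofFinite _
  have hdef := inducedBlockDefined_centralizer hM z hz _ ⟨ψ, rfl⟩
  rw [Cfsg.Agent.S0936.result p M hM _ _ hdef]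
  constructor
  · intro h
    rw [← h]
    exact mem_blockOf_self hM ψ
  · intro h
    exact (eq_blockOf_of_mem hM isPBlock_principalBlock h).symm

/-- **Principal block orthogonality on a `p`-section** -/
theorem section_principal_orthogonality [Fact p.Prime] (hM : Cfsg.IsPModular p M)
    (z : G) (hz : ∃ k : ℕ, orderOf z = p ^ k)
    [Fintype (Cfsg.IrrCharacter G)]
    [Fintype (Cfsg.IrrCharacter (Subgroup.centralizer ({z} : Set G)))]
    [DecidablePred (· ∈ Cfsg.principalBlock M G)]
    [DecidablePred (· ∈ Cfsg.principalBlock M (Subgroup.centralizer ({z} : Set G)))]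
    (y y' : Subgroup.centralizer ({z} : Set G)) (hy : ¬ p ∣ orderOf y)
    (hy' : ¬ p ∣ orderOf y') :
    ∑ ζ : Cfsg.IrrCharacter G, (if ζ ∈ Cfsg.principalBlock M G then
        (ζ : G → ℂ) (z * (y : G)) * conj ((ζ : G → ℂ) (z * (y' : G))) else 0)
    = ∑ ψ : Cfsg.IrrCharacter (Subgroup.centralizer ({z} : Set G)),
        (if ψ ∈ Cfsg.principalBlock M (Subgroup.centralizer ({z} : Set G))
          then (ψ : Subgroup.centralizer ({z} : Set G) → ℂ) y
            * conj ((ψ : Subgroup.centralizer ({z} : Set G) → ℂ) y') else 0) := by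
  classical
  rw [section_block_orthogonality hM z hz _ isPBlock_principalBlock y y' hy hy']
  apply Finset.sum_congr rfl
  intro ψ _
  by_cases hψ : ψ ∈ Cfsg.principalBlock M (Subgroup.centralizer ({z} : Set G))
  · rw [if_pos hψ, if_pos ((isInducedBlock_principal_iff hM z hz ψ).mpr hψ)]
  · rw [if_neg hψ, if_neg (fun h => hψ ((isInducedBlock_principal_iff hM z hz ψ).mp h))]

/-- **Second and third main theorems** for a character of the principal block -/
theorem section_principal_expansion [Fact p.Prime] (hM : Cfsg.IsPModular p M)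
    (z : G) (hz : ∃ k : ℕ, orderOf z = p ^ k)
    [Fintype (Cfsg.IrrCharacter (Subgroup.centralizer ({z} : Set G)))]
    [Fintype (Subgroup.centralizer ({z} : Set G))]
    [DecidablePred (· ∈ Cfsg.principalBlock M (Subgroup.centralizer ({z} : Set G)))]
    (ζ : Cfsg.IrrCharacter G) (hζ : ζ ∈ Cfsg.principalBlock M G)
    (w : Subgroup.centralizer ({z} : Set G)) (hw : ¬ p ∣ orderOf w) :
    (ζ : G → ℂ) (z * (w : G))
      = ∑ ψ : Cfsg.IrrCharacter (Subgroup.centralizer ({z} : Set G)),
        (if ψ ∈ Cfsg.principalBlock M (Subgroup.centralizer ({z} : Set G))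
          then Cfsg.classInner
              (fun c : Subgroup.centralizer ({z} : Set G) => (ζ : G → ℂ) (z * (c : G)))
              (ψ : Subgroup.centralizer ({z} : Set G) → ℂ)
            * (ψ : Subgroup.centralizer ({z} : Set G) → ℂ) w else 0) := by
  classical
  have h := section_expansion hM z hz _ isPBlock_principalBlock ζ w hw
  rw [if_pos hζ] at h
  rw [← h]
  apply Finset.sum_congr rfl
  intro ψ _
  by_cases hψ : ψ ∈ Cfsg.principalBlock M (Subgroup.centralizer ({z} : Set G))
  · rw [if_pos hψ, if_pos ((isInducedBlock_principal_iff hM z hz ψ).mpr hψ)]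
  · rw [if_neg hψ, if_neg (fun h => hψ ((isInducedBlock_principal_iff hM z hz ψ).mp h))]

end

end Cfsg.Agent.Lib.Helper7
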