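import Mathlib
import Cfsg.Prelude.Def_Blocks
import Cfsg.Agent.Lib.Helper24.BlockOrtho
import Cfsg.Agent.Lib.Helper24.Defect
import Cfsg.Agent.Lib.Helper7.InducedBlock
import Cfsg.Agent.Lib.Helper7.CliffordCentral

/-!
# Blocks are determined by the central characters on `p`-regular classes (helper7 library)

* `mem_blockOf_of_regular`: if `ω_{χ₁}` and `ω_{χ₂}` agree modulo the local ideal on all
  `p`-regular elements then `χ₁` and `χ₂` lie in the same block.
* `centralChar_sub_memLocalIdeal_of_covering`: characters lying over the same block of a normal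
  subgroup `N` have congruent central characters on `N`.
* `mem_of_regular_of_index_pow`: `p`-regular elements lie in every normal subgroup of `p`-power
  index.
* `mem_blockOf_of_covering_of_index_pow`: for `N` of `p`-power index, characters lying over the
  same block of `N` lie in the same block of `G`.
-/

set_option autoImplicit false

namespace Cfsg.Agent.Lib.Helper7

open Cfsg.Agent.Lib.Helper2 Cfsg.Agent.Lib.Helper24
open scoped ComplexConjugate

section

variable {G : Type*} [Group G] [Fintype G] {p : ℕ} {M : Ideal Cfsg.AlgInt}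

/-- Blocks are determined by the central characters on `p`-regular classes. -/
theorem mem_blockOf_of_regular (hM : Cfsg.IsPModular p M) (χ₁ χ₂ : Cfsg.IrrCharacter G)
    (h : ∀ g : G, ¬ p ∣ orderOf g → Cfsg.MemLocalIdeal M
      (Cfsg.centralChar (χ₁ : G → ℂ) g - Cfsg.centralChar (χ₂ : G → ℂ) g)) :
    χ₂ ∈ Cfsg.blockOf M (χ₁ : G → ℂ) := by
  classical
  have hB : Cfsg.IsPBlock M (Cfsg.blockOf M (χ₁ : G → ℂ)) := ⟨χ₁, rfl⟩
  have hd : Cfsg.MemLocalIdeal M
      (omega (χ₁ : G → ℂ) (Cfsg.blockCoeff (Cfsg.blockOf M (χ₁ : G → ℂ)))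
        - omega (χ₂ : G → ℂ) (Cfsg.blockCoeff (Cfsg.blockOf M (χ₁ : G → ℂ)))) := by
    rw [omega_eq_sum, omega_eq_sum, ← Finset.sum_sub_distrib]
    have e : ∀ g : G, (Cfsg.blockCoeff (Cfsg.blockOf M (χ₁ : G → ℂ)) g
          * Cfsg.centralChar (χ₁ : G → ℂ) g)
        * ((Subgroup.centralizer ({g} : Set G)).index : ℂ)⁻¹
        - (Cfsg.blockCoeff (Cfsg.blockOf M (χ₁ : G → ℂ)) g * Cfsg.centralChar (χ₂ : G → ℂ) g)
        * ((Subgroup.centralizer ({g} : Set G)).index : ℂ)⁻¹
        = (Cfsg.blockCoeff (Cfsg.blockOf M (χ₁ : G → ℂ)) g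
          * (Cfsg.centralChar (χ₁ : G → ℂ) g - Cfsg.centralChar (χ₂ : G → ℂ) g))
        * ((Subgroup.centralizer ({g} : Set G)).index : ℂ)⁻¹ := by
      intro g; ring
    rw [Finset.sum_congr rfl (fun g _ => e g)]
    apply sum_mul_inv_index_mem (MlocC hM)
    · intro g x
      simp only
      rw [blockCoeff_isClassFunction,
        centralChar_isClassFunction _ (IrrCharacter.isClassFunction χ₁),
        centralChar_isClassFunction _ (IrrCharacter.isClassFunction χ₂)]
    · intro g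
      by_cases hg : p ∣ orderOf g
      · rw [blockCoeff_eq_zero_of_singular hM _ hB g hg, zero_mul]
        exact memLocalIdeal_zero hM
      · exact memLocalIdeal_mul_left hM (blockCoeff_memLocalRing hM _ hB g) (h g hg)
  rw [omega_blockCoeff, omega_blockCoeff, if_pos (mem_blockOf_self hM χ₁)] at hd
  by_contra hcon
  rw [if_neg hcon, sub_zero] at hd
  exact not_memLocalIdeal_one hM hd

variable (N : Subgroup G) [N.Normal] [Fintype N]

/-- Characters of `G` lying over the same block of the normal subgroup `N` have congruent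
central characters on the elements of `N`. -/
theorem centralChar_sub_memLocalIdeal_of_covering (hM : Cfsg.IsPModular p M)
    (χ₁ χ₂ : Cfsg.IrrCharacter G) (θ₁ θ₂ : Cfsg.IrrCharacter N)
    (h₁ : Cfsg.classInner (fun n : N => (χ₁ : G → ℂ) n) (θ₁ : N → ℂ) ≠ 0)
    (h₂ : Cfsg.classInner (fun n : N => (χ₂ : G → ℂ) n) (θ₂ : N → ℂ) ≠ 0)
    (hsame : Cfsg.SameBlock M (θ₁ : N → ℂ) (θ₂ : N → ℂ)) (n : N) :
    Cfsg.MemLocalIdeal M
      (Cfsg.centralChar (χ₁ : G → ℂ) (n : G) - Cfsg.centralChar (χ₂ : G → ℂ) (n : G)) := by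
  rw [centralChar_eq_inducedCentralChar_of_constituent N χ₁ θ₁ h₁ n,
    centralChar_eq_inducedCentralChar_of_constituent N χ₂ θ₂ h₂ n]
  exact inducedCentralChar_sub_memLocalIdeal N hM θ₁ θ₂ hsame (n : G)

omit [Fintype G] [Fintype N] in
/-- `p`-regular elements lie in every normal subgroup of `p`-power index. -/
theorem mem_of_regular_of_index_pow [Finite G] (hp : p.Prime) (hidx : ∃ k : ℕ, N.index = p ^ k) (g : G)
    (hg : ¬ p ∣ orderOf g) : g ∈ N := by
  obtain ⟨k, hk⟩ := hidx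
  rw [← QuotientGroup.eq_one_iff]
  have h1 : (g : G ⧸ N) ^ (p ^ k) = 1 := by
    rw [← hk, Subgroup.index_eq_card]
    exact pow_card_eq_one'
  have h2 : (g : G ⧸ N) ^ orderOf g = 1 := by
    rw [← QuotientGroup.mk_pow, pow_orderOf_eq_one]
    rfl
  have h3 := orderOf_dvd_of_pow_eq_one h1
  have h4 := orderOf_dvd_of_pow_eq_one h2
  have hcop : Nat.Coprime (p ^ k) (orderOf g) :=
    Nat.Coprime.pow_left _ ((Nat.Prime.coprime_iff_not_dvd hp).mpr hg)
  have h5 : orderOf (g : G ⧸ N) = 1 := Nat.eq_one_of_dvd_coprimes hcop h3 h4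
  exact orderOf_eq_one_iff.mp h5

/-- For a normal subgroup `N` of `p`-power index, characters of `G` lying over the same block of
`N` lie in the same block of `G`. -/
theorem mem_blockOf_of_covering_of_index_pow (hM : Cfsg.IsPModular p M)
    (hidx : ∃ k : ℕ, N.index = p ^ k)
    (χ₁ χ₂ : Cfsg.IrrCharacter G) (θ₁ θ₂ : Cfsg.IrrCharacter N)
    (h₁ : Cfsg.classInner (fun n : N => (χ₁ : G → ℂ) n) (θ₁ : N → ℂ) ≠ 0)
    (h₂ : Cfsg.classInner (fun n : N => (χ₂ : G → ℂ) n) (θ₂ : N → ℂ) ≠ 0)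
    (hsame : Cfsg.SameBlock M (θ₁ : N → ℂ) (θ₂ : N → ℂ)) :
    χ₂ ∈ Cfsg.blockOf M (χ₁ : G → ℂ) := by
  apply mem_blockOf_of_regular hM
  intro g hg
  have hgN : g ∈ N := mem_of_regular_of_index_pow N hM.1 hidx g hg
  exact centralChar_sub_memLocalIdeal_of_covering N hM χ₁ χ₂ θ₁ θ₂ h₁ h₂ hsame ⟨g, hgN⟩

end

end Cfsg.Agent.Lib.Helper7
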