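import Mathlib

set_option autoImplicit false

namespace Cfsg.Agent.Lib.Helper7

/-- The action of automorphisms on non-identity elements. -/
noncomputable def mulAutToPermNeOne (H : Type*) [Group H] :
    MulAut H →* Equiv.Perm {x : H // x ≠ 1} where
  toFun φ := φ.toEquiv.subtypeEquiv (fun x => by
    show x ≠ 1 ↔ φ x ≠ 1
    rw [not_iff_not]
    constructor
    · rintro rfl; exact map_one φ
    · intro h; exact φ.injective (h.trans (map_one φ).symm))
  map_one' := by ext x; rfl
  map_mul' φ ψ := by ext x; rfl

theorem mulAutToPermNeOne_injective (H : Type*) [Group H] :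
    Function.Injective (mulAutToPermNeOne H) := by
  intro φ ψ h
  ext x
  by_cases hx : x = 1
  · rw [hx, map_one, map_one]
  · have := congrArg (fun σ : Equiv.Perm {x : H // x ≠ 1} => ((σ ⟨x, hx⟩ : {x : H // x ≠ 1}) : H)) h
    exact this

/-- `|Aut H|` divides `(|H| - 1)!`. -/
theorem card_mulAut_dvd_factorial (H : Type*) [Group H] [Finite H] :
    Nat.card (MulAut H) ∣ (Nat.card H - 1).factorial := by
  have h1 := Subgroup.card_dvd_of_injective _ (mulAutToPermNeOne_injective H)
  rw [Nat.card_perm] at h1
  have h2 : Nat.card {x : H // x ≠ 1} = Nat.card H - 1 := by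
    classical
    have : Fintype H := Fintype.ofFinite H
    rw [Nat.card_eq_fintype_card, Nat.card_eq_fintype_card, Fintype.card_subtype_compl,
      Fintype.card_subtype_eq]
  rwa [h2] at h1

end Cfsg.Agent.Lib.Helper7
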