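import Mathlib
import Cfsg.Prelude.Def_GeometricClasses
import Cfsg.Agent.Lib.Helper7.AschDefs

/-!
# S5630: wrappers putting a subgroup into `InClass` through each disjunct of `InLinearClass` (helper7; real proofs)
-/

set_option autoImplicit false

namespace Cfsg.Agent.Lib.Helper7.Asch

open Matrix Cfsg.Geo

variable {F : Type*} [Field F] [Fintype F] {n : ℕ}

theorem InClass.of_subspace (H : Subgroup (GL (Fin n) F)) (W : Submodule F (Fin n → F)) (h0 : W ≠ ⊥) (h1 : W ≠ ⊤)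
    (hH : H ≤ subspaceStabilizer W) : InClass H :=
  ⟨_, Or.inl ⟨W, h0, h1, rfl⟩, hH⟩

theorem InClass.of_decomposition (H : Subgroup (GL (Fin n) F)) {t : ℕ} (m : ℕ) (D : Fin t → Submodule F (Fin n → F))
    (hD : IsMDecomposition m D) (hH : H ≤ decompositionStabilizer D) : InClass H :=
  ⟨_, Or.inr (Or.inr (Or.inr (Or.inl ⟨t, m, D, hD, rfl⟩))), hH⟩

theorem InClass.of_field (H : Subgroup (GL (Fin n) F)) (r : ℕ) (K : Subalgebra F (Matrix (Fin n) (Fin n) F))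
    (hr : r.Prime) (hK : IsFieldSubalgebra r K) (hH : H ≤ subalgebraNormalizer K) : InClass H :=
  ⟨_, Or.inr (Or.inr (Or.inr (Or.inr (Or.inl ⟨r, K, hr, hK, rfl⟩)))), hH⟩

theorem InClass.of_tensor (H : Subgroup (GL (Fin n) F)) (n₁ n₂ : ℕ) (e : Fin n ≃ Fin n₁ × Fin n₂) (P : GL (Fin n) F)
    (h1 : 2 ≤ n₁) (h2 : n₁ < n₂) (hH : H ≤ tensorProductSubgroup n₁ n₂ e P) : InClass H :=
  ⟨_, Or.inr (Or.inr (Or.inr (Or.inr (Or.inr (Or.inl ⟨n₁, n₂, e, P, h1, h2, rfl⟩))))), hH⟩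

theorem InClass.of_subfield (H : Subgroup (GL (Fin n) F)) (F₀ : Subfield F) (r : ℕ) (P : GL (Fin n) F)
    (hr : r.Prime) (hc : Fintype.card F = Nat.card F₀ ^ r) (hH : H ≤ subfieldSubgroup F₀ P) : InClass H :=
  ⟨_, Or.inr (Or.inr (Or.inr (Or.inr (Or.inr (Or.inr (Or.inl ⟨F₀, r, P, hr, hc, rfl⟩)))))), hH⟩

theorem InClass.of_symplecticType (H : Subgroup (GL (Fin n) F)) (r : ℕ) (R : Subgroup (GL (Fin n) F))
    (hR : IsLinearSymplecticTypeData r R) (hH : H ≤ subgroupNormalizer R) : InClass H :=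
  ⟨_, Or.inr (Or.inr (Or.inr (Or.inr (Or.inr (Or.inr (Or.inr (Or.inl ⟨r, R, hR, rfl⟩))))))), hH⟩

theorem InClass.of_tensorWreath (H : Subgroup (GL (Fin n) F)) (m t : ℕ) (e : Fin n ≃ (Fin t → Fin m))
    (P : GL (Fin n) F) (hm : 3 ≤ m) (ht : 2 ≤ t) (hH : H ≤ tensorWreathSubgroup m t e P) : InClass H :=
  ⟨_, Or.inr (Or.inr (Or.inr (Or.inr (Or.inr (Or.inr (Or.inr (Or.inr (Or.inl ⟨m, t, e, P, hm, ht, rfl⟩)))))))), hH⟩

theorem InClass.of_symplectic (H : Subgroup (GL (Fin n) F)) (f : (Fin n → F) → (Fin n → F) → F)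
    (hf : IsSymplecticForm f) (he : Even n) (h4 : 4 ≤ n) (hH : H ≤ similarityGroup f) : InClass H :=
  ⟨_, Or.inr (Or.inr (Or.inr (Or.inr (Or.inr (Or.inr (Or.inr (Or.inr (Or.inr (Or.inl
    ⟨f, hf, he, h4, rfl⟩))))))))), hH⟩

theorem InClass.of_unitary (H : Subgroup (GL (Fin n) F)) (σ : F ≃+* F) (f : (Fin n → F) → (Fin n → F) → F)
    (hf : IsUnitaryForm σ f) (h3 : 3 ≤ n) (hH : H ≤ similarityGroup f) : InClass H :=
  ⟨_, Or.inr (Or.inr (Or.inr (Or.inr (Or.inr (Or.inr (Or.inr (Or.inr (Or.inr (Or.inr (Or.inl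
    ⟨σ, f, hf, h3, rfl⟩)))))))))), hH⟩

theorem InClass.of_quadratic (H : Subgroup (GL (Fin n) F)) (Q : (Fin n → F) → F)
    (hQ : IsNondegenerateQuadraticForm Q) (ho : Odd (Fintype.card F)) (h3 : 3 ≤ n)
    (hH : H ≤ quadSimilarityGroup Q) : InClass H :=
  ⟨_, Or.inr (Or.inr (Or.inr (Or.inr (Or.inr (Or.inr (Or.inr (Or.inr (Or.inr (Or.inr (Or.inr
    ⟨Q, hQ, ho, h3, rfl⟩)))))))))), hH⟩

theorem InClass.mono {H K : Subgroup (GL (Fin n) F)} (h : H ≤ K) (hK : InClass K) : InClass H := by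
  obtain ⟨M, hM, hKM⟩ := hK
  exact ⟨M, hM, h.trans hKM⟩

end Cfsg.Agent.Lib.Helper7.Asch
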