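import Mathlib
import Cfsg.Prelude.Def_GeometricClasses
import Cfsg.Agent.Lib.Helper7.AschDefs
import Cfsg.Agent.Lib.Helper12.AschG1
import Cfsg.Agent.Lib.Helper10.S5630CoreSN
import Cfsg.Agent.Lib.Helper18.AschC3
import Cfsg.Agent.Lib.Helper18.S5630I2
import Cfsg.Agent.Lib.Helper12.AschG3
import Cfsg.Agent.Lib.Helper14.S5630CoreAB
import Cfsg.Agent.Lib.Helper14.S5630CoreF45
import Cfsg.Agent.Lib.Helper23.S5630CoreF1
import Cfsg.Agent.Lib.Helper12.S5630CoreND
import Cfsg.Agent.Lib.Helper8.S5630CoreF3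

/-!
# S5630: CORE lemmas shared by the blocks (helper7).  ALL REAL now (citations of the team's pieces).

CORE-B  Burnside;  CORE-SN  automorphisms of `M_d(F)` are inner;  CORE-SCH  Schur / Wedderburn for centralisers;
CORE-FFa / CORE-FFb  subfields of finite fields;  CORE-ND  Noether-Deuring-lite;  CORE-F1..F5  invariant forms are unique
up to scalars, hence normalisers are similarities;  CORE-AB  abelian groups are not absolutely irreducible.
-/

set_option autoImplicit false

namespace Cfsg.Agent.Lib.Helper7.Asch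

open Matrix Cfsg.Geo

variable {F : Type*} [Field F] {n : ℕ}

section general

variable {κ : Type} [Fintype κ] [DecidableEq κ]

/-- **CORE-B** (Burnside): a multiplicatively closed absolutely irreducible set of matrices spans the matrix algebra -/
theorem span_eq_top_of_absIrr (S : Set (Matrix κ κ F)) (h1 : (1 : Matrix κ κ F) ∈ S)
    (hmul : ∀ a ∈ S, ∀ b ∈ S, a * b ∈ S) (h : ActsAbsolutelyIrreducibly S) :
    Submodule.span F S = ⊤ := by
  classical
  rcases isEmpty_or_nonempty κ with hκ | hκ
  · rw [eq_top_iff]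
    intro M _
    have : M = 0 := by
      ext i j
      exact (hκ.false i).elim
    rw [this]
    exact Submodule.zero_mem _
  · rw [eq_top_iff]
    intro M _
    have hM := Cfsg.Agent.Lib.Helper12.AschG1.mem_adjoin_of_absIrred S h M
    rw [← Subalgebra.mem_toSubmodule, Algebra.adjoin_eq_span] at hM
    have hcl : (Submonoid.closure S : Set (Matrix κ κ F)) = S := by
      apply le_antisymm
      · intro x hx
        induction hx using Submonoid.closure_induction with
        | mem y hy => exact hy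
        | one => exact h1
        | mul a b _ _ ha hb => exact hmul a ha b hb
      · exact Submonoid.subset_closure
    rwa [hcl] at hM

/-- **CORE-SN** every `F`-algebra endomorphism of `M_d(F)` is inner -/
theorem inner_of_algHom (φ : Matrix κ κ F →ₐ[F] Matrix κ κ F) :
    ∃ P : GL κ F, ∀ X, φ X = (P : Matrix κ κ F) * X * ((P⁻¹ : GL κ F) : Matrix κ κ F) :=
  Cfsg.Agent.Lib.Helper10.S5630CoreSN.inner_of_algHom φ

/-- **CORE-SCHa** (Schur) non-zero elements of the centraliser of an irreducible set are invertible, with inverse in the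
centraliser -/
theorem exists_inv_of_mem_centralizer (S : Set (Matrix κ κ F)) (h : ActsIrreducibly S) (x : Matrix κ κ F)
    (hx : ∀ s ∈ S, x * s = s * x) (h0 : x ≠ 0) :
    ∃ y : Matrix κ κ F, (∀ s ∈ S, y * s = s * y) ∧ x * y = 1 ∧ y * x = 1 := by
  have hxc : x ∈ Subalgebra.centralizer F S :=
    (Cfsg.Agent.Lib.Helper18.AschC3.commutant_mem_iff S x).2 (fun s hs => (hx s hs).symm)
  obtain ⟨y, hy, h1, h2⟩ := Cfsg.Agent.Lib.Helper18.AschC3.exists_inv_of_mem_commutant h hxc h0
  exact ⟨y, fun s hs => (((Cfsg.Agent.Lib.Helper18.AschC3.commutant_mem_iff S y).1 hy) s hs).symm, h1, h2⟩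

/-- **CORE-SCHb** (Schur + Wedderburn's little theorem) over a finite field the centraliser of an irreducible set is
commutative -/
theorem centralizer_comm [Fintype F] (S : Set (Matrix κ κ F)) (h : ActsIrreducibly S) (x y : Matrix κ κ F)
    (hx : ∀ s ∈ S, x * s = s * x) (hy : ∀ s ∈ S, y * s = s * y) : x * y = y * x := by
  rcases isEmpty_or_nonempty κ with hκ | hκ
  · ext i j
    exact (hκ.false i).elim
  · exact Cfsg.Agent.Lib.Helper18.AschC3.commutant_comm h x
      ((Cfsg.Agent.Lib.Helper18.AschC3.commutant_mem_iff S x).2 (fun s hs => (hx s hs).symm)) y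
      ((Cfsg.Agent.Lib.Helper18.AschC3.commutant_mem_iff S y).2 (fun s hs => (hy s hs).symm))

/-- **CORE-FFa** a field subalgebra `E ≠ F` of `M_d(F)` (`F` finite) contains a canonical subfield of prime degree -/
theorem exists_prime_field_subalgebra [Fintype F] (E : Subalgebra F (Matrix κ κ F))
    (hcomm : ∀ x ∈ E, ∀ y ∈ E, x * y = y * x) (hinv : ∀ x ∈ E, x ≠ 0 → ∃ y ∈ E, x * y = 1)
    (hne : ∃ x ∈ E, ∀ c : F, x ≠ c • (1 : Matrix κ κ F)) :
    ∃ (r : ℕ) (K : Subalgebra F (Matrix κ κ F)), r.Prime ∧ IsFieldSubalgebra r K ∧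
      (∀ x, x ∈ K ↔ x ∈ E ∧ x ^ (Fintype.card F ^ r) = x) :=
  Cfsg.Agent.Lib.Helper18.S5630I2.exists_prime_field_subalgebra E hcomm hinv hne

/-- consequence of the canonical description: whoever normalises `E` normalises `K` -/
theorem normalizer_le_of_canonical [Fintype F] (E K : Subalgebra F (Matrix κ κ F)) (N : ℕ)
    (hK : ∀ x, x ∈ K ↔ x ∈ E ∧ x ^ N = x) : subalgebraNormalizer E ≤ subalgebraNormalizer K :=
  Cfsg.Agent.Lib.Helper18.S5630I2.normalizer_le_of_canonical E K N hK

end general

/-- **CORE-FFb** every proper subfield of a finite field lies in a subfield of prime index -/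
theorem exists_prime_index_subfield [Fintype F] (F₀ : Subfield F) (h0 : F₀ ≠ ⊤) :
    ∃ (F₁ : Subfield F) (r : ℕ), F₀ ≤ F₁ ∧ r.Prime ∧ Fintype.card F = Nat.card F₁ ^ r :=
  Cfsg.Agent.Lib.Helper12.AschG3.exists_prime_index_subfield F₀ h0

/-- **CORE-C5** (helper12's G3; USE THIS instead of CORE-ND + `hsub`): if `H` normalises an absolutely irreducible `R` that is
realisable over a proper subfield, then `H` lies in a member of class 5 -/
theorem InClass.of_realisable [Fintype F] (R H : Subgroup (GL (Fin n) F)) (hR : AbsIrr R)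
    (hnorm : ∀ h ∈ H, ∀ x ∈ R, h * x * h⁻¹ ∈ R) (F₀ : Subfield F) (h0 : F₀ ≠ ⊤)
    (hreal : RealisableOver F₀ (matrixSet R)) : InClass H :=
  Cfsg.Agent.Lib.Helper12.AschG3.exists_class5_of_realisable R H hR hnorm F₀ h0 hreal

/-- **CORE-ND** DEPRECATED, NOT NEEDED ANY MORE (use `InClass.of_realisable`).  (Noether-Deuring-lite) if `H` normalises an absolutely irreducible `R` that is realisable over `F₀`, then
`H` is realisable over `F₀` modulo scalars -/
theorem realModScal_of_normalizes (H R : Subgroup (GL (Fin n) F)) (hn : ∀ h ∈ H, ∀ x ∈ R, h * x * h⁻¹ ∈ R)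
    (hR : AbsIrr R) (F₀ : Subfield F) (hreal : RealisableOver F₀ (matrixSet R)) : RealModScal F₀ H :=
  Cfsg.Agent.Lib.Helper12.S5630CoreND.realModScal_of_normalizes H R hn hR F₀ hreal

/-- **CORE-AB** a commutative group is not absolutely irreducible in dimension `≥ 2` -/
theorem not_absIrr_of_comm (hn : 2 ≤ n) (A : Subgroup (GL (Fin n) F)) (hA : ∀ x ∈ A, ∀ y ∈ A, x * y = y * x) :
    ¬ AbsIrr A :=
  Cfsg.Agent.Lib.Helper14.S5630Core.not_absIrr_of_comm hn A hA

/-- **CORE-F1** a bilinear non-degenerate form fixed by an absolutely irreducible `R` is unique up to scalars: every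
`h` normalising `R` is a similarity -/
theorem mem_similarityGroup_of_normalizes (R : Subgroup (GL (Fin n) F)) (hR : AbsIrr R)
    (f : (Fin n → F) → (Fin n → F) → F) (hf : IsBilinearForm f) (hnd : IsNondegenerateForm f)
    (hfix : FixesForm (matrixSet R) f) (h : GL (Fin n) F) (hh : ∀ x ∈ R, h * x * h⁻¹ ∈ R) :
    h ∈ similarityGroup f :=
  Cfsg.Agent.Lib.Helper23.S5630CoreF.mem_similarityGroup_of_normalizes R hR f hf hnd hfix h hh

/-- **CORE-F2** the same for unitary forms -/
theorem mem_similarityGroup_of_normalizes_unitary (R : Subgroup (GL (Fin n) F)) (hR : AbsIrr R)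
    (σ : F ≃+* F) (f : (Fin n → F) → (Fin n → F) → F) (hf : IsUnitaryForm σ f)
    (hfix : FixesForm (matrixSet R) f) (h : GL (Fin n) F) (hh : ∀ x ∈ R, h * x * h⁻¹ ∈ R) :
    h ∈ similarityGroup f :=
  Cfsg.Agent.Lib.Helper23.S5630CoreF.mem_similarityGroup_of_normalizes_unitary R hR σ f hf hfix h hh

/-- **CORE-F3** the same for quadratic forms in odd characteristic -/
theorem mem_quadSimilarityGroup_of_normalizes [Fintype F] (R : Subgroup (GL (Fin n) F)) (hR : AbsIrr R)
    (Q : (Fin n → F) → F) (hQ : IsNondegenerateQuadraticForm Q) (ho : Odd (Fintype.card F))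
    (hfix : FixesQuadForm (matrixSet R) Q) (h : GL (Fin n) F) (hh : ∀ x ∈ R, h * x * h⁻¹ ∈ R) :
    h ∈ quadSimilarityGroup Q :=
  Cfsg.Agent.Lib.Helper8.S5630CoreF3.mem_quadSimilarityGroup_of_normalizes_of_F1 R Q hQ ho hfix h
    (fun f hf hnd hfixf => mem_similarityGroup_of_normalizes R hR f hf hnd hfixf h hh)

/-- **CORE-F4** in characteristic 2 the polar form of a non-degenerate quadratic form is symplectic, and is fixed by
whoever fixes the quadratic form -/
theorem isSymplecticForm_polar [Fintype F] (Q : (Fin n → F) → F) (hQ : IsNondegenerateQuadraticForm Q)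
    (ho : ¬ Odd (Fintype.card F)) : IsSymplecticForm (QuadraticMap.polar Q) :=
  Cfsg.Agent.Lib.Helper14.S5630Core.isSymplecticForm_polar Q hQ ho

theorem fixesForm_polar (S : Set (Matrix (Fin n) (Fin n) F)) (Q : (Fin n → F) → F)
    (hfix : FixesQuadForm S Q) : FixesForm S (QuadraticMap.polar Q) :=
  Cfsg.Agent.Lib.Helper14.S5630Core.fixesForm_polar S Q hfix

/-- **CORE-F5** a symplectic form lives in even dimension -/
theorem even_of_isSymplecticForm (f : (Fin n → F) → (Fin n → F) → F) (hf : IsSymplecticForm f) : Even n :=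
  Cfsg.Agent.Lib.Helper14.S5630Core.even_of_isSymplecticForm f hf

end Cfsg.Agent.Lib.Helper7.Asch
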