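import Mathlib
import Cfsg.Agent.S1459
import Cfsg.Agent.S1404
import Cfsg.Agent.Lib.Helper9.BGExc15

/-!
# Helper7 library: BG Lemma 12.17 (`S1426`) from its predecessors

* `part_ab`: `C_{M_σ}(E) ≤ (M_σ)'` and `[M_σ, E] = M_σ` (from `S1459`, `M_σ ≤ M'`).
* `part_c`: for `g ∉ M`, `M_σ ∩ M^g` is cyclic, a `β(M)'`-group and meets `(M_σ)'` trivially; the
  inputs from `S1420` (third part) and `S1423` (first part) are hypotheses.
-/

set_option autoImplicit false
set_option linter.unusedSectionVars false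
set_option linter.style.haveILetI false

open Cfsg
open scoped commutatorElement
open Cfsg.Agent.Lib.Helper10.BG
open Cfsg.Agent.Lib.Helper9.BGExc

namespace Cfsg.Agent.Lib.Helper7.BG1217

variable {G : Type*} [Group G] [Finite G]

/-- `C_{M_σ}(E) ≤ (M_σ)'` and `[M_σ, E] = M_σ`. -/
theorem part_ab (hG : IsMinSimpleOddOrder G) {M E : Subgroup G} (hM : IsCoatom M)
    (hE : IsComplIn E (sigmaCore M) M) :
    sigmaCore M ⊓ Subgroup.centralizer (E : Set G) ≤ ⁅sigmaCore M, sigmaCore M⁆ ∧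
      ⁅sigmaCore M, E⁆ = sigmaCore M := by
  haveI : Group.IsSolvable M := isSolvable_of_ne_top hG hM.1
  set H : Subgroup ↥M := piCore (sigma M) ↥M with hH
  set K : Subgroup ↥M := E.subgroupOf M with hK
  have hHmap : H.map M.subtype = sigmaCore M := rfl
  have hKmap : K.map M.subtype = E := Subgroup.map_subgroupOf_eq_of_le hE.1
  have hcardH : Nat.card H = Nat.card (sigmaCore M) := by
    rw [← hHmap]; exact (Subgroup.card_map_of_injective M.subtype_injective).symm
  have hcardK : Nat.card K = Nat.card E := by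
    rw [← hKmap]; exact (Subgroup.card_map_of_injective M.subtype_injective).symm
  have hHall := (Cfsg.Agent.S1350.result hG M hM).1
  have hidx : H.index = (sigmaCore M).relIndex M := by
    unfold Subgroup.relIndex Subgroup.subgroupOf
    rw [← hHmap, Subgroup.comap_map_eq_self_of_injective M.subtype_injective]
  have hcop : (Nat.card H).Coprime H.index := by
    rw [hcardH, hidx]
    apply Nat.coprime_of_dvd
    intro k hk hk1 hk2
    exact hHall.2.2 k hk (hHall.2.1 k hk hk1) hk2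
  have hcompl : Subgroup.IsComplement' H K := by
    apply Subgroup.isComplement'_of_card_mul_and_disjoint
    · rw [hcardH, hcardK, mul_comm]
      exact (Cfsg.Agent.Lib.Helper10.IsComplIn.card_eq hE).symm
    · rw [disjoint_iff, eq_bot_iff]
      intro x hx
      have h1 : (x : G) ∈ E ⊓ sigmaCore M :=
        ⟨Subgroup.mem_subgroupOf.mp hx.2, ⟨x, hx.1, rfl⟩⟩
      rw [hE.2.2.1, Subgroup.mem_bot] at h1
      rw [Subgroup.mem_bot]
      exact Subtype.ext h1
  have hHcomm : H ≤ commutator ↥M := by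
    intro x hx
    have h1 : (x : G) ∈ ⁅M, M⁆ := sigmaCore_le_commutator hG hM ⟨x, hx, rfl⟩
    rw [← Subgroup.map_subtype_commutator M] at h1
    obtain ⟨y, hy, hyx⟩ := h1
    have : y = x := Subtype.ext hyx
    rwa [this] at hy
  obtain ⟨h1, h2⟩ := (Cfsg.Agent.S1459.result (G := ↥M)).1 H K inferInstance hcop hcompl hHcomm
  refine ⟨?_, ?_⟩
  · intro x hx
    obtain ⟨⟨y, hy, rfl⟩, hxc⟩ := hx
    have hyc : y ∈ H ⊓ Subgroup.centralizer (K : Set ↥M) := by
      refine ⟨hy, ?_⟩
      show y ∈ Subgroup.centralizer (K : Set ↥M)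
      rw [Subgroup.mem_centralizer_iff]
      intro k hk
      apply Subtype.ext
      have hxc' : (y : G) ∈ Subgroup.centralizer (E : Set G) := hxc
      have := Subgroup.mem_centralizer_iff.mp hxc' (k : G) (Subgroup.mem_subgroupOf.mp hk)
      simpa using this
    have h3 := h2 hyc
    have h4 : (y : G) ∈ (⁅H, H⁆ : Subgroup ↥M).map M.subtype := ⟨y, h3, rfl⟩
    rw [Subgroup.map_commutator, hHmap] at h4
    exact h4
  · have h3 : (⁅H, K⁆ : Subgroup ↥M).map M.subtype = ⁅sigmaCore M, E⁆ := by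
      rw [Subgroup.map_commutator, hHmap, hKmap]
    rw [← h3, ← h1, hHmap]

/-- a nontrivial `p`-subgroup of `M_σ ∩ M^g`, `g ∉ M`, has centralizer not contained in `M`. -/
theorem not_centralizer_le (hG : IsMinSimpleOddOrder G) {M : Subgroup G} (hM : IsCoatom M)
    {g : G} (hg : g ∉ M) {p : ℕ} [Fact p.Prime] {Y : Subgroup G} (hYp : IsPGroup p Y)
    (hY1 : Y ≠ ⊥) (hY : Y ≤ sigmaCore M ⊓ M.map (MulAut.conj g).toMonoidHom) :
    p ∈ sigma M ∧ ¬ Subgroup.centralizer (Y : Set G) ≤ M := by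
  have hYσ : Y ≤ sigmaCore M := hY.trans inf_le_left
  have hYM : Y ≤ M := hYσ.trans (sigmaCore_le M)
  have hp : p ∈ sigma M := by
    apply mem_sigma_of_dvd_card_sigmaCore hG hM Fact.out
    exact (dvd_card_of_pgroup_ne_bot hYp hY1).trans
      (Subgroup.card_dvd_of_le hYσ)
  refine ⟨hp, fun hcen => ?_⟩
  have hconj : Y.map (MulAut.conj g⁻¹).toMonoidHom ≤ M := by
    rintro _ ⟨y, hy, rfl⟩
    obtain ⟨m, hm, hmy⟩ := (hY hy).2
    have : (MulAut.conj g⁻¹).toMonoidHom y = m := by
      rw [← hmy]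
      simp [MulAut.conj_apply, mul_assoc]
    rw [this]; exact hm
  obtain ⟨m, hm, c, hc, hgmc⟩ := (Cfsg.Agent.S1404.result hG M hM p hp Y hYp hY1 hYM).1 g⁻¹ hconj
  have : g⁻¹ ∈ M := by rw [hgmc]; exact M.mul_mem hm (hcen hc)
  exact hg (by simpa using M.inv_mem this)

/-- BG Lemma 12.17, last part, with the inputs from `S1420` and `S1423` as hypotheses. -/
theorem part_c (hG : IsMinSimpleOddOrder G) {M : Subgroup G} (hM : IsCoatom M)
    (h20 : ∀ (p : ℕ) (P : Subgroup G), p ∈ sigma M → IsPGroup p P → P ≤ M → ¬ IsCyclic P →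
      Subgroup.normalizer (P : Set G) ≤ M)
    (h23 : ∀ (p : ℕ) [Fact p.Prime], p ∈ sigma M → ∀ X : Subgroup G, X ≤ M → Nat.card X = p →
      (p ∈ beta M ∨ X ≤ ⁅sigmaCore M, sigmaCore M⁆) → Subgroup.centralizer (X : Set G) ≤ M)
    {g : G} (hg : g ∉ M) :
    IsCyclic ↥(sigmaCore M ⊓ M.map (MulAut.conj g).toMonoidHom) ∧
      (∀ p : ℕ, p.Prime → p ∣ Nat.card ↥(sigmaCore M ⊓ M.map (MulAut.conj g).toMonoidHom) →
        p ∉ beta M) ∧
      sigmaCore M ⊓ M.map (MulAut.conj g).toMonoidHom ⊓ ⁅sigmaCore M, sigmaCore M⁆ = ⊥ := by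
  set X : Subgroup G := sigmaCore M ⊓ M.map (MulAut.conj g).toMonoidHom with hX
  -- subgroups of prime order
  have key : ∀ (p : ℕ) [Fact p.Prime] (y : G), y ∈ X → orderOf y = p →
      p ∉ beta M ∧ ¬ (y ∈ ⁅sigmaCore M, sigmaCore M⁆) := by
    intro p _ y hy hyo
    have hYcard : Nat.card (Subgroup.zpowers y) = p := by rw [Nat.card_zpowers, hyo]
    have hYp : IsPGroup p (Subgroup.zpowers y) := IsPGroup.of_card (n := 1) (by rw [hYcard, pow_one])
    have hY1 : Subgroup.zpowers y ≠ ⊥ := by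
      intro h
      rw [h, Subgroup.card_bot] at hYcard
      exact (Fact.out : p.Prime).one_lt.ne hYcard
    have hYX : Subgroup.zpowers y ≤ X := by rw [Subgroup.zpowers_le]; exact hy
    obtain ⟨hp, hnot⟩ := not_centralizer_le hG hM hg hYp hY1 hYX
    have hYM : Subgroup.zpowers y ≤ M := hYX.trans (inf_le_left.trans (sigmaCore_le M))
    refine ⟨fun hβ => hnot (h23 p hp _ hYM hYcard (Or.inl hβ)), fun hder => hnot ?_⟩
    exact h23 p hp _ hYM hYcard (Or.inr (by rw [Subgroup.zpowers_le]; exact hder))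
  have hbot : X ⊓ ⁅sigmaCore M, sigmaCore M⁆ = ⊥ := by
    by_contra hne
    have hcard : Nat.card ↥(X ⊓ ⁅sigmaCore M, sigmaCore M⁆) ≠ 1 := by
      intro h; exact hne (Subgroup.card_eq_one.mp h)
    obtain ⟨p, hp, hpd⟩ := Nat.exists_prime_and_dvd hcard
    haveI : Fact p.Prime := ⟨hp⟩
    obtain ⟨y, hy⟩ := exists_prime_orderOf_dvd_card' p hpd
    have hy' : orderOf (y : G) = p := by rw [Subgroup.orderOf_coe]; exact hy
    exact (key p (y : G) y.2.1 hy').2 y.2.2
  refine ⟨?_, ?_, hbot⟩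
  · -- `X` is abelian
    have hcomm : ∀ a b : ↥X, a * b = b * a := by
      intro a b
      have h1 : ⁅(a : G), (b : G)⁆ ∈ X ⊓ ⁅sigmaCore M, sigmaCore M⁆ := by
        refine ⟨?_, Subgroup.commutator_mem_commutator a.2.1 b.2.1⟩
        rw [commutatorElement_def]
        exact X.mul_mem (X.mul_mem (X.mul_mem a.2 b.2) (X.inv_mem a.2)) (X.inv_mem b.2)
      rw [hbot, Subgroup.mem_bot, commutatorElement_eq_one_iff_mul_comm] at h1
      exact Subtype.ext h1
    let _inst : CommGroup ↥X := { (inferInstance : Group ↥X) with mul_comm := hcomm }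
    have hn : Group.IsNilpotent ↥X := CommGroup.isNilpotent
    apply isCyclic_of_isNilpotent_of_isZGroup hn
    refine ⟨fun p hp P => ?_⟩
    haveI : Fact p.Prime := ⟨hp⟩
    by_contra hnc
    set Y : Subgroup G := (P : Subgroup ↥X).map X.subtype with hYdef
    have hYX : Y ≤ X := Subgroup.map_subtype_le _
    have hYp : IsPGroup p Y := P.2.map X.subtype
    have e : (P : Subgroup ↥X) ≃* Y :=
      (P : Subgroup ↥X).equivMapOfInjective X.subtype X.subtype_injective
    have hYnc : ¬ IsCyclic Y := fun h => hnc (isCyclic_of_surjective e.symm e.symm.surjective)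
    have hY1 : Y ≠ ⊥ := by
      intro h
      apply hYnc
      rw [h]
      infer_instance
    obtain ⟨hpσ, hnot⟩ := not_centralizer_le hG hM hg hYp hY1 hYX
    have hYM : Y ≤ M := hYX.trans (inf_le_left.trans (sigmaCore_le M))
    exact hnot ((Subgroup.centralizer_le_normalizer _).trans (h20 p Y hpσ hYp hYM hYnc))
  · intro p hp hpd
    haveI : Fact p.Prime := ⟨hp⟩
    obtain ⟨y, hy⟩ := exists_prime_orderOf_dvd_card' p hpd
    have hy' : orderOf (y : G) = p := by rw [Subgroup.orderOf_coe]; exact hy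
    exact (key p (y : G) y.2 hy').1

end Cfsg.Agent.Lib.Helper7.BG1217
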