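import Mathlib
import Cfsg.Prelude
import Cfsg.Agent.Lib.Helper10.BGThirteenA
import Cfsg.Agent.S1408
import Cfsg.Agent.Lib.Helper9.BGExc15
import Cfsg.Agent.Lib.Helper9.BGPrime4

/-!
# Bender--Glauberman, Lemma 12.15 (e) and Corollary 12.16 (b), (c)

* `mem_beta_of_tau2` : in the `τ₂` case of Lemma 12.15, the primes of `π(M) ∩ σ(L)` outside
  `σ(M)` lie in `β(L)`.
* `sigma_Jsub` : for a nontrivial `σ(M)`-subgroup `Y` of a maximal subgroup `H` not conjugate
  to `M`, and a non-ideal prime `p ∈ π(M) \ σ(M)`: `N_H(Y)` has `p`-rank at most one, and if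
  `p ∈ τ₁(M)` then `p` does not divide `|N_H(Y)'|`.
-/

set_option autoImplicit false
open Cfsg
open Cfsg.Agent.Lib.Helper9.BGExc
open Cfsg.Agent.Lib.Helper10.BG
open scoped Pointwise commutatorElement

namespace Cfsg.Agent.Lib.Helper7.BG13

variable {G : Type*} [Group G] [Finite G]

omit [Finite G] in
/-- second isomorphism theorem for indices, relative form. -/
theorem relIndex_eq_of_le_sup {C D L : Subgroup G} (hCL : C ≤ L)
    (hLC : L ≤ Subgroup.normalizer (C : Set G)) (hDL : D ≤ L) (hsup : L ≤ C ⊔ D) :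
    C.relIndex D = C.relIndex L := by
  have hN : (C.subgroupOf L).Normal := Subgroup.normal_subgroupOf_of_le_normalizer hLC
  have h1 : (C.subgroupOf L).relIndex (D.subgroupOf L) = C.relIndex D :=
    Subgroup.relIndex_subgroupOf hDL
  have h2 : C.subgroupOf L ⊔ D.subgroupOf L = ⊤ := by
    rw [← Subgroup.subgroupOf_sup hCL hDL]
    exact Subgroup.subgroupOf_eq_top.mpr hsup
  have h3 := Subgroup.relIndex_sup_left (D.subgroupOf L) (C.subgroupOf L)
  rw [h2, Subgroup.relIndex_top_right] at h3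
  rw [← h1, ← h3]
  rfl

/-- if `L = C D` with `C` a normal Hall subgroup of the solvable group `L`, every subgroup of
`L` of order prime to `|C|` is conjugate in `L` to a subgroup of `D`. -/
theorem exists_conj_le_of_factor {L C D K : Subgroup G} (hLs : Group.IsSolvable L)
    (hCL : C ≤ L) (hLC : L ≤ Subgroup.normalizer (C : Set G)) (hDL : D ≤ L)
    (hsup : L ≤ C ⊔ D) (hcop : (Nat.card C).Coprime (C.relIndex L)) (hKL : K ≤ L)
    (hK : (Nat.card K).Coprime (Nat.card C)) :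
    ∃ g ∈ L, K.map (MulAut.conj g).toMonoidHom ≤ D := by
  have e1 : Nat.card D = Nat.card ↥(D ⊓ C) * C.relIndex D :=
    Cfsg.Agent.Lib.Helper18.card_eq_card_inf_mul_relIndex D C
  have e2 : C.relIndex D = C.relIndex L := relIndex_eq_of_le_sup hCL hLC hDL hsup
  have hDs : Group.IsSolvable D := by
    have := hLs
    exact solvable_of_solvable_injective (Subgroup.inclusion_injective hDL)
  have hcard : Nat.card D = C.relIndex L * Nat.card ↥(D ⊓ C) := by
    rw [e1, e2, mul_comm]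
  have hmn : (C.relIndex L).Coprime (Nat.card ↥(D ⊓ C)) :=
    Nat.Coprime.coprime_dvd_right (Subgroup.card_dvd_of_le inf_le_right) hcop.symm
  obtain ⟨D₁', hD₁'⟩ := Cfsg.Agent.Lib.Helper1.hall_exists (G := ↥D) _ _ hcard hmn
  obtain ⟨D₁, hD₁⟩ : ∃ D₁ : Subgroup G, D₁ = D₁'.map D.subtype := ⟨_, rfl⟩
  have hD₁D : D₁ ≤ D := by
    rw [hD₁]
    exact Subgroup.map_subtype_le _
  have hD₁card : Nat.card D₁ = C.relIndex L := by
    rw [hD₁, Subgroup.card_map_of_injective D.subtype_injective, hD₁']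
  have hpos : 0 < C.relIndex L := by
    rw [← hD₁card]
    exact Nat.card_pos
  have hrel : D₁.relIndex L = Nat.card C := by
    have h1 : Nat.card D₁ * D₁.relIndex L = Nat.card L :=
      Cfsg.Agent.Lib.Helper12.card_mul_relIndex_eq (hD₁D.trans hDL)
    have h2 : Nat.card C * C.relIndex L = Nat.card L :=
      Cfsg.Agent.Lib.Helper12.card_mul_relIndex_eq hCL
    rw [hD₁card, ← h2, mul_comm] at h1
    exact Nat.eq_of_mul_eq_mul_right hpos h1
  obtain ⟨g, hgL, hg⟩ := hall_le_conj_in hLs (hD₁D.trans hDL) hKL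
    (by rw [hD₁card, hrel]; exact hcop.symm) (by rw [hrel]; exact hK)
  exact ⟨g, hgL, hg.trans hD₁D⟩

/-- a `p`-group meets a normal `p'`-group trivially; commutator version: if `A ≤ W`, `P`
normalizes `W`, `A` normalizes `P` and `W ⊓ P = ⊥`, then `P` centralizes `A`. -/
theorem le_centralizer_of_commutator_le {A P W : Subgroup G} (hAW : A ≤ W)
    (hPW : P ≤ Subgroup.normalizer (W : Set G)) (hAP : A ≤ Subgroup.normalizer (P : Set G))
    (hWP : W ⊓ P = ⊥) : P ≤ Subgroup.centralizer (A : Set G) := by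
  rw [← Subgroup.commutator_eq_bot_iff_le_centralizer, eq_bot_iff, ← hWP]
  apply le_inf
  · rw [Subgroup.commutator_comm]
    exact (Subgroup.commutator_mono hAW le_rfl).trans
      (Cfsg.Agent.Lib.Helper1.commutator_le_of_le_normalizer hPW)
  · exact Cfsg.Agent.Lib.Helper1.commutator_le_of_le_normalizer hAP

/-- **Bender--Glauberman, Lemma 12.15 (e)**, the `τ₂` case: if `q ∈ σ(M) ∩ τ₂(L)`, `L ≠ M` and
`M ∩ L` contains an elementary abelian subgroup of order `q ^ 2`, then every prime of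
`π(M) ∩ σ(L)` outside `σ(M)` lies in `β(L)`. -/
theorem mem_beta_of_tau2 (hG : IsMinSimpleOddOrder G) {M L A : Subgroup G}
    (hM : IsCoatom M) (hL : IsCoatom L) (hLM : L ≠ M) {q : ℕ} [Fact q.Prime]
    (hq : q ∈ sigma M) (hqτ : q ∈ tau2 L) (hAM : A ≤ M) (hAL : A ≤ L)
    (hAe : IsElementaryAbelian q A) (hAcard : Nat.card A = q ^ 2) {p : ℕ} [Fact p.Prime]
    (hpM : p ∣ Nat.card M) (hpσM : p ∉ sigma M) (hpL : p ∈ sigma L) : p ∈ beta L := by
  have hqp : q.Prime := Fact.out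
  have hpp : p.Prime := Fact.out
  by_contra hpβ
  obtain ⟨hnil, -, -, hcent, hinf, -⟩ :=
    Cfsg.Agent.S1417.result hG L hL q hqτ A ⟨hAL, hAe, hAcard⟩
  have hAq : IsPGroup q A := IsPGroup.of_card hAcard
  have hpq : p ≠ q := fun h => hqτ.2.1 (h ▸ hpL)
  -- step 1: `q ≤ p`
  have h1 : q ≤ p := by
    by_contra hlt
    push Not at hlt
    have h14 := (Cfsg.Agent.S1414.result hG L hL).2.2.2.2 p hpp hpL.2.1 hpβ
    have hnd : ¬ q ∣ (ppCoreOf p L).relIndex L := by
      rw [relIndex_ppCoreOf]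
      intro hd
      have := h14.2.2 q hqp hd
      omega
    have hAW : A ≤ ppCoreOf p L :=
      pgroup_le_of_not_dvd_relIndex (le_normalizer_ppCoreOf p L) hnd hAq hAL
    have hPS : IsSylowIn p (pCoreOf p (sigmaCore L)) (sigmaCore L) :=
      Cfsg.Agent.Lib.Helper9.BG10.isSylowIn_pCoreOf hnil hpp
    have hpd : p ∣ Nat.card (sigmaCore L) := by
      obtain ⟨T, hT⟩ := exists_isSylowIn p L
      have hT1 : T ≠ ⊥ := hT.ne_bot_of_dvd hpL.2.1
      exact (dvd_card_of_pgroup_ne_bot hT.isPGroup hT1).trans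
        (Subgroup.card_dvd_of_le (pgroup_le_sigmaCore hG hL hpL hT.isPGroup hT.le))
    have hPne : pCoreOf p (sigmaCore L) ≠ ⊥ := hPS.ne_bot_of_dvd hpd
    have hPn : L ≤ Subgroup.normalizer (pCoreOf p (sigmaCore L) : Set G) :=
      (le_normalizer_sigmaCore L).trans (normalizer_le_normalizer_pCoreOf p (sigmaCore L))
    have hPL : pCoreOf p (sigmaCore L) ≤ L := (pCoreOf_le p _).trans (sigmaCore_le L)
    have hWP : ppCoreOf p L ⊓ pCoreOf p (sigmaCore L) = ⊥ := by
      apply inf_eq_bot_of_coprime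
      obtain ⟨k, hk⟩ := (isPGroup_pCoreOf p (sigmaCore L)).exists_card_eq
      rw [hk]
      exact Nat.Coprime.pow_right k (coprime_card_ppCoreOf p L)
    have hPc : pCoreOf p (sigmaCore L) ≤ Subgroup.centralizer (A : Set G) :=
      le_centralizer_of_commutator_le hAW (hPL.trans (le_normalizer_ppCoreOf p L))
        (hAL.trans hPn) hWP
    apply hPne
    rw [eq_bot_iff, ← hcent]
    exact le_inf (pCoreOf_le p _) hPc
  -- step 2: `p ≤ q`
  have h2 : p ≤ q := by
    by_contra hlt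
    push Not at hlt
    have hqi : ¬ IsIdealPrime q G :=
      (Cfsg.Agent.S1408.result hG L hL q hqτ.2.1 hqτ.2.2.1 hqτ.2.2.2).1
    have hqβM : q ∉ beta M := fun h => hqi h.2
    have h14 := (Cfsg.Agent.S1414.result hG M hM).2.2.2.2 q hqp hq.2.1 hqβM
    have hnd : ¬ p ∣ (ppCoreOf q M).relIndex M := by
      rw [relIndex_ppCoreOf]
      intro hd
      have := h14.2.2 p hpp hd
      omega
    have hWM : ppCoreOf q M ≤ M := ppCoreOf_le q M
    have hact : Cfsg.Agent.Lib.Helper1.CoprimeAct A (ppCoreOf q M) := by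
      refine ⟨hAM.trans (le_normalizer_ppCoreOf q M), ?_, Or.inr
        (isSolvable_of_ne_top hG (ne_top_of_le_isCoatom hM hWM))⟩
      rw [hAcard]
      exact Nat.Coprime.pow_left 2 (coprime_card_ppCoreOf q M).symm
    obtain ⟨T, hTW, hTcard, hAT⟩ := exists_invariant_sylow' hact hpp
    have hTp : IsPGroup p T := IsPGroup.of_card hTcard
    have hpW : p ∣ Nat.card (ppCoreOf q M) := by
      have e := Cfsg.Agent.Lib.Helper12.card_mul_relIndex_eq hWM
      rw [← e] at hpM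
      exact ((Nat.Prime.dvd_mul hpp).mp hpM).resolve_right hnd
    have hT1 : T ≠ ⊥ := by
      intro h
      rw [h, Subgroup.card_bot] at hTcard
      have h3 : 1 ≤ (Nat.card (ppCoreOf q M)).factorization p :=
        (Nat.Prime.dvd_iff_one_le_factorization hpp Nat.card_pos.ne').mp hpW
      have h4 : p ^ 1 ≤ p ^ (Nat.card (ppCoreOf q M)).factorization p :=
        Nat.pow_le_pow_right hpp.pos h3
      rw [pow_one] at h4
      have := hpp.one_lt
      omega
    have hAσ : A ≤ sigmaCore M := pgroup_le_sigmaCore hG hM hq hAq hAM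
    have hTM : T ≤ M := hTW.trans hWM
    have hσT : sigmaCore M ⊓ T = ⊥ := by
      apply inf_eq_bot_of_coprime
      obtain ⟨k, hk⟩ := hTp.exists_card_eq
      rw [hk]
      exact Nat.Coprime.pow_right k (coprime_card_sigmaCore hG hM hpp hpσM)
    have hTc : T ≤ Subgroup.centralizer (A : Set G) :=
      le_centralizer_of_commutator_le hAσ (hTM.trans (le_normalizer_sigmaCore M)) hAT hσT
    have hcop : (Nat.card A).Coprime (Nat.card (sigmaCore L)) := by
      rw [hAcard]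
      exact Nat.Coprime.pow_left 2 (coprime_card_sigmaCore hG hL hqp hqτ.2.1).symm
    obtain ⟨E, hE, hAE⟩ := exists_isComplIn_sigmaCore_ge hG hL hAL hcop
    have hCL : Subgroup.centralizer (A : Set G) ≤ L :=
      ((Cfsg.Agent.S1418.result hG L hL E hE q hqτ A ⟨hAE, hAe, hAcard⟩).2.1.1).trans
        inf_le_left
    have hTL : T ≤ L := hTc.trans hCL
    have hTσ : T ≤ sigmaCore L := pgroup_le_sigmaCore hG hL hpL hTp hTL
    apply hT1
    rw [eq_bot_iff, ← hinf M hM hLM.symm hAM]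
    exact le_inf hTσ hTM
  exact hpq (le_antisymm h2 h1)

/-- the factorization of Lemma 12.15 (d), (f), with the extra information of (e): for a
nontrivial `q`-subgroup `X` of `M`, `q ∈ σ(M)`, and a non-ideal prime `p ∈ π(M) \ σ(M)`, a
maximal subgroup `L ≥ N_G(X)` is `M` or factors as `L = C (M ∩ L)` with `C` a normal Hall
subgroup of `L` of order prime to `p` and to all primes of `σ(M)`. -/
theorem exists_coatom_factor (hG : IsMinSimpleOddOrder G) {M : Subgroup G} (hM : IsCoatom M)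
    {q : ℕ} [Fact q.Prime] (hq : q ∈ sigma M) {X : Subgroup G} (hXq : IsPGroup q X)
    (hX1 : X ≠ ⊥) (hXM : X ≤ M) {p : ℕ} [Fact p.Prime] (hpM : p ∣ Nat.card M)
    (hpσ : p ∉ sigma M) (hpi : ¬ IsIdealPrime p G) :
    ∃ L : Subgroup G, IsCoatom L ∧ Subgroup.normalizer (X : Set G) ≤ L ∧
      (L = M ∨ ((∀ g : G, L ≠ M.map (MulAut.conj g).toMonoidHom) ∧
        ∃ C : Subgroup G, C ≤ L ∧ L ≤ Subgroup.normalizer (C : Set G) ∧ L ≤ C ⊔ (M ⊓ L) ∧
          (∀ r : ℕ, r.Prime → r ∈ sigma M → ¬ r ∣ Nat.card C) ∧ ¬ p ∣ Nat.card C ∧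
          (Nat.card C).Coprime (C.relIndex L))) := by
  have hqp : q.Prime := Fact.out
  have hpp : p.Prime := Fact.out
  have hXtop : X ≠ ⊤ := ne_top_of_le_isCoatom hM hXM
  have hNN : Subgroup.normalizer (X : Set G) ≠ ⊤ :=
    Cfsg.Agent.Lib.Lead.BGTrans.normalizer_ne_top hG.2 hX1 hXtop
  obtain ⟨L, hL, hNL⟩ := exists_isCoatom_ge hNN
  refine ⟨L, hL, hNL, ?_⟩
  by_cases hLM : L = M
  · exact Or.inl hLM
  right
  obtain ⟨S, hS, hXS⟩ := exists_isSylowIn_ge (le_inf hXM (Subgroup.le_normalizer.trans hNL)) hXq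
  obtain ⟨hNSM, hSL⟩ := lemma_12_15 hG hM hq hXq hX1 hNL hS hXS
  have hnc : ∀ g : G, L ≠ M.map (MulAut.conj g).toMonoidHom :=
    fun g => ne_conj_of_normalizer_le hG hM hL hq hXq hX1 hXM hNL hLM g
  refine ⟨hnc, ?_⟩
  by_cases hqL : q ∈ sigma L
  · have hqβ : q ∉ beta L := by
      intro hβ
      have hrS : ¬ PRankLE q 2 ↥S := not_pRankLE_sylow_of_not_pRankLE hSL hβ.1.2
      have hU := inUniqueMaximal_of_not_pRankLE hG hqp (ne_top_of_le_isCoatom hL hSL.le) hrS
      exact hLM (hU.unique ⟨hL, hSL.le⟩ ⟨hM, hS.le.trans inf_le_left⟩)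
    have hβHall := (Cfsg.Agent.S1414.result hG L hL).1
    refine ⟨piCoreOf (beta L) L, hβHall.1, ?_, ?_, ?_, ?_, ?_⟩
    · unfold piCoreOf
      exact le_normalizer_map_subtype_of_normal (piCore (beta L) ↥L)
    · exact (le_beta_sup_normalizer hG hL hqL hqβ hSL).trans
        (sup_le_sup_left (le_inf (inf_le_right.trans hNSM) inf_le_left) _)
    · intro r hr hrM hd
      exact not_mem_beta_of_not_conj hG hM hL hnc hr hrM (hβHall.2.1 r hr hd)
    · intro hd
      exact hpi (hβHall.2.1 p hpp hd).2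
    · exact Nat.coprime_of_dvd
        (fun k hk hk1 hk2 => hβHall.2.2 k hk (hβHall.2.1 k hk hk1) hk2)
  · have hqτ : q ∈ tau2 L :=
      (mem_sigma_or_tau2_of_normalizer_le hG hL hXq hX1 hNL).resolve_left hqL
    have hrS : ¬ PRankLE q 1 ↥S := not_pRankLE_sylow_of_not_pRankLE hSL hqτ.2.2.2
    obtain ⟨A, hAS, hAe, hAcard⟩ := exists_elementary_sq_of_not_pRankLE_one hS.isPGroup hrS
    have hAM : A ≤ M := hAS.trans (hS.le.trans inf_le_left)
    have hAL : A ≤ L := hAS.trans hSL.le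
    obtain ⟨hnil, hsup⟩ := le_sigmaCore_sup_of_tau2 hG hM hL hq hqτ hAM hAL hAe hAcard
    have hσHall := (Cfsg.Agent.S1350.result hG L hL).1
    refine ⟨sigmaCore L, sigmaCore_le L, le_normalizer_sigmaCore L, hsup, ?_, ?_, ?_⟩
    · intro r hr hrM
      exact not_dvd_card_sigmaCore_of_nilpotent hG hM hL hnil hnc hr hrM
    · intro hd
      have hpL : p ∈ sigma L := mem_sigma_of_dvd_card_sigmaCore hG hL hpp hd
      exact hpi (mem_beta_of_tau2 hG hM hL hLM hq hqτ hAM hAL hAe hAcard hpM hpσ hpL).2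
    · exact Nat.coprime_of_dvd
        (fun k hk hk1 hk2 => hσHall.2.2 k hk (hσHall.2.1 k hk hk1) hk2)

omit [Finite G] in
theorem commutator_self_le (D : Subgroup G) : ⁅D, D⁆ ≤ D :=
  Cfsg.Agent.Lib.Helper1.commutator_le_of_le_normalizer Subgroup.le_normalizer

omit [Finite G] in
/-- if `L = C D` with `C` normal in `L`, then `L' ≤ C D'`. -/
theorem commutator_le_sup_of_le_sup {L C D : Subgroup G}
    (hLC : L ≤ Subgroup.normalizer (C : Set G)) (hDL : D ≤ L) (hsup : L ≤ C ⊔ D) :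
    ⁅L, L⁆ ≤ C ⊔ ⁅D, D⁆ := by
  rw [Subgroup.commutator_le]
  intro a ha b hb
  obtain ⟨c₁, hc₁, d₁, hd₁, rfl⟩ :=
    exists_mul_of_mem_sup_of_le_normalizer (hDL.trans hLC) (hsup ha)
  obtain ⟨c₂, hc₂, d₂, hd₂, rfl⟩ :=
    exists_mul_of_mem_sup_of_le_normalizer (hDL.trans hLC) (hsup hb)
  have hd : ⁅d₁, d₂⁆ ∈ ⁅D, D⁆ := Subgroup.commutator_mem_commutator hd₁ hd₂
  have hdL : ⁅d₁, d₂⁆ ∈ L := hDL (commutator_self_le D hd)
  have e : ⁅c₁ * d₁, c₂ * d₂⁆ = c₁ * (d₁ * c₂ * d₁⁻¹) *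
      ((d₁ * d₂ * d₁⁻¹) * c₁⁻¹ * (d₁ * d₂ * d₁⁻¹)⁻¹) *
      (⁅d₁, d₂⁆ * c₂⁻¹ * ⁅d₁, d₂⁆⁻¹) * ⁅d₁, d₂⁆ := by
    simp only [commutatorElement_def]
    group
  rw [e]
  refine Subgroup.mul_mem _ (Subgroup.mem_sup_left ?_) (Subgroup.mem_sup_right hd)
  have hd₁L : d₁ ∈ L := hDL hd₁
  have hd₂L : d₂ ∈ L := hDL hd₂
  refine C.mul_mem (C.mul_mem (C.mul_mem hc₁ ?_) ?_) ?_
  · exact conj_mem_of_mem_normalizer (hLC hd₁L) hc₂
  · exact conj_mem_of_mem_normalizer
      (hLC (L.mul_mem (L.mul_mem hd₁L hd₂L) (L.inv_mem hd₁L))) (C.inv_mem hc₁)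
  · exact conj_mem_of_mem_normalizer (hLC hdL) (C.inv_mem hc₂)

/-- the basic contradiction: an elementary abelian subgroup of order `p ^ 2` of `M ∩ H`,
`p ∉ σ(M)`, `H ≠ M`, and a nontrivial `σ(M)`-subgroup of `M ∩ H` cannot coexist. -/
theorem false_of_sq_le (hG : IsMinSimpleOddOrder G) {M H A Y : Subgroup G} (hM : IsCoatom M)
    (hH : IsCoatom H) (hne : H ≠ M) {p : ℕ} [Fact p.Prime] (hpσ : p ∉ sigma M)
    (hAM : A ≤ M) (hAH : A ≤ H) (hAe : IsElementaryAbelian p A) (hAc : Nat.card A = p ^ 2)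
    (hYM : Y ≤ M) (hYH : Y ≤ H) (hY1 : Y ≠ ⊥)
    (hY : ∀ r : ℕ, r.Prime → r ∣ Nat.card Y → r ∈ sigma M) : False := by
  have hpp : p.Prime := Fact.out
  have hτ : p ∈ tau2 M := by
    refine ⟨hpp, hpσ, ?_, ?_⟩
    · by_contra h
      exact hpσ (alpha_subset_sigma hG hM ⟨hpp, h⟩)
    · apply not_pRankLE_of_le hAM hAe
      rw [hAc]
      exact Nat.pow_lt_pow_right hpp.one_lt (by norm_num)
  have h17 := (Cfsg.Agent.S1417.result hG M hM p hτ A ⟨hAM, hAe, hAc⟩).2.2.2.2.1 H hH hne hAH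
  apply hY1
  rw [eq_bot_iff, ← h17]
  exact le_inf (le_sigmaCore_of_sigma_group hG hM hYM hY) hYH

/-- **Corollary 12.16 (b), (c)**, with an auxiliary `q`-subgroup `X ≤ M` normalized by
`N_G(Y)`. -/
theorem sigma_Jsub_aux (hG : IsMinSimpleOddOrder G) {M H Y X : Subgroup G} (hM : IsCoatom M)
    (hH : IsCoatom H) (hnc : ∀ g : G, H ≠ M.map (MulAut.conj g).toMonoidHom) (hYH : Y ≤ H)
    (hY1 : Y ≠ ⊥) (hY : ∀ r : ℕ, r.Prime → r ∣ Nat.card Y → r ∈ sigma M)
    {q : ℕ} [Fact q.Prime] (hq : q ∈ sigma M) (hXq : IsPGroup q X) (hX1 : X ≠ ⊥) (hXM : X ≤ M)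
    (hNYX : Subgroup.normalizer (Y : Set G) ≤ Subgroup.normalizer (X : Set G))
    {p : ℕ} [Fact p.Prime] (hpM : p ∣ Nat.card M) (hpσ : p ∉ sigma M)
    (hpi : ¬ IsIdealPrime p G) :
    (∀ A : Subgroup G, A ≤ H ⊓ Subgroup.normalizer (Y : Set G) → IsElementaryAbelian p A →
        Nat.card A ≠ p ^ 2) ∧
      (p ∈ tau1 M → ¬ p ∣ Nat.card ↥⁅H ⊓ Subgroup.normalizer (Y : Set G),
        H ⊓ Subgroup.normalizer (Y : Set G)⁆) := by
  have hpp : p.Prime := Fact.out
  obtain ⟨L, hL, hNL, hcase⟩ := exists_coatom_factor hG hM hq hXq hX1 hXM hpM hpσ hpi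
  have hNYL : Subgroup.normalizer (Y : Set G) ≤ L := hNYX.trans hNL
  have hYL : Y ≤ L := Subgroup.le_normalizer.trans hNYL
  have hHM : H ≠ M := by
    have := hnc 1
    rwa [map_conj_one] at this
  rcases hcase with hLM | ⟨-, C, hCL, hLC, hsup, hCσ, hCp, hcop⟩
  · rw [hLM] at hNYL hYL
    constructor
    · intro A hA hAe hAc
      exact false_of_sq_le hG hM hH hHM hpσ ((hA.trans inf_le_right).trans hNYL)
        (hA.trans inf_le_left) hAe hAc hYL hYH hY1 hY
    · intro hτ hd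
      apply hτ.2.2.2.1
      exact hd.trans (Subgroup.card_dvd_of_le
        (Subgroup.commutator_mono (inf_le_right.trans hNYL) (inf_le_right.trans hNYL)))
  · constructor
    · intro A hA hAe hAc
      have hAN : A ≤ Subgroup.normalizer (Y : Set G) := hA.trans inf_le_right
      have hKL : Y ⊔ A ≤ L := sup_le hYL (hAN.trans hNYL)
      have hKcard : Nat.card (Y ⊔ A : Subgroup G) ∣ Nat.card Y * Nat.card A :=
        Cfsg.Agent.Lib.Helper9.card_sup_dvd_of_le_normalizer hAN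
      have hK : (Nat.card (Y ⊔ A : Subgroup G)).Coprime (Nat.card C) := by
        apply Nat.coprime_of_dvd
        intro k hk hk1 hk2
        rcases (Nat.Prime.dvd_mul hk).mp (hk1.trans hKcard) with h | h
        · exact hCσ k hk (hY k hk h) hk2
        · rw [hAc] at h
          have : k = p := (Nat.prime_dvd_prime_iff_eq hk hpp).mp (hk.dvd_of_dvd_pow h)
          rw [this] at hk2
          exact hCp hk2
      obtain ⟨g, -, hg⟩ := exists_conj_le_of_factor (isSolvable_of_ne_top hG hL.1) hCL hLC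
        (inf_le_right : M ⊓ L ≤ L) hsup hcop hKL hK
      have hHg : H.map (MulAut.conj g).toMonoidHom ≠ M := by
        intro h
        apply hnc g⁻¹
        rw [← h, map_conj_inv_map_conj]
      have hY1' : Y.map (MulAut.conj g).toMonoidHom ≠ ⊥ := by
        intro h
        apply hY1
        rw [← map_conj_inv_map_conj g Y, h, Subgroup.map_bot]
      refine false_of_sq_le hG hM (isCoatom_map_conj g hH) hHg hpσ
        (A := A.map (MulAut.conj g).toMonoidHom) (Y := Y.map (MulAut.conj g).toMonoidHom)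
        (((Subgroup.map_mono le_sup_right).trans hg).trans inf_le_left)
        (Subgroup.map_mono (hA.trans inf_le_left)) (isElementaryAbelian_map _ hAe) ?_
        (((Subgroup.map_mono le_sup_left).trans hg).trans inf_le_left)
        (Subgroup.map_mono hYH) hY1' ?_
      · rw [Subgroup.card_map_of_injective (MulAut.conj g).injective, hAc]
      · intro r hr hd
        rw [Subgroup.card_map_of_injective (MulAut.conj g).injective] at hd
        exact hY r hr hd
    · intro hτ hd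
      have h1 : ⁅H ⊓ Subgroup.normalizer (Y : Set G), H ⊓ Subgroup.normalizer (Y : Set G)⁆ ≤
          C ⊔ ⁅M ⊓ L, M ⊓ L⁆ :=
        (Subgroup.commutator_mono (inf_le_right.trans hNYL) (inf_le_right.trans hNYL)).trans
          (commutator_le_sup_of_le_sup hLC inf_le_right hsup)
      have h2 : ⁅M ⊓ L, M ⊓ L⁆ ≤ L := (commutator_self_le (M ⊓ L)).trans inf_le_right
      have h3 : Nat.card (C ⊔ ⁅M ⊓ L, M ⊓ L⁆ : Subgroup G) ∣
          Nat.card C * Nat.card ↥⁅M ⊓ L, M ⊓ L⁆ :=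
        Cfsg.Agent.Lib.Helper9.card_sup_dvd_of_le_normalizer (h2.trans hLC)
      rcases (Nat.Prime.dvd_mul hpp).mp ((hd.trans (Subgroup.card_dvd_of_le h1)).trans h3)
        with h | h
      · exact hCp h
      · exact hτ.2.2.2.1 (h.trans (Subgroup.card_dvd_of_le
          (Subgroup.commutator_mono inf_le_left inf_le_left)))

omit [Finite G] in
theorem map_conj_inf_normalizer_le (x : G) (H Y : Subgroup G) :
    (H ⊓ Subgroup.normalizer (Y : Set G)).map (MulAut.conj x).toMonoidHom ≤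
      H.map (MulAut.conj x).toMonoidHom ⊓
        Subgroup.normalizer ((Y.map (MulAut.conj x).toMonoidHom : Subgroup G) : Set G) := by
  apply le_inf (Subgroup.map_mono inf_le_left)
  rintro _ ⟨y, hy, rfl⟩
  apply mem_normalizer_map_conj
  have : x⁻¹ * ((MulAut.conj x).toMonoidHom y) * x = y := by
    simp [mul_assoc]
  rw [this]
  exact hy.2

/-- **Bender--Glauberman, Corollary 12.16 (b), (c)**: let `Y ≠ 1` be a `σ(M)`-subgroup of a
maximal subgroup `H` not conjugate to `M`, and `p ∈ π(M) \ σ(M)` a non-ideal prime.  Then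
`N_H(Y)` contains no elementary abelian subgroup of order `p ^ 2`, and if `p ∈ τ₁(M)` then `p`
does not divide the order of `N_H(Y)'`. -/
theorem sigma_Jsub (hG : IsMinSimpleOddOrder G) {M H Y : Subgroup G} (hM : IsCoatom M)
    (hH : IsCoatom H) (hnc : ∀ g : G, H ≠ M.map (MulAut.conj g).toMonoidHom) (hYH : Y ≤ H)
    (hY1 : Y ≠ ⊥) (hY : ∀ r : ℕ, r.Prime → r ∣ Nat.card Y → r ∈ sigma M)
    {p : ℕ} [Fact p.Prime] (hpM : p ∣ Nat.card M) (hpσ : p ∉ sigma M)
    (hpi : ¬ IsIdealPrime p G) :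
    (∀ A : Subgroup G, A ≤ H ⊓ Subgroup.normalizer (Y : Set G) → IsElementaryAbelian p A →
        Nat.card A ≠ p ^ 2) ∧
      (p ∈ tau1 M → ¬ p ∣ Nat.card ↥⁅H ⊓ Subgroup.normalizer (Y : Set G),
        H ⊓ Subgroup.normalizer (Y : Set G)⁆) := by
  have hYtop : Y ≠ ⊤ := ne_top_of_le_isCoatom hH hYH
  have hYs : Group.IsSolvable Y := isSolvable_of_ne_top hG hYtop
  have hF : fittingOf Y ≠ ⊥ := fittingOf_ne_bot hYs hY1
  have hcard : Nat.card (fittingOf Y) ≠ 1 := fun h => hF (Subgroup.card_eq_one.mp h)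
  obtain ⟨q, hq, hqd⟩ := Nat.exists_prime_and_dvd hcard
  haveI : Fact q.Prime := ⟨hq⟩
  have hN1 : pCoreOf q Y ≠ ⊥ := pCoreOf_ne_bot_of_dvd_card (le_refl _) hq hqd
  have hqσ : q ∈ sigma M :=
    hY q hq (hqd.trans (Subgroup.card_dvd_of_le (fittingOf_le Y)))
  have hσ := sigmaProp_of_mem_sigma hM hqσ
  obtain ⟨T, hT⟩ := exists_isSylowIn q M
  have hTtop := hσ.isSylowIn_top hT
  obtain ⟨T', hT', hNT'⟩ := exists_isSylowIn_ge (le_top : pCoreOf q Y ≤ ⊤) (isPGroup_pCoreOf q Y)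
  obtain ⟨x, -, hx⟩ := hTtop.exists_conj hT'
  -- conjugate by `x⁻¹`
  have hXM : (pCoreOf q Y).map (MulAut.conj x⁻¹).toMonoidHom ≤ M := by
    have h1 : (pCoreOf q Y).map (MulAut.conj x⁻¹).toMonoidHom ≤
        T'.map (MulAut.conj x⁻¹).toMonoidHom := Subgroup.map_mono hNT'
    rw [hx, map_conj_inv_map_conj] at h1
    exact h1.trans hT.le
  have hX1' : (pCoreOf q Y).map (MulAut.conj x⁻¹).toMonoidHom ≠ ⊥ := by
    intro h
    apply hN1
    rw [← map_conj_map_conj_inv x (pCoreOf q Y), h, Subgroup.map_bot]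
  have hY1' : Y.map (MulAut.conj x⁻¹).toMonoidHom ≠ ⊥ := by
    intro h
    apply hY1
    rw [← map_conj_map_conj_inv x Y, h, Subgroup.map_bot]
  have hY' : ∀ r : ℕ, r.Prime → r ∣ Nat.card (Y.map (MulAut.conj x⁻¹).toMonoidHom) →
      r ∈ sigma M := by
    intro r hr hd
    rw [Subgroup.card_map_of_injective (MulAut.conj x⁻¹).injective] at hd
    exact hY r hr hd
  have hnc' : ∀ g : G, H.map (MulAut.conj x⁻¹).toMonoidHom ≠
      M.map (MulAut.conj g).toMonoidHom := by
    intro g h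
    apply hnc (x * g)
    rw [← map_conj_map_conj, ← h, map_conj_map_conj_inv]
  have hNYX : Subgroup.normalizer ((Y.map (MulAut.conj x⁻¹).toMonoidHom : Subgroup G) : Set G) ≤
      Subgroup.normalizer
        (((pCoreOf q Y).map (MulAut.conj x⁻¹).toMonoidHom : Subgroup G) : Set G) := by
    rw [map_conj_pCoreOf]
    exact normalizer_le_normalizer_pCoreOf q _
  obtain ⟨ha, hb⟩ := sigma_Jsub_aux hG hM (isCoatom_map_conj x⁻¹ hH) hnc'
    (Subgroup.map_mono hYH) hY1' hY' hqσ ((isPGroup_pCoreOf q Y).map _) hX1' hXM hNYX hpM hpσ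
    hpi
  constructor
  · intro A hA hAe hAc
    refine ha (A.map (MulAut.conj x⁻¹).toMonoidHom)
      ((Subgroup.map_mono hA).trans (map_conj_inf_normalizer_le x⁻¹ H Y))
      (isElementaryAbelian_map _ hAe) ?_
    rw [Subgroup.card_map_of_injective (MulAut.conj x⁻¹).injective, hAc]
  · intro hτ hd
    apply hb hτ
    have h1 : (⁅H ⊓ Subgroup.normalizer (Y : Set G),
        H ⊓ Subgroup.normalizer (Y : Set G)⁆).map (MulAut.conj x⁻¹).toMonoidHom ≤
        ⁅H.map (MulAut.conj x⁻¹).toMonoidHom ⊓ Subgroup.normalizer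
          ((Y.map (MulAut.conj x⁻¹).toMonoidHom : Subgroup G) : Set G),
         H.map (MulAut.conj x⁻¹).toMonoidHom ⊓ Subgroup.normalizer
          ((Y.map (MulAut.conj x⁻¹).toMonoidHom : Subgroup G) : Set G)⁆ := by
      rw [Subgroup.map_commutator]
      exact Subgroup.commutator_mono (map_conj_inf_normalizer_le x⁻¹ H Y)
        (map_conj_inf_normalizer_le x⁻¹ H Y)
    have h2 := Subgroup.card_dvd_of_le h1
    rw [Subgroup.card_map_of_injective (MulAut.conj x⁻¹).injective] at h2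
    exact hd.trans h2

end Cfsg.Agent.Lib.Helper7.BG13
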