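import Mathlib
import Cfsg.Prelude
import Cfsg.Agent.Lib.Helper7.BG13A

/-!
# Bender--Glauberman, Lemma 13.1 and Corollary 13.2
-/

set_option autoImplicit false
open Cfsg
open Cfsg.Agent.Lib.Helper9.BGExc
open Cfsg.Agent.Lib.Helper10.BG
open scoped Pointwise commutatorElement

namespace Cfsg.Agent.Lib.Helper7.BG13

variable {G : Type*} [Group G] [Finite G]

/-- for `q ∉ β(H)` dividing `|H'|`, some Sylow `q`-subgroup `Y` of `H'` has
`H = H_β N_H(Y)`. -/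
theorem exists_le_beta_sup_normalizer (hG : IsMinSimpleOddOrder G) {H : Subgroup G}
    (hH : IsCoatom H) {q : ℕ} [Fact q.Prime] (hqβ : q ∉ beta H)
    (hqd : q ∣ Nat.card ↥⁅H, H⁆) :
    ∃ Y : Subgroup G, IsSylowIn q Y ⁅H, H⁆ ∧ Y ≠ ⊥ ∧
      H ≤ piCoreOf (beta H) H ⊔ (H ⊓ Subgroup.normalizer (Y : Set G)) := by
  have hqp : q.Prime := Fact.out
  obtain ⟨hβHall, -, ⟨K, hK, hKnil⟩, -, -⟩ := Cfsg.Agent.S1414.result hG H hH
  have hβn : H ≤ Subgroup.normalizer (piCoreOf (beta H) H : Set G) := by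
    unfold piCoreOf
    exact le_normalizer_map_subtype_of_normal (piCore (beta H) ↥H)
  have hβσ : piCoreOf (beta H) H ≤ sigmaCore H :=
    Subgroup.map_mono (piCore_mono_set (fun p hp => alpha_subset_sigma hG hH hp.1))
  have hβH' : piCoreOf (beta H) H ≤ ⁅H, H⁆ := hβσ.trans (sigmaCore_le_commutator hG hH)
  have hH'H : ⁅H, H⁆ ≤ H := commutator_self_le H
  obtain ⟨Y, hY⟩ := exists_isSylowIn q K
  have hYH' : IsSylowIn q Y ⁅H, H⁆ :=
    hY.of_not_dvd_relIndex hK.1 (hK.2.2 q hqp ⟨hqp, hqβ⟩)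
  have hYeq : Y = pCoreOf q K :=
    (Cfsg.Agent.Lib.Helper9.BG10.isSylowIn_pCoreOf hKnil hqp).eq_of_le hY.le hY.isPGroup
      hY.pCoreOf_le
  have hKY : K ≤ Subgroup.normalizer (Y : Set G) := by
    rw [hYeq]
    exact le_normalizer_pCoreOf q K
  have hsup : ⁅H, H⁆ ≤ piCoreOf (beta H) H ⊔ K := by
    apply le_sup_of_hall (π := beta H) hβH' hK.1 hβHall.2.1
    · intro p hp hpβ hd
      apply hβHall.2.2 p hp hpβ
      rw [← Subgroup.relIndex_mul_relIndex _ _ _ hβH' hH'H]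
      exact Dvd.dvd.mul_right hd _
    · intro p hp hd
      exact (hK.2.1 p hp hd).2
    · intro p hp hpβ
      exact hK.2.2 p hp ⟨hp, hpβ⟩
  refine ⟨Y, hYH', hYH'.ne_bot_of_dvd hqd, ?_⟩
  intro l hl
  have h1 : IsSylowIn q (Y.map (MulAut.conj l).toMonoidHom) ⁅H, H⁆ :=
    hYH'.map_conj (le_normalizer_commutator_self H hl)
  obtain ⟨x, hx, hxY⟩ := hYH'.exists_conj h1
  obtain ⟨b, hb, k, hk, rfl⟩ := exists_mul_of_mem_sup_of_le_normalizer
    ((hK.1.trans hH'H).trans hβn) (hsup hx)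
  have h2 : Y.map (MulAut.conj k).toMonoidHom = Y :=
    Cfsg.Agent.Lib.Helper10.map_conj_eq_of_mem_normalizer Y k (hKY hk)
  have h3 : Y.map (MulAut.conj l).toMonoidHom = Y.map (MulAut.conj b).toMonoidHom := by
    rw [hxY, ← map_conj_map_conj, h2]
  have hbH : b ∈ H := (hβH'.trans hH'H) hb
  have e : l = b * (b⁻¹ * l) := by group
  rw [e]
  refine Subgroup.mul_mem _ (Subgroup.mem_sup_left hb) (Subgroup.mem_sup_right
    ⟨H.mul_mem (H.inv_mem hbH) hl, ?_⟩)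
  apply mem_normalizer_of_map_conj_eq
  rw [← map_conj_map_conj, h3, map_conj_map_conj, inv_mul_cancel, map_conj_one]

/-- variant of helper10's Lemma P: if `S ≤ H'` is a `p`-subgroup, `p ∉ β(H)`, `H` is not
conjugate to `M`, and `Y ≤ H` is an `S`-invariant `σ(M)`-subgroup of order prime to `p`, then
`S` centralizes `Y`. -/
theorem commutator_eq_bot_of_le_commutator (hG : IsMinSimpleOddOrder G) {M H S Y : Subgroup G}
    (hM : IsCoatom M) (hH : IsCoatom H)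
    (hnc : ∀ g : G, H ≠ M.map (MulAut.conj g).toMonoidHom)
    {p : ℕ} [Fact p.Prime] (hpβ : p ∉ beta H) (hSp : IsPGroup p S) (hSH' : S ≤ ⁅H, H⁆)
    (hYH : Y ≤ H) (hSY : S ≤ Subgroup.normalizer (Y : Set G))
    (hY : ∀ r : ℕ, r.Prime → r ∣ Nat.card Y → r ∈ sigma M) (hpY : ¬ p ∣ Nat.card Y) :
    ⁅Y, S⁆ = ⊥ := by
  have hpp : p.Prime := Fact.out
  have hH'H : ⁅H, H⁆ ≤ H := commutator_self_le H
  have hSH : S ≤ H := hSH'.trans hH'H
  obtain ⟨W, hWdef⟩ : ∃ W : Subgroup G, W = ⁅Y, S⁆ := ⟨_, rfl⟩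
  rw [← hWdef]
  have hWY : W ≤ Y := by
    rw [hWdef]
    exact Cfsg.Agent.Lib.Helper1.commutator_le_of_le_normalizer hSY
  have hcopSY : (Nat.card S).Coprime (Nat.card Y) := by
    obtain ⟨k, hk⟩ := hSp.exists_card_eq
    rw [hk]
    exact Nat.Coprime.pow_left k ((Nat.Prime.coprime_iff_not_dvd hpp).mpr hpY)
  have hact : Cfsg.Agent.Lib.Helper1.CoprimeAct S Y :=
    ⟨hSY, hcopSY, Or.inl (isSolvable_of_ne_top hG (ne_top_of_le_isCoatom hH hSH))⟩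
  have hWW : ⁅W, S⁆ = W := by
    rw [hWdef]
    exact hact.commutator_commutator_eq
  have hWβ : ∀ r : ℕ, r.Prime → r ∣ Nat.card W → r ∉ beta H := fun r hr hd =>
    not_mem_beta_of_not_conj hG hM hH hnc hr
      (hY r hr (hd.trans (Subgroup.card_dvd_of_le hWY)))
  have hpW : ¬ p ∣ Nat.card W := fun h => hpY (h.trans (Subgroup.card_dvd_of_le hWY))
  obtain ⟨-, -, ⟨Hn, hHn, hnil⟩, -, -⟩ := Cfsg.Agent.S1414.result hG H hH
  have hSW : S ≤ Subgroup.normalizer (W : Set G) := by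
    rw [hWdef]
    exact Cfsg.Agent.Lib.Helper1.le_normalizer_commutator_right
  have hWH' : W ≤ ⁅H, H⁆ := by
    rw [hWdef]
    exact Subgroup.commutator_mono hYH hSH
  have hKH' : W ⊔ S ≤ ⁅H, H⁆ := sup_le hWH' hSH'
  have hKcard : Nat.card (W ⊔ S : Subgroup G) ∣ Nat.card W * Nat.card S :=
    Cfsg.Agent.Lib.Helper9.card_sup_dvd_of_le_normalizer hSW
  have hKβ : ∀ r : ℕ, r.Prime → r ∣ Nat.card (W ⊔ S : Subgroup G) → r ∉ beta H := by
    intro r hr hd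
    rcases (Nat.Prime.dvd_mul hr).mp (hd.trans hKcard) with h | h
    · exact hWβ r hr h
    · obtain ⟨k, hk⟩ := hSp.exists_card_eq
      rw [hk] at h
      have : r = p := (Nat.prime_dvd_prime_iff_eq hr hpp).mp (hr.dvd_of_dvd_pow h)
      rw [this]
      exact hpβ
  have c1 : (Nat.card Hn).Coprime (Hn.relIndex ⁅H, H⁆) :=
    Nat.coprime_of_dvd (fun k hk hk1 hk2 => hHn.2.2 k hk (hHn.2.1 k hk hk1) hk2)
  have c2 : (Nat.card (W ⊔ S : Subgroup G)).Coprime (Hn.relIndex ⁅H, H⁆) :=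
    Nat.coprime_of_dvd (fun k hk hk1 hk2 => hHn.2.2 k hk ⟨hk, hKβ k hk hk1⟩ hk2)
  obtain ⟨g, -, hg⟩ := hall_le_conj_in
    (isSolvable_of_ne_top hG (ne_top_of_le_isCoatom hH hH'H)) hHn.1 hKH' c1 c2
  have hKnil' : Group.IsNilpotent ((W ⊔ S).map (MulAut.conj g).toMonoidHom) :=
    isNilpotent_of_le hg hnil
  have hKnil : Group.IsNilpotent (W ⊔ S : Subgroup G) := by
    have := hKnil'
    exact Group.nilpotent_of_mulEquiv
      (Subgroup.equivMapOfInjective (W ⊔ S) (MulAut.conj g).toMonoidHom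
        (MulAut.conj g).injective).symm
  have hS1 : S ≤ pCoreOf p (W ⊔ S) :=
    Cfsg.Agent.Lib.Helper9.BG10.pgroup_le_pCoreOf_of_nilpotent hKnil hpp le_sup_right hSp
  have hW1 : W ≤ ppCoreOf p (W ⊔ S) :=
    le_ppCoreOf le_sup_left (sup_le Subgroup.le_normalizer hSW)
      ((Nat.Prime.coprime_iff_not_dvd hpp).mpr hpW).symm
  have h1 : W ≤ ⁅ppCoreOf p (W ⊔ S), pCoreOf p (W ⊔ S)⁆ :=
    calc W = ⁅W, S⁆ := hWW.symm
      _ ≤ ⁅ppCoreOf p (W ⊔ S), pCoreOf p (W ⊔ S)⁆ := Subgroup.commutator_mono hW1 hS1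
  have h2 : ⁅ppCoreOf p (W ⊔ S), pCoreOf p (W ⊔ S)⁆ ≤ ppCoreOf p (W ⊔ S) :=
    Cfsg.Agent.Lib.Helper1.commutator_le_of_le_normalizer
      ((pCoreOf_le p _).trans (le_normalizer_ppCoreOf p _))
  have h3 : ⁅ppCoreOf p (W ⊔ S), pCoreOf p (W ⊔ S)⁆ ≤ pCoreOf p (W ⊔ S) := by
    rw [Subgroup.commutator_comm]
    exact Cfsg.Agent.Lib.Helper1.commutator_le_of_le_normalizer
      ((ppCoreOf_le p _).trans (le_normalizer_pCoreOf p _))
  have h4 : ppCoreOf p (W ⊔ S) ⊓ pCoreOf p (W ⊔ S) = ⊥ := by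
    apply inf_eq_bot_of_coprime
    obtain ⟨k, hk⟩ := (isPGroup_pCoreOf p (W ⊔ S)).exists_card_eq
    rw [hk]
    exact Nat.Coprime.pow_right k (coprime_card_ppCoreOf p (W ⊔ S))
  rw [eq_bot_iff, ← h4]
  exact le_inf (h1.trans h2) (h1.trans h3)

/-- for `p ∈ σ(M)`, `p` divides `|M_σ|`. -/
theorem dvd_card_sigmaCore_of_mem_sigma (hG : IsMinSimpleOddOrder G) {M : Subgroup G}
    (hM : IsCoatom M) {p : ℕ} [Fact p.Prime] (hp : p ∈ sigma M) :
    p ∣ Nat.card (sigmaCore M) := by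
  obtain ⟨T, hT⟩ := exists_isSylowIn p M
  have hT1 : T ≠ ⊥ := hT.ne_bot_of_dvd hp.2.1
  exact (dvd_card_of_pgroup_ne_bot hT.isPGroup hT1).trans
    (Subgroup.card_dvd_of_le (pgroup_le_sigmaCore hG hM hp hT.isPGroup hT.le))

/-- **Bender--Glauberman, Lemma 13.1**. -/
theorem lemma_13_1 (hG : IsMinSimpleOddOrder G) {M H : Subgroup G} (hM : IsCoatom M)
    (hH : IsCoatom H) (hnc : ∀ g : G, H ≠ M.map (MulAut.conj g).toMonoidHom)
    {p : ℕ} [Fact p.Prime] (hpσ : p ∉ sigma M) (hpM : p ∣ Nat.card M) (hpH : p ∣ Nat.card H)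
    (hpτ : p ∉ tau1 H) (hne : ⁅sigmaCore M ⊓ H, M ⊓ H⁆ ≠ ⊥) :
    (∀ P₁ : Subgroup G, P₁ ≤ M ⊓ H → IsPGroup p P₁ → ⁅sigmaCore M ⊓ H, P₁⁆ = ⊥) ∧
      p ∉ tau2 H ∧ (p ∈ tau1 M → IsIdealPrime p G) := by
  have hpp : p.Prime := Fact.out
  obtain ⟨D, hD⟩ : ∃ D : Subgroup G, D = sigmaCore M ⊓ H := ⟨_, rfl⟩
  rw [← hD] at hne ⊢
  have hDH : D ≤ H := by rw [hD]; exact inf_le_right
  have hDn : M ⊓ H ≤ Subgroup.normalizer (D : Set G) := by
    rw [hD]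
    exact le_normalizer_inf (inf_le_left.trans (le_normalizer_sigmaCore M))
      (inf_le_right.trans Subgroup.le_normalizer)
  have hDσ : ∀ r : ℕ, r.Prime → r ∣ Nat.card D → r ∈ sigma M := by
    intro r hr hd
    rw [hD] at hd
    exact mem_sigma_of_dvd_card_sigmaCore hG hM hr
      (hd.trans (Subgroup.card_dvd_of_le inf_le_left))
  have hpD : ¬ p ∣ Nat.card D := fun h => hpσ (hDσ p hpp h)
  have hQ0D : ⁅D, M ⊓ H⁆ ≤ D := Cfsg.Agent.Lib.Helper1.commutator_le_of_le_normalizer hDn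
  have hQ0H' : ⁅D, M ⊓ H⁆ ≤ ⁅H, H⁆ := Subgroup.commutator_mono hDH inf_le_right
  have hcard : Nat.card ↥⁅D, M ⊓ H⁆ ≠ 1 := fun h => hne (Subgroup.card_eq_one.mp h)
  obtain ⟨q, hq, hqd⟩ := Nat.exists_prime_and_dvd hcard
  haveI : Fact q.Prime := ⟨hq⟩
  have hqσ : q ∈ sigma M := hDσ q hq (hqd.trans (Subgroup.card_dvd_of_le hQ0D))
  have hqH' : q ∣ Nat.card ↥⁅H, H⁆ := hqd.trans (Subgroup.card_dvd_of_le hQ0H')
  have hqβ : q ∉ beta H := not_mem_beta_of_not_conj hG hM hH hnc hq hqσ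
  obtain ⟨Y, hYS, hY1, hsup⟩ := exists_le_beta_sup_normalizer hG hH hqβ hqH'
  have hH'H : ⁅H, H⁆ ≤ H := commutator_self_le H
  have hYH : Y ≤ H := hYS.le.trans hH'H
  have hYσ : ∀ r : ℕ, r.Prime → r ∣ Nat.card Y → r ∈ sigma M := by
    intro r hr hd
    obtain ⟨k, hk⟩ := hYS.isPGroup.exists_card_eq
    rw [hk] at hd
    have : r = q := (Nat.prime_dvd_prime_iff_eq hr hq).mp (hr.dvd_of_dvd_pow hd)
    rw [this]
    exact hqσ
  have hβHall := (Cfsg.Agent.S1414.result hG H hH).1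
  have hβn : H ≤ Subgroup.normalizer (piCoreOf (beta H) H : Set G) := by
    unfold piCoreOf
    exact le_normalizer_map_subtype_of_normal (piCore (beta H) ↥H)
  -- (b)
  have hb : p ∉ tau2 H := by
    intro hτ
    have hpi : ¬ IsIdealPrime p G :=
      (Cfsg.Agent.S1408.result hG H hH p hτ.2.1 hτ.2.2.1 hτ.2.2.2).1
    have hJ := (sigma_Jsub hG hM hH hnc hYH hY1 hYσ hpM hpσ hpi).1
    obtain ⟨P, hP⟩ := exists_isSylowIn p (H ⊓ Subgroup.normalizer (Y : Set G))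
    have hpHβ : ¬ p ∣ Nat.card (piCoreOf (beta H) H) := fun hd =>
      hτ.2.1 (alpha_subset_sigma hG hH (hβHall.2.1 p hpp hd).1)
    have hPH : IsSylowIn p P H :=
      isSylowIn_of_le_sup (inf_le_left.trans hβn) hsup inf_le_left hpHβ hP
    have hrP : ¬ PRankLE p 1 ↥P := not_pRankLE_sylow_of_not_pRankLE hPH hτ.2.2.2
    obtain ⟨A, hAP, hAe, hAc⟩ := exists_elementary_sq_of_not_pRankLE_one hP.isPGroup hrP
    exact hJ A (hAP.trans hP.le) hAe hAc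
  -- the remaining possibilities for `p` in `H`
  have hcases : p ∈ sigma H ∨ (p ∉ sigma H ∧ PRankLE p 1 ↥H ∧ p ∣ Nat.card ↥⁅H, H⁆) := by
    by_cases hσH : p ∈ sigma H
    · exact Or.inl hσH
    right
    have hr2 : PRankLE p 2 ↥H := by
      by_contra h
      exact hσH (alpha_subset_sigma hG hH ⟨hpp, h⟩)
    have hr1 : PRankLE p 1 ↥H := by
      by_contra h
      exact hb ⟨hpp, hσH, hr2, h⟩
    refine ⟨hσH, hr1, ?_⟩
    by_contra h
    exact hpτ ⟨hpp, hσH, hpH, h, hr1⟩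
  have hpH' : p ∣ Nat.card ↥⁅H, H⁆ := by
    rcases hcases with h | h
    · exact (dvd_card_sigmaCore_of_mem_sigma hG hH h).trans
        (Subgroup.card_dvd_of_le (sigmaCore_le_commutator hG hH))
    · exact h.2.2
  refine ⟨?_, hb, ?_⟩
  · -- (a)
    intro P₁ hP₁ hP₁p
    have hP₁H : P₁ ≤ H := hP₁.trans inf_le_right
    rcases hcases with hσH | ⟨hσH, hr1, -⟩
    · exact commutator_eq_bot_of_mem_sigma hG hM hH hnc hσH hP₁p hP₁H hDH (hP₁.trans hDn)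
        hDσ hpD
    · have hpβ : p ∉ beta H := fun h => hσH (alpha_subset_sigma hG hH h.1)
      obtain ⟨T, hT, hP₁T⟩ := exists_isSylowIn_ge hP₁H hP₁p
      have hp2 : p ≠ 2 :=
        prime_ne_two hG (hpH.trans (Subgroup.card_subgroup_dvd_card H))
      have hTc : IsCyclic T := isCyclic_of_pRankLE_one hp2 hr1 hT.le hT.isPGroup
      have hTH' : T ≤ ⁅H, H⁆ := Cfsg.Agent.Lib.Helper9.BGPrime.isSylowIn_le_commutator_of_cyclic hT hTc hpH'
      exact commutator_eq_bot_of_le_commutator hG hM hH hnc hpβ hP₁p (hP₁T.trans hTH') hDH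
        (hP₁.trans hDn) hDσ hpD
  · -- (c)
    intro hτ1M
    by_contra hpi
    have hJ := (sigma_Jsub hG hM hH hnc hYH hY1 hYσ hpM hpσ hpi).2 hτ1M
    have hpHβ : ¬ p ∣ Nat.card (piCoreOf (beta H) H) := fun hd =>
      hpi (hβHall.2.1 p hpp hd).2
    have h1 : ⁅H, H⁆ ≤ piCoreOf (beta H) H ⊔
        ⁅H ⊓ Subgroup.normalizer (Y : Set G), H ⊓ Subgroup.normalizer (Y : Set G)⁆ :=
      commutator_le_sup_of_le_sup hβn inf_le_left hsup
    have h2 : ⁅H ⊓ Subgroup.normalizer (Y : Set G), H ⊓ Subgroup.normalizer (Y : Set G)⁆ ≤ H :=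
      (commutator_self_le _).trans inf_le_left
    have h3 := Cfsg.Agent.Lib.Helper9.card_sup_dvd_of_le_normalizer (h2.trans hβn)
    rcases (Nat.Prime.dvd_mul hpp).mp ((hpH'.trans (Subgroup.card_dvd_of_le h1)).trans h3)
      with h | h
    · exact hpHβ h
    · exact hJ h

/-- an ideal prime in `σ(H)` lies in `β(H)`. -/
theorem mem_beta_of_mem_sigma_of_ideal {H : Subgroup G} (hH : IsCoatom H) {p : ℕ}
    [Fact p.Prime] (hpH : p ∈ sigma H) (hpi : IsIdealPrime p G) : p ∈ beta H := by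
  have hpp : p.Prime := Fact.out
  refine ⟨⟨hpp, ?_⟩, hpi⟩
  have hr := hpi.2.1
  unfold PRankLE at hr
  push Not at hr
  obtain ⟨B, hBc, hBp, hBcard⟩ := hr
  have hBe : IsElementaryAbelian p B := ⟨hBc, hBp⟩
  have hBpg : IsPGroup p B := by
    intro b
    refine ⟨1, ?_⟩
    apply Subtype.ext
    rw [pow_one, Subgroup.coe_pow, Subgroup.coe_one]
    exact hBp b b.2
  obtain ⟨T, hT⟩ := exists_isSylowIn p H
  have hTtop := (sigmaProp_of_mem_sigma hH hpH).isSylowIn_top hT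
  obtain ⟨T', hT', hBT'⟩ := exists_isSylowIn_ge (le_top : B ≤ ⊤) hBpg
  obtain ⟨x, -, hx⟩ := hTtop.exists_conj hT'
  have hBH : B.map (MulAut.conj x⁻¹).toMonoidHom ≤ H := by
    have h1 : B.map (MulAut.conj x⁻¹).toMonoidHom ≤ T'.map (MulAut.conj x⁻¹).toMonoidHom :=
      Subgroup.map_mono hBT'
    rw [hx, map_conj_inv_map_conj] at h1
    exact h1.trans hT.le
  apply not_pRankLE_of_le hBH (isElementaryAbelian_map _ hBe)
  rw [Subgroup.card_map_of_injective (MulAut.conj x⁻¹).injective]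
  exact hBcard

/-- **Bender--Glauberman, Corollary 13.2**. -/
theorem cor_13_2 (hG : IsMinSimpleOddOrder G) {M H P : Subgroup G} (hM : IsCoatom M)
    (hH : IsCoatom H) {p : ℕ} [Fact p.Prime] (hp : p ∈ tau1 M ∨ p ∈ tau3 M)
    (hPp : IsPGroup p P) (hP1 : P ≠ ⊥) (hNP : Subgroup.normalizer (P : Set G) ≤ H) :
    (∀ g : G, H ≠ M.map (MulAut.conj g).toMonoidHom) ∧
      (∀ P₁ : Subgroup G, P₁ ≤ M ⊓ H → IsPGroup p P₁ → ⁅sigmaCore M ⊓ H, P₁⁆ = ⊥) ∧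
      (∀ X : Subgroup G, X ≤ M ⊓ H →
        (∀ r : ℕ, r.Prime → r ∣ Nat.card X → r ∉ sigma M ∧ r ∉ tau1 H) →
          ⁅sigmaCore M ⊓ H, X⁆ = ⊥) ∧
      (⁅sigmaCore M ⊓ H, M ⊓ H⁆ ≠ ⊥ → p ∈ sigma H ∧ (p ∈ tau1 M → p ∈ beta H)) := by
  have hpp : p.Prime := Fact.out
  obtain ⟨hpσ, hpM, hr1⟩ : p ∉ sigma M ∧ p ∣ Nat.card M ∧ PRankLE p 1 ↥M := by
    rcases hp with h | h
    · exact ⟨h.2.1, h.2.2.1, h.2.2.2.2⟩
    · exact ⟨h.2.1, h.2.2.1.trans (Subgroup.card_dvd_of_le (commutator_self_le M)), h.2.2.2⟩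
  have h12 : p ∈ sigma H ∨ p ∈ tau2 H :=
    mem_sigma_or_tau2_of_normalizer_le hG hH hPp hP1 hNP
  have hnc : ∀ g : G, H ≠ M.map (MulAut.conj g).toMonoidHom := by
    intro g hg
    rcases h12 with h | h
    · exact ne_conj_of_mem_sigma_of_not_mem hH h hpσ g hg
    · apply h.2.2.2
      rw [hg]
      exact (Cfsg.Agent.Lib.Helper9.pRankLE_conjMap_iff g).mpr hr1
  have hpτ1H : p ∉ tau1 H := by
    intro h
    rcases h12 with h' | h'
    · exact h.2.1 h'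
    · exact h'.2.2.2 h.2.2.2.2
  have hPH : P ≤ H := Subgroup.le_normalizer.trans hNP
  have hpH : p ∣ Nat.card H :=
    (dvd_card_of_pgroup_ne_bot hPp hP1).trans (Subgroup.card_dvd_of_le hPH)
  refine ⟨hnc, ?_⟩
  by_cases hne : ⁅sigmaCore M ⊓ H, M ⊓ H⁆ = ⊥
  · refine ⟨?_, ?_, fun h => absurd hne h⟩
    · intro P₁ hP₁ _
      rw [eq_bot_iff, ← hne]
      exact Subgroup.commutator_mono le_rfl hP₁
    · intro X hX _
      rw [eq_bot_iff, ← hne]
      exact Subgroup.commutator_mono le_rfl hX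
  obtain ⟨ha, hb, hc⟩ := lemma_13_1 hG hM hH hnc hpσ hpM hpH hpτ1H hne
  refine ⟨ha, ?_, ?_⟩
  · intro X hX hXπ
    rw [Subgroup.commutator_comm, Subgroup.commutator_eq_bot_iff_le_centralizer]
    apply le_of_forall_sylow_le
    intro r hr
    haveI : Fact r.Prime := ⟨hr⟩
    obtain ⟨Q, hQ⟩ := exists_isSylowIn r X
    refine ⟨Q, hQ, ?_⟩
    by_cases hd : r ∣ Nat.card X
    · obtain ⟨hrσ, hrτ⟩ := hXπ r hr hd
      have hrM : r ∣ Nat.card M := hd.trans (Subgroup.card_dvd_of_le (hX.trans inf_le_left))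
      have hrH : r ∣ Nat.card H := hd.trans (Subgroup.card_dvd_of_le (hX.trans inf_le_right))
      have h1 := (lemma_13_1 hG hM hH hnc hrσ hrM hrH hrτ hne).1 Q (hQ.le.trans hX) hQ.isPGroup
      rw [Subgroup.commutator_comm, Subgroup.commutator_eq_bot_iff_le_centralizer] at h1
      exact h1
    · have h1 : Q = ⊥ := eq_bot_of_isPGroup_of_not_dvd_card hQ.isPGroup
        (fun h => hd (h.trans (Subgroup.card_dvd_of_le hQ.le)))
      rw [h1]
      exact bot_le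
  · intro _
    have hσH : p ∈ sigma H := h12.resolve_right hb
    exact ⟨hσH, fun hτ => mem_beta_of_mem_sigma_of_ideal hH hσH (hc hτ)⟩

end Cfsg.Agent.Lib.Helper7.BG13
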