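import Mathlib
import Cfsg.Agent.Lib.Helper1.BGFthm
import Cfsg.Agent.Lib.Helper1.BGStubs2
import Cfsg.Agent.Lib.Helper19.BG14B
import Cfsg.Agent.Lib.Helper10.FittingHall
import Cfsg.Agent.Lib.Helper7.BG13B

/-!
# Helper7: B&G section 16 (the five types) -- general lemmas

General facts used to translate between the standard factorisation `M = K U M_σ`
(`IsSigmaDecomposition`) and the type data (`IsTypePWith`, `IsOfTypeF`).
-/

set_option autoImplicit false
set_option linter.unusedSectionVars false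
set_option linter.unusedVariables false
open Cfsg

namespace Cfsg.Agent.Lib.Helper7.BGTypes

open Cfsg.Agent.Lib.Helper10.BG Cfsg.Agent.Lib.Helper10 Cfsg.Agent.Lib.Helper9.BGExc
open Cfsg.Agent.Lib.Helper19.BGCompl Cfsg.Agent.Lib.Helper19.BG12
open Cfsg.Agent.Lib.Helper1.BGSigmaDecomp Cfsg.Agent.Lib.Helper19.BG14

variable {G : Type*} [Group G] [Finite G]

/-! ### `M_F` -/

theorem fittingHallOf_le (M : Subgroup G) : fittingHallOf M ≤ M := Subgroup.map_subtype_le _

theorem le_normalizer_fittingHallOf (M : Subgroup G) :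
    M ≤ Subgroup.normalizer (fittingHallOf M : Set G) :=
  le_normalizer_map_subtype_of_normal (fittingHall ↥M)

theorem fittingHallOf_coprime (M : Subgroup G) :
    (Nat.card (fittingHallOf M)).Coprime ((fittingHallOf M).relIndex M) := by
  have h := fittingHall_coprime (M := ↥M)
  have e1 : Nat.card (fittingHallOf M) = Nat.card (fittingHall ↥M) :=
    Nat.card_congr (Subgroup.equivMapOfInjective _ _ (Subgroup.subtype_injective M)).symm.toEquiv
  have e2 : (fittingHallOf M).relIndex M = (fittingHall ↥M).index :=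
    Cfsg.Agent.Lib.Helper1.BGFthm.relIndex_map_subtype _
  rw [e1, e2]
  exact h

theorem isNilpotent_fittingHallOf (M : Subgroup G) : Group.IsNilpotent (fittingHallOf M) := by
  have h := fittingHall_isNilpotent (M := ↥M)
  exact Group.nilpotent_of_mulEquiv
    (Subgroup.equivMapOfInjective _ _ (Subgroup.subtype_injective M))

/-! ### type `P` data gives primes of `κ(M)` -/

theorem relIndex_W₁ {M W₁ U' W₂ : Subgroup G} (hP : IsTypePWith M W₁ U' W₂) :
    W₁.relIndex M = Nat.card ↥⁅M, M⁆ := by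
  have hcardM := Cfsg.Agent.Lib.Helper10.IsComplIn.card_eq hP.W₁_compl
  have h1 := Cfsg.Agent.Lib.Helper12.card_mul_relIndex_eq hP.W₁_compl.2.1
  have h3 : Nat.card W₁ * W₁.relIndex M = Nat.card W₁ * Nat.card ↥⁅M, M⁆ := by
    rw [h1, hcardM, mul_comm]
  exact Nat.eq_of_mul_eq_mul_left Nat.card_pos h3

/-- For type-`P` data, every prime divisor of `|W₁|` lies in `κ(M)`. -/
theorem mem_kappa_of_typeP (hG : IsMinSimpleOddOrder G) {M W₁ U' W₂ : Subgroup G}
    (hM : IsCoatom M) (hP : IsTypePWith M W₁ U' W₂) {p : ℕ} (hp : p.Prime)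
    (hpd : p ∣ Nat.card W₁) : p ∈ kappa M := by
  haveI : Fact p.Prime := ⟨hp⟩
  have hW₁M : W₁ ≤ M := hP.W₁_compl.2.1
  have hrel := relIndex_W₁ hP
  have hpM' : ¬ p ∣ Nat.card ↥⁅M, M⁆ := by
    intro h
    have h1 := hP.W₁_hall
    rw [hrel] at h1
    exact hp.one_lt.ne' (Nat.eq_one_of_dvd_one (h1 ▸ Nat.dvd_gcd hpd h))
  refine ⟨hp, hpd.trans (Subgroup.card_dvd_of_le hW₁M), ?_, ?_⟩
  · intro hpσ
    exact hpM' ((Cfsg.Agent.Lib.Helper7.BG13.dvd_card_sigmaCore_of_mem_sigma hG hM hpσ).trans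
      (Subgroup.card_dvd_of_le (sigmaCore_le_commutator hG hM)))
  · intro P
    obtain ⟨Q, hQ⟩ := exists_isSylowIn p W₁
    have hQM : IsSylowIn p Q M := hQ.of_not_dvd_relIndex hW₁M (by rw [hrel]; exact hpM')
    have hP' : IsSylowIn p ((P : Subgroup M).map M.subtype) M := isSylowIn_of_sylow P
    obtain ⟨m, hmM, hmP⟩ := hQM.exists_conj hP'
    have hQ1 : Q ≠ ⊥ := hQ.ne_bot_of_dvd hpd
    obtain ⟨w, hw, hw1⟩ := exists_ne_one_of_ne_bot hQ1
    have hW₂1 := hP.selfNormalizing.2.1
    obtain ⟨y, hy, hy1⟩ := exists_ne_one_of_ne_bot hW₂1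
    constructor
    · have := hP.W₁_cyclic
      have : IsCyclic ↥Q :=
        isCyclic_of_surjective (Subgroup.subgroupOfEquivOfLe hQ.le).toMonoidHom
          (Subgroup.subgroupOfEquivOfLe hQ.le).surjective
      have e1 : ↥Q ≃* ↥(Q.map (MulAut.conj m).toMonoidHom) :=
        Subgroup.equivMapOfInjective _ _ (MulAut.conj m).injective
      have e2 : ↥(P : Subgroup M) ≃* ↥((P : Subgroup M).map M.subtype) :=
        Subgroup.equivMapOfInjective _ _ (Subgroup.subtype_injective M)
      have e3 : ↥((P : Subgroup M).map M.subtype) ≃* ↥(Q.map (MulAut.conj m).toMonoidHom) :=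
        MulEquiv.subgroupCongr hmP
      exact isCyclic_of_surjective (e1.trans (e3.symm.trans e2.symm)).toMonoidHom
        (e1.trans (e3.symm.trans e2.symm)).surjective
    · have hwM : w ∈ M := hW₁M (hQ.le hw)
      have hxP : m * w * m⁻¹ ∈ ((P : Subgroup M).map M.subtype : Subgroup G) := by
        rw [hmP]
        exact ⟨w, hw, by simp [MulAut.conj_apply]⟩
      obtain ⟨x, hxP', hx⟩ := hxP
      have hyc : y ∈ ⁅M, M⁆ ⊓ Subgroup.centralizer ({w} : Set G) := by
        rw [hP.W₂_centralizer w (hQ.le hw) hw1]; exact hy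
      have hwy : w * y = y * w :=
        (Subgroup.mem_centralizer_iff.mp (Subgroup.mem_inf.mp hyc).2 w rfl).symm ▸ rfl
      have hyσ : y ∈ sigmaCore M :=
        Cfsg.Agent.Lib.Helper1.BGFthm.fittingHallOf_le_sigmaCore hG hM
          ((hP.W₂_le hy).1)
      refine ⟨x, hxP', ?_, m * y * m⁻¹,
        conj_mem_of_mem_normalizer (le_normalizer_sigmaCore M hmM) hyσ, ?_, ?_⟩
      · intro h
        apply hw1
        have h2 : (x : G) = 1 := by rw [h]; rfl
        have h3 : m * w * m⁻¹ = 1 := by rw [← hx]; exact h2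
        have : w = m⁻¹ * (m * w * m⁻¹) * m := by group
        rw [this, h3]; group
      · intro h
        apply hy1
        have : y = m⁻¹ * (m * y * m⁻¹) * m := by group
        rw [this, h]; group
      · have hx' : (x : G) = m * w * m⁻¹ := hx
        rw [hx']
        calc m * w * m⁻¹ * (m * y * m⁻¹) = m * (w * y) * m⁻¹ := by group
          _ = m * (y * w) * m⁻¹ := by rw [hwy]
          _ = m * y * m⁻¹ * (m * w * m⁻¹) := by group

/-- For type-`P` data, a Hall `κ(M)`-subgroup is nontrivial. -/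
theorem K_ne_bot_of_typeP (hG : IsMinSimpleOddOrder G) {M W₁ U' W₂ K : Subgroup G}
    (hM : IsCoatom M) (hP : IsTypePWith M W₁ U' W₂) (hK : IsPiHallOf (kappa M) K M) :
    K ≠ ⊥ := by
  intro h
  have hc1 : Nat.card W₁ ≠ 1 := fun h1 => hP.W₁_ne (Subgroup.card_eq_one.mp h1)
  obtain ⟨p, hp, hpd⟩ := Nat.exists_prime_and_dvd hc1
  have hpκ := mem_kappa_of_typeP hG hM hP hp hpd
  apply hK.2.2 p hp hpκ
  rw [h, Subgroup.relIndex_bot_left]
  exact hpκ.2.1

/-! ### normalizers of nilpotent Hall pieces of `M_σ` -/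

theorem le_normalizer_sylow_of_nilpotent {V S : Subgroup G} {r : ℕ} [Fact r.Prime]
    (hVn : Group.IsNilpotent V) (hS : IsSylowIn r S V) :
    V ≤ Subgroup.normalizer (S : Set G) := by
  haveI := hVn
  have h : ((hS.toSylow : Sylow r ↥V) : Subgroup ↥V).Normal := inferInstance
  rw [hS.coe_toSylow] at h
  exact (Subgroup.normal_subgroupOf_iff_le_normalizer hS.le).mp h

theorem normalizer_le_normalizer_sylow_of_nilpotent {V S : Subgroup G} {r : ℕ} [Fact r.Prime]
    (hVn : Group.IsNilpotent V) (hS : IsSylowIn r S V) :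
    Subgroup.normalizer (V : Set G) ≤ Subgroup.normalizer (S : Set G) := by
  intro g hg
  have hS' := hS.map_conj hg
  obtain ⟨x, hxV, hx⟩ := hS.exists_conj hS'
  rw [Cfsg.Agent.Lib.Helper10.map_conj_eq_of_mem_normalizer S x
    (le_normalizer_sylow_of_nilpotent hVn hS hxV)] at hx
  exact mem_normalizer_of_map_conj_eq hx

/-- a nontrivial nilpotent Hall subgroup of `M` all of whose primes lie in `σ(M)` has its
normalizer inside `M`. -/
theorem normalizer_le_of_nilpotent_sigma_hall (hG : IsMinSimpleOddOrder G) {M V : Subgroup G}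
    (hM : IsCoatom M) (hVM : V ≤ M) (hVn : Group.IsNilpotent V) (hV1 : V ≠ ⊥)
    (hVh : (Nat.card V).Coprime (V.relIndex M))
    (hVσ : ∀ r : ℕ, r.Prime → r ∣ Nat.card V → r ∈ sigma M) :
    Subgroup.normalizer (V : Set G) ≤ M := by
  have hc1 : Nat.card V ≠ 1 := fun h1 => hV1 (Subgroup.card_eq_one.mp h1)
  obtain ⟨r, hr, hrd⟩ := Nat.exists_prime_and_dvd hc1
  haveI : Fact r.Prime := ⟨hr⟩
  obtain ⟨S, hS⟩ := exists_isSylowIn r V
  have hnd : ¬ r ∣ V.relIndex M := by
    intro h
    exact hr.one_lt.ne' (Nat.eq_one_of_dvd_one (hVh ▸ Nat.dvd_gcd hrd h))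
  have hSM : IsSylowIn r S M := hS.of_not_dvd_relIndex hVM hnd
  exact (normalizer_le_normalizer_sylow_of_nilpotent hVn hS).trans
    ((sigmaProp_of_mem_sigma hM (hVσ r hr hrd)).2 S hSM)

/-! ### arithmetic of type `P` data -/

theorem card_commutator_typeP {M W₁ U' W₂ : Subgroup G} (hP : IsTypePWith M W₁ U' W₂) :
    Nat.card ↥⁅M, M⁆ = Nat.card (fittingHallOf M) * Nat.card U' :=
  Cfsg.Agent.Lib.Helper10.IsComplIn.card_eq hP.U_compl

theorem card_typeP {M W₁ U' W₂ : Subgroup G} (hP : IsTypePWith M W₁ U' W₂) :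
    Nat.card M = Nat.card (fittingHallOf M) * Nat.card U' * Nat.card W₁ := by
  rw [Cfsg.Agent.Lib.Helper10.IsComplIn.card_eq hP.W₁_compl, card_commutator_typeP hP]

theorem commutator_le_self (M : Subgroup G) : ⁅M, M⁆ ≤ M :=
  Subgroup.commutator_le.mpr fun a ha b hb =>
    M.mul_mem (M.mul_mem (M.mul_mem ha hb) (M.inv_mem ha)) (M.inv_mem hb)

theorem U'_le {M W₁ U' W₂ : Subgroup G} (hP : IsTypePWith M W₁ U' W₂) : U' ≤ M :=
  hP.U_compl.2.1.trans (commutator_le_self M)

/-- `U'` is a Hall subgroup of `M`. -/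
theorem U'_hall {M W₁ U' W₂ : Subgroup G} (hP : IsTypePWith M W₁ U' W₂) :
    (Nat.card U').Coprime (U'.relIndex M) := by
  have h1 := Cfsg.Agent.Lib.Helper12.card_mul_relIndex_eq (U'_le hP)
  have hrel : U'.relIndex M = Nat.card (fittingHallOf M) * Nat.card W₁ := by
    have h3 : Nat.card U' * U'.relIndex M =
        Nat.card U' * (Nat.card (fittingHallOf M) * Nat.card W₁) := by
      rw [h1, card_typeP hP]; ring
    exact Nat.eq_of_mul_eq_mul_left Nat.card_pos h3
  rw [hrel]
  apply Nat.Coprime.mul_right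
  · -- `|U'|` is prime to `|M_F|`
    have h2 := fittingHallOf_coprime M
    have h4 := Cfsg.Agent.Lib.Helper12.card_mul_relIndex_eq (fittingHallOf_le M)
    have hrelH : (fittingHallOf M).relIndex M = Nat.card U' * Nat.card W₁ := by
      have h3 : Nat.card (fittingHallOf M) * (fittingHallOf M).relIndex M =
          Nat.card (fittingHallOf M) * (Nat.card U' * Nat.card W₁) := by
        rw [h4, card_typeP hP]; ring
      exact Nat.eq_of_mul_eq_mul_left Nat.card_pos h3
    rw [hrelH] at h2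
    exact (Nat.Coprime.coprime_mul_right_right h2).symm
  · -- `|U'|` is prime to `|W₁|`
    have h2 := hP.W₁_hall
    rw [relIndex_W₁ hP, card_commutator_typeP hP] at h2
    exact (Nat.Coprime.coprime_mul_left_right h2).symm

/-! ### the `σ`-decomposition `U` versus the type datum `U'` -/

/-- If `N_G(U') ≰ M` for type `P` data with `U' ≠ 1`, then `U ≠ 1` in every standard
factorisation. -/
theorem U_ne_bot_of_not_normalizer_le (hG : IsMinSimpleOddOrder G) {M K U W₁ U' W₂ : Subgroup G}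
    (hM : IsCoatom M) (hKU : IsSigmaDecomposition M K U) (hP : IsTypePWith M W₁ U' W₂)
    (hU'1 : U' ≠ ⊥) (hN : ¬ Subgroup.normalizer (U' : Set G) ≤ M) : U ≠ ⊥ := by
  intro hU
  apply hN
  have hσ := Cfsg.Agent.Lib.Helper1.BGFthm.sigmaCore_eq_commutator hG hM hKU hU
  apply normalizer_le_of_nilpotent_sigma_hall hG hM (U'_le hP) hP.U_nilpotent hU'1 (U'_hall hP)
  intro r hr hrd
  apply mem_sigma_of_dvd_card_sigmaCore hG hM hr
  rw [hσ]
  exact hrd.trans (Subgroup.card_dvd_of_le hP.U_compl.2.1)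

open Cfsg.Agent.Lib.Helper1.BGStubs2 in
/-- If `N_G(U') ≤ M` for type `P` data with `U' ≠ 1`, then `U = 1` in every standard
factorisation (uses the frozen rows S1357, S1363, S1365). -/
theorem U_eq_bot_of_normalizer_le (hG : IsMinSimpleOddOrder G)
    (h57 : ∀ (M : Subgroup G), IsCoatom M → ∀ K U : Subgroup G, IsSigmaDecomposition M K U →
      fittingHallOf M ≠ sigmaCore M → U = ⊥ ∧ IsTISubset (fittingOf M : Set G) ∧ (Nat.card K).Prime)
    (h63 : P1363 G) (h65 : P1365 G) {M K U W₁ U' W₂ : Subgroup G}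
    (hM : IsCoatom M) (hKU : IsSigmaDecomposition M K U) (hP : IsTypePWith M W₁ U' W₂)
    (hU'1 : U' ≠ ⊥) (hN : Subgroup.normalizer (U' : Set G) ≤ M) : U = ⊥ := by
  by_contra hU
  have hK1 : K ≠ ⊥ := K_ne_bot_of_typeP hG hM hP hKU.hall
  have hH : fittingHallOf M = sigmaCore M := by
    by_contra hne
    exact hU (h57 M hM K U hKU hne).1
  have hM' : ⁅M, M⁆ = U ⊔ sigmaCore M := (h65 M hM K U hKU hK1).1
  have hc := hP.U_compl
  rw [hH] at hc
  have hUM' : U ≤ ⁅M, M⁆ := by rw [hM']; exact le_sup_left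
  have hcardM' := Cfsg.Agent.Lib.Helper10.IsComplIn.card_eq hc
  have hcardUσ : Nat.card ↥(U ⊔ sigmaCore M) = Nat.card U * Nat.card (sigmaCore M) := by
    have h1 := Cfsg.H5.card_sup_mul_card_inf
      (hKU.compl.1.trans (le_normalizer_sigmaCore M) :
        U ≤ Subgroup.normalizer (sigmaCore M : Set G))
    have hE := isComplIn_UK hG hM hKU
    have h2 : U ⊓ sigmaCore M = ⊥ := by
      rw [eq_bot_iff, ← hE.2.2.1]
      exact inf_le_inf_right _ le_sup_left
    rwa [h2, Subgroup.card_bot, mul_one] at h1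
  have hcardU : Nat.card U = Nat.card U' := by
    have h3 : Nat.card (sigmaCore M) * Nat.card U = Nat.card (sigmaCore M) * Nat.card U' := by
      rw [← hcardM', hM', hcardUσ, mul_comm]
    exact Nat.eq_of_mul_eq_mul_left Nat.card_pos h3
  have hrelU : U.relIndex ⁅M, M⁆ = Nat.card (sigmaCore M) := by
    have h1 := Cfsg.Agent.Lib.Helper12.card_mul_relIndex_eq hUM'
    have h3 : Nat.card U * U.relIndex ⁅M, M⁆ = Nat.card U * Nat.card (sigmaCore M) := by
      rw [h1, hM', hcardUσ]
    exact Nat.eq_of_mul_eq_mul_left Nat.card_pos h3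
  have hcopU : (Nat.card U).Coprime (Nat.card (sigmaCore M)) := by
    apply Nat.coprime_of_dvd
    intro q hq hd1 hd2
    exact not_mem_sigma_of_dvd_card_U hG hM hKU hq hd1
      (mem_sigma_of_dvd_card_sigmaCore hG hM hq hd2)
  have hMs : Group.IsSolvable ↥⁅M, M⁆ :=
    isSolvable_of_ne_top hG (fun h => hM.1 (top_le_iff.mp (h ▸ commutator_le_self M)))
  obtain ⟨g, hgM', hg⟩ := hall_le_conj_in hMs hUM' hc.2.1 (by rw [hrelU]; exact hcopU)
    (by rw [hrelU, ← hcardU]; exact hcopU)
  have hgM : g ∈ M := commutator_le_self M hgM'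
  have heq : U'.map (MulAut.conj g).toMonoidHom = U := by
    apply Subgroup.eq_of_le_of_card_ge hg
    rw [hcardU]
    exact (Nat.card_congr
      (Subgroup.equivMapOfInjective _ _ (MulAut.conj g).injective).toEquiv).le
  apply (h63 M hM K U hKU hK1).2
  intro n hn
  rw [← heq] at hn
  have h1 := hN (conj_mem_normalizer_of_mem_normalizer_map_conj hn)
  have : n = g * (g⁻¹ * n * g) * g⁻¹ := by group
  rw [this]
  exact M.mul_mem (M.mul_mem hgM h1) (M.inv_mem hgM)

end Cfsg.Agent.Lib.Helper7.BGTypes
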