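import Mathlib
import Cfsg.Prelude
import Cfsg.Agent.Lib.Helper7.BG13B

/-!
# Bender--Glauberman, Theorem 13.3: the reduction and the assembly of the last case

The last case ("GAP B") follows helper9's swap argument; its two technical inputs (Step 3 and
the swap lemma) enter as the hypotheses `Step3` and `Swap`.
-/

set_option autoImplicit false
open Cfsg
open Cfsg.Agent.Lib.Helper9.BGExc
open Cfsg.Agent.Lib.Helper10.BG
open scoped Pointwise commutatorElement

namespace Cfsg.Agent.Lib.Helper7.BG13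

variable {G : Type*} [Group G] [Finite G]

/-- **Step 1**: if `q ∈ σ(M)`, `Q ≠ 1` is a `q`-subgroup of `M ∩ H` centralizing a subgroup
`P ≤ H` of order `p ∈ σ(H)`, and `M_σ ∩ H ≤ C(P)`, then `q ∉ τ₂(H)`. -/
theorem not_mem_tau2_of_centralize (hG : IsMinSimpleOddOrder G) {M H P Q : Subgroup G}
    (hM : IsCoatom M) (hH : IsCoatom H) {p q : ℕ} [Fact p.Prime] [Fact q.Prime]
    (hqσ : q ∈ sigma M) (hQq : IsPGroup q Q) (hQ1 : Q ≠ ⊥) (hQM : Q ≤ M) (hQH : Q ≤ H)
    (hpH : p ∈ sigma H) (hP : Nat.card P = p) (hPH : P ≤ H)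
    (hQP : Q ≤ Subgroup.centralizer (P : Set G))
    (hY : sigmaCore M ⊓ H ≤ Subgroup.centralizer (P : Set G)) : q ∉ tau2 H := by
  intro hτ
  have hpp : p.Prime := Fact.out
  have hqp : q.Prime := Fact.out
  have hPp : IsPGroup p P := IsPGroup.of_card (n := 1) (by rw [hP, pow_one])
  have hP1 : P ≠ ⊥ := ne_bot_of_card_prime hP
  have hPσ : P ≤ sigmaCore H := pgroup_le_sigmaCore hG hH hpH hPp hPH
  -- a complement of `H_σ` containing `Q`
  have hcop : (Nat.card Q).Coprime (Nat.card (sigmaCore H)) := by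
    obtain ⟨k, hk⟩ := hQq.exists_card_eq
    rw [hk]
    exact Nat.Coprime.pow_left k (coprime_card_sigmaCore hG hH hqp hτ.2.1).symm
  obtain ⟨E, hE, hQE⟩ := exists_isComplIn_sigmaCore_ge hG hH hQH hcop
  have hqσH : ¬ q ∣ Nat.card (sigmaCore H) := fun h =>
    hτ.2.1 (mem_sigma_of_dvd_card_sigmaCore hG hH hqp h)
  obtain ⟨T, hT⟩ := exists_isSylowIn q E
  have hTH : IsSylowIn q T H := by
    apply isSylowIn_of_le_sup (hE.1.trans (le_normalizer_sigmaCore H)) _ hE.1 hqσH hT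
    intro m hm
    obtain ⟨a, ha, b, hb, rfl⟩ := hE.2.2.2 m hm
    have hn : a * b = (a * b * a⁻¹) * a := by group
    rw [hn]
    exact Subgroup.mul_mem _
      (Subgroup.mem_sup_left
        (conj_mem_of_mem_normalizer (le_normalizer_sigmaCore H (hE.1 ha)) hb))
      (Subgroup.mem_sup_right ha)
  have hrT : ¬ PRankLE q 1 ↥T := not_pRankLE_sylow_of_not_pRankLE hTH hτ.2.2.2
  obtain ⟨A, hAT, hAe, hAc⟩ := exists_elementary_sq_of_not_pRankLE_one hT.isPGroup hrT
  have hAE : A ≤ E := hAT.trans hT.le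
  have hAH : A ≤ H := hAE.trans hE.1
  have h18 := Cfsg.Agent.S1418.result hG H hH E hE q hτ A ⟨hAE, hAe, hAc⟩
  -- a subgroup of order `q` of `Q`
  have hqd : q ∣ Nat.card Q := dvd_card_of_pgroup_ne_bot hQq hQ1
  obtain ⟨x, hx⟩ := exists_prime_orderOf_dvd_card' (G := Q) q hqd
  obtain ⟨X, hXdef⟩ : ∃ X : Subgroup G, X = Subgroup.zpowers (x : G) := ⟨_, rfl⟩
  have hXc : Nat.card X = q := by
    rw [hXdef, Nat.card_zpowers, Subgroup.orderOf_coe, hx]
  have hXQ : X ≤ Q := by rw [hXdef]; exact Subgroup.zpowers_le.mpr x.2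
  have hXq : IsPGroup q X := IsPGroup.of_card (n := 1) (by rw [hXc, pow_one])
  have hX1 : X ≠ ⊥ := ne_bot_of_card_prime hXc
  have hXA : X ≤ A := h18.1.2 X (hXQ.trans hQE) hXc
  -- `P ≤ C_{H_σ}(X)`
  have hPX : P ≤ Subgroup.centralizer (X : Set G) := by
    rw [← Subgroup.commutator_eq_bot_iff_le_centralizer, Subgroup.commutator_comm,
      Subgroup.commutator_eq_bot_iff_le_centralizer]
    exact hXQ.trans hQP
  have hne : sigmaCore H ⊓ Subgroup.centralizer (X : Set G) ≠ ⊥ := by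
    intro h
    apply hP1
    rw [eq_bot_iff, ← h]
    exact le_inf hPσ hPX
  obtain ⟨-, huniq⟩ := h18.2.2 X hXA hXc hne
  -- `N_G(X) ≤ H`
  have hXtop : X ≠ ⊤ := ne_top_of_le_isCoatom hH (hXQ.trans hQH)
  have hNN : Subgroup.normalizer (X : Set G) ≠ ⊤ :=
    Cfsg.Agent.Lib.Lead.BGTrans.normalizer_ne_top hG.2 hX1 hXtop
  obtain ⟨L, hL, hNL⟩ := exists_isCoatom_ge hNN
  have hLH : L = H := huniq L hL ((Subgroup.centralizer_le_normalizer _).trans hNL)
  rw [hLH] at hNL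
  obtain ⟨S, hS, hXS⟩ := exists_isSylowIn_ge (le_inf (hXQ.trans hQM) (hXQ.trans hQH)) hXq
  obtain ⟨-, hSH⟩ := lemma_12_15 hG hM hqσ hXq hX1 hNL hS hXS
  have hSσ : S ≤ sigmaCore M :=
    pgroup_le_sigmaCore hG hM hqσ hS.isPGroup (hS.le.trans inf_le_left)
  have hSP : S ≤ Subgroup.centralizer (P : Set G) := (le_inf hSσ hSH.le).trans hY
  -- `A` is conjugate into `S`
  obtain ⟨S', hS', hAS'⟩ := exists_isSylowIn_ge hAH (IsPGroup.of_card hAc)
  obtain ⟨y, hyH, hy⟩ := hSH.exists_conj hS'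
  -- `P ^ y` centralizes `A`
  have hPyσ : P.map (MulAut.conj y).toMonoidHom ≤ sigmaCore H := by
    rintro _ ⟨z, hz, rfl⟩
    exact conj_mem_of_mem_normalizer (le_normalizer_sigmaCore H hyH) (hPσ hz)
  have hPyA : P.map (MulAut.conj y).toMonoidHom ≤ Subgroup.centralizer (A : Set G) := by
    rintro _ ⟨z, hz, rfl⟩
    rw [Subgroup.mem_centralizer_iff]
    intro a ha
    have ha' : a ∈ S.map (MulAut.conj y).toMonoidHom := by rw [← hy]; exact hAS' ha
    obtain ⟨s, hs, rfl⟩ := ha'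
    have hc : z * s = s * z := (Subgroup.mem_centralizer_iff.mp (hSP hs) z hz)
    simp only [MulEquiv.coe_toMonoidHom, MulAut.conj_apply]
    calc y * s * y⁻¹ * (y * z * y⁻¹) = y * (s * z) * y⁻¹ := by group
      _ = y * (z * s) * y⁻¹ := by rw [hc]
      _ = y * z * y⁻¹ * (y * s * y⁻¹) := by group
  have h17 := (Cfsg.Agent.S1417.result hG H hH q hτ A ⟨hAH, hAe, hAc⟩).2.2.2.1
  have hPy : P.map (MulAut.conj y).toMonoidHom = ⊥ := by
    rw [eq_bot_iff, ← h17]
    exact le_inf hPyσ hPyA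
  apply hP1
  rw [← map_conj_inv_map_conj y P, hPy, Subgroup.map_bot]

/-- a counterexample configuration to Theorem 13.3. -/
structure Cfg (M E P R : Subgroup G) (p r : ℕ) : Prop where
  coatom : IsCoatom M
  compl : IsComplIn E (sigmaCore M) M
  tau : p ∈ tau1 M
  hPE : P ≤ E
  cardP : Nat.card P = p
  hRE : R ≤ E
  hRP : R ≤ Subgroup.centralizer (P : Set G)
  cardR : Nat.card R = r
  prime : r.Prime
  bad : ¬ sigmaCore M ⊓ Subgroup.centralizer (P : Set G) ≤ Subgroup.centralizer (R : Set G)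

/-- a subgroup of prime order `r` of a complement of `M_σ` has `r ∉ σ(M)`. -/
theorem not_mem_sigma_of_le_compl (hG : IsMinSimpleOddOrder G) {M E R : Subgroup G}
    (hM : IsCoatom M) (hE : IsComplIn E (sigmaCore M) M) {r : ℕ} [Fact r.Prime] (hRE : R ≤ E)
    (hR : Nat.card R = r) : r ∉ sigma M := by
  intro hσ
  have hRr : IsPGroup r R := IsPGroup.of_card (n := 1) (by rw [hR, pow_one])
  have h1 : R ≤ sigmaCore M := pgroup_le_sigmaCore hG hM hσ hRr (hRE.trans hE.1)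
  apply ne_bot_of_card_prime hR
  rw [eq_bot_iff, ← hE.2.2.1]
  exact le_inf hRE h1

theorem Cfg.reduction (hG : IsMinSimpleOddOrder G) {M E P R : Subgroup G} {p r : ℕ}
    (h : Cfg M E P R p r) :
    ∃ H : Subgroup G, IsCoatom H ∧ Subgroup.normalizer (P : Set G) ≤ H ∧
      (∀ g : G, H ≠ M.map (MulAut.conj g).toMonoidHom) ∧
      sigmaCore M ⊓ H = sigmaCore M ⊓ Subgroup.centralizer (P : Set G) ∧
      r ∈ tau1 H ∧ p ∈ sigma H ∧ p ∈ beta H := by
  have hM := h.coatom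
  have hpp : p.Prime := h.tau.1
  haveI : Fact p.Prime := ⟨hpp⟩
  haveI : Fact r.Prime := ⟨h.prime⟩
  have hPp : IsPGroup p P := IsPGroup.of_card (n := 1) (by rw [h.cardP, pow_one])
  have hP1 : P ≠ ⊥ := ne_bot_of_card_prime h.cardP
  have hPM : P ≤ M := h.hPE.trans h.compl.1
  have hRM : R ≤ M := h.hRE.trans h.compl.1
  have hPtop : P ≠ ⊤ := ne_top_of_le_isCoatom hM hPM
  have hNN : Subgroup.normalizer (P : Set G) ≠ ⊤ :=
    Cfsg.Agent.Lib.Lead.BGTrans.normalizer_ne_top hG.2 hP1 hPtop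
  obtain ⟨H, hH, hNH⟩ := exists_isCoatom_ge hNN
  obtain ⟨hnc, ha, hb, hc⟩ := cor_13_2 hG hM hH (Or.inl h.tau) hPp hP1 hNH
  have hPH : P ≤ H := Subgroup.le_normalizer.trans hNH
  have hCH : Subgroup.centralizer (P : Set G) ≤ H :=
    (Subgroup.centralizer_le_normalizer _).trans hNH
  have hRH : R ≤ H := h.hRP.trans hCH
  have hY : sigmaCore M ⊓ H = sigmaCore M ⊓ Subgroup.centralizer (P : Set G) := by
    apply le_antisymm
    · apply le_inf inf_le_left
      have h1 := ha P (le_inf hPM hPH) hPp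
      rwa [Subgroup.commutator_eq_bot_iff_le_centralizer] at h1
    · exact inf_le_inf_left _ hCH
  have hrσ : r ∉ sigma M := not_mem_sigma_of_le_compl hG hM h.compl h.hRE h.cardR
  have hbad : ¬ ⁅sigmaCore M ⊓ H, R⁆ = ⊥ := by
    intro h1
    rw [Subgroup.commutator_eq_bot_iff_le_centralizer, hY] at h1
    exact h.bad h1
  have hrτ : r ∈ tau1 H := by
    by_contra hrτ
    apply hbad
    apply hb R (le_inf hRM hRH)
    intro k hk hd
    rw [h.cardR] at hd
    have : k = r := (Nat.prime_dvd_prime_iff_eq hk h.prime).mp hd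
    rw [this]
    exact ⟨hrσ, hrτ⟩
  have hne : ⁅sigmaCore M ⊓ H, M ⊓ H⁆ ≠ ⊥ := by
    intro h1
    apply hbad
    rw [eq_bot_iff, ← h1]
    exact Subgroup.commutator_mono le_rfl (le_inf hRM hRH)
  obtain ⟨hpσH, hpβ⟩ := hc hne
  exact ⟨H, hH, hNH, hnc, hY, hrτ, hpσH, hpβ h.tau⟩

/-- **Step 0**: an `R`-invariant `q`-subgroup `Q = [Q, R] ≠ 1` of `C_{M_σ}(P)`. -/
theorem Cfg.exists_Q (hG : IsMinSimpleOddOrder G) {M E P R : Subgroup G} {p r : ℕ}
    (h : Cfg M E P R p r) :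
    ∃ (q : ℕ) (Q : Subgroup G), q.Prime ∧ q ∈ sigma M ∧ IsPGroup q Q ∧ Q ≠ ⊥ ∧
      Q ≤ sigmaCore M ⊓ Subgroup.centralizer (P : Set G) ∧
      R ≤ Subgroup.normalizer (Q : Set G) ∧ ⁅Q, R⁆ = Q := by
  have hM := h.coatom
  haveI : Fact r.Prime := ⟨h.prime⟩
  have hRM : R ≤ M := h.hRE.trans h.compl.1
  have hrσ : r ∉ sigma M := not_mem_sigma_of_le_compl hG hM h.compl h.hRE h.cardR
  have hRY : R ≤ Subgroup.normalizer
      ((sigmaCore M ⊓ Subgroup.centralizer (P : Set G) : Subgroup G) : Set G) :=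
    le_normalizer_inf (hRM.trans (le_normalizer_sigmaCore M))
      (le_normalizer_centralizer (h.hRP.trans (Subgroup.centralizer_le_normalizer _)))
  have hact : Cfsg.Agent.Lib.Helper1.CoprimeAct R
      (sigmaCore M ⊓ Subgroup.centralizer (P : Set G)) := by
    refine ⟨hRY, ?_, Or.inr (isSolvable_of_ne_top hG
      (ne_top_of_le_isCoatom hM (inf_le_left.trans (sigmaCore_le M))))⟩
    rw [h.cardR]
    exact Nat.Coprime.coprime_dvd_right (Subgroup.card_dvd_of_le inf_le_left)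
      (coprime_card_sigmaCore hG hM h.prime hrσ).symm
  have hex : ∃ (q : ℕ) (Q₀ : Subgroup G), q.Prime ∧
      Q₀ ≤ sigmaCore M ⊓ Subgroup.centralizer (P : Set G) ∧ IsPGroup q Q₀ ∧
      R ≤ Subgroup.normalizer (Q₀ : Set G) ∧ ¬ Q₀ ≤ Subgroup.centralizer (R : Set G) := by
    by_contra hcon
    apply h.bad
    apply le_of_invariant_pgroups_le hact
    intro q hq Q₀ h1 h2 h3
    by_contra h4
    exact hcon ⟨q, Q₀, hq, h1, h2, h3, h4⟩
  obtain ⟨q, Q₀, hq, hQ₀Y, hQ₀q, hRQ₀, hQ₀R⟩ := hex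
  haveI : Fact q.Prime := ⟨hq⟩
  have hQQ₀ : ⁅Q₀, R⁆ ≤ Q₀ := Cfsg.Agent.Lib.Helper1.commutator_le_of_le_normalizer hRQ₀
  have hQ1 : ⁅Q₀, R⁆ ≠ ⊥ := by
    intro h1
    exact hQ₀R (Subgroup.commutator_eq_bot_iff_le_centralizer.mp h1)
  have hact₀ : Cfsg.Agent.Lib.Helper1.CoprimeAct R Q₀ :=
    ⟨hRQ₀, Nat.Coprime.coprime_dvd_right (Subgroup.card_dvd_of_le hQ₀Y) hact.cop, hact.solv.imp
      id (fun hs => by
        have := hs
        exact solvable_of_solvable_injective (Subgroup.inclusion_injective hQ₀Y))⟩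
  have hQq : IsPGroup q ↥⁅Q₀, R⁆ := hQ₀q.to_le hQQ₀
  have hqσ : q ∈ sigma M := by
    apply mem_sigma_of_dvd_card_sigmaCore hG hM hq
    exact (dvd_card_of_pgroup_ne_bot hQq hQ1).trans
      (Subgroup.card_dvd_of_le ((hQQ₀.trans hQ₀Y).trans inf_le_left))
  exact ⟨q, ⁅Q₀, R⁆, hq, hqσ, hQq, hQ1, hQQ₀.trans hQ₀Y,
    Cfsg.Agent.Lib.Helper1.le_normalizer_commutator_right, hact₀.commutator_commutator_eq⟩

/-- **Step 3** (interface): `N_G(Q) ≤ H`. -/
def Step3 (G : Type*) [Group G] : Prop :=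
  ∀ (H P R Q : Subgroup G) (p r q : ℕ), IsCoatom H → p.Prime → r.Prime → q.Prime →
    p ∈ beta H → Nat.card P = p → P ≤ H → r ∈ tau1 H → Nat.card R = r → R ≤ H →
    IsPGroup q Q → Q ≤ H → q ∉ beta H → q ≠ r → Q ≠ ⊥ →
    R ≤ Subgroup.normalizer (Q : Set G) → ⁅Q, R⁆ = Q →
    Q ≤ Subgroup.centralizer (P : Set G) → R ≤ Subgroup.centralizer (P : Set G) →
    Subgroup.normalizer (Q : Set G) ≤ H

/-- **Swap lemma** (interface). -/
def Swap (G : Type*) [Group G] : Prop :=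
  ∀ (M H P R Q : Subgroup G) (p r q : ℕ), IsCoatom M → IsCoatom H → H ≠ M →
    p.Prime → r.Prime → q.Prime → p ∉ sigma M → Nat.card P = p → P ≤ M →
    M ⊓ Subgroup.centralizer (P : Set G) ≤ H → r ∉ sigma M → Nat.card R = r → R ≤ M →
    IsPGroup q Q → Q ≤ M → q ∉ beta M → R ≤ Subgroup.normalizer (Q : Set G) → ⁅Q, R⁆ = Q →
    Q ≤ Subgroup.centralizer (P : Set G) → R ≤ Subgroup.centralizer (P : Set G) →
    ¬ piCoreOf (beta M) M ≤ Subgroup.centralizer (Q : Set G) →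
    ¬ sigmaCore M ⊓ Subgroup.centralizer (R : Set G) ≤ Subgroup.centralizer (P : Set G)

theorem le_normalizer_betaCore (M : Subgroup G) :
    M ≤ Subgroup.normalizer (piCoreOf (beta M) M : Set G) := by
  unfold piCoreOf
  exact le_normalizer_map_subtype_of_normal (piCore (beta M) ↥M)

theorem betaCore_le_sigmaCore (hG : IsMinSimpleOddOrder G) {M : Subgroup G} (hM : IsCoatom M) :
    piCoreOf (beta M) M ≤ sigmaCore M :=
  Subgroup.map_mono (piCore_mono_set (fun p hp => alpha_subset_sigma hG hM hp.1))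

/-- no prime outside `σ(M)` divides `|M_β|`. -/
theorem not_dvd_card_betaCore (hG : IsMinSimpleOddOrder G) {M : Subgroup G} (hM : IsCoatom M)
    {r : ℕ} (hr : r.Prime) (hrβ : r ∉ beta M) : ¬ r ∣ Nat.card (piCoreOf (beta M) M) :=
  fun hd => hrβ ((Cfsg.Agent.S1414.result hG M hM).1.2.1 r hr hd)

/-- **The main step**: for every counterexample configuration, `[M_σ, P] ≤ M_β`, the swapped
configuration is again a counterexample configuration, and there is an `R`-invariant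
`q`-subgroup `Q = [Q, R] ≠ 1` of `M_σ` with `q ∉ β(M)`. -/
theorem Cfg.main (hG : IsMinSimpleOddOrder G) (h3 : Step3 G) (h4 : Swap G)
    {M E P R : Subgroup G} {p r : ℕ} (h : Cfg M E P R p r) :
    ⁅sigmaCore M, P⁆ ≤ piCoreOf (beta M) M ∧ Cfg M E R P r p ∧
      ∃ (q : ℕ) (Q : Subgroup G), q.Prime ∧ q ∉ beta M ∧ IsPGroup q Q ∧ Q ≤ sigmaCore M ∧
        Q ≠ ⊥ ∧ ⁅Q, R⁆ = Q := by
  have hM := h.coatom
  have hpp : p.Prime := h.tau.1
  have hr := h.prime
  haveI : Fact p.Prime := ⟨hpp⟩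
  haveI : Fact r.Prime := ⟨hr⟩
  have hpσ : p ∉ sigma M := h.tau.2.1
  have hPM : P ≤ M := h.hPE.trans h.compl.1
  have hRM : R ≤ M := h.hRE.trans h.compl.1
  have hrσ : r ∉ sigma M := not_mem_sigma_of_le_compl hG hM h.compl h.hRE h.cardR
  obtain ⟨H, hH, hNH, hnc, hY, hrτ, hpσH, hpβH⟩ := h.reduction hG
  have hHM : H ≠ M := by
    have := hnc 1
    rwa [map_conj_one] at this
  have hPH : P ≤ H := Subgroup.le_normalizer.trans hNH
  have hCH : Subgroup.centralizer (P : Set G) ≤ H :=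
    (Subgroup.centralizer_le_normalizer _).trans hNH
  have hRH : R ≤ H := h.hRP.trans hCH
  obtain ⟨q, Q, hq, hqσ, hQq, hQ1, hQY, hRQ, hQR⟩ := h.exists_Q hG
  haveI : Fact q.Prime := ⟨hq⟩
  have hQσ : Q ≤ sigmaCore M := hQY.trans inf_le_left
  have hQM : Q ≤ M := hQσ.trans (sigmaCore_le M)
  have hQP : Q ≤ Subgroup.centralizer (P : Set G) := hQY.trans inf_le_right
  have hQH : Q ≤ H := hQP.trans hCH
  have hqβH : q ∉ beta H := not_mem_beta_of_not_conj hG hM hH hnc hq hqσ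
  -- Step 3
  have hNQ : Subgroup.normalizer (Q : Set G) ≤ H :=
    h3 H P R Q p r q hH hpp hr hq hpβH h.cardP hPH hrτ h.cardR hRH hQq hQH hqβH
      (fun hqr => hrσ (hqr ▸ hqσ)) hQ1 hRQ hQR hQP h.hRP
  -- Steps 1 and 4
  have hYle : sigmaCore M ⊓ H ≤ Subgroup.centralizer (P : Set G) := by
    rw [hY]
    exact inf_le_right
  have hqσH : q ∈ sigma H :=
    (mem_sigma_or_tau2_of_normalizer_le hG hH hQq hQ1 hNQ).resolve_right
      (not_mem_tau2_of_centralize hG hM hH hqσ hQq hQ1 hQM hQH hpσH h.cardP hPH hQP hYle)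
  obtain ⟨S, hS, hQS⟩ := exists_isSylowIn_ge (le_inf hQM hQH) hQq
  obtain ⟨hNSM, hSH⟩ := lemma_12_15 hG hM hqσ hQq hQ1 hNQ hS hQS
  have hσH := sigmaProp_of_mem_sigma hH hqσH
  have hSG : IsSylowIn q S ⊤ := hσH.isSylowIn_top hSH
  have hNSH : Subgroup.normalizer (S : Set G) ≤ H := hσH.2 S hSH
  have hSM : IsSylowIn q S M := hSG.of_le (hS.le.trans inf_le_left) le_top
  have hHfac : H ≤ piCoreOf (beta H) H ⊔ (M ⊓ H) :=
    (le_beta_sup_normalizer hG hH hqσH hqβH hSH).trans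
      (sup_le_sup_left (le_inf (inf_le_right.trans hNSM) inf_le_left) _)
  have hnc' : ∀ g : G, M ≠ H.map (MulAut.conj g).toMonoidHom := by
    intro g hg
    apply hnc g⁻¹
    rw [hg, map_conj_inv_map_conj]
  have hqβM : q ∉ beta M := not_mem_beta_of_not_conj hG hH hM hnc' hq hqσH
  have hMfac : M ≤ piCoreOf (beta M) M ⊔ (M ⊓ H) :=
    (le_beta_sup_normalizer hG hM hqσ hqβM hSM).trans
      (sup_le_sup_left (le_inf inf_le_left (inf_le_right.trans hNSH)) _)
  have hβn := le_normalizer_betaCore M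
  have hβσ := betaCore_le_sigmaCore hG hM
  -- (i)
  have hi : ⁅sigmaCore M, P⁆ ≤ piCoreOf (beta M) M := by
    rw [Subgroup.commutator_le]
    intro x hx z hz
    obtain ⟨b, hb, i, hi, rfl⟩ := exists_mul_of_mem_sup_of_le_normalizer
      (inf_le_left.trans hβn) (hMfac (sigmaCore_le M hx))
    have hiσ : i ∈ sigmaCore M := by
      have : i = b⁻¹ * (b * i) := by group
      rw [this]
      exact Subgroup.mul_mem _ (Subgroup.inv_mem _ (hβσ hb)) hx
    have hic : i ∈ Subgroup.centralizer (P : Set G) := hYle ⟨hiσ, hi.2⟩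
    have hcomm : z * i = i * z := Subgroup.mem_centralizer_iff.mp hic z hz
    have e : ⁅b * i, z⁆ = b * (z * b⁻¹ * z⁻¹) := by
      rw [commutatorElement_def]
      calc b * i * z * (b * i)⁻¹ * z⁻¹ = b * (i * z) * i⁻¹ * b⁻¹ * z⁻¹ := by group
        _ = b * (z * i) * i⁻¹ * b⁻¹ * z⁻¹ := by rw [hcomm]
        _ = b * (z * b⁻¹ * z⁻¹) := by group
    rw [e]
    exact Subgroup.mul_mem _ hb
      (conj_mem_of_mem_normalizer (hβn (hPM hz)) (Subgroup.inv_mem _ hb))
  -- (ii)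
  have hrβM : ¬ r ∣ Nat.card (piCoreOf (beta M) M) :=
    not_dvd_card_betaCore hG hM hr (fun hβ => hrσ (alpha_subset_sigma hG hM hβ.1))
  have hii : r ∈ tau1 M := by
    refine ⟨hr, hrσ, ?_, ?_, ?_⟩
    · rw [← h.cardR]
      exact Subgroup.card_dvd_of_le hRM
    · intro hd
      have h1 : ⁅M, M⁆ ≤ piCoreOf (beta M) M ⊔ ⁅M ⊓ H, M ⊓ H⁆ :=
        commutator_le_sup_of_le_sup hβn inf_le_left hMfac
      have h2 : ⁅M ⊓ H, M ⊓ H⁆ ≤ M := (commutator_self_le _).trans inf_le_left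
      have h3' := Cfsg.Agent.Lib.Helper9.card_sup_dvd_of_le_normalizer (h2.trans hβn)
      rcases (Nat.Prime.dvd_mul hr).mp ((hd.trans (Subgroup.card_dvd_of_le h1)).trans h3')
        with h5 | h5
      · exact hrβM h5
      · exact hrτ.2.2.2.1 (h5.trans (Subgroup.card_dvd_of_le
          (Subgroup.commutator_mono inf_le_right inf_le_right)))
    · by_contra hrank
      obtain ⟨T, hT⟩ := exists_isSylowIn r (M ⊓ H)
      have hTM : IsSylowIn r T M :=
        isSylowIn_of_le_sup (inf_le_left.trans hβn) hMfac inf_le_left hrβM hT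
      have h1 : ¬ PRankLE r 1 ↥T := not_pRankLE_sylow_of_not_pRankLE hTM hrank
      exact h1 (Cfsg.Agent.Lib.Helper9.pRankLE_of_le (hT.le.trans inf_le_right) hrτ.2.2.2.2)
  -- (iii)
  have hiii : ¬ piCoreOf (beta M) M ≤ Subgroup.centralizer (Q : Set G) := by
    intro hc
    have h1 : M ≤ H := hMfac.trans (sup_le
      ((hc.trans (Subgroup.centralizer_le_normalizer _)).trans hNQ) inf_le_right)
    exact hHM (eq_of_isCoatom_of_le hM hH h1)
  -- (iv)
  have hiv : ¬ sigmaCore M ⊓ Subgroup.centralizer (R : Set G) ≤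
      Subgroup.centralizer (P : Set G) :=
    h4 M H P R Q p r q hM hH hHM hpp hr hq hpσ h.cardP hPM (inf_le_right.trans hCH) hrσ h.cardR
      hRM hQq hQM hqβM hRQ hQR hQP h.hRP hiii
  have hPR : P ≤ Subgroup.centralizer (R : Set G) := by
    rw [← Subgroup.commutator_eq_bot_iff_le_centralizer, Subgroup.commutator_comm,
      Subgroup.commutator_eq_bot_iff_le_centralizer]
    exact h.hRP
  exact ⟨hi, ⟨hM, h.compl, hii, h.hRE, h.cardR, h.hPE, hPR, h.cardP, hpp, hiv⟩,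
    q, Q, hq, hqβM, hQq, hQσ, hQ1, hQR⟩

/-- no counterexample configuration exists (given Step 3 and the swap lemma). -/
theorem Cfg.false (hG : IsMinSimpleOddOrder G) (h3 : Step3 G) (h4 : Swap G)
    {M E P R : Subgroup G} {p r : ℕ} (h : Cfg M E P R p r) : False := by
  obtain ⟨-, hswap, q, Q, hq, hqβ, hQq, hQσ, hQ1, hQR⟩ := h.main hG h3 h4
  obtain ⟨hR, -, -⟩ := hswap.main hG h3 h4
  have : Fact q.Prime := ⟨hq⟩
  have h1 : Q ≤ piCoreOf (beta M) M := by
    rw [← hQR]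
    exact (Subgroup.commutator_mono hQσ le_rfl).trans hR
  have h2 : q ∣ Nat.card (piCoreOf (beta M) M) :=
    (dvd_card_of_pgroup_ne_bot hQq hQ1).trans (Subgroup.card_dvd_of_le h1)
  exact not_dvd_card_betaCore hG h.coatom hq hqβ h2

/-- **Bender--Glauberman, Theorem 13.3** (given Step 3 and the swap lemma). -/
theorem thm_13_3 (hG : IsMinSimpleOddOrder G) (h3 : Step3 G) (h4 : Swap G)
    (M : Subgroup G) (hM : IsCoatom M) (E : Subgroup G) (hE : IsComplIn E (sigmaCore M) M)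
    (p : ℕ) (hp : p ∈ tau1 M) (P : Subgroup G) (hPE : P ≤ E) (hP : Nat.card P = p)
    (R : Subgroup G) (hRE : R ≤ E ⊓ Subgroup.centralizer (P : Set G))
    (hR : (Nat.card R).Prime) :
    sigmaCore M ⊓ Subgroup.centralizer (P : Set G) ≤
      sigmaCore M ⊓ Subgroup.centralizer (R : Set G) := by
  apply le_inf inf_le_left
  by_contra hbad
  exact Cfg.false hG h3 h4
    ⟨hM, hE, hp, hPE, hP, hRE.trans inf_le_left, hRE.trans inf_le_right, rfl, hR, hbad⟩

end Cfsg.Agent.Lib.Helper7.BG13
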