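import Mathlib
import Cfsg.Prelude
import Cfsg.Agent.Lib.Helper7.BG13C
import Cfsg.Agent.Lib.Helper9.BGSwap3
import Cfsg.Agent.S1406
import Cfsg.Agent.S1409

/-!
# Bender--Glauberman, Theorem 13.3: Step 3 of the last case (`N_G(Q) ≤ H`)
-/

set_option autoImplicit false
open Cfsg
open Cfsg.Agent.Lib.Helper9.BGExc
open Cfsg.Agent.Lib.Helper10.BG
open scoped Pointwise commutatorElement

namespace Cfsg.Agent.Lib.Helper7.BG13

variable {G : Type*} [Group G] [Finite G]

omit [Finite G] in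
/-- commutators with powers of `a`. -/
theorem commutator_pow_mem_closure {Q : Subgroup G} {a : G}
    (haQ : a ∈ Subgroup.normalizer (Q : Set G)) (k : ℕ) :
    ∀ x ∈ Q, ⁅x, a ^ k⁆ ∈ Subgroup.closure {c : G | ∃ y ∈ Q, c = ⁅y, a⁆} := by
  induction k with
  | zero =>
    intro x _
    rw [pow_zero, commutatorElement_one_right]
    exact Subgroup.one_mem _
  | succ k ih =>
    intro x hx
    have e : ⁅x, a ^ (k + 1)⁆ = ⁅x, a⁆ * ⁅a * x * a⁻¹, a ^ k⁆ := by
      have h1 : a * a ^ k * a⁻¹ = a ^ k := by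
        rw [← pow_succ', pow_succ, mul_inv_cancel_right]
      rw [pow_succ']
      simp only [commutatorElement_def]
      have h2 : (a * x * a⁻¹) * a ^ k * (a * x * a⁻¹)⁻¹ * (a ^ k)⁻¹ =
          a * (x * a ^ k * x⁻¹ * (a ^ k)⁻¹) * a⁻¹ := by
        calc (a * x * a⁻¹) * a ^ k * (a * x * a⁻¹)⁻¹ * (a ^ k)⁻¹
            = a * x * (a⁻¹ * a ^ k * a) * x⁻¹ * (a⁻¹ * (a ^ k)⁻¹ * a) * a⁻¹ := by group
          _ = a * x * a ^ k * x⁻¹ * (a ^ k)⁻¹ * a⁻¹ := by
              have h3 : a⁻¹ * a ^ k * a = a ^ k := by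
                rw [mul_assoc, ← pow_succ, pow_succ', inv_mul_cancel_left]
              have h4 : a⁻¹ * (a ^ k)⁻¹ * a = (a ^ k)⁻¹ := by
                rw [← h3]
                group
              rw [h3, h4]
          _ = a * (x * a ^ k * x⁻¹ * (a ^ k)⁻¹) * a⁻¹ := by group
      rw [h2]
      group
    rw [e]
    refine Subgroup.mul_mem _ (Subgroup.subset_closure ⟨x, hx, rfl⟩) (ih _ ?_)
    exact (Subgroup.mem_normalizer_iff.mp haQ x).mp hx

/-- `[Q, ⟨a⟩]` is generated by the commutators `[x, a]`, `x ∈ Q`. -/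
theorem commutator_zpowers_le_closure {Q : Subgroup G} {a : G}
    (haQ : a ∈ Subgroup.normalizer (Q : Set G)) :
    ⁅Q, Subgroup.zpowers a⁆ ≤ Subgroup.closure {c : G | ∃ y ∈ Q, c = ⁅y, a⁆} := by
  rw [Subgroup.commutator_le]
  intro x hx z hz
  have hz' : z ∈ Submonoid.powers a :=
    (isOfFinOrder_of_finite a).mem_powers_iff_mem_zpowers.mpr hz
  obtain ⟨k, rfl⟩ := (Submonoid.mem_powers_iff z a).mp hz'
  exact commutator_pow_mem_closure haQ k x hx

/-- `C_{H_α}(R)` has rank at most one for `R` of order `r ∈ τ₁(H)`. -/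
theorem rankLE_one_alphaCore_inf_centralizer (hG : IsMinSimpleOddOrder G) {H R : Subgroup G}
    (hH : IsCoatom H) {r : ℕ} [Fact r.Prime] (hrτ : r ∈ tau1 H) (hR : Nat.card R = r)
    (hRH : R ≤ H) : RankLE 1 ↥(alphaCore H ⊓ Subgroup.centralizer (R : Set G)) := by
  have hr : r.Prime := Fact.out
  by_contra hrank
  have hRα : ∀ k : ℕ, k.Prime → k ∣ Nat.card R → k ∉ alpha H := by
    intro k hk hd hα
    rw [hR] at hd
    have : k = r := (Nat.prime_dvd_prime_iff_eq hk hr).mp hd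
    rw [this] at hα
    exact hrτ.2.1 (alpha_subset_sigma hG hH hα)
  have hU := Cfsg.Agent.S1406.result hG H hH R hRH hRα hrank
  have hR1 : R ≠ ⊥ := ne_bot_of_card_prime hR
  have hRtop : R ≠ ⊤ := ne_top_of_le_isCoatom hH hRH
  have hNN : Subgroup.normalizer (R : Set G) ≠ ⊤ :=
    Cfsg.Agent.Lib.Lead.BGTrans.normalizer_ne_top hG.2 hR1 hRtop
  obtain ⟨L, hL, hNL⟩ := exists_isCoatom_ge hNN
  have hLH : L = H := hU.unique
    ⟨hL, inf_le_right.trans ((Subgroup.centralizer_le_normalizer _).trans hNL)⟩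
    ⟨hH, inf_le_left⟩
  rw [hLH] at hNL
  exact (Cfsg.Agent.S1409.result hG H hH r hrτ.2.1 R hR hNL).1.2 hrτ.2.2.2.2

/-- **Step 3**: `N_G(Q) ≤ H`. -/
theorem normalizer_le_of_bad (hG : IsMinSimpleOddOrder G) {H P R Q : Subgroup G}
    (hH : IsCoatom H) {p r q : ℕ} [Fact p.Prime] [Fact r.Prime] [Fact q.Prime]
    (hpβ : p ∈ beta H) (hP : Nat.card P = p) (hPH : P ≤ H) (hrτ : r ∈ tau1 H)
    (hR : Nat.card R = r) (hRH : R ≤ H) (hQq : IsPGroup q Q) (hQH : Q ≤ H) (hqβ : q ∉ beta H)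
    (hqr : q ≠ r) (hQ1 : Q ≠ ⊥) (hRQ : R ≤ Subgroup.normalizer (Q : Set G)) (hQR : ⁅Q, R⁆ = Q)
    (hQP : Q ≤ Subgroup.centralizer (P : Set G)) (hRP : R ≤ Subgroup.centralizer (P : Set G)) :
    Subgroup.normalizer (Q : Set G) ≤ H := by
  have hpp : p.Prime := Fact.out
  have hr : r.Prime := Fact.out
  have hq : q.Prime := Fact.out
  have hPp : IsPGroup p P := IsPGroup.of_card (n := 1) (by rw [hP, pow_one])
  have hrσ : r ∉ sigma H := hrτ.2.1
  have hpσ : p ∈ sigma H := alpha_subset_sigma hG hH hpβ.1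
  have hp2 : p ≠ 2 := prime_ne_two hG (hpσ.2.1.trans (Subgroup.card_subgroup_dvd_card H))
  have hpq : p ≠ q := fun h => hqβ (h ▸ hpβ)
  have hpr : p ≠ r := fun h => hrσ (h ▸ hpσ)
  -- a generator of `R`
  haveI : IsCyclic ↥R := isCyclic_of_prime_card hR
  obtain ⟨g, hg⟩ := IsCyclic.exists_generator (α := ↥R)
  obtain ⟨a, ha⟩ : ∃ a : G, a = (g : G) := ⟨_, rfl⟩
  have haR : a ∈ R := ha ▸ g.2
  have hRa : R = Subgroup.zpowers a := by
    apply le_antisymm
    · intro x hx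
      obtain ⟨k, hk⟩ := Subgroup.mem_zpowers_iff.mp (hg ⟨x, hx⟩)
      refine Subgroup.mem_zpowers_iff.mpr ⟨k, ?_⟩
      rw [ha]
      have := congrArg Subtype.val hk
      simpa using this
    · exact Subgroup.zpowers_le.mpr haR
  have har : a ^ r = 1 := by
    have h1 : g ^ Nat.card ↥R = 1 := pow_card_eq_one'
    rw [hR] at h1
    rw [ha]
    have := congrArg Subtype.val h1
    simpa using this
  -- the `QR`-invariant Sylow `p`-subgroup `T` of `H_β` containing `P`
  have hβHall := (Cfsg.Agent.S1414.result hG H hH).1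
  have hβn := le_normalizer_betaCore H
  have hKH : piCoreOf (beta H) H ≤ H := hβHall.1
  have hPK : P ≤ piCoreOf (beta H) H :=
    pgroup_le_of_not_dvd_relIndex hβn (hβHall.2.2 p hpp hpβ) hPp hPH
  have hQRH : Q ⊔ R ≤ H := sup_le hQH hRH
  have hQRcard : Nat.card (Q ⊔ R : Subgroup G) ∣ Nat.card Q * Nat.card R :=
    Cfsg.Agent.Lib.Helper9.card_sup_dvd_of_le_normalizer hRQ
  have hrβ : r ∉ beta H := fun h => hrσ (alpha_subset_sigma hG hH h.1)
  have hact : Cfsg.Agent.Lib.Helper1.CoprimeAct (Q ⊔ R) (piCoreOf (beta H) H) := by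
    refine ⟨hQRH.trans hβn, ?_, Or.inr (isSolvable_of_ne_top hG (ne_top_of_le_isCoatom hH hKH))⟩
    apply Nat.coprime_of_dvd
    intro k hk hk1 hk2
    rcases (Nat.Prime.dvd_mul hk).mp (hk1.trans hQRcard) with h | h
    · obtain ⟨n, hn⟩ := hQq.exists_card_eq
      rw [hn] at h
      have : k = q := (Nat.prime_dvd_prime_iff_eq hk hq).mp (hk.dvd_of_dvd_pow h)
      rw [this] at hk2
      exact not_dvd_card_betaCore hG hH hq hqβ hk2
    · rw [hR] at h
      have : k = r := (Nat.prime_dvd_prime_iff_eq hk hr).mp h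
      rw [this] at hk2
      exact not_dvd_card_betaCore hG hH hr hrβ hk2
  have hPinv : Q ⊔ R ≤ Subgroup.normalizer (P : Set G) :=
    (sup_le hQP hRP).trans (Subgroup.centralizer_le_normalizer _)
  obtain ⟨T', hPT', hAT'⟩ := hact.exists_invariant_sylow_ge P hPK hPp hPinv
  obtain ⟨T, hTdef⟩ : ∃ T : Subgroup G,
      T = (T' : Subgroup ↥(piCoreOf (beta H) H)).map (piCoreOf (beta H) H).subtype := ⟨_, rfl⟩
  rw [← hTdef] at hPT' hAT'
  have hTK : IsSylowIn p T (piCoreOf (beta H) H) := by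
    rw [hTdef]
    exact isSylowIn_of_sylow T'
  have hTH : IsSylowIn p T H := hTK.of_not_dvd_relIndex hKH (hβHall.2.2 p hpp hpβ)
  have hTp : IsPGroup p T := hTK.isPGroup
  have hTnc : ¬ IsCyclic ↥T := by
    intro hc
    have h1 : ¬ PRankLE p 2 ↥T := not_pRankLE_sylow_of_not_pRankLE hTH hpβ.1.2
    apply h1
    intro B hBc hBp
    have h2 := pRankLE_one_of_isCyclic hpp hc B hBc hBp
    exact h2.trans (Nat.pow_le_pow_right hpp.pos (by norm_num))
  -- `C_T(R)` is cyclic with `Ω₁ = P`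
  have hrk := rankLE_one_alphaCore_inf_centralizer hG hH hrτ hR hRH
  have hKα : piCoreOf (beta H) H ≤ alphaCore H :=
    Subgroup.map_mono (piCore_mono_set (fun k hk => hk.1))
  have hTRle : T ⊓ Subgroup.centralizer (R : Set G) ≤
      alphaCore H ⊓ Subgroup.centralizer (R : Set G) :=
    inf_le_inf_right _ (hTK.le.trans hKα)
  have hTRc : IsCyclic ↥(T ⊓ Subgroup.centralizer (R : Set G) : Subgroup G) :=
    isCyclic_of_pRankLE_one hp2 (hrk p hpp) hTRle (hTp.to_le inf_le_left)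
  have hPR : P ≤ Subgroup.centralizer (R : Set G) := by
    rw [← Subgroup.commutator_eq_bot_iff_le_centralizer, Subgroup.commutator_comm,
      Subgroup.commutator_eq_bot_iff_le_centralizer]
    exact hRP
  have hPTR : P ≤ T ⊓ Subgroup.centralizer (R : Set G) := le_inf hPT' hPR
  have hkey : ∀ u ∈ T, u ^ p = 1 → a * u = u * a → ∀ x ∈ Q, x * u = u * x := by
    intro u hu hup hau x hx
    have huP : u ∈ P := by
      by_cases hu1 : u = 1
      · rw [hu1]
        exact P.one_mem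
      have huR : u ∈ Subgroup.centralizer (R : Set G) := by
        rw [hRa, Subgroup.mem_centralizer_iff]
        intro z hz
        obtain ⟨k, rfl⟩ := Subgroup.mem_zpowers_iff.mp hz
        exact ((Commute.zpow_left (show Commute a u from hau) k).eq)
      have huTR : Subgroup.zpowers u ≤ T ⊓ Subgroup.centralizer (R : Set G) :=
        Subgroup.zpowers_le.mpr ⟨hu, huR⟩
      have hcard : Nat.card (Subgroup.zpowers u) = p := by
        rw [Nat.card_zpowers]
        exact orderOf_eq_prime hup hu1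
      haveI := hTRc
      have heq : Subgroup.zpowers u = P :=
        Cfsg.Agent.Lib.Helper10.eq_of_card_eq_of_le_isCyclic _ _ _ huTR hPTR (hcard.trans hP.symm)
      rw [← heq]
      exact Subgroup.mem_zpowers u
    exact (Subgroup.mem_centralizer_iff.mp (hQP hx) u huP).symm
  -- helper9's structure
  have hAct : Cfsg.Agent.Lib.Helper9.BGSwap.Act H T Q a r := by
    refine ⟨isSolvable_of_ne_top hG hH.1, odd_card_subgroup hG H, hTH.le, hQH, hRH haR, hr, har,
      le_sup_left.trans hAT', hAT' (Subgroup.mem_sup_right haR), hRQ haR, ?_, ?_, ?_, ?_⟩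
    · obtain ⟨n, hn⟩ := hQq.exists_card_eq
      obtain ⟨m, hm⟩ := hTp.exists_card_eq
      rw [hn, hm]
      exact Nat.Coprime.pow n m ((Nat.coprime_primes hq hpp).mpr (Ne.symm hpq))
    · intro hd
      obtain ⟨m, hm⟩ := hTp.exists_card_eq
      rw [hm] at hd
      exact hpr ((Nat.prime_dvd_prime_iff_eq hr hpp).mp (hr.dvd_of_dvd_pow hd)).symm
    · intro hd
      obtain ⟨n, hn⟩ := hQq.exists_card_eq
      rw [hn] at hd
      exact hqr ((Nat.prime_dvd_prime_iff_eq hr hq).mp (hr.dvd_of_dvd_pow hd)).symm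
    · calc Q = ⁅Q, R⁆ := hQR.symm
        _ = ⁅Q, Subgroup.zpowers a⁆ := by rw [← hRa]
        _ ≤ _ := commutator_zpowers_le_closure (hRQ haR)
  have hCnc := hAct.claimN hTp hkey hTnc
  obtain ⟨B, hBle, hBe, hBc⟩ :=
    exists_elementary_sq_of_not_isCyclic hp2 (hTp.to_le inf_le_left) hCnc
  have hBT : B ≤ T := hBle.trans inf_le_left
  have hBQ : B ≤ Subgroup.centralizer (Q : Set G) := hBle.trans inf_le_right
  have hBH : B ≤ H := hBT.trans hTH.le
  -- `B` lies in a unique maximal subgroup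
  have hBU : InUniqueMaximal B := by
    apply Cfsg.Agent.S1403.result hG B (ne_top_of_le_isCoatom hH hBH)
    · intro h1
      apply not_pRankLE_of_le (le_refl B) hBe (k := 1) _ (h1 p hpp)
      rw [hBc]
      exact Nat.pow_lt_pow_right hpp.one_lt (by norm_num)
    · right
      intro h2
      obtain ⟨S, hBS⟩ := (IsPGroup.of_card hBc : IsPGroup p B).exists_le_sylow
      obtain ⟨B', hB'S, hB'e, hBB'⟩ := hpβ.2.2.2 S B hBS hBe hBc
      have hB'C : B' ≤ Subgroup.centralizer (B : Set G) := by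
        intro x hx
        rw [Subgroup.mem_centralizer_iff]
        intro b hb
        have hc := hB'e.1
        have := hc.is_comm.comm ⟨b, hBB'.le hb⟩ ⟨x, hx⟩
        exact congrArg Subtype.val this
      apply not_pRankLE_of_le hB'C hB'e (k := 2) _ (h2 p hpp)
      rw [← hBc]
      exact Cfsg.Agent.Lib.Helper1.card_lt_of_lt hBB'
  have hQtop : Q ≠ ⊤ := ne_top_of_le_isCoatom hH hQH
  have hNN : Subgroup.normalizer (Q : Set G) ≠ ⊤ :=
    Cfsg.Agent.Lib.Lead.BGTrans.normalizer_ne_top hG.2 hQ1 hQtop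
  obtain ⟨L, hL, hNL⟩ := exists_isCoatom_ge hNN
  have hLH : L = H := hBU.unique
    ⟨hL, (hBQ.trans (Subgroup.centralizer_le_normalizer _)).trans hNL⟩ ⟨hH, hBH⟩
  rw [hLH] at hNL
  exact hNL

/-- the interface `Step3` of `BG13C` holds. -/
theorem step3 (hG : IsMinSimpleOddOrder G) : Step3 G := by
  intro H P R Q p r q hH hp hr hq hpβ hP hPH hrτ hR hRH hQq hQH hqβ hqr hQ1 hRQ hQR hQP hRP
  have : Fact p.Prime := ⟨hp⟩
  have : Fact r.Prime := ⟨hr⟩
  have : Fact q.Prime := ⟨hq⟩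
  exact normalizer_le_of_bad hG hH hpβ hP hPH hrτ hR hRH hQq hQH hqβ hqr hQ1 hRQ hQR hQP hRP

end Cfsg.Agent.Lib.Helper7.BG13
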