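import Mathlib
import Cfsg.Agent.Lib.Helper7.BGTypesA

/-!
# Helper7: B&G section 16 -- S1389 (Sylow normalizers of `M_s`, Hall property of `M_F`, `M_s`)
from the frozen rows S1351, S1352, S1357, S1363, S1365.
-/

set_option autoImplicit false
set_option linter.unusedSectionVars false
set_option linter.unusedVariables false
open Cfsg

namespace Cfsg.Agent.Lib.Helper7.BGTypes

open Cfsg.Agent.Lib.Helper10.BG Cfsg.Agent.Lib.Helper10 Cfsg.Agent.Lib.Helper9.BGExc
open Cfsg.Agent.Lib.Helper19.BGCompl Cfsg.Agent.Lib.Helper19.BG12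
open Cfsg.Agent.Lib.Helper1.BGSigmaDecomp Cfsg.Agent.Lib.Helper19.BG14
open Cfsg.Agent.Lib.Helper1.BGStubs2

variable {G : Type*} [Group G] [Finite G]

/-- the frozen row `S1357` as a hypothesis. -/
def P1357 (G : Type*) [Group G] [Finite G] : Prop :=
  ∀ (M : Subgroup G), IsCoatom M → ∀ K U : Subgroup G, IsSigmaDecomposition M K U →
    fittingHallOf M ≠ sigmaCore M → U = ⊥ ∧ IsTISubset (fittingOf M : Set G) ∧ (Nat.card K).Prime

theorem typeCore_eq_pos {M : Subgroup G} (h : IsOfTypeIII M ∨ IsOfTypeIV M) :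
    typeCore M = ⁅M, M⁆ := by
  unfold typeCore
  exact if_pos h

theorem typeCore_eq_neg {M : Subgroup G} (h : ¬ (IsOfTypeIII M ∨ IsOfTypeIV M)) :
    typeCore M = fittingHallOf M := by
  unfold typeCore
  exact if_neg h

/-- `M_F` is a Hall subgroup of `G` whose nontrivial Sylow subgroups have normalizer `M`. -/
theorem core_aux_fittingHallOf (hG : IsMinSimpleOddOrder G) {M : Subgroup G} (hM : IsCoatom M) :
    (∀ (p : ℕ), p.Prime → ∀ (P : Sylow p ↥(fittingHallOf M)),
        (P : Subgroup ↥(fittingHallOf M)) ≠ ⊥ →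
        Subgroup.normalizer ((((P : Subgroup ↥(fittingHallOf M)).map
          (fittingHallOf M).subtype : Subgroup G)) : Set G) ≤ M) ∧
      (Nat.card (fittingHallOf M)).Coprime (fittingHallOf M).index := by
  constructor
  · intro p hp P hP1
    haveI : Fact p.Prime := ⟨hp⟩
    have hS : IsSylowIn p ((P : Subgroup ↥(fittingHallOf M)).map (fittingHallOf M).subtype)
        (fittingHallOf M) := isSylowIn_of_sylow P
    have hne : ((P : Subgroup ↥(fittingHallOf M)).map (fittingHallOf M).subtype : Subgroup G) ≠ ⊥ := by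
      intro h1
      exact hP1 ((Subgroup.map_eq_bot_iff_of_injective _ (Subgroup.subtype_injective _)).mp h1)
    have hMN : M ≤ Subgroup.normalizer ((((P : Subgroup ↥(fittingHallOf M)).map
        (fittingHallOf M).subtype : Subgroup G)) : Set G) :=
      (le_normalizer_fittingHallOf M).trans
        (normalizer_le_normalizer_sylow_of_nilpotent (isNilpotent_fittingHallOf M) hS)
    exact (normalizer_eq_of_isCoatom' hG hM hne (hS.le.trans (fittingHallOf_le M)) hMN).le
  · apply Nat.coprime_of_dvd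
    intro q hq hd1 hd2
    haveI : Fact q.Prime := ⟨hq⟩
    rw [← Subgroup.relIndex_mul_index (fittingHallOf_le M)] at hd2
    rcases (Nat.Prime.dvd_mul hq).mp hd2 with h | h
    · have h2 := fittingHallOf_coprime M
      exact hq.one_lt.ne' (Nat.eq_one_of_dvd_one (h2 ▸ Nat.dvd_gcd hd1 h))
    · have hqσ : q ∈ sigma M := mem_sigma_of_dvd_card_sigmaCore hG hM hq
        (hd1.trans (Subgroup.card_dvd_of_le
          (Cfsg.Agent.Lib.Helper1.BGFthm.fittingHallOf_le_sigmaCore hG hM)))
      exact not_dvd_index_of_mem_sigma hM hqσ h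

/-- `M_σ` is a Hall subgroup of `G` whose nontrivial Sylow subgroups have normalizer in `M`. -/
theorem core_aux_sigmaCore (hG : IsMinSimpleOddOrder G) {M : Subgroup G} (hM : IsCoatom M) :
    (∀ (p : ℕ), p.Prime → ∀ (P : Sylow p ↥(sigmaCore M)),
        (P : Subgroup ↥(sigmaCore M)) ≠ ⊥ →
        Subgroup.normalizer ((((P : Subgroup ↥(sigmaCore M)).map
          (sigmaCore M).subtype : Subgroup G)) : Set G) ≤ M) ∧
      (Nat.card (sigmaCore M)).Coprime (sigmaCore M).index := by
  have h50 := Cfsg.Agent.S1350.result hG M hM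
  constructor
  · intro p hp P hP1
    haveI : Fact p.Prime := ⟨hp⟩
    have hS : IsSylowIn p ((P : Subgroup ↥(sigmaCore M)).map (sigmaCore M).subtype)
        (sigmaCore M) := isSylowIn_of_sylow P
    have hne : ((P : Subgroup ↥(sigmaCore M)).map (sigmaCore M).subtype : Subgroup G) ≠ ⊥ := by
      intro h1
      exact hP1 ((Subgroup.map_eq_bot_iff_of_injective _ (Subgroup.subtype_injective _)).mp h1)
    have hpd : p ∣ Nat.card (sigmaCore M) :=
      (dvd_card_of_pgroup_ne_bot hS.isPGroup hne).trans (Subgroup.card_dvd_of_le hS.le)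
    have hpσ : p ∈ sigma M := mem_sigma_of_dvd_card_sigmaCore hG hM hp hpd
    have hSM : IsSylowIn p ((P : Subgroup ↥(sigmaCore M)).map (sigmaCore M).subtype) M :=
      hS.of_not_dvd_relIndex (sigmaCore_le M) (not_dvd_relIndex_sigmaCore hG hM hp hpσ)
    exact (sigmaProp_of_mem_sigma hM hpσ).2 _ hSM
  · apply Nat.coprime_of_dvd
    intro q hq hd1 hd2
    exact h50.2.1.2 q hq (h50.2.1.1 q hq hd1) hd2

/-- In Types III and IV, `M' = M_σ` (from the frozen rows S1351, S1352, S1357, S1363, S1365). -/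
theorem commutator_eq_sigmaCore_of_typeIII_IV (hG : IsMinSimpleOddOrder G)
    (h51 : P1351 G) (h52 : P1352 G) (h57 : P1357 G) (h63 : P1363 G) (h65 : P1365 G)
    {M : Subgroup G} (hM : IsCoatom M) (h : IsOfTypeIII M ∨ IsOfTypeIV M) :
    ⁅M, M⁆ = sigmaCore M := by
  obtain ⟨⟨K, hK⟩, hKc⟩ := h51 M hM
  obtain ⟨⟨U, hKU⟩, -⟩ := h52 M hM K (hKc K hK) hK
  have hU : U = ⊥ := by
    rcases h with ⟨W₁, U', W₂, hP, hU'1, -, -, -, hN⟩ | ⟨W₁, U', W₂, hP, hU'1, -, -, -, hN⟩
    · exact U_eq_bot_of_normalizer_le hG h57 h63 h65 hM hKU hP hU'1 hN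
    · exact U_eq_bot_of_normalizer_le hG h57 h63 h65 hM hKU hP hU'1 hN
  exact (Cfsg.Agent.Lib.Helper1.BGFthm.sigmaCore_eq_commutator hG hM hKU hU).symm

/-- The frozen row `S1389` from the frozen rows S1351, S1352, S1357, S1363, S1365. -/
theorem s1389_of (hG : IsMinSimpleOddOrder G)
    (h51 : P1351 G) (h52 : P1352 G) (h57 : P1357 G) (h63 : P1363 G) (h65 : P1365 G)
    (M : Subgroup G) (hM : IsCoatom M) :
    (∀ (p : ℕ), p.Prime → ∀ (P : Sylow p ↥(Cfsg.typeCore M)), (P : Subgroup ↥(Cfsg.typeCore M)) ≠ ⊥ →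
        Subgroup.normalizer ((((P : Subgroup ↥(Cfsg.typeCore M)).map (Cfsg.typeCore M).subtype : Subgroup G)) : Set G) ≤ M) ∧
      (Nat.card (Cfsg.fittingHallOf M)).Coprime (Cfsg.fittingHallOf M).index ∧
      (Nat.card (Cfsg.typeCore M)).Coprime (Cfsg.typeCore M).index := by
  have hF := core_aux_fittingHallOf hG hM
  have key : ∀ T : Subgroup G, (T = fittingHallOf M ∨ T = sigmaCore M) →
      (∀ (p : ℕ), p.Prime → ∀ (P : Sylow p ↥T), (P : Subgroup ↥T) ≠ ⊥ →
        Subgroup.normalizer ((((P : Subgroup ↥T).map T.subtype : Subgroup G)) : Set G) ≤ M) ∧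
      (Nat.card T).Coprime T.index := by
    rintro T (rfl | rfl)
    · exact hF
    · exact core_aux_sigmaCore hG hM
  have hT : typeCore M = fittingHallOf M ∨ typeCore M = sigmaCore M := by
    by_cases h : IsOfTypeIII M ∨ IsOfTypeIV M
    · right
      rw [typeCore_eq_pos h]
      exact commutator_eq_sigmaCore_of_typeIII_IV hG h51 h52 h57 h63 h65 hM h
    · left
      exact typeCore_eq_neg h
  obtain ⟨k1, k2⟩ := key (typeCore M) hT
  exact ⟨k1, hF.2, k2⟩

end Cfsg.Agent.Lib.Helper7.BGTypes
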