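import Mathlib
import Cfsg.Agent.Lib.Helper7.BGTypesB
import Cfsg.Agent.Lib.Helper10.Basic

/-!
# Helper7: B&G section 16 -- groups of Frobenius type have `κ(M) = ∅` and `M_F = M_σ`
(from the frozen rows S1351, S1352, S1357, S1364).
-/

set_option autoImplicit false
set_option linter.unusedSectionVars false
set_option linter.unusedVariables false
open Cfsg

namespace Cfsg.Agent.Lib.Helper7.BGTypes

open Cfsg.Agent.Lib.Helper10.BG Cfsg.Agent.Lib.Helper10 Cfsg.Agent.Lib.Helper9.BGExc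
open Cfsg.Agent.Lib.Helper19.BGCompl Cfsg.Agent.Lib.Helper19.BG12
open Cfsg.Agent.Lib.Helper1.BGSigmaDecomp Cfsg.Agent.Lib.Helper19.BG14
open Cfsg.Agent.Lib.Helper1.BGStubs2

variable {G : Type*} [Group G] [Finite G]

/-- in a cyclic `p`-group, an element of order `p` is a power of every nontrivial element. -/
theorem mem_zpowers_of_cyclic_pgroup {p : ℕ} [Fact p.Prime] {P : Subgroup G}
    (hP : IsPGroup p P) (hc : IsCyclic P) {u x : G} (hu : u ∈ P) (huo : orderOf u = p)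
    (hx : x ∈ P) (hx1 : x ≠ 1) : u ∈ Subgroup.zpowers x := by
  have hpp : p.Prime := Fact.out
  have := hc
  set x₀ : ↥P := ⟨x, hx⟩ with hx₀
  set u₀ : ↥P := ⟨u, hu⟩ with hu₀
  have hZ1 : Subgroup.zpowers x₀ ≠ ⊥ := by
    intro h
    have : x₀ ∈ (⊥ : Subgroup ↥P) := h ▸ Subgroup.mem_zpowers x₀
    rw [Subgroup.mem_bot] at this
    exact hx1 (congrArg Subtype.val this)
  have hZp : IsPGroup p (Subgroup.zpowers x₀) := (hP.to_subgroup (Subgroup.zpowers x₀))
  have hpd : p ∣ Nat.card (Subgroup.zpowers x₀) := by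
    rcases hZp.card_eq_or_dvd with h | h
    · exact absurd (Subgroup.card_eq_one.mp h) hZ1
    · exact h
  obtain ⟨z, hz⟩ := exists_prime_orderOf_dvd_card' (G := Subgroup.zpowers x₀) p hpd
  have hzo : orderOf (z : ↥P) = p := by rw [Subgroup.orderOf_coe, hz]
  have hu₀o : orderOf u₀ = p := by rw [← huo, hu₀, Subgroup.orderOf_mk]
  have heq : Subgroup.zpowers u₀ = Subgroup.zpowers (z : ↥P) := by
    apply eq_of_card_eq_of_isCyclic
    rw [Nat.card_zpowers, Nat.card_zpowers, hzo, hu₀o]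
  have h1 : u₀ ∈ Subgroup.zpowers x₀ := by
    have h2 : u₀ ∈ Subgroup.zpowers (z : ↥P) := heq ▸ Subgroup.mem_zpowers u₀
    exact (Subgroup.zpowers_le.mpr z.2) h2
  obtain ⟨k, hk⟩ := Subgroup.mem_zpowers_iff.mp h1
  refine Subgroup.mem_zpowers_iff.mpr ⟨k, ?_⟩
  have := congrArg Subtype.val hk
  simpa [hx₀, hu₀] using this

/-- In a group of Frobenius type, for a prime `p` dividing `|M|` but not `|M_F|` there is an
element of order `p` acting without fixed points on `M_F`. -/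
theorem exists_regular_of_typeF {M : Subgroup G} (hF : IsOfTypeF ↥M) {p : ℕ} (hp : p.Prime)
    (hpM : p ∣ Nat.card M) (hpH : ¬ p ∣ Nat.card (fittingHallOf M)) :
    ∃ u : G, u ∈ M ∧ orderOf u = p ∧ ∀ x ∈ fittingHallOf M, u * x = x * u → x = 1 := by
  haveI : Fact p.Prime := ⟨hp⟩
  obtain ⟨-, -, -, -, UF, -, hc, -, ⟨U₀, hU₀le, hexp, hreg⟩⟩ := hF
  have hcard : Nat.card (fittingHall ↥M) * Nat.card UF = Nat.card M := hc.card_mul
  have e1 : Nat.card (fittingHallOf M) = Nat.card (fittingHall ↥M) :=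
    Nat.card_congr (Subgroup.equivMapOfInjective _ _ (Subgroup.subtype_injective M)).symm.toEquiv
  have hpU : p ∣ Nat.card UF := by
    rw [← hcard] at hpM
    rcases (Nat.Prime.dvd_mul hp).mp hpM with h | h
    · exact absurd (e1 ▸ h) hpH
    · exact h
  obtain ⟨g, hg⟩ := exists_prime_orderOf_dvd_card' (G := UF) p hpU
  have h1 : p ∣ Monoid.exponent ↥UF := hg ▸ Monoid.order_dvd_exponent g
  rw [← hexp] at h1
  have h2 : p ∣ Nat.card U₀ := h1.trans Group.exponent_dvd_nat_card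
  obtain ⟨u, hu⟩ := exists_prime_orderOf_dvd_card' (G := U₀) p h2
  refine ⟨((u : ↥M) : G), (u : ↥M).2, ?_, ?_⟩
  · rw [Subgroup.orderOf_coe, Subgroup.orderOf_coe, hu]
  · rintro _ ⟨x, hx, rfl⟩ hux
    have hu1 : (u : ↥M) ≠ 1 := by
      intro h
      have : orderOf (u : ↥M) = 1 := by rw [h, orderOf_one]
      rw [Subgroup.orderOf_coe, hu] at this
      exact hp.one_lt.ne' this
    have h3 : (u : ↥M) * x = x * (u : ↥M) := Subtype.ext hux
    have := hreg (u : ↥M) u.2 hu1 x hx h3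
    rw [this]; rfl

/-- a prime of `κ(M)` does not divide `|M_F|`. -/
theorem not_dvd_card_fittingHallOf_of_mem_kappa (hG : IsMinSimpleOddOrder G) {M : Subgroup G}
    (hM : IsCoatom M) {p : ℕ} (hp : p ∈ kappa M) : ¬ p ∣ Nat.card (fittingHallOf M) := by
  intro h
  exact hp.2.2.1 (mem_sigma_of_dvd_card_sigmaCore hG hM hp.1
    (h.trans (Subgroup.card_dvd_of_le
      (Cfsg.Agent.Lib.Helper1.BGFthm.fittingHallOf_le_sigmaCore hG hM))))

/-- Sylow `p`-subgroups of `M` are cyclic for `p ∈ κ(M)`. -/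
theorem isCyclic_of_isSylowIn_of_mem_kappa {M P : Subgroup G} {p : ℕ} [Fact p.Prime]
    (hp : p ∈ kappa M) (hP : IsSylowIn p P M) : IsCyclic P := by
  have hc : IsCyclic ↥(P.subgroupOf M) := by
    have := (hp.2.2.2 hP.toSylow).1
    rwa [hP.coe_toSylow] at this
  have := hc
  exact isCyclic_of_surjective (Subgroup.subgroupOfEquivOfLe hP.le).toMonoidHom
    (Subgroup.subgroupOfEquivOfLe hP.le).surjective

/-- A maximal subgroup of Frobenius type has `M_F = M_σ` and `κ(M) = ∅`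
(from the frozen rows S1351, S1352, S1357, S1364). -/
theorem typeF_aux (hG : IsMinSimpleOddOrder G)
    (h51 : P1351 G) (h52 : P1352 G) (h57 : P1357 G) (h64 : P1364 G)
    {M : Subgroup G} (hM : IsCoatom M) (hF : IsOfTypeF ↥M) :
    fittingHallOf M = sigmaCore M ∧ kappa M = ∅ := by
  obtain ⟨⟨K, hK⟩, hKc⟩ := h51 M hM
  obtain ⟨⟨U, hKU⟩, -⟩ := h52 M hM K (hKc K hK) hK
  have hHn := le_normalizer_fittingHallOf M
  have hH : fittingHallOf M = sigmaCore M := by
    by_contra hne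
    obtain ⟨hU, -, hKp⟩ := h57 M hM K U hKU hne
    set p := Nat.card K with hpK
    haveI : Fact p.Prime := ⟨hKp⟩
    have hK1 : K ≠ ⊥ := Cfsg.Agent.Lib.Helper1.BGFthm.K_ne_bot hG hM hKU hU
    obtain ⟨-, hKs1, hKsH, -⟩ := h64 M hM K U hKU hK1
    have hpκ : p ∈ kappa M := hKU.hall.2.1 p hKp dvd_rfl
    obtain ⟨u, huM, huo, hreg⟩ := exists_regular_of_typeF hF hKp
      ((dvd_refl p).trans (Subgroup.card_dvd_of_le hKU.hall.1))
      (not_dvd_card_fittingHallOf_of_mem_kappa hG hM hpκ)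
    have hKpg : IsPGroup p K := IsPGroup.of_card (n := 1) (by rw [pow_one])
    obtain ⟨P', hP', hKP'⟩ := exists_isSylowIn_ge hKU.hall.1 hKpg
    have hup : IsPGroup p (Subgroup.zpowers u) :=
      IsPGroup.of_card (n := 1) (by rw [pow_one, Nat.card_zpowers, huo])
    obtain ⟨P, hP, huP⟩ := exists_isSylowIn_ge (Subgroup.zpowers_le.mpr huM) hup
    obtain ⟨m, hmM, hm⟩ := hP.exists_conj hP'
    have hc := isCyclic_of_isSylowIn_of_mem_kappa hpκ hP'
    obtain ⟨k, hk, hk1⟩ := exists_ne_one_of_ne_bot hK1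
    have hmu : m * u * m⁻¹ ∈ P' := by
      rw [hm]
      exact ⟨u, huP (Subgroup.mem_zpowers u), by simp [MulAut.conj_apply]⟩
    have hmuo : orderOf (m * u * m⁻¹) = p := by
      rw [← huo]
      have := orderOf_injective (MulAut.conj m).toMonoidHom (MulAut.conj m).injective u
      simpa [MulAut.conj_apply] using this
    have hmem := mem_zpowers_of_cyclic_pgroup hP'.isPGroup hc hmu hmuo (hKP' hk) hk1
    have hmuK : m * u * m⁻¹ ∈ K := (Subgroup.zpowers_le.mpr hk) hmem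
    obtain ⟨y, hy, hy1⟩ := exists_ne_one_of_ne_bot hKs1
    have hyc : (m * u * m⁻¹) * y = y * (m * u * m⁻¹) :=
      Subgroup.mem_centralizer_iff.mp (Subgroup.mem_inf.mp hy).2 _ hmuK
    have hy' : m⁻¹ * y * m ∈ fittingHallOf M :=
      conj_mem_of_mem_normalizer' (hHn hmM) (hKsH hy)
    have h1 := hreg _ hy' (by
      calc u * (m⁻¹ * y * m) = m⁻¹ * ((m * u * m⁻¹) * y) * m := by group
        _ = m⁻¹ * (y * (m * u * m⁻¹)) * m := by rw [hyc]
        _ = m⁻¹ * y * m * u := by group)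
    apply hy1
    have : y = m * (m⁻¹ * y * m) * m⁻¹ := by group
    rw [this, h1]; group
  refine ⟨hH, ?_⟩
  ext p
  simp only [Set.mem_empty_iff_false, iff_false]
  intro hpκ
  have hp := hpκ.1
  have : Fact p.Prime := ⟨hp⟩
  obtain ⟨u, huM, huo, hreg⟩ := exists_regular_of_typeF hF hp hpκ.2.1
    (not_dvd_card_fittingHallOf_of_mem_kappa hG hM hpκ)
  have hup : IsPGroup p (Subgroup.zpowers u) :=
    IsPGroup.of_card (n := 1) (by rw [pow_one, Nat.card_zpowers, huo])
  obtain ⟨P, hP, huP⟩ := exists_isSylowIn_ge (Subgroup.zpowers_le.mpr huM) hup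
  have hc := isCyclic_of_isSylowIn_of_mem_kappa hpκ hP
  obtain ⟨-, x, hxP, hx1, y, hy, hy1, hxy⟩ := hpκ.2.2.2 hP.toSylow
  have hxP' : (x : G) ∈ P := (hP.mem_toSylow x).mp hxP
  have hx1' : (x : G) ≠ 1 := fun h => hx1 (Subtype.ext h)
  have hmem := mem_zpowers_of_cyclic_pgroup hP.isPGroup hc (huP (Subgroup.mem_zpowers u)) huo
    hxP' hx1'
  obtain ⟨k, hk⟩ := Subgroup.mem_zpowers_iff.mp hmem
  have hc' : Commute ((x : G) ^ k) y := (show Commute (x : G) y from hxy).zpow_left k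
  rw [hk] at hc'
  exact hy1 (hreg y (hH ▸ hy) hc'.eq)

end Cfsg.Agent.Lib.Helper7.BGTypes
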