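import Mathlib
import Cfsg.Agent.Lib.Helper7.BGTypesC
import Cfsg.Agent.S1358
import Cfsg.Agent.S1361
import Cfsg.Agent.S1362

/-!
# Helper7: B&G section 16 -- S1390 (Types I and II: the structure of `U`, uniqueness of `M` over
`C_G(X)`, and `A(M) ∖ A₁(M)` is TI) from the landed rows S1358, S1361, S1362 and the frozen rows
S1351, S1352, S1357, S1364, S1365 (S1363 is NOT needed).
-/

set_option autoImplicit false
set_option linter.unusedSectionVars false
set_option linter.unusedVariables false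
open Cfsg

namespace Cfsg.Agent.Lib.Helper7.BGTypes

open Cfsg.Agent.Lib.Helper10.BG Cfsg.Agent.Lib.Helper10 Cfsg.Agent.Lib.Helper9.BGExc
open Cfsg.Agent.Lib.Helper19.BGCompl Cfsg.Agent.Lib.Helper19.BG12
open Cfsg.Agent.Lib.Helper1.BGSigmaDecomp Cfsg.Agent.Lib.Helper19.BG14
open Cfsg.Agent.Lib.Helper1.BGStubs2

variable {G : Type*} [Group G] [Finite G]

/-! ### conjugating a standard factorisation inside `M` -/

theorem relIndex_cj_of_mem {M K : Subgroup G} (hKM : K ≤ M) {g : G} (hg : g ∈ M) :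
    (cj g K).relIndex M = K.relIndex M := by
  have h1 := Cfsg.Agent.Lib.Helper12.card_mul_relIndex_eq hKM
  have h2 := Cfsg.Agent.Lib.Helper12.card_mul_relIndex_eq (cj_le_of_mem hg hKM)
  rw [card_cj] at h2
  exact Nat.eq_of_mul_eq_mul_left Nat.card_pos (h2.trans h1.symm)

theorem isSigmaDecomposition_cj {M K U : Subgroup G} (hKU : IsSigmaDecomposition M K U) {g : G}
    (hg : g ∈ M) : IsSigmaDecomposition M (cj g K) (cj g U) := by
  have hKM : K ≤ M := hKU.hall.1
  have hUM : U ≤ M := hKU.compl.1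
  have hσ : cj g (sigmaCore M) = sigmaCore M :=
    cj_eq_self_of_mem_normalizer (le_normalizer_sigmaCore M hg)
  refine ⟨?_, ⟨cj_le_of_mem hg hKM, ?_, ?_⟩, ⟨cj_le_of_mem hg hUM, ?_, ?_, ?_⟩, ?_⟩
  · have := hKU.cyclic
    exact isCyclic_of_surjective
      (Subgroup.equivMapOfInjective K _ (MulAut.conj g).injective).toMonoidHom
      (Subgroup.equivMapOfInjective K _ (MulAut.conj g).injective).surjective
  · intro p hp hd
    rw [card_cj] at hd
    exact hKU.hall.2.1 p hp hd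
  · intro p hp hpκ hd
    rw [relIndex_cj_of_mem hKM hg] at hd
    exact hKU.hall.2.2 p hp hpκ hd
  · exact sup_le (cj_le_of_mem hg hKM) (sigmaCore_le M)
  · rw [← hσ, ← cj_sup, ← cj_inf, hKU.compl.2.2.1, cj_bot]
  · intro m hm
    obtain ⟨a, ha, b, hb, he⟩ := hKU.compl.2.2.2 (g⁻¹ * m * g)
      (M.mul_mem (M.mul_mem (M.inv_mem hg) hm) hg)
    refine ⟨g * a * g⁻¹, conj_mem_cj ha, g * b * g⁻¹, ?_, ?_⟩
    · rw [← hσ, ← cj_sup]
      exact conj_mem_cj hb
    · calc m = g * (g⁻¹ * m * g) * g⁻¹ := by group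
        _ = g * (a * b) * g⁻¹ := by rw [he]
        _ = g * a * g⁻¹ * (g * b * g⁻¹) := by group
  · rintro _ ⟨k, hk, rfl⟩
    apply mem_normalizer_map_conj
    have : g⁻¹ * (MulAut.conj g).toMonoidHom k * g = k := by
      simp [MulAut.conj_apply, mul_assoc]
    rw [this]
    exact hKU.normal hk

/-! ### complements of `M_σ` in `U M_σ` -/

theorem card_U_sup_sigmaCore (hG : IsMinSimpleOddOrder G) {M K U : Subgroup G} (hM : IsCoatom M)
    (hKU : IsSigmaDecomposition M K U) :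
    Nat.card ↥(U ⊔ sigmaCore M) = Nat.card U * Nat.card (sigmaCore M) := by
  have h1 := Cfsg.H5.card_sup_mul_card_inf
    (hKU.compl.1.trans (le_normalizer_sigmaCore M) :
      U ≤ Subgroup.normalizer (sigmaCore M : Set G))
  have hE := isComplIn_UK hG hM hKU
  have h2 : U ⊓ sigmaCore M = ⊥ := by
    rw [eq_bot_iff, ← hE.2.2.1]
    exact inf_le_inf_right _ le_sup_left
  rwa [h2, Subgroup.card_bot, mul_one] at h1

/-- a complement of `M_σ` in `U M_σ` is an `M`-conjugate of `U`. -/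
theorem exists_cj_eq_of_isComplIn (hG : IsMinSimpleOddOrder G) {M K U V : Subgroup G}
    (hM : IsCoatom M) (hKU : IsSigmaDecomposition M K U)
    (hV : IsComplIn (sigmaCore M) V (U ⊔ sigmaCore M)) :
    ∃ g ∈ M, cj g U = V := by
  have hUL : U ≤ U ⊔ sigmaCore M := le_sup_left
  have hLM : U ⊔ sigmaCore M ≤ M := sup_le hKU.compl.1 (sigmaCore_le M)
  have hcardL := Cfsg.Agent.Lib.Helper10.IsComplIn.card_eq hV
  have hcardUσ := card_U_sup_sigmaCore hG hM hKU
  have hcardU : Nat.card U = Nat.card V := by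
    have h3 : Nat.card (sigmaCore M) * Nat.card U = Nat.card (sigmaCore M) * Nat.card V := by
      rw [← hcardL, hcardUσ, mul_comm]
    exact Nat.eq_of_mul_eq_mul_left Nat.card_pos h3
  have hrelU : U.relIndex (U ⊔ sigmaCore M) = Nat.card (sigmaCore M) := by
    have h1 := Cfsg.Agent.Lib.Helper12.card_mul_relIndex_eq hUL
    have h3 : Nat.card U * U.relIndex (U ⊔ sigmaCore M) = Nat.card U * Nat.card (sigmaCore M) := by
      rw [h1, hcardUσ]
    exact Nat.eq_of_mul_eq_mul_left Nat.card_pos h3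
  have hcopU : (Nat.card U).Coprime (Nat.card (sigmaCore M)) := by
    apply Nat.coprime_of_dvd
    intro q hq hd1 hd2
    exact not_mem_sigma_of_dvd_card_U hG hM hKU hq hd1
      (mem_sigma_of_dvd_card_sigmaCore hG hM hq hd2)
  have hLs : Group.IsSolvable ↥(U ⊔ sigmaCore M) :=
    isSolvable_of_ne_top hG (fun h => hM.1 (top_le_iff.mp (h ▸ hLM)))
  obtain ⟨g, hgL, hg⟩ := hall_le_conj_in hLs hUL hV.2.1 (by rw [hrelU]; exact hcopU)
    (by rw [hrelU, ← hcardU]; exact hcopU)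
  -- `cj g V ≤ U`, so `cj g⁻¹ U = V`
  have heq : cj g V = U := by
    apply Subgroup.eq_of_le_of_card_ge hg
    rw [card_cj, hcardU]
  refine ⟨g⁻¹, M.inv_mem (hLM hgL), ?_⟩
  rw [← heq, cj_inv_cj]

/-! ### the two sets `A(M) ∖ A₁(M)` and `A(M) ∖ M_σ` -/

theorem not_typeI_of_kappa_nonempty (hG : IsMinSimpleOddOrder G)
    (h51 : P1351 G) (h52 : P1352 G) (h57 : P1357 G) (h64 : P1364 G)
    {M : Subgroup G} (hM : IsCoatom M) {p : ℕ} (hp : p ∈ kappa M) : ¬ IsOfTypeI M := by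
  intro h
  have h2 := (typeF_aux hG h51 h52 h57 h64 hM h.1).2
  rw [h2] at hp
  exact hp

theorem IsComplIn.symm' {A B M : Subgroup G} (h : IsComplIn A B M) : IsComplIn B A M := by
  refine ⟨h.2.1, h.1, by rw [inf_comm]; exact h.2.2.1, ?_⟩
  intro m hm
  obtain ⟨a, ha, b, hb, he⟩ := h.2.2.2 m⁻¹ (M.inv_mem hm)
  refine ⟨b⁻¹, B.inv_mem hb, a⁻¹, A.inv_mem ha, ?_⟩
  rw [← mul_inv_rev, ← he, inv_inv]

/-- two type-`P` data of `M` have `M'`-conjugate `U`-parts (complements of `M_F` in `M'`). -/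
theorem exists_cj_eq_of_typeP (hG : IsMinSimpleOddOrder G) {M W₁ U' W₂ W₁' U'' W₂' : Subgroup G}
    (hM : IsCoatom M) (hP : IsTypePWith M W₁ U' W₂) (hP' : IsTypePWith M W₁' U'' W₂') :
    ∃ g ∈ M, cj g U'' = U' := by
  have hc := hP.U_compl
  have hc' := hP'.U_compl
  have hcard := Cfsg.Agent.Lib.Helper10.IsComplIn.card_eq hc
  have hcard' := Cfsg.Agent.Lib.Helper10.IsComplIn.card_eq hc'
  have hcardU : Nat.card U' = Nat.card U'' := by
    have h3 : Nat.card (fittingHallOf M) * Nat.card U' =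
        Nat.card (fittingHallOf M) * Nat.card U'' := by rw [← hcard, ← hcard']
    exact Nat.eq_of_mul_eq_mul_left Nat.card_pos h3
  have hrelU : U'.relIndex ⁅M, M⁆ = Nat.card (fittingHallOf M) := by
    have h1 := Cfsg.Agent.Lib.Helper12.card_mul_relIndex_eq hc.2.1
    have h3 : Nat.card U' * U'.relIndex ⁅M, M⁆ = Nat.card U' * Nat.card (fittingHallOf M) := by
      rw [h1, hcard, mul_comm]
    exact Nat.eq_of_mul_eq_mul_left Nat.card_pos h3
  have hcop : (Nat.card U').Coprime (Nat.card (fittingHallOf M)) := by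
    have h2 := fittingHallOf_coprime M
    have h4 := Cfsg.Agent.Lib.Helper12.card_mul_relIndex_eq (fittingHallOf_le M)
    have hrelH : (fittingHallOf M).relIndex M = Nat.card U' * Nat.card W₁ := by
      have h3 : Nat.card (fittingHallOf M) * (fittingHallOf M).relIndex M =
          Nat.card (fittingHallOf M) * (Nat.card U' * Nat.card W₁) := by
        rw [h4, card_typeP hP]; ring
      exact Nat.eq_of_mul_eq_mul_left Nat.card_pos h3
    rw [hrelH] at h2
    exact (Nat.Coprime.coprime_mul_right_right h2).symm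
  have hMs : Group.IsSolvable ↥⁅M, M⁆ :=
    isSolvable_of_ne_top hG (fun h => hM.1 (top_le_iff.mp (h ▸ commutator_le_self M)))
  obtain ⟨g, hgM', hg⟩ := hall_le_conj_in hMs hc.2.1 hc'.2.1 (by rw [hrelU]; exact hcop)
    (by rw [hrelU, ← hcardU]; exact hcop)
  refine ⟨g, commutator_le_self M hgM', ?_⟩
  apply Subgroup.eq_of_le_of_card_ge hg
  rw [card_cj, hcardU]

/-- a maximal subgroup is not of Type II and of Type III or IV at the same time. -/
theorem not_typeIII_IV_of_typeII (hG : IsMinSimpleOddOrder G) {M : Subgroup G}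
    (hM : IsCoatom M) (hII : IsOfTypeII M) : ¬ (IsOfTypeIII M ∨ IsOfTypeIV M) := by
  obtain ⟨W₁, U', W₂, hP, -, -, -, -, hN, -, -⟩ := hII
  have key : ∀ W₁' U'' W₂' : Subgroup G, IsTypePWith M W₁' U'' W₂' →
      Subgroup.normalizer (U'' : Set G) ≤ M → False := by
    intro W₁' U'' W₂' hP' hN'
    obtain ⟨g, hgM, hg⟩ := exists_cj_eq_of_typeP hG hM hP hP'
    apply hN
    intro n hn
    rw [← hg] at hn
    have h1 := hN' (conj_mem_normalizer_of_mem_normalizer_map_conj hn)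
    have : n = g * (g⁻¹ * n * g) * g⁻¹ := by group
    rw [this]
    exact M.mul_mem (M.mul_mem hgM h1) (M.inv_mem hgM)
  rintro (⟨W₁', U'', W₂', hP', -, -, -, -, hN'⟩ | ⟨W₁', U'', W₂', hP', -, -, -, -, hN'⟩)
  · exact key _ _ _ hP' hN'
  · exact key _ _ _ hP' hN'

/-- The frozen row `S1390` from the landed rows S1358, S1361, S1362 and the frozen rows
S1351, S1352, S1357, S1364, S1365. -/
theorem s1390_of (hG : IsMinSimpleOddOrder G)
    (h51 : P1351 G) (h52 : P1352 G) (h57 : P1357 G) (h64 : P1364 G)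
    (h65 : P1365 G)
    (M : Subgroup G) (hM : IsCoatom M) (U : Subgroup G)
    (hU : (Cfsg.IsOfTypeI M ∧ Cfsg.IsComplIn (Cfsg.fittingHallOf M) U M) ∨ (Cfsg.IsOfTypeII M ∧ Cfsg.IsComplIn (Cfsg.fittingHallOf M) U ⁅M, M⁆)) :
    (∀ (p : ℕ), p.Prime → ∀ P : Sylow p U, IsMulCommutative (P : Subgroup U) ∧ Cfsg.PRankLE p 2 (P : Subgroup U)) ∧
      (∀ X : Set G, X ⊆ (U : Set G) \ {1} → X.Nonempty → Cfsg.fittingHallOf M ⊓ Subgroup.centralizer X ≠ ⊥ →
        Subgroup.centralizer X ≤ M ∧ ∀ L : Subgroup G, IsCoatom L → Subgroup.centralizer X ≤ L → L = M) ∧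
      Cfsg.IsTISubset (Cfsg.typeA M \ Cfsg.typeA1 M) := by
  -- a standard factorisation `(K, U)` with `M_F = M_σ` and the identification of the sets
  have key : ∃ K : Subgroup G, IsSigmaDecomposition M K U ∧ fittingHallOf M = sigmaCore M ∧
      typeA M \ typeA1 M = sigmaA M U \ (sigmaCore M : Set G) := by
    rcases hU with ⟨hI, hc⟩ | ⟨hII, hc⟩
    · -- Type I
      obtain ⟨hH, hκ⟩ := typeF_aux hG h51 h52 h57 h64 hM hI.1
      have hKU : IsSigmaDecomposition M ⊥ U := by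
        refine ⟨isCyclic_of_subsingleton, ⟨bot_le, ?_, ?_⟩, ?_, bot_le⟩
        · intro p hp hd
          rw [Subgroup.card_bot] at hd
          exact absurd (Nat.eq_one_of_dvd_one hd) hp.one_lt.ne'
        · intro p hp hpκ
          rw [hκ] at hpκ
          exact absurd hpκ (Set.notMem_empty p)
        · rw [bot_sup_eq, ← hH]
          exact IsComplIn.symm' hc
      refine ⟨⊥, hKU, hH, ?_⟩
      have hnot : ¬ (IsOfTypeIII M ∨ IsOfTypeIV M) := by
        rintro (⟨W₁, U', W₂, hP, -⟩ | ⟨W₁, U', W₂, hP, -⟩)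
        · have hc1 : Nat.card W₁ ≠ 1 := fun h1 => hP.W₁_ne (Subgroup.card_eq_one.mp h1)
          obtain ⟨p, hp, hpd⟩ := Nat.exists_prime_and_dvd hc1
          have := mem_kappa_of_typeP hG hM hP hp hpd
          rw [hκ] at this
          exact this
        · have hc1 : Nat.card W₁ ≠ 1 := fun h1 => hP.W₁_ne (Subgroup.card_eq_one.mp h1)
          obtain ⟨p, hp, hpd⟩ := Nat.exists_prime_and_dvd hc1
          have := mem_kappa_of_typeP hG hM hP hp hpd
          rw [hκ] at this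
          exact this
      have hsup : U ⊔ sigmaCore M = M := by
        have := hKU.compl
        rw [bot_sup_eq] at this
        exact Cfsg.Agent.Lib.Helper9.BGExc.IsComplIn.sup_eq this
      ext a
      unfold typeA typeA1 sigmaA sigmaHat
      rw [if_pos hI, typeCore_eq_neg hnot, hsup, hH]
      simp only [Set.mem_diff, Set.mem_setOf_eq, Set.mem_inter_iff, SetLike.mem_coe,
        Set.mem_singleton_iff]
      constructor
      · rintro ⟨⟨haM, ha1, x, hx, hx1, hax⟩, hna⟩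
        refine ⟨⟨⟨haM, x, hx, hx1, hax⟩, haM⟩, fun h => hna ⟨h, ha1⟩⟩
      · rintro ⟨⟨⟨haM, x, hx, hx1, hax⟩, -⟩, hna⟩
        refine ⟨⟨haM, ?_, x, hx, hx1, hax⟩, fun h => hna h.1⟩
        rintro rfl
        exact hna (Subgroup.one_mem _)
    · -- Type II
      have hnot : ¬ (IsOfTypeIII M ∨ IsOfTypeIV M) := not_typeIII_IV_of_typeII hG hM hII
      obtain ⟨W₁, U', W₂, hP, hU'1, -, -, -, hN, -, -⟩ := hII
      obtain ⟨⟨K₀, hK₀⟩, hKc⟩ := h51 M hM
      obtain ⟨⟨U₀, hKU₀⟩, -⟩ := h52 M hM K₀ (hKc K₀ hK₀) hK₀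
      have hK₀1 : K₀ ≠ ⊥ := K_ne_bot_of_typeP hG hM hP hK₀
      have hU₀1 : U₀ ≠ ⊥ := U_ne_bot_of_not_normalizer_le hG hM hKU₀ hP hU'1 hN
      have hH : fittingHallOf M = sigmaCore M := by
        by_contra hne
        exact hU₀1 (h57 M hM K₀ U₀ hKU₀ hne).1
      have hM' : ⁅M, M⁆ = U₀ ⊔ sigmaCore M := (h65 M hM K₀ U₀ hKU₀ hK₀1).1
      rw [hH, hM'] at hc
      obtain ⟨g, hgM, hg⟩ := exists_cj_eq_of_isComplIn hG hM hKU₀ hc
      have hKU : IsSigmaDecomposition M (cj g K₀) U := hg ▸ isSigmaDecomposition_cj hKU₀ hgM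
      refine ⟨cj g K₀, hKU, hH, ?_⟩
      have hK1 : cj g K₀ ≠ ⊥ := fun h => hK₀1 (cj_eq_bot_iff.mp h)
      have hc1 : Nat.card W₁ ≠ 1 := fun h1 => hP.W₁_ne (Subgroup.card_eq_one.mp h1)
      obtain ⟨p, hp, hpd⟩ := Nat.exists_prime_and_dvd hc1
      have hpκ := mem_kappa_of_typeP hG hM hP hp hpd
      have hnI : ¬ IsOfTypeI M := not_typeI_of_kappa_nonempty hG h51 h52 h57 h64 hM hpκ
      have hM'2 : ⁅M, M⁆ = U ⊔ sigmaCore M := (h65 M hM (cj g K₀) U hKU hK1).1
      ext a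
      unfold typeA typeA1 sigmaA sigmaHat
      rw [if_neg hnI, typeCore_eq_neg hnot, hM'2, hH]
      simp only [Set.mem_diff, Set.mem_setOf_eq, Set.mem_inter_iff, SetLike.mem_coe,
        Set.mem_singleton_iff]
      have hLM : U ⊔ sigmaCore M ≤ M := sup_le hKU.compl.1 (sigmaCore_le M)
      constructor
      · rintro ⟨⟨haV, ha1, x, hx, hx1, hax⟩, hna⟩
        refine ⟨⟨⟨hLM haV, x, hx, hx1, hax⟩, haV⟩, fun h => hna ⟨h, ha1⟩⟩
      · rintro ⟨⟨⟨haM, x, hx, hx1, hax⟩, haV⟩, hna⟩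
        refine ⟨⟨haV, ?_, x, hx, hx1, hax⟩, fun h => hna h.1⟩
        rintro rfl
        exact hna (Subgroup.one_mem _)
  obtain ⟨K, hKU, hH, hset⟩ := key
  refine ⟨Cfsg.Agent.S1358.result hG M hM K U hKU, ?_, ?_⟩
  · intro X hXU hXne hXc
    have hXU' : Subgroup.closure X ≤ U := (Subgroup.closure_le U).mpr (fun x hx => (hXU hx).1)
    have hX1 : Subgroup.closure X ≠ ⊥ := by
      obtain ⟨x, hx⟩ := hXne
      intro h
      have : x ∈ (⊥ : Subgroup G) := h ▸ Subgroup.subset_closure hx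
      exact (hXU hx).2 (Subgroup.mem_bot.mp this)
    have hcl : Subgroup.centralizer ((Subgroup.closure X : Subgroup G) : Set G) =
        Subgroup.centralizer X := Subgroup.centralizer_closure X
    have := Cfsg.Agent.S1361.result hG M hM K U hKU (Subgroup.closure X) hXU' hX1
      (by rw [hcl, ← hH]; exact hXc)
    rwa [hcl] at this
  · rw [hset]
    exact Cfsg.Agent.S1362.result hG M hM K U hKU

end Cfsg.Agent.Lib.Helper7.BGTypes
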