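import Mathlib
import Cfsg.Prelude.Def_GeometricClasses

/-!
# Even-dimensional orthogonal rows: TYPE CALCULUS, part A (helper7)

Frozen vocabulary (`IsPlusTypeOn`, `IsTotallySingularQuad`, `AreOrthogonalFor`, `AreIsometricFor`,
`IsOrthogonalMDecomposition`), quadratic FUNCTION `Q : (ι → F) → F`, generic index type.

* `Q_add`                         : `Q (x + y) = Q x + Q y + polar Q x y`;
* `isPlusTypeOn_bot`              : `⊥` is of plus type;
* `isPlusTypeOn_sup` (TC1)        : plus ⊥ plus = plus;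
* `isPlusTypeOn_biSup` (TC1')     : orthogonal sum of plus-type members of an independent family;
* `isPlusTypeOn_sup_of_isometric` (TC2) : `W ⊥ W'`, `W ≅ W'`, `W` has an anti-isometry ⇒ `W ⊔ W'` plus;
* `isPlusTypeOn_sup_of_isometric_of_card` : the same when `|F| % 4 ≠ 3` (`q` even or `-1` a square);
* `isPlusTypeOn_biSup_of_even_card` : pairing the members of an isometric orthogonal family;
* `isPlusTypeOn_top_of_decomposition_plus` : a non-degenerate decomposition into plus-type members is of plus type;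
* `isPlusTypeOn_top_of_decomposition_of_card` : `IsOrthogonalMDecomposition Q k D`, `t` even, `|F| % 4 ≠ 3` ⇒ plus.
-/

set_option autoImplicit false

namespace Cfsg.Agent.Lib.Helper7.OEType

open Matrix Cfsg Cfsg.Geo QuadraticMap Module

variable {F : Type*} [Field F] {ι : Type} [Fintype ι] [DecidableEq ι] {Q : (ι → F) → F}

omit [Fintype ι] [DecidableEq ι] in
theorem Q_add (Q : (ι → F) → F) (x y : ι → F) : Q (x + y) = Q x + Q y + polar Q x y := by
  unfold polar
  ring

omit [Fintype ι] [DecidableEq ι] in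
theorem isPlusTypeOn_bot (hQ0 : Q 0 = 0) : IsPlusTypeOn Q (⊥ : Submodule F (ι → F)) := by
  refine ⟨⊥, le_rfl, ?_, by simp⟩
  intro w hw
  rw [(Submodule.mem_bot F).mp hw, hQ0]

omit [DecidableEq ι] in
/-- **TC1** plus ⊥ plus = plus -/
theorem isPlusTypeOn_sup (W₁ W₂ : Submodule F (ι → F)) (horth : AreOrthogonalFor (polar Q) W₁ W₂)
    (hdisj : Disjoint W₁ W₂) (h₁ : IsPlusTypeOn Q W₁) (h₂ : IsPlusTypeOn Q W₂) : IsPlusTypeOn Q (W₁ ⊔ W₂) := by
  obtain ⟨U₁, hU₁, hts₁, hd₁⟩ := h₁
  obtain ⟨U₂, hU₂, hts₂, hd₂⟩ := h₂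
  refine ⟨U₁ ⊔ U₂, sup_le_sup hU₁ hU₂, ?_, ?_⟩
  · intro w hw
    obtain ⟨u₁, hu₁, u₂, hu₂, rfl⟩ := Submodule.mem_sup.mp hw
    rw [Q_add Q, hts₁ u₁ hu₁, hts₂ u₂ hu₂, horth u₁ (hU₁ hu₁) u₂ (hU₂ hu₂)]
    ring
  · have hdU : Disjoint U₁ U₂ := hdisj.mono hU₁ hU₂
    have e1 := Submodule.finrank_sup_add_finrank_inf_eq U₁ U₂
    have e2 := Submodule.finrank_sup_add_finrank_inf_eq W₁ W₂
    rw [disjoint_iff.mp hdU, finrank_bot, add_zero] at e1
    rw [disjoint_iff.mp hdisj, finrank_bot, add_zero] at e2
    omega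

omit [DecidableEq ι] in
/-- **TC2** two orthogonal isometric subspaces, the first with an anti-isometry `ψ` (a linear map with
`Q (ψ w) = - Q w`): the sum is of plus type
(totally singular diagonal `{w + e (ψ w)}`) -/
theorem isPlusTypeOn_sup_of_isometric (W W' : Submodule F (ι → F)) (horth : AreOrthogonalFor (polar Q) W W')
    (hdisj : Disjoint W W') (hiso : AreIsometricFor Q W W') (ψ : W →ₗ[F] W)
    (hψ : ∀ w : W, Q ((ψ w : W) : ι → F) = - Q (w : ι → F)) : IsPlusTypeOn Q (W ⊔ W') := by
  obtain ⟨e, he⟩ := hiso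
  let L : W →ₗ[F] (ι → F) := W.subtype + W'.subtype ∘ₗ e.toLinearMap ∘ₗ ψ
  have hL : ∀ w : W, L w = (w : ι → F) + ((e (ψ w) : W') : ι → F) := fun w => rfl
  have hinj : Function.Injective L := by
    rw [← LinearMap.ker_eq_bot, LinearMap.ker_eq_bot']
    intro w hw
    rw [hL] at hw
    have h1 : (w : ι → F) = -((e (ψ w) : W') : ι → F) := eq_neg_of_add_eq_zero_left hw
    have h2 : (w : ι → F) ∈ W' := by
      rw [h1]
      exact W'.neg_mem (e (ψ w)).2
    have h3 : (w : ι → F) = 0 := (Submodule.disjoint_def.mp hdisj) _ w.2 h2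
    exact Subtype.ext h3
  refine ⟨LinearMap.range L, ?_, ?_, ?_⟩
  · rintro _ ⟨w, rfl⟩
    rw [hL]
    exact Submodule.add_mem_sup w.2 (e (ψ w)).2
  · rintro _ ⟨w, rfl⟩
    rw [hL, Q_add Q, he, hψ, horth _ w.2 _ (e (ψ w)).2]
    ring
  · rw [LinearMap.finrank_range_of_inj hinj]
    have e2 := Submodule.finrank_sup_add_finrank_inf_eq W W'
    rw [disjoint_iff.mp hdisj, finrank_bot, add_zero] at e2
    have e3 : finrank F W = finrank F W' := e.finrank_eq
    omega

omit [Fintype ι] [DecidableEq ι] in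
/-- an anti-isometry of every subspace when `-1` is a square (`q` even or `q ≡ 1 mod 4`) -/
theorem exists_antiisometry_of_card [Fintype F] (hsmul : ∀ (c : F) (v : ι → F), Q (c • v) = c ^ 2 * Q v)
    (h : Fintype.card F % 4 ≠ 3) (W : Submodule F (ι → F)) :
    ∃ ψ : W →ₗ[F] W, ∀ w : W, Q ((ψ w : W) : ι → F) = - Q (w : ι → F) := by
  obtain ⟨i, hi⟩ := FiniteField.isSquare_neg_one_iff.mpr h
  refine ⟨i • LinearMap.id, ?_⟩
  intro w
  have h1 : (((i • LinearMap.id : W →ₗ[F] W) w : W) : ι → F) = i • (w : ι → F) := rfl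
  rw [h1, hsmul, pow_two, ← hi]
  ring

omit [DecidableEq ι] in
/-- **TC2'** two orthogonal isometric subspaces have a sum of plus type when `|F| % 4 ≠ 3` -/
theorem isPlusTypeOn_sup_of_isometric_of_card [Fintype F] (hsmul : ∀ (c : F) (v : ι → F), Q (c • v) = c ^ 2 * Q v)
    (h : Fintype.card F % 4 ≠ 3) (W W' : Submodule F (ι → F)) (horth : AreOrthogonalFor (polar Q) W W')
    (hdisj : Disjoint W W') (hiso : AreIsometricFor Q W W') : IsPlusTypeOn Q (W ⊔ W') := by
  obtain ⟨ψ, hψ⟩ := exists_antiisometry_of_card hsmul h W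
  exact isPlusTypeOn_sup_of_isometric W W' horth hdisj hiso ψ hψ

/-! ### orthogonality and suprema -/

omit [Fintype ι] [DecidableEq ι] in
theorem areOrthogonalFor_sup_left {f : (ι → F) → (ι → F) → F} (hf : IsBilinearForm f) {A B C : Submodule F (ι → F)}
    (hA : AreOrthogonalFor f A C) (hB : AreOrthogonalFor f B C) : AreOrthogonalFor f (A ⊔ B) C := by
  intro u hu v hv
  obtain ⟨a, ha, b, hb, rfl⟩ := Submodule.mem_sup.mp hu
  rw [hf.add_left, hA a ha v hv, hB b hb v hv, add_zero]

omit [Fintype ι] [DecidableEq ι] in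
theorem areOrthogonalFor_sup_right {f : (ι → F) → (ι → F) → F} (hf : IsBilinearForm f) {A B C : Submodule F (ι → F)}
    (hA : AreOrthogonalFor f C A) (hB : AreOrthogonalFor f C B) : AreOrthogonalFor f C (A ⊔ B) := by
  intro u hu v hv
  obtain ⟨a, ha, b, hb, rfl⟩ := Submodule.mem_sup.mp hv
  rw [hf.add_right, hA u hu a ha, hB u hu b hb, add_zero]

omit [Fintype ι] [DecidableEq ι] in
theorem form_zero_right {f : (ι → F) → (ι → F) → F} (hf : IsBilinearForm f) (u : ι → F) : f u 0 = 0 := by
  have := hf.smul_right 0 u 0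
  rwa [zero_smul, zero_mul] at this

omit [Fintype ι] [DecidableEq ι] in
theorem areOrthogonalFor_biSup_right {f : (ι → F) → (ι → F) → F} (hf : IsBilinearForm f) {κ : Type*}
    (D : κ → Submodule F (ι → F)) (C : Submodule F (ι → F)) (s : Finset κ)
    (h : ∀ i ∈ s, AreOrthogonalFor f C (D i)) : AreOrthogonalFor f C (⨆ i ∈ s, D i) := by
  classical
  induction s using Finset.induction_on with
  | empty =>
    intro u _ v hv
    simp only [Finset.notMem_empty, iSup_false, iSup_bot, Submodule.mem_bot] at hv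
    rw [hv, form_zero_right hf]
  | insert a s ha ih =>
    rw [Finset.iSup_insert]
    exact areOrthogonalFor_sup_right hf (h a (Finset.mem_insert_self a s))
      (ih fun i hi => h i (Finset.mem_insert_of_mem hi))

omit [DecidableEq ι] in
/-- **TC1'** the orthogonal sum of plus-type members of an independent pairwise orthogonal family is of plus type -/
theorem isPlusTypeOn_biSup {κ : Type*} (D : κ → Submodule F (ι → F)) (hind : iSupIndep D)
    (hbil : IsBilinearForm (polar Q)) (hQ0 : Q 0 = 0)
    (horth : ∀ i j, i ≠ j → AreOrthogonalFor (polar Q) (D i) (D j)) (s : Finset κ)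
    (h : ∀ i ∈ s, IsPlusTypeOn Q (D i)) : IsPlusTypeOn Q (⨆ i ∈ s, D i) := by
  classical
  induction s using Finset.induction_on with
  | empty =>
    simp only [Finset.notMem_empty, iSup_false, iSup_bot]
    exact isPlusTypeOn_bot hQ0
  | insert a s ha ih =>
    rw [Finset.iSup_insert]
    refine isPlusTypeOn_sup _ _ ?_ ?_ (h a (Finset.mem_insert_self a s))
      (ih fun i hi => h i (Finset.mem_insert_of_mem hi))
    · exact areOrthogonalFor_biSup_right hbil D (D a) s fun i hi => horth a i (by rintro rfl; exact ha hi)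
    · exact hind.disjoint_biSup (y := (s : Set κ)) (by simpa using ha)

omit [DecidableEq ι] in
/-- **pairing** in an independent pairwise orthogonal family in which any two distinct members have a sum of plus type,
the sum over an even number of members is of plus type -/
theorem isPlusTypeOn_biSup_of_even_card {κ : Type*} (D : κ → Submodule F (ι → F)) (hind : iSupIndep D)
    (hbil : IsBilinearForm (polar Q)) (hQ0 : Q 0 = 0)
    (horth : ∀ i j, i ≠ j → AreOrthogonalFor (polar Q) (D i) (D j))
    (hpair : ∀ i j, i ≠ j → IsPlusTypeOn Q (D i ⊔ D j)) :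
    ∀ (m : ℕ) (s : Finset κ), s.card = 2 * m → IsPlusTypeOn Q (⨆ i ∈ s, D i) := by
  classical
  intro m
  induction m with
  | zero =>
    intro s hs
    have : s = ∅ := Finset.card_eq_zero.mp (by omega)
    subst this
    simp only [Finset.notMem_empty, iSup_false, iSup_bot]
    exact isPlusTypeOn_bot hQ0
  | succ m ih =>
    intro s hs
    have hne : s.Nonempty := Finset.card_pos.mp (by omega)
    obtain ⟨a, ha⟩ := hne
    have hne' : (s.erase a).Nonempty := Finset.card_pos.mp (by rw [Finset.card_erase_of_mem ha]; omega)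
    obtain ⟨b, hb⟩ := hne'
    have hba : b ≠ a := Finset.ne_of_mem_erase hb
    set s' := (s.erase a).erase b with hs'
    have hcard : s'.card = 2 * m := by
      rw [hs', Finset.card_erase_of_mem hb, Finset.card_erase_of_mem ha]
      omega
    have hs_eq : s = insert a (insert b s') := by
      rw [hs', Finset.insert_erase hb, Finset.insert_erase ha]
    have ha' : a ∉ s' := by
      rw [hs']
      intro h
      exact Finset.notMem_erase a s (Finset.mem_of_mem_erase h)
    have hb' : b ∉ s' := Finset.notMem_erase b _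
    rw [hs_eq, Finset.iSup_insert, Finset.iSup_insert, ← sup_assoc]
    refine isPlusTypeOn_sup _ _ ?_ ?_ (hpair a b hba.symm) (ih s' hcard)
    · exact areOrthogonalFor_sup_left hbil
        (areOrthogonalFor_biSup_right hbil D (D a) s' fun i hi => horth a i (by rintro rfl; exact ha' hi))
        (areOrthogonalFor_biSup_right hbil D (D b) s' fun i hi => horth b i (by rintro rfl; exact hb' hi))
    · have h1 : D a ⊔ D b = ⨆ i ∈ ({a, b} : Set κ), D i := by
        rw [iSup_insert, iSup_singleton]
      rw [h1]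
      refine hind.disjoint_biSup_biSup' ?_ (Set.toFinite _)
      rw [Set.disjoint_left]
      intro x hx hxs
      rcases hx with rfl | rfl
      · exact ha' (by simpa using hxs)
      · exact hb' (by simpa using hxs)

/-! ### decompositions -/

omit [Fintype ι] [DecidableEq ι] in
theorem Q_zero (hQ : IsNondegenerateQuadraticForm Q) : Q 0 = 0 := by
  have := hQ.smul 0 0
  rwa [zero_smul, zero_pow two_ne_zero, zero_mul] at this

omit [Fintype ι] [DecidableEq ι] in
theorem biSup_univ_eq_top {t k : ℕ} {f : (ι → F) → (ι → F) → F} (D : Fin t → Submodule F (ι → F))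
    (hD : IsNondegenerateMDecomposition f k D) : (⨆ i ∈ (Finset.univ : Finset (Fin t)), D i) = ⊤ := by
  rw [← hD.decomp.iSup_eq_top]
  simp

omit [DecidableEq ι] in
/-- **R3 (easy half)** an orthogonal decomposition into plus-type members is of plus type -/
theorem isPlusTypeOn_top_of_decomposition_plus (hQ : IsNondegenerateQuadraticForm Q) {t k : ℕ}
    (D : Fin t → Submodule F (ι → F)) (hD : IsNondegenerateMDecomposition (polar Q) k D)
    (h : ∀ i, IsPlusTypeOn Q (D i)) : IsPlusTypeOn Q ⊤ := by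
  rw [← biSup_univ_eq_top D hD]
  exact isPlusTypeOn_biSup D hD.decomp.indep hQ.polar_bilinear (Q_zero hQ) hD.orthogonal Finset.univ fun i _ => h i

omit [DecidableEq ι] in
/-- **R1 (`|F| % 4 ≠ 3`)** an orthogonal decomposition into an EVEN number of pairwise isometric members is of plus type
when `q` is even or `q ≡ 1 mod 4` -/
theorem isPlusTypeOn_top_of_decomposition_of_card [Fintype F] (hQ : IsNondegenerateQuadraticForm Q) {t k : ℕ}
    (D : Fin t → Submodule F (ι → F)) (hD : IsOrthogonalMDecomposition Q k D) (ht : Even t)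
    (h : Fintype.card F % 4 ≠ 3) : IsPlusTypeOn Q ⊤ := by
  rw [← biSup_univ_eq_top D hD.decomp]
  obtain ⟨m, hm⟩ := ht
  refine isPlusTypeOn_biSup_of_even_card D hD.decomp.decomp.indep hQ.polar_bilinear (Q_zero hQ) hD.decomp.orthogonal
    ?_ m Finset.univ (by rw [Finset.card_univ, Fintype.card_fin, hm]; ring)
  intro i j hij
  exact isPlusTypeOn_sup_of_isometric_of_card hQ.smul h (D i) (D j) (hD.decomp.orthogonal i j hij)
    (hD.decomp.decomp.indep.pairwiseDisjoint hij) (hD.isometric i j)

end Cfsg.Agent.Lib.Helper7.OEType
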