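import Mathlib
import Cfsg.Prelude.Def_GeometricClasses
import Cfsg.Agent.Lib.Helper6.Lagrangian
import Cfsg.Agent.Lib.Helper7.OETypeA

/-!
# Even-dimensional orthogonal rows: TYPE CALCULUS, part B (helper7): types of isometric orthogonal decompositions

* `polarBF hQ`                : `polar Q` as a `LinearMap.BilinForm` (symmetric, non-degenerate);
* `isPlusTypeOn_top_iff_hasTI`: for `q` odd, `IsPlusTypeOn Q ⊤ ↔ HasTI (polarBF hQ) m` (`card ι = 2 m`);
* `isPlusTypeOn_top_iff_of_decomposition` : for `q` odd and `IsOrthogonalMDecomposition Q k D` (`t` blocks, `k t = 2 m`) there is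
  `d ≠ 0` (the Gram determinant of a block) with `IsPlusTypeOn Q ⊤ ↔ IsSquare ((-1) ^ m * d ^ t)`;
* **R1** `isPlusTypeOn_top_of_decomposition_even`, **R2** `not_isPlusTypeOn_top_of_decomposition` (exact skeleton signatures).
-/

set_option autoImplicit false

namespace Cfsg.Agent.Lib.Helper7.OEType

open Matrix Cfsg Cfsg.Geo QuadraticMap Module Cfsg.Agent.Lib.Helper6

variable {F : Type*} [Field F] {ι : Type} [Fintype ι] [DecidableEq ι] {Q : (ι → F) → F}

/-- the polar form as a bilinear form -/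
noncomputable def polarBF (hQ : IsNondegenerateQuadraticForm Q) : LinearMap.BilinForm F (ι → F) :=
  LinearMap.mk₂ F (polar Q) hQ.polar_bilinear.add_left
    (fun c x v => by rw [hQ.polar_bilinear.smul_left, smul_eq_mul]) hQ.polar_bilinear.add_right
    (fun c v x => by rw [hQ.polar_bilinear.smul_right, smul_eq_mul])

omit [Fintype ι] [DecidableEq ι] in
@[simp] theorem polarBF_apply (hQ : IsNondegenerateQuadraticForm Q) (x y : ι → F) : polarBF hQ x y = polar Q x y := rfl

omit [Fintype ι] [DecidableEq ι] in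
theorem polarBF_isSymm (hQ : IsNondegenerateQuadraticForm Q) : (polarBF hQ).IsSymm :=
  ⟨fun x y => by simp only [polarBF_apply]; exact polar_comm _ _ _⟩

omit [Fintype ι] [DecidableEq ι] in
theorem polarBF_nondegenerate (hQ : IsNondegenerateQuadraticForm Q) : (polarBF hQ).Nondegenerate := by
  constructor
  · intro x hx
    by_contra hne
    obtain ⟨y, hy⟩ := (hQ.nondegenerate x hne).2
    exact hy (hx y)
  · intro y hy
    by_contra hne
    obtain ⟨x, hx⟩ := (hQ.nondegenerate y hne).1
    exact hx (hy x)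

omit [Fintype ι] [DecidableEq ι] in
theorem polar_self_eq (hQ : IsNondegenerateQuadraticForm Q) (x : ι → F) : polar Q x x = 2 * Q x := by
  have h1 : Q (x + x) = 4 * Q x := by
    have : x + x = (2 : F) • x := (two_smul F x).symm
    rw [this, hQ.smul]
    norm_num
  unfold polar
  rw [h1]
  ring

omit [DecidableEq ι] in
/-- for `q` odd, plus type = existence of a Lagrangian of the polar form -/
theorem isPlusTypeOn_top_iff_hasTI (hQ : IsNondegenerateQuadraticForm Q) (h2 : (2 : F) ≠ 0) (m : ℕ)
    (hcard : Fintype.card ι = 2 * m) : IsPlusTypeOn Q ⊤ ↔ HasTI (polarBF hQ) m := by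
  constructor
  · rintro ⟨U, -, hts, hdim⟩
    refine ⟨U, ?_, ?_⟩
    · rw [finrank_top, Module.finrank_fintype_fun_eq_card, hcard] at hdim
      omega
    · intro x hx y hy
      rw [polarBF_apply]
      unfold polar
      rw [hts _ (U.add_mem hx hy), hts x hx, hts y hy]
      ring
  · rintro ⟨X, hXm, hX⟩
    refine ⟨X, le_top, ?_, ?_⟩
    · intro w hw
      have h1 := hX w hw w hw
      rw [polarBF_apply, polar_self_eq hQ] at h1
      exact (mul_eq_zero.mp h1).resolve_left h2
    · rw [finrank_top, Module.finrank_fintype_fun_eq_card, hcard, hXm]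

omit [Fintype ι] [DecidableEq ι] in
theorem polar_isometry {W W' : Submodule F (ι → F)} (e : W ≃ₗ[F] W')
    (he : ∀ w : W, Q ((e w : W') : ι → F) = Q (w : ι → F)) (x y : W) :
    polar Q ((e x : W') : ι → F) ((e y : W') : ι → F) = polar Q (x : ι → F) (y : ι → F) := by
  unfold polar
  have h1 : ((e x : W') : ι → F) + ((e y : W') : ι → F) = ((e (x + y) : W') : ι → F) := by
    rw [map_add]
    rfl
  rw [h1, he, he, he]
  rfl

omit [DecidableEq ι] in
/-- **the discriminant of an isometric orthogonal decomposition**, `q` odd -/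
theorem isPlusTypeOn_top_iff_of_decomposition [Fintype F] (hQ : IsNondegenerateQuadraticForm Q) (h2 : (2 : F) ≠ 0) {t k : ℕ}
    (D : Fin t → Submodule F (ι → F)) (hD : IsOrthogonalMDecomposition Q k D) (m : ℕ) (hcard : Fintype.card ι = 2 * m) :
    ∃ d : F, d ≠ 0 ∧ (IsPlusTypeOn Q ⊤ ↔ IsSquare ((-1) ^ m * d ^ t)) := by
  classical
  have ht : 0 < t := by have := hD.decomp.decomp.two_le; omega
  let i₀ : Fin t := ⟨0, ht⟩
  have hint : DirectSum.IsInternal D :=
    DirectSum.isInternal_submodule_of_iSupIndep_of_iSup_eq_top hD.decomp.decomp.indep hD.decomp.decomp.iSup_eq_top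
  let b₀ : Basis (Fin k) F (D i₀) := finBasisOfFinrankEq F (D i₀) (hD.decomp.decomp.finrank_eq i₀)
  choose e he using fun i => hD.isometric i₀ i
  let v : ∀ i : Fin t, Basis (Fin k) F (D i) := fun i => b₀.map (e i)
  let b : Basis (Σ _ : Fin t, Fin k) F (ι → F) := hint.collectedBasis v
  let b' : Basis (Fin k × Fin t) F (ι → F) :=
    b.reindex ((Equiv.sigmaEquivProd (Fin t) (Fin k)).trans (Equiv.prodComm (Fin t) (Fin k)))
  let G₀ : Matrix (Fin k) (Fin k) F := Matrix.of fun a c => polar Q (b₀ a : ι → F) (b₀ c : ι → F)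
  have hb' : ∀ (a : Fin k) (i : Fin t), b' (a, i) = ((e i (b₀ a) : D i) : ι → F) := by
    intro a i
    simp only [b', b, v, Basis.reindex_apply, DirectSum.IsInternal.collectedBasis_coe, Basis.map_apply]
    rfl
  have hG : LinearMap.BilinForm.toMatrix b' (polarBF hQ) = Matrix.blockDiagonal (fun _ : Fin t => G₀) := by
    ext ⟨a, i⟩ ⟨c, j⟩
    rw [LinearMap.BilinForm.toMatrix_apply, polarBF_apply, hb', hb', Matrix.blockDiagonal_apply']
    by_cases hij : i = j
    · subst hij
      rw [if_pos rfl, polar_isometry (e i) (he i)]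
      rfl
    · rw [if_neg hij]
      exact hD.decomp.orthogonal i j hij _ (e i (b₀ a)).2 _ (e j (b₀ c)).2
  have hdet : (LinearMap.BilinForm.toMatrix b' (polarBF hQ)).det = G₀.det ^ t := by
    rw [hG, Matrix.det_blockDiagonal, Finset.prod_const, Finset.card_univ, Fintype.card_fin]
  have hne : G₀.det ^ t ≠ 0 := by
    rw [← hdet]
    exact (LinearMap.BilinForm.nondegenerate_iff_det_ne_zero b').mp (polarBF_nondegenerate hQ)
  refine ⟨G₀.det, fun h => hne (by rw [h, zero_pow ht.ne']), ?_⟩
  rw [isPlusTypeOn_top_iff_hasTI hQ h2 m hcard,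
    hasTI_iff_isSquare h2 (polarBF hQ) (polarBF_isSymm hQ) (polarBF_nondegenerate hQ) m
      (by rw [Module.finrank_fintype_fun_eq_card, hcard]) b', hdet]

omit [Fintype ι] [DecidableEq ι] in
theorem two_ne_zero_of_card [Fintype F] (hq : Fintype.card F % 4 = 3) : (2 : F) ≠ 0 := by
  intro h2
  have h1 : ((Fintype.card F : ℕ) : F) = 0 := FiniteField.cast_card_eq_zero F
  obtain ⟨j, hj⟩ : ∃ j, Fintype.card F = 2 * j + 1 := ⟨Fintype.card F / 2, by omega⟩
  rw [hj] at h1
  push_cast at h1
  rw [h2, zero_mul, zero_add] at h1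
  exact one_ne_zero h1

omit [DecidableEq ι] in
/-- the dimension is `k t` -/
theorem card_eq_of_decomposition {t k : ℕ} (D : Fin t → Submodule F (ι → F))
    (hD : IsMDecomposition k D) : Fintype.card ι = k * t := by
  classical
  have hint : DirectSum.IsInternal D :=
    DirectSum.isInternal_submodule_of_iSupIndep_of_iSup_eq_top hD.indep hD.iSup_eq_top
  let v : ∀ i : Fin t, Basis (Fin k) F (D i) := fun i => finBasisOfFinrankEq F (D i) (hD.finrank_eq i)
  have h1 := Module.finrank_eq_card_basis (hint.collectedBasis v)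
  rw [Module.finrank_fintype_fun_eq_card, Fintype.card_sigma, Finset.sum_const, Finset.card_univ, Fintype.card_fin,
    Fintype.card_fin, smul_eq_mul] at h1
  rw [h1]
  ring

/-- **R1** `t` even: plus type as soon as `k` is even, or `4 ∣ t`, or `-1` is a square (`|F| % 4 ≠ 3` includes `q` even) -/
theorem isPlusTypeOn_top_of_decomposition_even [Fintype F] (hQ : IsNondegenerateQuadraticForm Q) {t k : ℕ}
    (D : Fin t → Submodule F (ι → F)) (hD : IsOrthogonalMDecomposition Q k D) (ht : Even t)
    (h : Even k ∨ 4 ∣ t ∨ Fintype.card F % 4 ≠ 3) : IsPlusTypeOn Q ⊤ := by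
  by_cases hq : Fintype.card F % 4 ≠ 3
  · exact isPlusTypeOn_top_of_decomposition_of_card hQ D hD ht hq
  push Not at hq
  have h2 := two_ne_zero_of_card (F := F) hq
  obtain ⟨s, hs⟩ := ht
  have hcard : Fintype.card ι = 2 * (k * s) := by
    rw [card_eq_of_decomposition D hD.decomp.decomp, hs]
    ring
  obtain ⟨d, hd, hiff⟩ := isPlusTypeOn_top_iff_of_decomposition hQ h2 D hD (k * s) hcard
  rw [hiff]
  have hev : Even (k * s) := by
    rcases h with h | h | h
    · exact h.mul_right s
    · have : Even s := by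
        obtain ⟨c, hc⟩ := h
        exact ⟨c, by omega⟩
      exact this.mul_left k
    · exact absurd hq h
  rw [hev.neg_one_pow, one_mul, hs]
  exact ⟨d ^ s, by ring⟩

/-- **R2** `q ≡ 3 mod 4`, `k` odd, `t ≡ 2 mod 4`: NOT of plus type -/
theorem not_isPlusTypeOn_top_of_decomposition [Fintype F] (hQ : IsNondegenerateQuadraticForm Q) {t k : ℕ}
    (D : Fin t → Submodule F (ι → F)) (hD : IsOrthogonalMDecomposition Q k D) (hq : Fintype.card F % 4 = 3)
    (hk : Odd k) (ht : t % 4 = 2) : ¬ IsPlusTypeOn Q ⊤ := by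
  have h2 := two_ne_zero_of_card (F := F) hq
  obtain ⟨s, hs⟩ : ∃ s, t = s + s := ⟨t / 2, by omega⟩
  have hsodd : Odd s := by
    rw [Nat.odd_iff]
    omega
  have hcard : Fintype.card ι = 2 * (k * s) := by
    rw [card_eq_of_decomposition D hD.decomp.decomp, hs]
    ring
  obtain ⟨d, hd, hiff⟩ := isPlusTypeOn_top_iff_of_decomposition hQ h2 D hD (k * s) hcard
  rw [hiff, (hk.mul hsodd).neg_one_pow, hs]
  rintro ⟨x, hx⟩
  have hds : d ^ s ≠ 0 := pow_ne_zero s hd
  have h3 : IsSquare (-1 : F) := by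
    refine ⟨x / d ^ s, ?_⟩
    rw [div_mul_div_comm, ← hx, pow_add, mul_div_assoc, div_self (mul_ne_zero hds hds), mul_one]
  exact (FiniteField.isSquare_neg_one_iff.mp h3) hq

end Cfsg.Agent.Lib.Helper7.OEType
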