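import Mathlib
import Cfsg.Agent.Lib.Helper13.SubfField

/-!
# S5639 farm-out (architect helper1): FO-RK (`le_of_fullrank`), FO-LA1 (`exists_perp2`),
FO-LA2 (`exists_indep_perp`)
-/

set_option autoImplicit false

namespace Cfsg.Agent.Lib.Helper7.S5639

open Matrix Cfsg.Agent.Lib.Helper13

variable {F : Type*} [Field F] {n : ℕ}

/-- FO-LA1: two linear conditions in dimension ≥ 3 have a nonzero rational solution. -/
theorem exists_perp2 (hn : 3 ≤ n) (K : Subfield F) (a b : Fin n → K) :
    ∃ v : Fin n → K, v ≠ 0 ∧ a ⬝ᵥ v = 0 ∧ b ⬝ᵥ v = 0 := by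
  let L : (Fin n → K) →ₗ[K] (Fin 2 → K) := (Matrix.of ![a, b]).mulVecLin
  have hlt : Module.finrank K (Fin 2 → K) < Module.finrank K (Fin n → K) := by
    rw [Module.finrank_fin_fun, Module.finrank_fin_fun]
    omega
  have hker := LinearMap.ker_ne_bot_of_finrank_lt (f := L) hlt
  obtain ⟨v, hv, hv0⟩ := Submodule.exists_mem_ne_zero_of_ne_bot hker
  refine ⟨v, hv0, ?_, ?_⟩
  · have := congrFun (LinearMap.mem_ker.mp hv) 0
    simpa [L, Matrix.mulVec] using this
  · have := congrFun (LinearMap.mem_ker.mp hv) 1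
    simpa [L, Matrix.mulVec] using this

/-- FO-LA2: two `K`-independent rational functionals killing `u`. -/
theorem exists_indep_perp (hn : 3 ≤ n) (K : Subfield F) (u : Fin n → K) :
    ∃ φ₁ φ₂ : Fin n → K, φ₁ ⬝ᵥ u = 0 ∧ φ₂ ⬝ᵥ u = 0 ∧
      ∀ a b : K, a • φ₁ + b • φ₂ = 0 → a = 0 ∧ b = 0 := by
  let L : (Fin n → K) →ₗ[K] K :=
    { toFun := fun φ => φ ⬝ᵥ u
      map_add' := fun x y => add_dotProduct x y u
      map_smul' := fun c x => by simp [smul_dotProduct] }
  have h1 := LinearMap.finrank_range_add_finrank_ker L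
  rw [Module.finrank_fin_fun] at h1
  have h2 : Module.finrank K (LinearMap.range L) ≤ 1 := by
    have := Submodule.finrank_le (LinearMap.range L)
    rwa [Module.finrank_self] at this
  have h3 : 1 < Module.finrank K (LinearMap.ker L) := by omega
  have hnt : Nontrivial (LinearMap.ker L) := Module.nontrivial_of_finrank_pos (R := K) (by omega)
  obtain ⟨x, hx⟩ := exists_ne (0 : LinearMap.ker L)
  obtain ⟨y, hy⟩ := exists_linearIndependent_pair_of_one_lt_finrank h3 hx
  rw [LinearIndependent.pair_iff] at hy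
  refine ⟨(x : Fin n → K), (y : Fin n → K), LinearMap.mem_ker.mp x.2, LinearMap.mem_ker.mp y.2, ?_⟩
  intro a b hab
  apply hy a b
  apply Subtype.ext
  simpa using hab

/-- FO-RK: if no nonzero rational functional kills `w` then `n ≤ r`. -/
theorem le_of_fullrank [Finite F] (K : Subfield F) (r : ℕ)
    (hcard : Nat.card F = Nat.card K ^ r) (w : Fin n → F)
    (hfull : ∀ lam : Fin n → K, lam ≠ 0 → rvec K lam ⬝ᵥ w ≠ 0) : n ≤ r := by
  let L : (Fin n → K) →ₗ[K] F :=
    { toFun := fun lam => rvec K lam ⬝ᵥ w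
      map_add' := fun x y => by rw [rvec_add, add_dotProduct]
      map_smul' := fun c x => by
        rw [rvec_smul, smul_dotProduct, RingHom.id_apply]
        rfl }
  have hinj : Function.Injective L := by
    rw [← LinearMap.ker_eq_bot, LinearMap.ker_eq_bot']
    intro lam hlam
    by_contra h0
    exact hfull lam h0 hlam
  have h1 := LinearMap.finrank_le_finrank_of_injective hinj
  rw [Module.finrank_fin_fun] at h1
  -- `finrank K F = r`
  have h2 : Nat.card F = Nat.card K ^ Module.finrank K F := Module.natCard_eq_pow_finrank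
  have hK : 1 < Nat.card K := Finite.one_lt_card
  have h3 : Module.finrank K F = r := by
    apply Nat.pow_right_injective hK
    show Nat.card K ^ Module.finrank K F = Nat.card K ^ r
    rw [← h2, hcard]
  omega

end Cfsg.Agent.Lib.Helper7.S5639
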