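import Mathlib
import Cfsg.Agent.Lib.Helper1.SubfSLDefs
import Cfsg.Agent.Lib.Helper7.S5639FOLA

/-!
# S5639 farm-out (architect helper1): FO-G1 (`good_of_rat_axis`, `good_of_rat_center`),
FO-G2 (`good_of_kill`)
-/

set_option autoImplicit false

namespace Cfsg.Agent.Lib.Helper7.S5639

open Matrix Cfsg.Agent.Lib.Helper13 Cfsg.Agent.Lib.Helper1.SubfSL

variable {F : Type*} [Field F] {n : ℕ}

theorem tv_smul_left (c : F) (a φ : Fin n → F) : tv (c • a) φ = tv a (c • φ) := by
  unfold tv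
  congr 1
  ext i j
  simp only [vecMulVec_apply, Pi.smul_apply, smul_eq_mul]
  ring

theorem rvec_single_one (K : Subfield F) (i : Fin n) :
    rvec K (Pi.single i (1 : K)) = (Pi.single i (1 : F) : Fin n → F) := rvec_single K i

/-- a non-rational vector has a coordinate outside `K` -/
theorem exists_coord_not_mem (K : Subfield F) (w : Fin n → F) (hwr : ¬ IsRat K w) :
    ∃ i, w i ∉ K := by
  by_contra hcon
  push Not at hcon
  exact hwr ⟨fun i => ⟨w i, hcon i⟩, rfl⟩

/-- FO-G1: rational axis, non-rational centre. -/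
theorem good_of_rat_axis (hn : 3 ≤ n) (K : Subfield F) (M : Subgroup (GL (Fin n) F))
    (hH : H1 K n ≤ M) (w : Fin n → F) (lam : Fin n → K) (hlam : lam ≠ 0)
    (hw : rvec K lam ⬝ᵥ w = 0) (hwr : ¬ IsRat K w) (h : InM M (tv w (rvec K lam))) : Good K M := by
  obtain ⟨i, hi⟩ := exists_coord_not_mem K w hwr
  obtain ⟨v, hv0, hv1, hv2⟩ := exists_perp2 hn K lam (Pi.single i (1 : K))
  -- the rational transvection `1 + v e_i*`
  have hsv : (Pi.single i (1 : K) : Fin n → K) ⬝ᵥ v = 0 := hv2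
  have hA := (rat_tv_mem K v (Pi.single i (1 : K)) hsv).mono hH
  rw [rvec_single_one] at hA
  have he : (Pi.single i (1 : F) : Fin n → F) ⬝ᵥ rvec K v = 0 := by
    rw [← rvec_single_one K i, rvec_dot, hsv]; rfl
  have hA' := InM.tv_inv he hA
  have hB' := InM.tv_inv hw h
  have hlv : rvec K lam ⬝ᵥ rvec K v = 0 := by rw [rvec_dot, hv1]; rfl
  have hcomm := tv_comm (rvec K v) (Pi.single i (1 : F)) w (rvec K lam) he hw hlv
  have hprod := ((hA.mul h).mul hA').mul hB'
  rw [hcomm] at hprod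
  have hwi : (Pi.single i (1 : F) : Fin n → F) ⬝ᵥ w = w i := by
    rw [single_dotProduct, one_mul]
  rw [hwi] at hprod
  exact ⟨v, lam, w i, hv0, hlam, hv1, hi, hprod⟩

/-- FO-G1': rational centre, non-rational axis. -/
theorem good_of_rat_center (hn : 3 ≤ n) (K : Subfield F) (M : Subgroup (GL (Fin n) F))
    (hH : H1 K n ≤ M) (u : Fin n → K) (hu : u ≠ 0) (ψ : Fin n → F)
    (hψ : ψ ⬝ᵥ rvec K u = 0) (hψr : ¬ IsRat K ψ) (h : InM M (tv (rvec K u) ψ)) : Good K M := by
  obtain ⟨i, hi⟩ := exists_coord_not_mem K ψ hψr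
  obtain ⟨φ, hφ0, hφ1, hφ2⟩ := exists_perp2 hn K u (Pi.single i (1 : K))
  have hφu : φ ⬝ᵥ u = 0 := by rw [dotProduct_comm]; exact hφ1
  have hφs : φ ⬝ᵥ (Pi.single i (1 : K) : Fin n → K) = 0 := by rw [dotProduct_comm]; exact hφ2
  -- the rational transvection `1 + e_i φ`
  have hB := (rat_tv_mem K (Pi.single i (1 : K)) φ hφs).mono hH
  rw [rvec_single_one] at hB
  have he : rvec K φ ⬝ᵥ (Pi.single i (1 : F) : Fin n → F) = 0 := by
    rw [← rvec_single_one K i, rvec_dot, hφs]; rfl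
  have hB' := InM.tv_inv he hB
  have hA' := InM.tv_inv hψ h
  have hφu' : rvec K φ ⬝ᵥ rvec K u = 0 := by rw [rvec_dot, hφu]; rfl
  have hcomm := tv_comm (rvec K u) ψ (Pi.single i (1 : F)) (rvec K φ) hψ he hφu'
  have hprod := ((h.mul hB).mul hA').mul hB'
  rw [hcomm] at hprod
  have hψi : ψ ⬝ᵥ (Pi.single i (1 : F) : Fin n → F) = ψ i := by
    rw [dotProduct_single, mul_one]
  rw [hψi] at hprod
  exact ⟨u, φ, ψ i, hu, hφ0, hφu, hi, hprod⟩

/-- a nonzero multiple of `w` is not rational when `w` is not a multiple of a rational vector -/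
theorem not_isRat_smul (K : Subfield F) (w : Fin n → F)
    (hw : ∀ (l : F) (r : Fin n → K), w ≠ l • rvec K r) (c : F) (hc : c ≠ 0) :
    ¬ IsRat K (c • w) := by
  rintro ⟨r, hr⟩
  apply hw c⁻¹ r
  rw [← hr, smul_smul, inv_mul_cancel₀ hc, one_smul]

/-- FO-G2: a rational functional kills the non-rational centre `w`. -/
theorem good_of_kill (hn : 3 ≤ n) (K : Subfield F) (M : Subgroup (GL (Fin n) F))
    (hH : H1 K n ≤ M) (w ψ : Fin n → F) (hψw : ψ ⬝ᵥ w = 0) (hψ : ψ ≠ 0)
    (hw : ∀ (l : F) (r : Fin n → K), w ≠ l • rvec K r) (lam : Fin n → K) (hlam : lam ≠ 0)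
    (hk : rvec K lam ⬝ᵥ w = 0) (h : InM M (tv w ψ)) : Good K M := by
  by_cases hex : ∃ v : Fin n → K, lam ⬝ᵥ v = 0 ∧ ψ ⬝ᵥ rvec K v ≠ 0
  · obtain ⟨v, hv1, hv2⟩ := hex
    have hB := (rat_tv_mem K v lam hv1).mono hH
    have hlv : rvec K lam ⬝ᵥ rvec K v = 0 := by rw [rvec_dot, hv1]; rfl
    have hB' := InM.tv_inv hlv hB
    have hA' := InM.tv_inv hψw h
    have hcomm := tv_comm w ψ (rvec K v) (rvec K lam) hψw hlv hk
    have hprod := ((h.mul hB).mul hA').mul hB'
    rw [hcomm, ← tv_smul_left] at hprod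
    refine good_of_rat_axis hn K M hH ((ψ ⬝ᵥ rvec K v) • w) lam hlam ?_
      (not_isRat_smul K w hw _ hv2) hprod
    rw [dotProduct_smul, hk, smul_zero]
  · push Not at hex
    -- `ψ` is a multiple of `lam`
    obtain ⟨i₀, hi₀⟩ : ∃ i, lam i ≠ 0 := by
      by_contra hcon
      push Not at hcon
      exact hlam (funext hcon)
    have hrel : ∀ j, ψ j * (lam i₀ : F) = ψ i₀ * (lam j : F) := by
      intro j
      -- `v = lam i₀ e_j - lam j e_{i₀}`
      have hv1 : lam ⬝ᵥ (lam i₀ • (Pi.single j (1 : K) : Fin n → K) -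
          lam j • (Pi.single i₀ (1 : K) : Fin n → K)) = 0 := by
        rw [dotProduct_sub, dotProduct_smul, dotProduct_smul, dotProduct_single, dotProduct_single]
        simp [mul_comm]
      have h0 := hex _ hv1
      rw [rvec_sub, rvec_smul, rvec_smul, rvec_single_one, rvec_single_one, dotProduct_sub,
        dotProduct_smul, dotProduct_smul, dotProduct_single, dotProduct_single] at h0
      simp only [mul_one, smul_eq_mul] at h0
      have h1 := sub_eq_zero.mp h0
      rw [mul_comm, h1, mul_comm]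
    have hl0 : (lam i₀ : F) ≠ 0 := fun h0 => hi₀ (Subtype.ext h0)
    set c : F := ψ i₀ / (lam i₀ : F) with hc
    have hψc : ψ = c • rvec K lam := by
      funext j
      show ψ j = c * (lam j : F)
      rw [hc, div_mul_eq_mul_div, eq_div_iff hl0]
      exact hrel j
    have hc0 : c ≠ 0 := by
      intro h0
      apply hψ
      rw [hψc, h0, zero_smul]
    rw [hψc, ← tv_smul_left] at h
    refine good_of_rat_axis hn K M hH (c • w) lam hlam ?_ (not_isRat_smul K w hw c hc0) h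
    rw [dotProduct_smul, hk, smul_zero]

end Cfsg.Agent.Lib.Helper7.S5639
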