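import Mathlib
import Cfsg.Agent.Lib.Helper7.ClassSum

set_option autoImplicit false

namespace Cfsg.Agent.Lib.Helper7

/-- Size of a conjugacy class times order of the centralizer is the group order. -/
theorem card_isConj_mul_card_centralizer {G : Type*} [Group G] [Finite G] (g : G) :
    Nat.card {y : G // IsConj g y} * Nat.card (Subgroup.centralizer ({g} : Set G)) = Nat.card G := by
  classical
  have : Fintype {y : G // IsConj g y} := Fintype.ofFinite _
  let f : G → {y : G // IsConj g y} := fun x => ⟨x⁻¹ * g * x, by
    rw [isConj_iff]; exact ⟨x⁻¹, by simp⟩⟩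
  have h1 : Nat.card G = Nat.card (Σ y : {y : G // IsConj g y}, {x : G // f x = y}) :=
    (Nat.card_congr (Equiv.sigmaFiberEquiv f)).symm
  rw [h1, Nat.card_sigma]
  have h2 : ∀ y : {y : G // IsConj g y}, Nat.card {x : G // f x = y} =
      Nat.card (Subgroup.centralizer ({g} : Set G)) := by
    intro y
    rw [← card_conjugators g y.1 y.2]
    apply Nat.card_congr
    refine Equiv.subtypeEquivRight ?_
    intro x
    constructor
    · intro h; exact congrArg Subtype.val h
    · intro h; exact Subtype.ext h
  simp only [h2, Finset.sum_const, Finset.card_univ, smul_eq_mul, Nat.card_eq_fintype_card]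

/-- Counting a conjugation-invariant set of elements with centralizers of constant order `k`
by conjugacy classes. -/
theorem card_mul_eq_card_classes_mul_card {G : Type*} [Group G] [Finite G] (q : G → Prop)
    (hq : ∀ x y : G, IsConj x y → q x → q y) (k : ℕ)
    (hk : ∀ x, q x → Nat.card (Subgroup.centralizer ({x} : Set G)) = k) :
    Nat.card {x : G // q x} * k =
      Nat.card {c : ConjClasses G // ∃ g : G, ConjClasses.mk g = c ∧ q g} * Nat.card G := by
  classical
  have : Fintype {c : ConjClasses G // ∃ g : G, ConjClasses.mk g = c ∧ q g} := Fintype.ofFinite _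
  let f : {x : G // q x} → {c : ConjClasses G // ∃ g : G, ConjClasses.mk g = c ∧ q g} :=
    fun x => ⟨ConjClasses.mk x.1, x.1, rfl, x.2⟩
  have h1 : Nat.card {x : G // q x} = Nat.card (Σ c, {x : {x : G // q x} // f x = c}) :=
    (Nat.card_congr (Equiv.sigmaFiberEquiv f)).symm
  rw [h1, Nat.card_sigma, Finset.sum_mul]
  have h2 : ∀ c : {c : ConjClasses G // ∃ g : G, ConjClasses.mk g = c ∧ q g},
      Nat.card {x : {x : G // q x} // f x = c} * k = Nat.card G := by
    rintro ⟨c, g, rfl, hg⟩
    rw [← hk g hg, ← card_isConj_mul_card_centralizer g]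
    congr 1
    apply Nat.card_congr
    refine
      { toFun := fun x => ⟨x.1.1, ?_⟩
        invFun := fun y => ⟨⟨y.1, hq g y.1 y.2 hg⟩, ?_⟩
        left_inv := fun x => rfl
        right_inv := fun y => rfl }
    · have := congrArg Subtype.val x.2
      exact (ConjClasses.mk_eq_mk_iff_isConj.mp this).symm
    · apply Subtype.ext
      exact (ConjClasses.mk_eq_mk_iff_isConj.mpr y.2).symm
  simp only [h2, Finset.sum_const, Finset.card_univ, smul_eq_mul, Nat.card_eq_fintype_card]

end Cfsg.Agent.Lib.Helper7
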