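import Mathlib
import Cfsg.Prelude.Def_OddOrderLocal
import Cfsg.Agent.S1439
import Cfsg.Agent.S1545
import Cfsg.Agent.Lib.Helper10.BGTwelveG
import Cfsg.Agent.Lib.Helper1.BGFcons
import Cfsg.Agent.Lib.Lead.BGTrans5

/-!
# Helper7: B&G Corollary 14.8(d) -- the final step

`N_G(U) ≰ M` for a maximal subgroup `M = K U M_σ` with `K ≠ 1`, `U ≠ 1`, from the outputs of
steps 1--7 of helper22's notes (`notes/BG_S1435_cor148_partial_helper22.md`):
a maximal subgroup `H ≠ M` with `UK ≤ H`, `k ∉ σ(H)`, `K` regular on the nilpotent group `H_σ`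
and `M ∩ H = UK`.

The argument: every Sylow subgroup `Q` of `U` lies in `F(H)` (if `q ∈ σ(H)` then `Q ≤ H_σ`;
otherwise `QK` is a Frobenius group acting coprimely on `H_σ` with `C_{H_σ}(K) = 1`, so `Q`
centralizes `H_σ` by S1545, and `Q = [Q,K] ≤ H'` centralizes the cyclic normal subgroup
`O_{σ(H)'}(F(H))` of S1439, so `Q ≤ C_H(F(H)) ≤ F(H)`).  Then `F(H) ∩ M = U`, and the
normalizer condition in the nilpotent group `F(H)` finishes.
-/

set_option autoImplicit false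
open Cfsg

namespace Cfsg.Agent.Lib.Helper7.BG148

open scoped commutatorElement
open Cfsg.Agent.Lib.Helper10.BG Cfsg.Agent.Lib.Helper10 Cfsg.Agent.Lib.Helper9.BGExc

variable {G : Type*} [Group G]

/-- the derived subgroup of `H` centralizes every cyclic subgroup normalized by `H`. -/
theorem commutator_le_centralizer_of_isCyclic {H Y : Subgroup G} (hY : IsCyclic Y)
    (hn : H ≤ Subgroup.normalizer (Y : Set G)) :
    ⁅H, H⁆ ≤ Subgroup.centralizer (Y : Set G) := by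
  obtain ⟨⟨y, hyY⟩, hy⟩ := hY.exists_generator
  have hgen : ∀ z ∈ Y, ∃ n : ℤ, z = y ^ n := by
    intro z hz
    obtain ⟨n, hn⟩ := Subgroup.mem_zpowers_iff.mp (hy ⟨z, hz⟩)
    refine ⟨n, ?_⟩
    have := congrArg Subtype.val hn
    simp at this
    exact this.symm
  -- conjugation by an element of `H` is a power map on `y`
  have hpow : ∀ h ∈ H, ∃ a : ℤ, h * y * h⁻¹ = y ^ a := by
    intro h hh
    have h1 : h * y * h⁻¹ ∈ Y := (Subgroup.mem_normalizer_iff.mp (hn hh) y).mp hyY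
    exact hgen _ h1
  have hconj_zpow : ∀ (h : G) (a : ℤ), h * y ^ a * h⁻¹ = (h * y * h⁻¹) ^ a := by
    intro h a
    have := map_zpow (MulAut.conj h) y a
    simpa [MulAut.conj_apply] using this
  -- the inverse commutator fixes `y`
  have key : ∀ h₁ ∈ H, ∀ h₂ ∈ H, (h₁ * h₂) * y * (h₁ * h₂)⁻¹ = (h₂ * h₁) * y * (h₂ * h₁)⁻¹ := by
    intro h₁ hh₁ h₂ hh₂
    obtain ⟨a, ha⟩ := hpow h₁ hh₁
    obtain ⟨b, hb⟩ := hpow h₂ hh₂
    have e1 : (h₁ * h₂) * y * (h₁ * h₂)⁻¹ = h₁ * (h₂ * y * h₂⁻¹) * h₁⁻¹ := by group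
    have e2 : (h₂ * h₁) * y * (h₂ * h₁)⁻¹ = h₂ * (h₁ * y * h₁⁻¹) * h₂⁻¹ := by group
    rw [e1, e2, hb, ha, hconj_zpow, hconj_zpow, ha, hb, ← zpow_mul, ← zpow_mul, mul_comm]
  rw [Subgroup.commutator_le]
  intro h₁ hh₁ h₂ hh₂
  rw [Subgroup.mem_centralizer_iff]
  -- `⁅h₁, h₂⁆ = (h₁⁻¹⁻¹ h₂⁻¹⁻¹)(h₂⁻¹⁻¹ h₁⁻¹⁻¹)⁻¹`
  have hk := key h₁⁻¹ (H.inv_mem hh₁) h₂⁻¹ (H.inv_mem hh₂)
  have hcomm : ⁅h₁, h₂⁆ * y = y * ⁅h₁, h₂⁆ := by
    rw [commutatorElement_def]
    have e3 : h₁ * h₂ * h₁⁻¹ * h₂⁻¹ * y =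
        (h₁ * h₂) * ((h₁⁻¹ * h₂⁻¹) * y * (h₁⁻¹ * h₂⁻¹)⁻¹) * (h₁⁻¹ * h₂⁻¹) := by group
    rw [e3, hk]
    group
  intro z hz
  obtain ⟨n, rfl⟩ := hgen z hz
  exact ((Commute.zpow_left (show Commute y ⁅h₁, h₂⁆ from hcomm.symm) n)).eq

/-- if `x` normalizes `Q` and acts fixed-point-freely on it, then `Q = [Q, x]`; in particular
`Q` lies in the derived subgroup of any subgroup containing `x` and `Q`. -/
theorem le_commutator_of_regular [Finite G] {H Q : Subgroup G} {x : G} (hxH : x ∈ H) (hQH : Q ≤ H)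
    (hxQ : ∀ u ∈ Q, x * u * x⁻¹ ∈ Q) (hreg : ∀ u ∈ Q, x * u = u * x → u = 1) :
    Q ≤ ⁅H, H⁆ := by
  let f : Q → Q := fun u => ⟨x * u * x⁻¹ * (u : G)⁻¹, Q.mul_mem (hxQ u u.2) (Q.inv_mem u.2)⟩
  have hinj : Function.Injective f := by
    intro u v huv
    have h1 : x * (u : G) * x⁻¹ * (u : G)⁻¹ = x * (v : G) * x⁻¹ * (v : G)⁻¹ :=
      congrArg Subtype.val huv
    have h2 : x * ((v : G)⁻¹ * u) = ((v : G)⁻¹ * u) * x := by
      have e1 : (u : G) * x⁻¹ * (u : G)⁻¹ = (v : G) * x⁻¹ * (v : G)⁻¹ := by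
        have := congrArg (fun t => x⁻¹ * t) h1
        simpa [mul_assoc] using this
      have e2 : ((v : G)⁻¹ * u) * x⁻¹ = x⁻¹ * ((v : G)⁻¹ * u) := by
        have := congrArg (fun t => (v : G)⁻¹ * t * u) e1
        simp only [mul_assoc, inv_mul_cancel_left, inv_mul_cancel, mul_one] at this
        rw [mul_assoc]
        exact this
      have e3 := congrArg (fun t => x * t * x) e2
      simp only [mul_assoc, inv_mul_cancel, mul_one, mul_inv_cancel_left] at e3
      rw [mul_assoc]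
      exact e3
    have h3 := hreg _ (Q.mul_mem (Q.inv_mem v.2) u.2) h2
    apply Subtype.ext
    have : (u : G) = v * ((v : G)⁻¹ * u) := by group
    rw [this, h3, mul_one]
  have hsurj : Function.Surjective f := Finite.injective_iff_surjective.mp hinj
  intro u hu
  obtain ⟨v, hv⟩ := hsurj ⟨u, hu⟩
  have h1 : x * (v : G) * x⁻¹ * (v : G)⁻¹ = u := congrArg Subtype.val hv
  rw [← h1, ← commutatorElement_def]
  exact Subgroup.commutator_mem_commutator hxH (hQH v.2)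

/-- a maximal `q`-subgroup of an abelian group `U` is invariant under every element
normalizing `U`. -/
theorem conj_mem_sylow_of_abelian [Finite G] {q : ℕ} [Fact q.Prime] {U Q : Subgroup G}
    (hUab : ∀ a ∈ U, ∀ b ∈ U, a * b = b * a) (hQ : IsSylowIn q Q U) {x : G}
    (hx : x ∈ Subgroup.normalizer (U : Set G)) : ∀ u ∈ Q, x * u * x⁻¹ ∈ Q := by
  have h1 : IsSylowIn q (Q.map (MulAut.conj x).toMonoidHom) U := hQ.map_conj hx
  obtain ⟨t, htU, ht⟩ := hQ.exists_conj h1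
  have h2 : Q.map (MulAut.conj t).toMonoidHom = Q := by
    ext z
    simp only [Subgroup.mem_map, MulEquiv.coe_toMonoidHom, MulAut.conj_apply]
    constructor
    · rintro ⟨w, hw, rfl⟩
      have : t * w * t⁻¹ = w := by
        rw [hUab t htU w (hQ.le hw)]; group
      rw [this]; exact hw
    · intro hz
      refine ⟨z, hz, ?_⟩
      rw [hUab t htU z (hQ.le hz)]; group
  rw [h2] at ht
  intro u hu
  rw [← ht]
  exact Subgroup.mem_map.mpr ⟨u, hu, rfl⟩

/-- normalizer condition inside a nilpotent subgroup. -/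
theorem exists_mem_normalizer_not_mem {F U : Subgroup G} (hF : Group.IsNilpotent F)
    (hUF : U ≤ F) (hne : U ≠ F) :
    ∃ n ∈ F, n ∈ Subgroup.normalizer (U : Set G) ∧ n ∉ U := by
  have := hF
  have hlt : U.subgroupOf F < ⊤ := by
    rw [lt_top_iff_ne_top]
    intro h
    apply hne
    apply le_antisymm hUF
    intro x hx
    have : (⟨x, hx⟩ : F) ∈ U.subgroupOf F := by rw [h]; exact Subgroup.mem_top _
    exact this
  have hnc := Group.normalizerCondition_of_isNilpotent (G := F) _ hlt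
  obtain ⟨n, hnN, hnU⟩ := SetLike.exists_of_lt hnc
  refine ⟨n, n.2, ?_, fun h => hnU h⟩
  rw [Subgroup.mem_normalizer_iff]
  intro k
  constructor
  · intro hk
    exact (Subgroup.mem_normalizer_iff.mp hnN ⟨k, hUF hk⟩).mp hk
  · intro hk
    have hkF : k ∈ F := by
      have h2 : (n : G)⁻¹ * ((n : G) * k * (n : G)⁻¹) * (n : G) ∈ F :=
        F.mul_mem (F.mul_mem (F.inv_mem n.2) (hUF hk)) n.2
      have h3 : (n : G)⁻¹ * ((n : G) * k * (n : G)⁻¹) * (n : G) = k := by group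
      rwa [h3] at h2
    exact (Subgroup.mem_normalizer_iff.mp hnN ⟨k, hkF⟩).mpr hk


/-- **B&G Corollary 14.8(d), final step.**  From the outputs of steps 1--7. -/
theorem normalizer_not_le_of_steps [Finite G] (hG : IsMinSimpleOddOrder G)
    {M H K U : Subgroup G} (hM : IsCoatom M) (hH : IsCoatom H) (hHM : H ≠ M)
    (hUH : U ≤ H) (hKH : K ≤ H) (hKp : (Nat.card K).Prime)
    (hUab : ∀ a ∈ U, ∀ b ∈ U, a * b = b * a)
    (hKnU : K ≤ Subgroup.normalizer (U : Set G))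
    (hcop : (Nat.card K).Coprime (Nat.card U))
    (hregU : ∀ x ∈ K, x ≠ 1 → ∀ u ∈ U, x * u = u * x → u = 1)
    (hkσ : Nat.card K ∉ sigma H)
    (hregH : ∀ x ∈ K, x ≠ 1 → ∀ y ∈ sigmaCore H, x * y = y * x → y = 1)
    (hnil : Group.IsNilpotent (sigmaCore H))
    (hMH : M ⊓ H ≤ U ⊔ K) (hU1 : U ≠ ⊥) :
    ¬ Subgroup.normalizer (U : Set G) ≤ M := by
  intro hNM
  obtain ⟨F, hFdef⟩ : ∃ F, F = fittingOf H := ⟨_, rfl⟩
  have hFH : F ≤ H := hFdef ▸ fittingOf_le H
  have hFnil : Group.IsNilpotent F := hFdef ▸ isNilpotent_fittingOf H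
  have hHnF : H ≤ Subgroup.normalizer (F : Set G) := hFdef ▸ le_normalizer_fittingOf H
  have hσF : sigmaCore H ≤ F :=
    hFdef ▸ le_fittingOf (sigmaCore_le H) (le_normalizer_sigmaCore H) hnil
  have hHsolv : Group.IsSolvable H := isSolvable_of_ne_top hG hH.1
  obtain ⟨h39c, -, h39⟩ := Cfsg.Agent.S1439.result hG H hH
  rw [← hFdef] at h39c h39
  obtain ⟨Y, hYdef⟩ : ∃ Y, Y = piCoreOf {q | q.Prime ∧ q ∉ sigma H} F := ⟨_, rfl⟩
  rw [← hYdef] at h39c h39
  have hHnY : H ≤ Subgroup.normalizer (Y : Set G) :=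
    hHnF.trans (hYdef ▸ Cfsg.Agent.Lib.Lead.BGTrans5.normalizer_le_normalizer_piCoreOf _ F)
  have hH'Y : ⁅H, H⁆ ≤ Subgroup.centralizer (Y : Set G) :=
    commutator_le_centralizer_of_isCyclic h39c hHnY
  -- a non-identity element of `K`
  have hK1 : K ≠ ⊥ := by
    intro h
    rw [h, Subgroup.card_bot] at hKp
    exact Nat.not_prime_one hKp
  obtain ⟨x, hxK, hx1⟩ : ∃ x ∈ K, x ≠ 1 := by
    by_contra hcon
    push Not at hcon
    exact hK1 ((Subgroup.eq_bot_iff_forall K).mpr hcon)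
  have hCK : sigmaCore H ⊓ Subgroup.centralizer (K : Set G) = ⊥ := by
    rw [eq_bot_iff]
    rintro y ⟨hy, hyC⟩
    exact Subgroup.mem_bot.mpr (hregH x hxK hx1 y hy (Subgroup.mem_centralizer_iff.mp hyC x hxK))
  -- every Sylow subgroup of `U` lies in `F(H)`
  have hUF : U ≤ F := by
    apply le_of_forall_sylow_le
    intro q hq
    haveI : Fact q.Prime := ⟨hq⟩
    obtain ⟨Q, hQ⟩ := exists_isSylowIn q U
    refine ⟨Q, hQ, ?_⟩
    by_cases hqσ : q ∈ sigma H
    · exact (pgroup_le_sigmaCore hG hH hqσ hQ.isPGroup (hQ.le.trans hUH)).trans hσF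
    by_cases hQ1 : Q = ⊥
    · rw [hQ1]; exact bot_le
    have hQH : Q ≤ H := hQ.le.trans hUH
    have hQK : ∀ e ∈ K, ∀ u ∈ Q, e * u * e⁻¹ ∈ Q :=
      fun e he => conj_mem_sylow_of_abelian hUab hQ (hKnU he)
    have hKnQ : K ≤ Subgroup.normalizer (Q : Set G) :=
      Cfsg.Agent.Lib.Helper1.le_normalizer_of_forall_conj_mem hQK
    have hc1 : (Nat.card (sigmaCore H)).Coprime (Nat.card Q) := by
      obtain ⟨a, ha⟩ := hQ.isPGroup.exists_card_eq
      rw [ha]
      apply Nat.Coprime.pow_right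
      apply Nat.Coprime.symm
      rw [Nat.Prime.coprime_iff_not_dvd hq]
      exact fun hd => hqσ (mem_sigma_of_dvd_card_sigmaCore hG hH hq hd)
    have hc2 : (Nat.card (sigmaCore H)).Coprime (Nat.card K) := by
      apply Nat.Coprime.symm
      rw [Nat.Prime.coprime_iff_not_dvd hKp]
      exact fun hd => hkσ (mem_sigma_of_dvd_card_sigmaCore hG hH hKp hd)
    have hcopQK : (Nat.card (sigmaCore H)).Coprime (Nat.card ↥(Q ⊔ K)) :=
      Nat.Coprime.coprime_dvd_right (Cfsg.Agent.Lib.Helper9.card_sup_dvd_of_le_normalizer hKnQ)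
        (Nat.Coprime.mul_right hc1 hc2)
    have hQK0 : Q ⊓ K = ⊥ :=
      Subgroup.inf_eq_bot_of_coprime
        (Nat.Coprime.coprime_dvd_left (Subgroup.card_dvd_of_le hQ.le) hcop.symm)
    have hsolv : Group.IsSolvable (sigmaCore H) := by
      have := hnil
      infer_instance
    have h45 := Cfsg.Agent.S1545.result Q K (sigmaCore H) hQ1 hK1 hQK0 hQK
      (fun e he he1 u hu => hregU e he he1 u (hQ.le hu))
      (fun z hz h hh =>
        (Subgroup.mem_normalizer_iff.mp (le_normalizer_sigmaCore H ((sup_le hQH hKH) hz)) h).mp hh)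
      (Subgroup.inf_eq_bot_of_coprime hcopQK) hsolv hcopQK
    have hCQK : sigmaCore H ⊓ Subgroup.centralizer ((Q ⊔ K : Subgroup G) : Set G) = ⊥ := by
      rw [eq_bot_iff, ← hCK]
      exact inf_le_inf_left _ (Subgroup.centralizer_le (by exact_mod_cast (le_sup_right : K ≤ Q ⊔ K)))
    rw [hCQK, hCK, Subgroup.card_bot, one_pow, one_mul, one_mul] at h45
    have hσC : sigmaCore H ≤ Subgroup.centralizer (Q : Set G) := by
      have h1 : sigmaCore H ⊓ Subgroup.centralizer (Q : Set G) = sigmaCore H :=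
        Subgroup.eq_of_le_of_card_ge inf_le_left (le_of_eq h45)
      rw [← h1]
      exact inf_le_right
    have hQH' : Q ≤ ⁅H, H⁆ :=
      le_commutator_of_regular (hKH hxK) hQH (hQK x hxK)
        (fun u hu => hregU x hxK hx1 u (hQ.le hu))
    have hFC : F ≤ Subgroup.centralizer (Q : Set G) := by
      rw [h39]
      refine sup_le ((fittingOf_le _).trans hσC) ?_
      rw [Subgroup.le_centralizer_iff]
      exact hQH'.trans hH'Y
    have h1 := inf_centralizer_fittingOf_le H hHsolv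
    rw [← hFdef] at h1
    exact (le_inf hQH (Subgroup.le_centralizer_iff.mp hFC)).trans h1
  -- `K` meets `F(H)` trivially
  have hKF : K ⊓ F = ⊥ := by
    by_contra hne
    have hKleF : K ≤ F := by
      have h1 : Nat.card ↥(K ⊓ F) ∣ Nat.card K := Subgroup.card_dvd_of_le inf_le_left
      rcases (Nat.dvd_prime hKp).mp h1 with h2 | h2
      · exact absurd (Subgroup.card_eq_one.mp h2) hne
      · have h3 : K ⊓ F = K := Subgroup.eq_of_le_of_card_ge inf_le_left (le_of_eq h2.symm)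
        rw [← h3]
        exact inf_le_right
    obtain ⟨u, huU, hu1⟩ : ∃ u ∈ U, u ≠ 1 := by
      by_contra hcon
      push Not at hcon
      exact hU1 ((Subgroup.eq_bot_iff_forall U).mpr hcon)
    have hxu : (orderOf x).Coprime (orderOf u) := by
      have h1 : orderOf x ∣ Nat.card K := by
        have := orderOf_dvd_natCard (⟨x, hxK⟩ : K)
        rwa [Subgroup.orderOf_mk] at this
      have h2 : orderOf u ∣ Nat.card U := by
        have := orderOf_dvd_natCard (⟨u, huU⟩ : U)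
        rwa [Subgroup.orderOf_mk] at this
      exact Nat.Coprime.coprime_dvd_left h1 (Nat.Coprime.coprime_dvd_right h2 hcop)
    have h3 := Cfsg.Agent.Lib.Helper1.BGFcons.commute_of_coprime_of_nilpotent hFnil (hKleF hxK)
      (hUF huU) hxu
    exact hu1 (hregU x hxK hx1 u huU h3)
  -- `F(H) ∩ M = U`
  have hFM : F ⊓ M ≤ U := by
    rintro f ⟨hfF, hfM⟩
    have h1 : f ∈ U ⊔ K := hMH ⟨hfM, hFH hfF⟩
    obtain ⟨u, hu, κ, hκ, rfl⟩ := exists_mul_of_mem_sup_of_le_normalizer hKnU h1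
    have h2 : κ ∈ F := by
      have : κ = u⁻¹ * (u * κ) := by group
      rw [this]
      exact F.mul_mem (F.inv_mem (hUF hu)) hfF
    have h3 : κ ∈ K ⊓ F := ⟨hκ, h2⟩
    rw [hKF] at h3
    rw [Subgroup.mem_bot.mp h3, mul_one]
    exact hu
  by_cases hUF' : U = F
  · have h1 : H ≤ M := by
      rw [← hUF'] at hHnF
      exact hHnF.trans hNM
    rcases hH.le_iff.mp h1 with h2 | h2
    · exact hM.1 h2
    · exact hHM h2.symm
  · obtain ⟨n, hnF, hnN, hnU⟩ := exists_mem_normalizer_not_mem hFnil hUF hUF'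
    exact hnU (hFM ⟨hnF, hNM hnN⟩)

end Cfsg.Agent.Lib.Helper7.BG148
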