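import Mathlib
import Cfsg.Prelude.Def_OddOrderLocal
import Cfsg.Agent.S1417
import Cfsg.Agent.Lib.Helper7.BG148A
import Cfsg.Agent.Lib.Helper7.BG13B
import Cfsg.Agent.Lib.Helper1.BGSigmaDecomp
import Cfsg.Agent.Lib.Helper3.BG14D
import Cfsg.Agent.Lib.Helper11.BGFourteenA

/-!
# Helper7: B&G Corollary 14.8 -- steps 1, 2 and 7

`M = K U M_σ` a standard factorisation with `U` abelian, `R ≠ 1` a Sylow `r`-subgroup of `U`,
`H` a maximal subgroup containing `N_G(R)`.  Then `UK ≤ H`, `H` is not conjugate to `M`,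
`M_σ ∩ H = 1` and `M ∩ H = UK`.
-/

set_option autoImplicit false
open Cfsg

namespace Cfsg.Agent.Lib.Helper7.BG148

open scoped commutatorElement
open Cfsg.Agent.Lib.Helper10.BG Cfsg.Agent.Lib.Helper10 Cfsg.Agent.Lib.Helper9.BGExc
open Cfsg.Agent.Lib.Helper1.BGSigmaDecomp

variable {G : Type*} [Group G] [Finite G]

/-- a Sylow `r`-subgroup of `U` is a Sylow `r`-subgroup of `M`. -/
theorem isSylowIn_of_U (hG : IsMinSimpleOddOrder G) {M K U : Subgroup G} (hM : IsCoatom M)
    (hKU : IsSigmaDecomposition M K U) {r : ℕ} [Fact r.Prime] {R : Subgroup G}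
    (hR : IsSylowIn r R U) (hrU : r ∣ Nat.card U) : IsSylowIn r R M := by
  have hr : r.Prime := Fact.out
  have hUM : U ≤ M := hKU.compl.1
  apply hR.of_not_dvd_relIndex hUM
  have h1 := Cfsg.Agent.Lib.Helper12.card_mul_relIndex_eq hUM
  have h3 : U.relIndex M = Nat.card K * Nat.card (sigmaCore M) := by
    have : Nat.card U * U.relIndex M = Nat.card U * (Nat.card K * Nat.card (sigmaCore M)) := by
      rw [h1, card_eq hG hM hKU]; ring
    exact Nat.eq_of_mul_eq_mul_left Nat.card_pos this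
  rw [h3]
  intro hd
  rcases (Nat.Prime.dvd_mul hr).mp hd with h | h
  · have := Cfsg.Agent.Lib.Helper3.BG14.coprime_card_U_K hG hM hKU
    exact hr.one_lt.ne' (Nat.eq_one_of_dvd_coprimes this hrU h)
  · exact not_mem_sigma_of_dvd_card_U hG hM hKU hr hrU (mem_sigma_of_dvd_card_sigmaCore hG hM hr h)

/-- if the normalizer of a Sylow `r`-subgroup of `M` lies in `M` then `r ∈ σ(M)`. -/
theorem mem_sigma_of_isSylowIn {M R : Subgroup G} {r : ℕ} [Fact r.Prime] (hR : IsSylowIn r R M)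
    (hrM : r ∣ Nat.card M) (hN : Subgroup.normalizer (R : Set G) ≤ M) : r ∈ sigma M := by
  refine ⟨Fact.out, hrM, hR.toSylow, ?_⟩
  have h1 : ((hR.toSylow : Sylow r ↥M) : Subgroup M).map M.subtype = R := by
    rw [hR.coe_toSylow, Subgroup.subgroupOf_map_subtype]
    exact inf_eq_left.mpr hR.le
  rw [h1]
  exact hN

/-- **steps 1, 2, 7.** -/
theorem steps_127 (hG : IsMinSimpleOddOrder G) {M K U : Subgroup G} (hM : IsCoatom M)
    (hKU : IsSigmaDecomposition M K U) (hUab : ∀ a ∈ U, ∀ b ∈ U, a * b = b * a)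
    {r : ℕ} [Fact r.Prime] {R : Subgroup G} (hR : IsSylowIn r R U) (hR1 : R ≠ ⊥)
    {H : Subgroup G} (hH : IsCoatom H) (hNR : Subgroup.normalizer (R : Set G) ≤ H) :
    U ≤ H ∧ K ≤ H ∧ H ≠ M ∧ (∀ g : G, M.map (MulAut.conj g).toMonoidHom ≠ H) ∧
      M ⊓ H ≤ U ⊔ K := by
  have hr : r.Prime := Fact.out
  have hUM : U ≤ M := hKU.compl.1
  have hKM : K ≤ M := hKU.hall.1
  have hrU : r ∣ Nat.card U := by
    obtain ⟨a, ha⟩ := hR.isPGroup.exists_card_eq
    have ha0 : a ≠ 0 := by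
      rintro rfl
      rw [pow_zero] at ha
      exact hR1 (Subgroup.card_eq_one.mp ha)
    have h1 : r ∣ Nat.card R := by rw [ha]; exact dvd_pow_self r ha0
    exact h1.trans (Subgroup.card_dvd_of_le hR.le)
  have hrM : r ∣ Nat.card M := hrU.trans (Subgroup.card_dvd_of_le hUM)
  have hrσ : r ∉ sigma M := not_mem_sigma_of_dvd_card_U hG hM hKU hr hrU
  have hrκ : r ∉ kappa M := not_mem_kappa_of_dvd_card_U hG hM hKU hr hrU
  have hRM : IsSylowIn r R M := isSylowIn_of_U hG hM hKU hR hrU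
  -- step 1
  have hUN : U ≤ Subgroup.normalizer (R : Set G) := by
    apply Cfsg.Agent.Lib.Helper1.le_normalizer_of_forall_conj_mem
    intro u hu n hn
    have : u * n * u⁻¹ = n := by
      rw [hUab u hu n (hR.le hn)]; group
    rw [this]; exact hn
  have hKN : K ≤ Subgroup.normalizer (R : Set G) :=
    Cfsg.Agent.Lib.Helper1.le_normalizer_of_forall_conj_mem
      (fun e he => conj_mem_sylow_of_abelian hUab hR (hKU.normal he))
  have hUH : U ≤ H := hUN.trans hNR
  have hKH : K ≤ H := hKN.trans hNR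
  have hHM : H ≠ M := by
    rintro rfl
    exact hrσ (mem_sigma_of_isSylowIn hRM hrM hNR)
  -- step 2
  have hnc : ∀ g : G, M.map (MulAut.conj g).toMonoidHom ≠ H := by
    intro g hg
    have hR' : IsSylowIn r (R.map (MulAut.conj g).toMonoidHom) H := hg ▸ hRM.map_conj_gen g
    have hRH : IsSylowIn r R H := by
      apply isSylowIn_of_card_ge (hR.le.trans hUH) hR.isPGroup
      intro Q hQH hQ _
      have := hR'.card_le hQH hQ
      rwa [Subgroup.card_map_of_injective (MulAut.conj g).injective] at this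
    obtain ⟨h, hhH, hh⟩ := hR'.exists_conj hRH
    rw [map_conj_map_conj] at hh
    have h1 : h * g ∈ H := hNR (mem_normalizer_of_map_conj_eq hh.symm)
    have hgH : g ∈ H := by
      have : g = h⁻¹ * (h * g) := by group
      rw [this]
      exact H.mul_mem (H.inv_mem hhH) h1
    have h2 : (M.map (MulAut.conj g).toMonoidHom).map (MulAut.conj g⁻¹).toMonoidHom = M :=
      map_conj_inv_map_conj g M
    rw [hg, map_conj_eq_self_of_mem (H.inv_mem hgH)] at h2
    exact hHM h2
  -- step 7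
  have hσH : sigmaCore M ⊓ H = ⊥ := by
    by_cases hτ2 : r ∈ tau2 M
    · -- `A = E_{r²} ≤ R ≤ H`, S1417(e)
      have h1 : ¬ PRankLE r 1 ↥R := not_pRankLE_sylow_of_not_pRankLE hRM hτ2.2.2.2
      obtain ⟨A, hAR, hAe, hAc⟩ := exists_elementary_sq_of_not_pRankLE_one hR.isPGroup h1
      obtain ⟨-, -, -, -, h17, -⟩ := Cfsg.Agent.S1417.result hG M hM r hτ2 A
        ⟨hAR.trans hRM.le, hAe, hAc⟩
      exact h17 H hH hHM (hAR.trans (hR.le.trans hUH))
    · -- rank one: `R` centralizes `M_σ ∩ H` (Corollary 13.2) but is regular on `M_σ`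
      have hr2 : PRankLE r 2 ↥M :=
        alpha_rank M r hr (fun hα => hrσ (alpha_subset_sigma hG hM hα))
      have hr1 : PRankLE r 1 ↥M := by
        by_contra h
        exact hτ2 ⟨hr, hrσ, hr2, h⟩
      have h13 : r ∈ tau1 M ∨ r ∈ tau3 M := by
        by_cases hd : r ∣ Nat.card ↥⁅M, M⁆
        · exact Or.inr ⟨hr, hrσ, hd, hr1⟩
        · exact Or.inl ⟨hr, hrσ, hrM, hd, hr1⟩
      obtain ⟨-, hcent, -, -⟩ := Cfsg.Agent.Lib.Helper7.BG13.cor_13_2 hG hM hH h13 hR.isPGroup hR1 hNR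
      have hc := hcent R (le_inf hRM.le (hR.le.trans hUH)) hR.isPGroup
      by_contra hne
      obtain ⟨x, hx, hx1⟩ : ∃ x ∈ sigmaCore M ⊓ H, x ≠ 1 := by
        by_contra hcon
        push Not at hcon
        exact hne ((Subgroup.eq_bot_iff_forall _).mpr hcon)
      -- an element of order `r` in `R`
      obtain ⟨y, hy⟩ := exists_prime_orderOf_dvd_card' (G := R) r (by
        obtain ⟨a, ha⟩ := hR.isPGroup.exists_card_eq
        have ha0 : a ≠ 0 := by
          rintro rfl
          rw [pow_zero] at ha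
          exact hR1 (Subgroup.card_eq_one.mp ha)
        rw [ha]; exact dvd_pow_self r ha0)
      have hyr : orderOf (y : G) = r := by rw [Subgroup.orderOf_coe]; exact hy
      have hxy : (y : G) * x = x * y := by
        have h1 : ⁅x, (y : G)⁆ ∈ ⁅sigmaCore M ⊓ H, R⁆ := Subgroup.commutator_mem_commutator hx y.2
        rw [hc, Subgroup.mem_bot, commutatorElement_eq_one_iff_mul_comm] at h1
        exact h1.symm
      rcases Cfsg.Agent.Lib.Helper11.BG14.mem_kappa_or_tau2 hG hM hx.1 hx1 (hRM.le y.2) hyr hrσ hxy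
        with h | h
      · exact hrκ h
      · exact hτ2 h
  refine ⟨hUH, hKH, hHM, hnc, ?_⟩
  -- Dedekind
  rintro m ⟨hmM, hmH⟩
  obtain ⟨-, -, -, hfact⟩ := isComplIn_UK hG hM hKU
  obtain ⟨e, he, s, hs, rfl⟩ := hfact m hmM
  have hsH : s ∈ H := by
    have : s = e⁻¹ * (e * s) := by group
    rw [this]
    exact H.mul_mem (H.inv_mem ((sup_le hUH hKH) he)) hmH
  have h1 : s ∈ sigmaCore M ⊓ H := ⟨hs, hsH⟩
  rw [hσH, Subgroup.mem_bot] at h1
  rw [h1, mul_one]
  exact he

end Cfsg.Agent.Lib.Helper7.BG148
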