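import Mathlib
import Cfsg.Prelude.Def_OddOrderLocal
import Cfsg.Agent.S1353
import Cfsg.Agent.S1354
import Cfsg.Agent.S1366
import Cfsg.Agent.S1367
import Cfsg.Agent.S1368
import Cfsg.Agent.S1369
import Cfsg.Agent.S1372
import Cfsg.Agent.S1378
import Cfsg.Agent.S1430
import Cfsg.Agent.S1431
import Cfsg.Agent.S1432
import Cfsg.Agent.Lib.Helper7.BG148B
import Cfsg.Agent.Lib.Helper3.BG14M
import Cfsg.Agent.Lib.Helper3.BG14E

/-!
# Helper7: B&G Corollary 14.8(d) -- steps 3--5 and the assembly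

`N_G(U) ≰ M` for every maximal subgroup `M = K U M_σ` with `K ≠ 1` and `U ≠ 1`
(the second half of S1363).
-/

set_option autoImplicit false
open Cfsg

namespace Cfsg.Agent.Lib.Helper7.BG148

open scoped commutatorElement
open Cfsg.Agent.Lib.Helper10.BG Cfsg.Agent.Lib.Helper10 Cfsg.Agent.Lib.Helper9.BGExc
open Cfsg.Agent.Lib.Helper1.BGSigmaDecomp

variable {G : Type*} [Group G] [Finite G]

/-- elementwise form of S1353. -/
theorem regular_on_U (hG : IsMinSimpleOddOrder G) {M K U : Subgroup G} (hM : IsCoatom M)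
    (hKU : IsSigmaDecomposition M K U) :
    ∀ x ∈ K, x ≠ 1 → ∀ u ∈ U, x * u = u * x → u = 1 := by
  intro x hx hx1 u hu hxu
  have h := Cfsg.Agent.S1353.result hG M hM K U hKU x hx hx1
  have h1 : u ∈ U ⊓ Subgroup.centralizer ({x} : Set G) :=
    ⟨hu, Subgroup.mem_centralizer_singleton_iff.mpr hxu.symm⟩
  rw [h] at h1
  exact Subgroup.mem_bot.mp h1

/-- a maximal subgroup containing `UK` (with `U ≠ 1`) is not conjugate to `M*`. -/
theorem not_conj_Mstar (hG : IsMinSimpleOddOrder G) {M K U Mstar H : Subgroup G}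
    (hM : IsCoatom M) (hKU : IsSigmaDecomposition M K U) (hK1 : K ≠ ⊥) (hU1 : U ≠ ⊥)
    (hMstar : IsCoatom Mstar)
    (hKst : K = sigmaCore Mstar ⊓
      Subgroup.centralizer ((sigmaCore M ⊓ Subgroup.centralizer (K : Set G)) : Set G))
    (hKstH : IsPiHallOf (kappa Mstar) (sigmaCore M ⊓ Subgroup.centralizer (K : Set G)) Mstar)
    (hUH : U ≤ H) (hKH : K ≤ H) : ∀ g : G, H ≠ Mstar.map (MulAut.conj g).toMonoidHom := by
  intro g hg
  have hKs1 : sigmaCore M ⊓ Subgroup.centralizer (K : Set G) ≠ ⊥ :=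
    (Cfsg.Agent.S1354.result hG M hM K hKU.cyclic hKU.hall).1
  obtain ⟨h31, -, -, -⟩ := Cfsg.Agent.S1431.result hG Mstar hMstar _ hKstH hKs1
  have hKst' : K = sigmaCore Mstar ⊓ Subgroup.centralizer
      (((sigmaCore M ⊓ Subgroup.centralizer (K : Set G) : Subgroup G)) : Set G) := hKst
  rw [← hKst'] at h31
  have hgM : g ∈ Mstar := by
    by_contra hgn
    have h1 := h31 g hgn
    rw [← hg, inf_eq_left.mpr hKH] at h1
    exact hK1 h1
  rw [map_conj_eq_self_of_mem hgM] at hg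
  obtain ⟨h68, h68c⟩ := Cfsg.Agent.S1368.result hG M hM K U hKU hK1 Mstar hMstar hKst hKstH
  have hUle : U ≤ K ⊔ (sigmaCore M ⊓ Subgroup.centralizer (K : Set G)) := by
    rw [← h68, ← hg]
    exact le_inf hKU.compl.1 hUH
  obtain ⟨x, hxK, hx1⟩ : ∃ x ∈ K, x ≠ 1 := by
    by_contra hcon
    push Not at hcon
    exact hK1 ((Subgroup.eq_bot_iff_forall K).mpr hcon)
  obtain ⟨u, huU, hu1⟩ : ∃ u ∈ U, u ≠ 1 := by
    by_contra hcon
    push Not at hcon
    exact hU1 ((Subgroup.eq_bot_iff_forall U).mpr hcon)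
  have hcomm : x * u = u * x := by
    have := h68c
    have hc : IsMulCommutative ↥(K ⊔ (sigmaCore M ⊓ Subgroup.centralizer (K : Set G))) :=
      IsCyclic.isMulCommutative
    exact congrArg Subtype.val (mul_comm'
      (⟨x, (le_sup_left : K ≤ K ⊔ (sigmaCore M ⊓ Subgroup.centralizer (K : Set G))) hxK⟩ :
        ↥(K ⊔ (sigmaCore M ⊓ Subgroup.centralizer (K : Set G)))) ⟨u, hUle huU⟩)
  exact hu1 (regular_on_U hG hM hKU x hxK hx1 u huU hcomm)

/-- **steps 3--5.** -/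
theorem steps_35 (hG : IsMinSimpleOddOrder G) {M K U H : Subgroup G} (hM : IsCoatom M)
    (hKU : IsSigmaDecomposition M K U) (hK1 : K ≠ ⊥) (hU1 : U ≠ ⊥) (hH : IsCoatom H)
    (hUH : U ≤ H) (hKH : K ≤ H) (hnc : ∀ g : G, M.map (MulAut.conj g).toMonoidHom ≠ H) :
    Nat.card K ∉ sigma H ∧ kappa H = ∅ ∧
      (∀ x ∈ K, x ≠ 1 → ∀ y ∈ sigmaCore H, x * y = y * x → y = 1) ∧
      Group.IsNilpotent ↥(sigmaCore H) := by
  obtain ⟨Mstar, ⟨hMstar, hKst, hKstH⟩, -⟩ := Cfsg.Agent.S1366.result hG M hM K U hKU hK1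
  have hKp : (Nat.card K).Prime := (Cfsg.Agent.S1372.result hG M hM K U hKU hK1 hU1).1
  have hncs := not_conj_Mstar hG hM hKU hK1 hU1 hMstar hKst hKstH hUH hKH
  -- step 3
  have hkσ : Nat.card K ∉ sigma H := by
    intro hkσ
    have hKle : K ≤ sigmaCore Mstar := by
      rw [hKst]; exact inf_le_left
    have hkM : Nat.card K ∈ sigma Mstar :=
      mem_sigma_of_dvd_card_sigmaCore hG hMstar hKp (Subgroup.card_dvd_of_le hKle)
    obtain ⟨g, hg⟩ := (Cfsg.Agent.S1378.result hG).2 Mstar H hMstar hH ⟨_, hkM, hkσ⟩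
    exact hncs g hg
  -- step 4
  have hκ : kappa H = ∅ := by
    by_contra hne
    obtain ⟨g, hg | hg⟩ :=
      (Cfsg.Agent.S1369.result hG M hM K U hKU hK1 Mstar hMstar hKst hKstH).2 H hH
        (Set.nonempty_iff_ne_empty.mpr hne)
    · exact hnc g hg.symm
    · exact hncs g hg
  -- step 5
  have hreg : ∀ x ∈ K, x ≠ 1 → ∀ y ∈ sigmaCore H, x * y = y * x → y = 1 := by
    intro x hxK hx1 y hy hxy
    by_contra hy1
    have hox : orderOf x = Nat.card K := by
      have h1 : orderOf x ∣ Nat.card K := by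
        have := orderOf_dvd_natCard (⟨x, hxK⟩ : K)
        rwa [Subgroup.orderOf_mk] at this
      rcases (Nat.dvd_prime hKp).mp h1 with h | h
      · exact absurd (orderOf_eq_one_iff.mp h) hx1
      · exact h
    have hσ : ∀ p : ℕ, p.Prime → p ∣ orderOf x → p ∉ sigma H := by
      intro p hp hd
      rw [hox] at hd
      rw [(Nat.prime_dvd_prime_iff_eq hp hKp).mp hd]
      exact hkσ
    rcases Cfsg.Agent.S1432.result hG H hH y hy hy1 x
      ⟨hKH hxK, Subgroup.mem_centralizer_singleton_iff.mpr hxy⟩ hx1 hσ with h | h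
    · have h1 := h.1 (Nat.card K) hKp (by rw [hox])
      rw [hκ] at h1
      exact h1
    · obtain ⟨-, -, hle, -⟩ := h
      obtain ⟨-, h67⟩ := Cfsg.Agent.S1367.result hG M hM K U hKU hK1 Mstar hMstar hKst hKstH
      have h2 := (h67 K le_rfl hKp).2 H hH
        ((Subgroup.centralizer_le (by
          intro z hz
          rw [Set.mem_singleton_iff] at hz
          rw [hz]; exact hxK)).trans hle)
      apply hncs 1
      rw [h2]
      exact (map_conj_eq_self_of_mem (Mstar.one_mem)).symm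
  refine ⟨hkσ, hκ, hreg, ?_⟩
  have hle : sigmaCore H ⊔ K ≤ H := sup_le (sigmaCore_le H) hKH
  have hne : sigmaCore H ⊔ K ≠ ⊤ := fun h => hH.1 (top_le_iff.mp (h ▸ hle))
  apply Cfsg.Agent.Lib.Helper3.BG14.isNilpotent_of_regular (R := K)
    (hKH.trans (le_normalizer_sigmaCore H)) (isSolvable_of_ne_top hG hne)
    (Odd.of_dvd_nat hG.1 (Subgroup.card_subgroup_dvd_card _))
  · apply Nat.Coprime.symm
    rw [Nat.Prime.coprime_iff_not_dvd hKp]
    exact fun hd => hkσ (mem_sigma_of_dvd_card_sigmaCore hG hH hKp hd)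
  · exact hK1
  · intro x hx hx1
    rw [eq_bot_iff]
    rintro y ⟨hy, hyc⟩
    exact Subgroup.mem_bot.mpr
      (hreg x hx hx1 y hy (Subgroup.mem_centralizer_singleton_iff.mp hyc).symm)

/-- **B&G Corollary 14.8(d) / second half of S1363**: `N_G(U) ≰ M` when `K ≠ 1`, `U ≠ 1`.
More precisely there is a maximal subgroup `H` with `H ∩ N_G(U) ≰ M`. -/
theorem normalizer_U_not_le (hG : IsMinSimpleOddOrder G) {M K U : Subgroup G} (hM : IsCoatom M)
    (hKU : IsSigmaDecomposition M K U) (hK1 : K ≠ ⊥) (hU1 : U ≠ ⊥) :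
    ¬ Subgroup.normalizer (U : Set G) ≤ M := by
  have h30 : Cfsg.Agent.Lib.Helper3.BGStubs.P1430 G :=
    fun M hM K hK hK1 => Cfsg.Agent.S1430.result hG M hM K hK hK1
  have hUc : IsMulCommutative U := Cfsg.Agent.Lib.Helper3.BG14.s1363a_of hG h30 M hM K U hKU hK1
  have hUab : ∀ a ∈ U, ∀ b ∈ U, a * b = b * a := fun a ha b hb =>
    congrArg Subtype.val (mul_comm' (⟨a, ha⟩ : U) ⟨b, hb⟩)
  obtain ⟨r, hr, hrd⟩ := Nat.exists_prime_and_dvd
    (fun h : Nat.card U = 1 => hU1 (Subgroup.card_eq_one.mp h))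
  have : Fact r.Prime := ⟨hr⟩
  obtain ⟨R, hR⟩ := exists_isSylowIn r U
  have hR1 : R ≠ ⊥ := hR.ne_bot_of_dvd hrd
  have hRtop : R ≠ ⊤ := Cfsg.Agent.Lib.Lead.BGTrans.pgroup_ne_top hG.2 hR.isPGroup
  obtain ⟨H, hH, hNH⟩ := exists_isCoatom_ge
    (Cfsg.Agent.Lib.Lead.BGTrans.normalizer_ne_top hG.2 hR1 hRtop)
  obtain ⟨hUH, hKH, hHM, hnc, hMH⟩ := steps_127 hG hM hKU hUab hR hR1 hH hNH
  obtain ⟨hkσ, -, hregH, hnil⟩ := steps_35 hG hM hKU hK1 hU1 hH hUH hKH hnc
  have hKp : (Nat.card K).Prime := (Cfsg.Agent.S1372.result hG M hM K U hKU hK1 hU1).1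
  exact normalizer_not_le_of_steps hG hM hH hHM hUH hKH hKp hUab hKU.normal
    (Cfsg.Agent.Lib.Helper3.BG14.coprime_card_U_K hG hM hKU).symm
    (regular_on_U hG hM hKU) hkσ hregH hnil hMH hU1

end Cfsg.Agent.Lib.Helper7.BG148
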