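import Cfsg.Agent.H5.StemTC
import Cfsg.Agent.Lib.Helper1.WeakL3

/-!
# S2088 (Schur multiplier of `PSL₃(4)`): relator data (generated; helper7)

`p = 2`: generators `y v s t` (letters `0..7`) of orders `7 3 3 3`; `⟨y, v, s⟩ ≅ L₃(2)`; all relators are power
relators or conjugation relators `u g_i u⁻¹ = g_j ^ l` (`conjRel`), which hold EXACTLY for the canonical lifts in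
a stem extension with `2`-group kernel.  `p = 3`: generators `i j t'` (letters `0..5`) of orders `4 4 2` of the
Sylow-3 normaliser `3² : Q₈`.
-/

set_option autoImplicit false

namespace Cfsg.Agent.Lib.Helper7.L34

open Cfsg.H5.TCk Cfsg.Agent.Lib.Helper10.Weak

/-- conjugation data `(u, i, j, l)`: the relator `u g_i u⁻¹ = g_j ^ l` -/
abbrev CR := List ℕ × ℕ × ℕ × ℕ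

/-- the relator of a conjugation datum -/
def crel (c : CR) : List ℕ := conjRel c.1 c.2.1 c.2.2.1 c.2.2.2

/-- `p = 2`: conjugation data inside `⟨y, v, s⟩` -/
def crL : List CR := [
  ([2], 0, 0, 2), ([2, 2, 5], 1, 2, 2), ([0, 0, 2, 1], 1, 1, 1), ([0, 2, 4, 1], 1, 2, 1), 
  ([0, 3, 1, 1], 1, 1, 1), ([0, 4, 0, 2], 2, 1, 1), ([0, 5, 3, 1], 2, 1, 1), ([1, 1, 1, 4], 1, 2, 1), 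
  ([1, 1, 2, 0], 1, 1, 1), ([1, 3, 0, 0], 1, 1, 1), ([1, 5, 0, 0], 1, 2, 1), ([3, 0, 2, 4], 1, 2, 1), 
  ([5, 0, 0, 0], 2, 1, 1), ([5, 0, 0, 5], 0, 0, 1), ([1, 5, 5, 1], 2, 2, 2), ([2, 4, 3, 4], 1, 2, 2), 
  ([0, 0, 0, 0, 4], 1, 2, 1), ([0, 0, 5, 1, 4], 1, 2, 1), ([0, 4, 1, 4, 0], 1, 2, 1), 
  ([2, 2, 0, 2, 4], 1, 2, 1), ([3, 1, 1, 1, 2], 0, 0, 1), ([1, 5, 1, 4, 0], 1, 2, 2)]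

set_option maxRecDepth 100000 in
/-- `p = 2`: the other conjugation data -/
def crT : List CR := [
  ([3], 0, 0, 4), ([3, 3], 0, 0, 2), ([3, 5], 1, 2, 2), ([4, 2], 2, 1, 2), ([2, 0, 3], 0, 0, 1), 
  ([2, 1, 3], 0, 0, 1), ([3, 0, 2], 0, 0, 1), ([3, 1, 2], 0, 0, 1), ([0, 5, 0], 2, 2, 2), 
  ([1, 4, 1], 2, 2, 2), ([2, 2], 0, 0, 4), ([3, 0, 3], 0, 0, 2), ([3, 1, 3], 0, 0, 2), 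
  ([3, 4, 4], 1, 2, 2), ([4, 3, 3], 2, 1, 2), ([5, 5, 2], 2, 1, 2), ([0, 6, 4, 7], 2, 3, 1), 
  ([1, 1, 4, 0], 2, 1, 1), ([1, 3, 4, 0], 2, 1, 1), ([1, 4, 0, 3], 2, 1, 1), ([1, 5, 2, 0], 1, 2, 1), 
  ([2, 0, 0, 3], 0, 0, 1), ([2, 0, 2, 2], 0, 0, 1), ([2, 1, 1, 3], 0, 0, 1), ([2, 1, 2, 2], 0, 0, 1), 
  ([2, 1, 5, 0], 1, 2, 1), ([2, 2, 0, 2], 0, 0, 1), ([2, 2, 1, 2], 0, 0, 1), ([2, 5, 1, 5], 1, 2, 1), 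
  ([3, 0, 0, 2], 0, 0, 1), ([3, 1, 1, 2], 0, 0, 1), ([3, 1, 3, 3], 0, 0, 1), ([3, 1, 5, 1], 1, 2, 1), 
  ([3, 3, 0, 3], 0, 0, 1), ([3, 3, 1, 3], 0, 0, 1), ([4, 0, 4, 3], 2, 1, 1), ([4, 1, 1, 4], 0, 0, 1), 
  ([5, 3, 1, 2], 2, 1, 1), ([6, 5, 7, 1], 3, 2, 1), ([0, 2, 4, 0], 1, 1, 2), ([0, 4, 0, 0], 1, 2, 2), 
  ([0, 4, 0, 5], 1, 1, 2), ([0, 4, 2, 0], 1, 2, 2), ([0, 4, 4, 0], 2, 2, 2), ([0, 7, 2, 6], 2, 1, 2), 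
  ([1, 1, 5, 1], 2, 1, 2), ([1, 3, 5, 1], 2, 1, 2), ([1, 5, 3, 1], 1, 1, 2), ([1, 6, 5, 7], 1, 2, 2), 
  ([2, 0, 2], 0, 0, 4), ([2, 1, 2], 0, 0, 4), ([2, 2, 0, 3], 0, 0, 2), ([2, 2, 2, 2], 0, 0, 2), 
  ([2, 2, 4, 4], 1, 2, 2), ([2, 4, 4, 4], 0, 0, 2), ([2, 5, 1, 2], 2, 2, 2), ([2, 5, 2, 4], 1, 2, 2), 
  ([2, 5, 5, 5], 0, 0, 2), ([2, 6, 6, 6], 0, 0, 2), ([2, 7, 7, 7], 0, 0, 2), ([3, 0, 0, 3], 0, 0, 2), 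
  ([3, 0, 2, 2], 0, 0, 2), ([3, 0, 4, 3], 2, 2, 2), ([3, 1, 1, 3], 0, 0, 2), ([3, 1, 2, 2], 0, 0, 2), 
  ([4, 0, 2, 4], 1, 1, 2), ([4, 1, 5, 1], 1, 1, 2), ([4, 3, 0, 5], 0, 0, 2), ([4, 3, 1, 4], 0, 0, 2), 
  ([4, 4, 4, 2], 0, 0, 2), ([5, 1, 3, 5], 0, 0, 2), ([5, 2, 5, 3], 2, 1, 2), ([5, 3, 1, 5], 1, 1, 2), 
  ([5, 3, 4, 3], 2, 1, 2), ([5, 5, 5, 2], 0, 0, 2), ([6, 4, 7, 0], 2, 1, 2), ([6, 6, 6, 2], 0, 0, 2), 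
  ([7, 3, 6, 1], 1, 2, 2), ([7, 7, 7, 2], 0, 0, 2), ([0, 0, 0, 3, 0], 1, 1, 1), 
  ([0, 0, 3, 3, 1], 1, 1, 1), ([0, 0, 5, 0, 0], 2, 2, 1), ([0, 2, 0, 0, 0], 1, 1, 1), 
  ([0, 2, 0, 2, 0], 1, 1, 1), ([0, 2, 0, 4, 0], 2, 1, 1), ([0, 2, 2, 1, 1], 1, 1, 1), 
  ([0, 2, 5, 0, 2], 2, 2, 1), ([0, 2, 5, 5, 1], 1, 2, 1), ([0, 2, 7, 3, 0], 2, 2, 1), 
  ([0, 3, 0, 3, 0], 1, 1, 1), ([0, 3, 1, 2, 4], 1, 2, 1), ([0, 3, 3, 4, 1], 1, 2, 1), 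
  ([0, 4, 0, 3, 3], 2, 1, 1), ([0, 4, 1, 2, 0], 2, 1, 1), ([0, 4, 2, 0, 4], 1, 1, 1), 
  ([0, 4, 4, 3, 1], 2, 1, 1), ([0, 5, 0, 3, 5], 1, 2, 1), ([0, 5, 1, 3, 0], 2, 1, 1), 
  ([0, 5, 2, 2, 1], 2, 1, 1), ([0, 5, 5, 0, 2], 2, 1, 1), ([0, 5, 6, 0, 5], 3, 3, 1), 
  ([0, 5, 6, 5, 7], 1, 2, 1), ([0, 5, 7, 3, 0], 2, 1, 1), ([0, 6, 4, 6, 6], 2, 3, 1), 
  ([0, 6, 5, 5, 7], 2, 3, 1), ([0, 7, 0, 7, 0], 3, 3, 1), ([0, 7, 4, 2, 7], 1, 1, 1), 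
  ([0, 7, 7, 4, 7], 2, 3, 1), ([1, 1, 1, 3, 1], 1, 1, 1), ([1, 1, 1, 5, 5], 1, 2, 1), 
  ([1, 1, 2, 5, 0], 1, 2, 1), ([1, 1, 3, 3, 0], 1, 1, 1), ([1, 1, 4, 1, 1], 2, 2, 1), 
  ([1, 1, 5, 5, 0], 2, 1, 1), ([1, 2, 0, 4, 1], 1, 2, 1), ([1, 2, 1, 1, 1], 1, 1, 1), 
  ([1, 2, 1, 2, 1], 1, 1, 1), ([1, 2, 1, 3, 4], 1, 2, 1), ([1, 2, 2, 0, 0], 1, 1, 1), 
  ([1, 2, 2, 4, 0], 2, 1, 1), ([1, 2, 6, 3, 1], 2, 2, 1), ([1, 2, 6, 4, 1], 1, 2, 1), 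
  ([1, 3, 0, 5, 1], 1, 2, 1), ([1, 3, 5, 1, 3], 2, 2, 1), ([1, 3, 5, 5, 0], 2, 1, 1), 
  ([1, 4, 0, 2, 2], 2, 1, 1), ([1, 4, 1, 3, 5], 1, 2, 1), ([1, 4, 3, 0, 0], 2, 1, 1), 
  ([1, 4, 3, 1, 4], 1, 1, 1), ([1, 4, 4, 0, 0], 1, 2, 1), ([1, 4, 4, 2, 0], 1, 2, 1), 
  ([1, 5, 0, 5, 1], 2, 1, 1), ([1, 5, 1, 3, 1], 1, 2, 1), ([1, 5, 3, 3, 0], 1, 2, 1), 
  ([1, 5, 5, 0, 3], 2, 1, 1), ([1, 6, 1, 6, 1], 3, 3, 1), ([1, 7, 3, 7, 4], 3, 2, 1), 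
  ([1, 7, 4, 1, 7], 2, 2, 1), ([2, 0, 0, 0, 3], 0, 0, 1), ([2, 0, 0, 2, 2], 0, 0, 1), 
  ([2, 0, 0, 3, 4], 1, 2, 1), ([2, 0, 2, 0, 2], 0, 0, 1), ([2, 0, 2, 1, 2], 0, 0, 1), 
  ([2, 0, 4, 2, 0], 2, 2, 1), ([2, 1, 1, 1, 3], 0, 0, 1), ([2, 1, 2, 0, 2], 0, 0, 1), 
  ([2, 1, 4, 4, 0], 1, 2, 1), ([2, 2, 0, 0, 2], 0, 0, 1), ([2, 2, 1, 1, 2], 0, 0, 1), 
  ([2, 2, 1, 5, 1], 1, 2, 1), ([2, 4, 1, 2, 5], 0, 0, 1), ([2, 4, 2, 0, 4], 0, 0, 1), 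
  ([2, 4, 2, 1, 5], 1, 2, 1), ([2, 4, 2, 4, 3], 2, 2, 1), ([2, 4, 3, 5, 2], 2, 2, 1), 
  ([2, 4, 4, 1, 5], 1, 2, 1), ([2, 5, 0, 2, 5], 0, 0, 1), ([2, 5, 1, 4, 4], 1, 2, 1), 
  ([2, 5, 2, 5, 2], 2, 2, 1), ([2, 5, 3, 5, 3], 2, 2, 1), ([2, 6, 3, 4, 2], 3, 2, 1), 
  ([2, 6, 4, 2, 4], 3, 2, 1), ([2, 7, 3, 5, 2], 3, 2, 1), ([2, 7, 5, 3, 5], 3, 2, 1), 
  ([3, 0, 0, 3, 3], 0, 0, 1), ([3, 0, 2, 5, 5], 1, 2, 1), ([3, 0, 3, 3, 4], 1, 2, 1), 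
  ([3, 0, 4, 2, 5], 1, 2, 1), ([3, 0, 5, 3, 4], 1, 2, 1), ([3, 1, 2, 0, 4], 1, 2, 1), 
  ([3, 1, 3, 0, 3], 0, 0, 1), ([3, 1, 4, 3, 1], 2, 2, 1), ([3, 1, 4, 4, 1], 1, 2, 1), 
  ([3, 3, 0, 0, 3], 0, 0, 1), ([3, 3, 0, 2, 2], 0, 0, 1), ([3, 3, 1, 5, 0], 1, 2, 1), 
  ([3, 4, 2, 5, 3], 2, 2, 1), ([3, 4, 2, 6, 3], 2, 3, 1), ([3, 4, 3, 0, 5], 0, 0, 1), 
  ([3, 4, 3, 1, 4], 0, 0, 1), ([3, 4, 3, 1, 5], 1, 2, 1), ([3, 4, 3, 4, 3], 2, 2, 1), 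
  ([3, 5, 1, 3, 5], 0, 0, 1), ([3, 5, 2, 4, 2], 2, 2, 1), ([3, 5, 2, 7, 3], 2, 3, 1), 
  ([3, 5, 3, 4, 2], 2, 2, 1), ([4, 0, 2, 5, 2], 2, 1, 1), ([4, 0, 3, 5, 3], 2, 1, 1), 
  ([4, 0, 4, 2, 2], 2, 1, 1), ([4, 0, 5, 5, 3], 2, 1, 1), ([4, 1, 1, 5, 5], 0, 0, 1), 
  ([4, 1, 2, 5, 2], 0, 0, 1), ([4, 1, 4, 3, 4], 0, 0, 1), ([4, 1, 7, 4, 1], 3, 3, 1), 
  ([4, 2, 0, 4, 2], 0, 0, 1), ([4, 2, 0, 5, 0], 2, 1, 1), ([4, 2, 1, 3, 4], 0, 0, 1), 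
  ([4, 2, 1, 4, 1], 2, 1, 1), ([4, 2, 4, 3, 5], 1, 1, 1), ([4, 2, 4, 6, 3], 2, 3, 1), 
  ([4, 2, 5, 0, 4], 0, 0, 1), ([4, 3, 0, 5, 3], 0, 0, 1), ([4, 3, 5, 1, 2], 2, 1, 1), 
  ([4, 3, 5, 2, 4], 1, 1, 1), ([4, 4, 0, 0, 0], 2, 1, 1), ([4, 4, 0, 0, 5], 0, 0, 1), 
  ([4, 4, 3, 1, 2], 2, 1, 1), ([5, 0, 0, 4, 4], 0, 0, 1), ([5, 0, 2, 0, 3], 2, 1, 1), 
  ([5, 0, 2, 5, 0], 1, 1, 1), ([5, 0, 2, 5, 2], 0, 0, 1), ([5, 0, 4, 1, 1], 2, 1, 1), 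
  ([5, 0, 4, 3, 4], 0, 0, 1), ([5, 1, 1, 1, 1], 2, 1, 1), ([5, 1, 3, 0, 2], 2, 1, 1), 
  ([5, 1, 3, 5, 1], 1, 1, 1), ([5, 1, 3, 5, 3], 0, 0, 1), ([5, 1, 4, 3, 5], 0, 0, 1), 
  ([5, 2, 0, 3, 0], 2, 1, 1), ([5, 2, 0, 3, 5], 0, 0, 1), ([5, 2, 1, 1, 3], 2, 1, 1), 
  ([5, 2, 2, 1, 2], 2, 1, 1), ([5, 2, 4, 1, 2], 2, 1, 1), ([5, 2, 4, 2, 4], 1, 1, 1), 
  ([5, 2, 5, 0, 5], 0, 0, 1), ([5, 2, 5, 1, 4], 0, 0, 1), ([5, 2, 5, 2, 5], 1, 1, 1), 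
  ([5, 3, 0, 2, 1], 2, 1, 1), ([5, 3, 1, 3, 3], 2, 1, 1), ([5, 3, 4, 2, 5], 1, 1, 1), 
  ([5, 3, 5, 3, 4], 1, 1, 1), ([5, 3, 5, 7, 3], 2, 3, 1), ([5, 5, 0, 4, 3], 2, 1, 1), 
  ([5, 5, 1, 1, 4], 0, 0, 1), ([5, 6, 0, 5, 6], 0, 0, 1), ([5, 6, 2, 6, 0], 2, 3, 1), 
  ([6, 0, 5, 6, 0], 2, 2, 1), ([6, 1, 6, 1, 6], 0, 0, 1), ([6, 3, 5, 6, 1], 1, 1, 1), 
  ([6, 4, 0, 5, 6], 2, 1, 1), ([6, 4, 4, 7, 1], 3, 2, 1), ([6, 4, 7, 4, 1], 2, 1, 1), 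
  ([6, 5, 6, 6, 1], 3, 2, 1), ([7, 0, 7, 0, 7], 0, 0, 1), ([7, 4, 1, 5, 7], 1, 2, 1), 
  ([7, 4, 1, 7, 4], 0, 0, 1), ([7, 7, 5, 7, 1], 3, 2, 1), ([0, 0, 3, 4, 0], 1, 1, 2), 
  ([0, 0, 4, 1, 3], 2, 1, 2), ([0, 0, 4, 2, 1], 2, 2, 2), ([0, 0, 5, 2, 0], 2, 1, 2), 
  ([0, 2, 0, 5, 1], 2, 1, 2), ([0, 2, 5, 0, 3], 2, 1, 2), ([0, 2, 5, 0, 5], 1, 2, 2), 
  ([0, 2, 5, 5, 0], 1, 1, 2), ([0, 3, 1, 1, 5], 1, 2, 2), ([0, 3, 1, 4, 3], 2, 2, 2), 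
  ([0, 3, 4, 0, 0], 2, 2, 2), ([0, 3, 4, 1, 3], 2, 1, 2), ([0, 3, 5, 1, 1], 2, 2, 2), 
  ([0, 3, 5, 2, 0], 2, 1, 2), ([0, 4, 0, 4, 4], 1, 1, 2), ([0, 4, 1, 3, 1], 1, 2, 2), 
  ([0, 4, 3, 3, 0], 1, 2, 2), ([0, 5, 3, 5, 0], 2, 1, 2), ([0, 5, 5, 0, 0], 1, 2, 2), 
  ([0, 5, 5, 0, 5], 1, 1, 2), ([0, 5, 5, 2, 0], 1, 2, 2), ([0, 6, 6, 2, 6], 2, 1, 2), 
  ([0, 7, 2, 7, 7], 2, 1, 2), ([0, 7, 3, 3, 6], 2, 1, 2), ([1, 1, 1, 4, 0], 1, 1, 2), 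
  ([1, 1, 1, 5, 2], 2, 2, 2), ([1, 1, 4, 4, 1], 2, 1, 2), ([1, 1, 5, 2, 1], 2, 2, 2), 
  ([1, 2, 0, 4, 0], 1, 1, 2), ([1, 2, 1, 5, 3], 2, 2, 2), ([1, 2, 2, 5, 1], 2, 1, 2), 
  ([1, 2, 4, 0, 4], 1, 1, 2), ([1, 3, 0, 0, 5], 1, 2, 2), ([1, 3, 4, 2, 1], 1, 2, 2), 
  ([1, 3, 4, 4, 1], 2, 1, 2), ([1, 4, 0, 2, 5], 1, 1, 2), ([1, 4, 2, 4, 1], 1, 2, 2), 
  ([1, 4, 4, 3, 1], 1, 1, 2), ([1, 5, 0, 0, 0], 1, 1, 2), ([1, 5, 0, 2, 0], 1, 1, 2), 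
  ([1, 5, 0, 4, 0], 2, 1, 2), ([1, 5, 1, 3, 0], 1, 1, 2), ([1, 5, 2, 1, 1], 1, 1, 2), 
  ([1, 5, 2, 2, 1], 1, 1, 2), ([1, 6, 0, 5, 6], 2, 2, 2), ([1, 6, 4, 4, 7], 1, 2, 2), 
  ([1, 6, 5, 6, 6], 1, 2, 2), ([1, 7, 7, 5, 7], 1, 2, 2), ([2, 0, 0, 2], 0, 0, 4), 
  ([2, 0, 0, 5, 3], 2, 2, 2), ([2, 0, 2, 1, 3], 0, 0, 2), ([2, 0, 2, 2, 2], 0, 0, 2), 
  ([2, 0, 3, 0, 2], 0, 0, 2), ([2, 0, 3, 3, 3], 0, 0, 2), ([2, 0, 4, 4, 4], 0, 0, 2), 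
  ([2, 0, 5, 1, 1], 1, 2, 2), ([2, 0, 5, 2, 1], 1, 2, 2), ([2, 0, 5, 5, 5], 0, 0, 2), 
  ([2, 0, 6, 6, 6], 0, 0, 2), ([2, 0, 7, 7, 7], 0, 0, 2), ([2, 1, 1, 2], 0, 0, 4), 
  ([2, 1, 2, 2, 2], 0, 0, 2), ([2, 1, 4, 3, 1], 1, 2, 2), ([2, 1, 5, 5, 5], 0, 0, 2), 
  ([2, 1, 6, 6, 6], 0, 0, 2), ([2, 2, 0, 0, 3], 0, 0, 2), ([2, 2, 0, 4, 3], 2, 2, 2), 
  ([2, 2, 2, 0, 2], 0, 0, 2), ([2, 2, 2, 1, 2], 0, 0, 2), ([2, 4, 0, 3, 0], 2, 2, 2), 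
  ([2, 4, 1, 1, 3], 2, 2, 2), ([2, 4, 2, 2, 4], 1, 2, 2), ([2, 4, 3, 5, 5], 1, 2, 2), 
  ([2, 4, 4, 2, 4], 1, 2, 2), ([2, 5, 0, 0, 5], 0, 0, 2), ([2, 5, 0, 2, 1], 2, 2, 2), 
  ([2, 5, 1, 3, 3], 2, 2, 2), ([2, 5, 2, 5, 5], 1, 2, 2), ([3, 0, 0, 0, 3], 0, 0, 2), 
  ([3, 0, 0, 2, 2], 0, 0, 2), ([3, 0, 2, 1, 2], 0, 0, 2), ([3, 0, 2, 5, 2], 2, 2, 2), 
  ([3, 0, 3, 5, 3], 2, 2, 2), ([3, 0, 4, 2, 2], 2, 2, 2), ([3, 0, 5, 5, 3], 2, 2, 2), 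
  ([3, 1, 1, 1, 3], 0, 0, 2), ([3, 1, 2, 1, 2], 0, 0, 2), ([3, 3, 3, 3, 3], 0, 0, 2), 
  ([3, 3, 3, 3, 5], 1, 2, 2), ([3, 3, 4, 3, 4], 1, 2, 2), ([3, 3, 4, 4, 4], 0, 0, 2), 
  ([3, 3, 5, 1, 2], 2, 2, 2), ([3, 3, 5, 5, 5], 0, 0, 2), ([3, 3, 6, 6, 6], 0, 0, 2), 
  ([3, 3, 7, 7, 7], 0, 0, 2), ([3, 4, 0, 0, 0], 2, 2, 2), ([3, 4, 1, 2, 5], 0, 0, 2), 
  ([3, 4, 2, 0, 4], 0, 0, 2), ([3, 4, 4, 4], 0, 0, 4), ([3, 4, 4, 4, 3], 0, 0, 2), 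
  ([3, 5, 0, 2, 5], 0, 0, 2), ([3, 5, 5, 5], 0, 0, 4), ([3, 5, 5, 5, 3], 0, 0, 2), 
  ([3, 5, 5, 5, 5], 1, 2, 2), ([3, 5, 6, 6, 6], 1, 2, 2), ([3, 5, 7, 7, 7], 1, 2, 2), 
  ([3, 6, 6, 6], 0, 0, 4), ([3, 6, 6, 6, 3], 0, 0, 2), ([3, 6, 6, 6, 5], 1, 2, 2), 
  ([3, 7, 7, 7], 0, 0, 4), ([3, 7, 7, 7, 3], 0, 0, 2), ([3, 7, 7, 7, 5], 1, 2, 2), 
  ([4, 0, 2, 5, 5], 1, 1, 2), ([4, 0, 3, 1, 5], 0, 0, 2), ([4, 0, 4, 1, 5], 0, 0, 2), 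
  ([4, 0, 4, 2, 5], 1, 1, 2), ([4, 0, 5, 3, 4], 1, 1, 2), ([4, 1, 1, 2, 0], 2, 1, 2), 
  ([4, 1, 2, 0, 4], 1, 1, 2), ([4, 1, 2, 5], 0, 0, 4), ([4, 1, 2, 5, 3], 0, 0, 2), 
  ([4, 1, 3, 0, 4], 0, 0, 2), ([4, 1, 4, 3, 1], 2, 1, 2), ([4, 1, 5, 2, 4], 0, 0, 2), 
  ([4, 2, 0, 4, 3], 0, 0, 2), ([4, 2, 2, 0, 5], 0, 0, 2), ([4, 2, 2, 1, 4], 0, 0, 2), 
  ([4, 2, 2, 2, 2], 2, 1, 2), ([4, 2, 4, 0, 4], 0, 0, 2), ([4, 2, 5, 3, 5], 0, 0, 2), 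
  ([4, 2, 6, 6, 6], 2, 1, 2), ([4, 2, 7, 7, 7], 2, 1, 2), ([4, 3, 1, 5, 0], 1, 1, 2), 
  ([4, 3, 1, 5, 5], 0, 0, 2), ([4, 3, 4, 3, 4], 0, 0, 2), ([4, 4, 1, 3, 5], 0, 0, 2), 
  ([4, 4, 4, 0, 2], 0, 0, 2), ([4, 4, 4, 1, 2], 0, 0, 2), ([4, 4, 4, 3], 0, 0, 4), 
  ([4, 4, 4, 3, 3], 0, 0, 2), ([4, 4, 4, 4, 2], 2, 1, 2), ([4, 6, 6, 6, 2], 2, 1, 2), 
  ([4, 7, 4, 0, 7], 1, 3, 2), ([4, 7, 7, 7, 2], 2, 1, 2), ([5, 0, 0, 4, 1], 2, 1, 2), 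
  ([5, 0, 0, 5, 2], 0, 0, 2), ([5, 0, 2, 5], 0, 0, 4), ([5, 0, 2, 5, 3], 0, 0, 2), 
  ([5, 0, 3, 0, 4], 0, 0, 2), ([5, 0, 5, 2, 1], 2, 1, 2), ([5, 0, 5, 2, 4], 0, 0, 2), 
  ([5, 1, 3, 0, 5], 1, 1, 2), ([5, 1, 3, 4, 4], 0, 0, 2), ([5, 1, 5, 3, 0], 1, 1, 2), 
  ([5, 2, 1, 2, 4], 0, 0, 2), ([5, 2, 2, 1, 5], 1, 1, 2), ([5, 2, 2, 4, 3], 2, 1, 2), 
  ([5, 2, 4, 1, 5], 1, 1, 2), ([5, 2, 4, 2, 4], 0, 0, 2), ([5, 2, 5, 2, 2], 2, 1, 2), 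
  ([5, 3, 1, 4, 4], 1, 1, 2), ([5, 3, 3, 5, 3], 2, 1, 2), ([5, 3, 4, 2, 5], 0, 0, 2), 
  ([5, 5, 0, 2, 4], 1, 1, 2), ([5, 5, 1, 5, 1], 1, 1, 2), ([5, 5, 3, 0, 5], 0, 0, 2), 
  ([5, 5, 5, 0, 2], 0, 0, 2), ([5, 5, 5, 1, 2], 0, 0, 2), ([5, 5, 5, 3, 3], 0, 0, 2), 
  ([6, 1, 5, 6, 5], 3, 1, 2), ([6, 3, 5, 2, 6], 2, 1, 2), ([6, 4, 6, 6, 0], 2, 1, 2), 
  ([6, 5, 3, 5, 6], 2, 1, 2), ([6, 5, 5, 7, 0], 2, 1, 2), ([6, 6, 3, 6, 1], 1, 2, 2), 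
  ([6, 6, 6, 0, 2], 0, 0, 2), ([6, 6, 6, 1, 2], 0, 0, 2), ([6, 6, 6, 3], 0, 0, 4), 
  ([6, 6, 6, 3, 3], 0, 0, 2), ([6, 6, 6, 3, 5], 1, 2, 2), ([6, 6, 6, 4, 2], 2, 1, 2), 
  ([7, 1, 1, 4, 6], 2, 2, 2), ([7, 2, 2, 6, 1], 1, 2, 2), ([7, 3, 4, 2, 7], 1, 2, 2), 
  ([7, 3, 7, 7, 1], 1, 2, 2), ([7, 4, 1, 7, 0], 2, 2, 2), ([7, 4, 2, 4, 7], 1, 2, 2), 
  ([7, 5, 0, 0, 6], 2, 2, 2), ([7, 7, 4, 7, 0], 2, 1, 2), ([7, 7, 7, 0, 2], 0, 0, 2), 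
  ([7, 7, 7, 3], 0, 0, 4), ([7, 7, 7, 3, 3], 0, 0, 2), ([7, 7, 7, 3, 5], 1, 2, 2), 
  ([7, 7, 7, 4, 2], 2, 1, 2), ([2, 0, 0, 0, 2], 0, 0, 4), ([2, 0, 0, 3, 3], 0, 0, 4), 
  ([2, 1, 1, 1, 2], 0, 0, 4), ([2, 1, 3, 1, 3], 0, 0, 4), ([2, 2, 2, 0, 3], 0, 0, 4), 
  ([2, 2, 5, 5, 5], 0, 0, 4), ([2, 2, 7, 7, 7], 0, 0, 4), ([2, 4, 3, 1, 4], 0, 0, 4), 
  ([2, 5, 1, 3, 5], 0, 0, 4), ([2, 6, 6, 6, 2], 0, 0, 4), ([2, 7, 7, 7, 2], 0, 0, 4), 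
  ([3, 0, 2, 0, 3], 0, 0, 4), ([3, 0, 4, 4, 4], 0, 0, 4), ([3, 0, 5, 5, 5], 0, 0, 4), 
  ([3, 0, 6, 6, 6], 0, 0, 4), ([3, 0, 7, 7, 7], 0, 0, 4), ([3, 1, 2, 0, 3], 0, 0, 4), 
  ([3, 1, 2, 1, 3], 0, 0, 4), ([3, 1, 5, 5, 5], 0, 0, 4), ([3, 1, 6, 6, 6], 0, 0, 4), 
  ([3, 1, 7, 7, 7], 0, 0, 4), ([3, 4, 1, 1, 4], 0, 0, 4), ([3, 5, 0, 0, 5], 0, 0, 4), 
  ([4, 0, 0, 2, 4], 0, 0, 4), ([4, 0, 2, 1, 5], 0, 0, 4), ([4, 0, 5, 1, 5], 0, 0, 4), 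
  ([4, 1, 1, 4, 3], 0, 0, 4), ([4, 1, 2, 4, 4], 0, 0, 4), ([4, 1, 3, 3, 5], 0, 0, 4), 
  ([4, 2, 0, 5, 5], 0, 0, 4), ([4, 2, 4, 3, 5], 0, 0, 4), ([4, 3, 0, 5, 2], 0, 0, 4), 
  ([4, 3, 1, 4, 2], 0, 0, 4), ([4, 3, 3, 0, 4], 0, 0, 4), ([4, 3, 5, 2, 4], 0, 0, 4), 
  ([5, 0, 0, 5, 3], 0, 0, 4), ([5, 0, 2, 4, 4], 0, 0, 4), ([5, 0, 3, 3, 5], 0, 0, 4), 
  ([5, 1, 2, 0, 5], 0, 0, 4), ([5, 1, 3, 5, 2], 0, 0, 4), ([5, 1, 4, 0, 4], 0, 0, 4), 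
  ([5, 2, 0, 0, 4], 0, 0, 4), ([5, 2, 5, 2, 5], 0, 0, 4), ([5, 3, 0, 3, 4], 0, 0, 4), 
  ([5, 3, 4, 0, 5], 0, 0, 4), ([5, 3, 4, 1, 4], 0, 0, 4), ([5, 3, 5, 3, 4], 0, 0, 4), 
  ([5, 5, 1, 2, 5], 0, 0, 4), ([5, 5, 5, 0, 3], 0, 0, 4), ([6, 6, 6, 0, 3], 0, 0, 4), 
  ([6, 6, 6, 1, 3], 0, 0, 4), ([6, 6, 6, 2, 2], 0, 0, 4), ([7, 7, 7, 1, 3], 0, 0, 4), 
  ([7, 7, 7, 2, 2], 0, 0, 4)]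

/-- orders of the `p = 2` generators -/
def ord2 : ℕ → ℕ
  | 0 => 7
  | _ => 3

def relsB : List (List ℕ) := [[0, 0, 0, 0, 0, 0, 0], [2, 2, 2], [2, 0, 3, 1, 1]]

def relsL : List (List ℕ) := [[0, 0, 0, 0, 0, 0, 0], [2, 2, 2], [4, 4, 4]] ++ crL.map crel

def relsT : List (List ℕ) := [[6, 6, 6]] ++ crT.map crel

def rels2 : List (List ℕ) := relsL ++ relsT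

def wordKa : List ℕ := [0, 7, 3, 1, 6, 4, 2, 6, 1, 5, 7, 0]

def wordKb : List ℕ := [2, 7, 0, 3, 6, 1, 6, 3, 0, 7, 2, 1]

/-- relators of the cover `4² · L₃(4)`: `rels2`, centrality of `k_a`, `k_b`, and `k_a⁴ = k_b⁴ = 1` -/
def relsCov : List (List ℕ) :=
  rels2 ++ Cfsg.H5.StemTC.cwords [wordKa, wordKb] 4 ++
    [wordKa ++ wordKa ++ wordKa ++ wordKa, wordKb ++ wordKb ++ wordKb ++ wordKb]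

/-- `p = 3`: conjugation data inside `⟨i, j⟩ ≅ Q₈` -/
def crQ : List CR := [
  ([2], 0, 0, 3), ([0, 0, 0], 1, 1, 3)]

/-- `p = 3`: the other conjugation data -/
def cr3 : List CR := [
  ([0, 0], 1, 1, 1), ([0], 1, 1, 3), ([1], 1, 1, 3), ([2, 2], 0, 0, 1), ([3], 0, 0, 3), 
  ([0, 3, 0], 1, 1, 1), ([1, 2, 1], 1, 1, 1), ([1, 4, 3], 2, 2, 1), ([1, 5, 3], 2, 2, 1), 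
  ([2, 0, 2], 0, 0, 1), ([2, 1, 3], 0, 0, 1), ([2, 4, 0], 2, 2, 1), ([3, 1, 3], 0, 0, 1), 
  ([4, 0, 0], 2, 0, 2), ([4, 3, 3], 2, 0, 2), ([5, 2, 2], 2, 0, 2), ([5, 3, 3], 2, 0, 2), 
  ([0, 2, 4, 2], 2, 2, 1), ([0, 3, 4, 1], 2, 2, 1), ([0, 4, 1, 3], 2, 2, 1), ([1, 2, 4, 1], 2, 2, 1), 
  ([3, 0, 4, 2], 2, 2, 1), ([3, 4, 0, 3], 2, 2, 1), ([3, 4, 3, 1], 2, 2, 1), 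
  ([0, 0, 3, 4, 4], 1, 1, 1)]

/-- orders of the `p = 3` generators -/
def ord3 : ℕ → ℕ
  | 2 => 2
  | _ => 4

def relsQ : List (List ℕ) := [[0, 0, 0, 0], [2, 2, 2, 2]] ++ crQ.map crel

def rels3 : List (List ℕ) := relsQ ++ ([[4, 4]] ++ cr3.map crel)

/-! ### membership facts used for perfectness of the cover -/

theorem perf0 : conjRel [2] 0 0 2 ∈ rels2 := by decide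

theorem perf1 : conjRel [0, 2, 4, 0] 1 1 2 ∈ rels2 := by decide

theorem perf2 : conjRel [1, 5, 5, 1] 2 2 2 ∈ rels2 := by decide

theorem perf3 : conjRel [6, 5, 7, 1] 3 2 1 ∈ rels2 := by decide

theorem relsB_sub : ∀ r ∈ relsB, r ∈ relsL := by decide

end Cfsg.Agent.Lib.Helper7.L34
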