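import Mathlib

/-!
# Normalizer and centralizer of a subgroup of prime order (helper7 library)

* `relIndex_centralizer_normalizer_dvd_sub_one`: for a subgroup `S` of prime order `r`, the index
  `|N_G(S) : C_G(S)|` divides `r - 1`.
* `card_eq_prime_of_sylow`: a Sylow `r`-subgroup has order `r` when `r ∣ |G|` and `r ^ 2 ∤ |G|`.
* `not_simple_of_normalizer_le_centralizer`: Burnside's transfer theorem applied to a simple
  group.
-/

set_option autoImplicit false

namespace Cfsg.Agent.Lib.Helper7

variable {G : Type*} [Group G] [Finite G]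

theorem relIndex_centralizer_normalizer_dvd_sub_one (S : Subgroup G) {r : ℕ} (hr : r.Prime)
    (hS : Nat.card S = r) :
    (Subgroup.centralizer (S : Set G)).relIndex (Subgroup.normalizer (S : Set G)) ∣ r - 1 := by
  haveI : Fact (Nat.card S).Prime := ⟨by rw [hS]; exact hr⟩
  haveI hcyc : IsCyclic S := isCyclic_of_prime_card rfl
  have key := Subgroup.card_dvd_of_injective _
    (QuotientGroup.kerLift_injective S.normalizerMonoidHom)
  rw [Subgroup.normalizerMonoidHom_ker, ← Subgroup.index, ← Subgroup.relIndex,
    hcyc.card_mulAut, hS, Nat.totient_prime hr] at key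
  exact key

theorem card_eq_prime_of_sylow {r : ℕ} [hr : Fact r.Prime] (S : Sylow r G)
    (h1 : r ∣ Nat.card G) (h2 : ¬ r ^ 2 ∣ Nat.card G) : Nat.card (S : Subgroup G) = r := by
  obtain ⟨k, hk⟩ := IsPGroup.iff_card.mp S.isPGroup'
  have h3 : r ∣ Nat.card (S : Subgroup G) := S.dvd_card_of_dvd_card h1
  have h4 : Nat.card (S : Subgroup G) ∣ Nat.card G := Subgroup.card_subgroup_dvd_card _
  rw [hk] at h3 h4 ⊢
  have h5 : k ≤ 1 := by
    by_contra hk2
    push Not at hk2
    exact h2 ((pow_dvd_pow r hk2).trans h4)
  have h6 : k ≠ 0 := by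
    rintro rfl
    rw [pow_zero] at h3
    exact hr.out.one_lt.ne' (Nat.dvd_one.mp h3)
  have : k = 1 := by omega
  rw [this, pow_one]

/-- Burnside's transfer theorem in a simple group: a Sylow subgroup central in its normalizer
is trivial or everything. -/
theorem sylow_eq_bot_or_top_of_normalizer_le_centralizer [IsSimpleGroup G] {r : ℕ}
    [Fact r.Prime] (S : Sylow r G)
    (h : Subgroup.normalizer ((S : Subgroup G) : Set G) ≤
      Subgroup.centralizer ((S : Subgroup G) : Set G)) :
    (S : Subgroup G) = ⊥ ∨ (S : Subgroup G) = ⊤ := by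
  have hc := MonoidHom.ker_transferSylow_isComplement' S h
  rcases (MonoidHom.normal_ker (MonoidHom.transferSylow S h)).eq_bot_or_eq_top with hk | hk
  · right
    rw [hk] at hc
    have := hc.sup_eq_top
    rwa [bot_sup_eq] at this
  · left
    rw [hk] at hc
    have := hc.disjoint
    rw [disjoint_iff, top_inf_eq] at this
    exact this

end Cfsg.Agent.Lib.Helper7
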