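import Mathlib
import Cfsg.Prelude.Def_Characters
import Cfsg.Agent.Lib.Helper25.GenOrtho
import Cfsg.Agent.Lib.Helper25.CharBasic
import Cfsg.Agent.Lib.Helper7.ClassSum

/-!
# The class function counting the ways of writing an element as a product of two conjugates of `J`
-/

set_option autoImplicit false
open scoped ComplexConjugate
open Cfsg
open Cfsg.Agent.Lib.Helper25

namespace Cfsg.Agent.Lib.Helper7

section

variable {G : Type*} [Group G] [Fintype G] [DecidableEq G]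

/-- the number of pairs `(h₁, h₂)` with `h₁ J h₁⁻¹ * h₂ J h₂⁻¹ = w` -/
noncomputable def pairCount (J : G) (w : G) : ℂ :=
  ∑ h₁ : G, ∑ h₂ : G, if h₁ * J * h₁⁻¹ * (h₂ * J * h₂⁻¹) = w then (1 : ℂ) else 0

theorem pairCount_isClassFunction (J : G) : Cfsg.IsClassFunction G (pairCount J) := by
  intro w g
  unfold pairCount
  rw [← Equiv.sum_comp (Equiv.mulLeft g)]
  apply Finset.sum_congr rfl
  intro h₁ _
  rw [← Equiv.sum_comp (Equiv.mulLeft g)]
  apply Finset.sum_congr rfl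
  intro h₂ _
  have e : (Equiv.mulLeft g) h₁ * J * ((Equiv.mulLeft g) h₁)⁻¹ *
      ((Equiv.mulLeft g) h₂ * J * ((Equiv.mulLeft g) h₂)⁻¹)
      = g * (h₁ * J * h₁⁻¹ * (h₂ * J * h₂⁻¹)) * g⁻¹ := by
    simp only [Equiv.coe_mulLeft]; group
  rw [e]
  by_cases h : h₁ * J * h₁⁻¹ * (h₂ * J * h₂⁻¹) = w
  · rw [if_pos h, if_pos (by rw [h])]
  · rw [if_neg h, if_neg]
    intro h'
    apply h
    exact mul_left_cancel (mul_right_cancel h')

/-- summing a function against `pairCount` -/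
theorem sum_pairCount_mul (J : G) (f : G → ℂ) :
    ∑ w : G, pairCount J w * f w
      = ∑ h₁ : G, ∑ h₂ : G, f (h₁ * J * h₁⁻¹ * (h₂ * J * h₂⁻¹)) := by
  unfold pairCount
  simp_rw [Finset.sum_mul]
  rw [Finset.sum_comm]
  apply Finset.sum_congr rfl
  intro h₁ _
  rw [Finset.sum_comm]
  apply Finset.sum_congr rfl
  intro h₂ _
  simp_rw [ite_mul, one_mul, zero_mul]
  rw [Finset.sum_ite_eq]
  simp

/-- the inner product of `pairCount` with an irreducible character -/
theorem classInner_pairCount (J : G) {χ : G → ℂ} (hχ : Cfsg.IsIrrCharacter G χ) :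
    Cfsg.classInner (pairCount J) χ
      = conj ((Nat.card G : ℂ) * χ J * χ J / χ 1) := by
  unfold Cfsg.classInner
  have h1 : ∑ w : G, pairCount J w * conj (χ w)
      = ∑ h₁ : G, ∑ h₂ : G, conj (χ (h₁ * J * h₁⁻¹ * (h₂ * J * h₂⁻¹))) :=
    sum_pairCount_mul J (fun w => conj (χ w))
  rw [h1]
  have hcf := isClassFunction_of_char (isCharacter_of_irr hχ)
  have h2 : ∀ h₁ : G, ∑ h₂ : G, conj (χ (h₁ * J * h₁⁻¹ * (h₂ * J * h₂⁻¹)))
      = conj ((Nat.card G : ℂ) * χ J * χ J / χ 1) := by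
    intro h₁
    rw [← map_sum, sum_char_mul_conj hχ, hcf J h₁]
  rw [Finset.sum_congr rfl (fun h₁ _ => h2 h₁), Finset.sum_const, Finset.card_univ,
    nsmul_eq_mul, ← Nat.card_eq_fintype_card, ← mul_assoc, inv_mul_cancel₀, one_mul]
  exact_mod_cast Nat.card_pos.ne'

/-- `∑ h, f (h g h⁻¹) = |C(g)| ∑_{y ~ g} f y` -/
theorem sum_conj_eq' (f : G → ℂ) (g : G) [DecidablePred (IsConj g)] :
    ∑ h : G, f (h * g * h⁻¹) =
      (Nat.card (Subgroup.centralizer ({g} : Set G)) : ℂ)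
        * ∑ y : G, if IsConj g y then f y else 0 := by
  rw [← sum_conj_eq f g, ← Equiv.sum_comp (Equiv.inv G)]
  apply Finset.sum_congr rfl
  intro h _
  simp only [Equiv.inv_apply, inv_inv]

/-- a double sum over conjugates of `J` -/
theorem sum_sum_conj_eq (F : G → G → ℂ) (J : G) [DecidablePred (IsConj J)] :
    ∑ h₁ : G, ∑ h₂ : G, F (h₁ * J * h₁⁻¹) (h₂ * J * h₂⁻¹)
      = (Nat.card (Subgroup.centralizer ({J} : Set G)) : ℂ) ^ 2
        * ∑ x : G, ∑ y : G, if IsConj J x ∧ IsConj J y then F x y else 0 := by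
  have h1 : ∀ h₁ : G, ∑ h₂ : G, F (h₁ * J * h₁⁻¹) (h₂ * J * h₂⁻¹)
      = (Nat.card (Subgroup.centralizer ({J} : Set G)) : ℂ)
        * ∑ y : G, if IsConj J y then F (h₁ * J * h₁⁻¹) y else 0 :=
    fun h₁ => sum_conj_eq' (fun y => F (h₁ * J * h₁⁻¹) y) J
  rw [Finset.sum_congr rfl (fun h₁ _ => h1 h₁), ← Finset.mul_sum,
    sum_conj_eq' (fun x => ∑ y : G, if IsConj J y then F x y else 0) J, pow_two, mul_assoc]
  congr 2
  apply Finset.sum_congr rfl
  intro x _
  by_cases hx : IsConj J x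
  · rw [if_pos hx]
    apply Finset.sum_congr rfl
    intro y _
    by_cases hy : IsConj J y
    · rw [if_pos hy, if_pos ⟨hx, hy⟩]
    · rw [if_neg hy, if_neg (fun h => hy h.2)]
  · rw [if_neg hx]
    symm
    apply Finset.sum_eq_zero
    intro y _
    rw [if_neg (fun h => hx h.1)]

end

end Cfsg.Agent.Lib.Helper7
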