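import Mathlib

set_option autoImplicit false

namespace Cfsg.Agent.Lib.Helper7

/-- Automorphisms permute the involutions. -/
noncomputable def mulAutToPermInvol (H : Type*) [Group H] :
    MulAut H →* Equiv.Perm {x : H // x ^ 2 = 1 ∧ x ≠ 1} where
  toFun φ := φ.toEquiv.subtypeEquiv (fun x => by
    show (x ^ 2 = 1 ∧ x ≠ 1) ↔ ((φ x) ^ 2 = 1 ∧ φ x ≠ 1)
    have h1 : φ x = 1 ↔ x = 1 := by
      constructor
      · intro h; exact φ.injective (h.trans (map_one φ).symm)
      · rintro rfl; exact map_one φ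
    have h2 : (φ x) ^ 2 = 1 ↔ x ^ 2 = 1 := by
      rw [← map_pow]
      constructor
      · intro h; exact φ.injective (h.trans (map_one φ).symm)
      · intro h; rw [h]; exact map_one φ
    rw [h2, Ne, Ne, h1])
  map_one' := by ext x; rfl
  map_mul' φ ψ := by ext x; rfl

theorem mulAutToPermInvol_apply {H : Type*} [Group H] (φ : MulAut H)
    (x : {x : H // x ^ 2 = 1 ∧ x ≠ 1}) : ((mulAutToPermInvol H φ x : {x : H // x ^ 2 = 1 ∧ x ≠ 1}) : H) = φ x := rfl

/-- An automorphism of odd order of a commutative `2`-group fixing all involutions is trivial. -/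
theorem aut_eq_one_of_fix_invol {H : Type*} [Group H] (hcomm : ∀ a b : H, a * b = b * a)
    (h2 : IsPGroup 2 H) (α : MulAut H) (n : ℕ) (hn : Odd n) (hαn : α ^ n = 1)
    (hfix : ∀ x : H, x ^ 2 = 1 → α x = x) : α = 1 := by
  have key : ∀ k : ℕ, ∀ x : H, x ^ (2 ^ k) = 1 → α x = x := by
    intro k
    induction k with
    | zero => intro x hx; rw [pow_zero, pow_one] at hx; rw [hx, map_one]
    | succ k ih =>
      intro x hx
      have hx2 : α (x ^ 2) = x ^ 2 := by
        apply ih
        rw [← pow_mul, ← pow_succ']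
        exact hx
      have hy2 : (α x * x⁻¹) ^ 2 = 1 := by
        have : (α x * x⁻¹) ^ 2 = α (x ^ 2) * (x ^ 2)⁻¹ := by
          rw [map_pow, pow_two, pow_two, pow_two, mul_inv_rev]
          calc α x * x⁻¹ * (α x * x⁻¹) = α x * (x⁻¹ * α x) * x⁻¹ := by group
            _ = α x * (α x * x⁻¹) * x⁻¹ := by rw [hcomm x⁻¹ (α x)]
            _ = α x * α x * (x⁻¹ * x⁻¹) := by group
        rw [this, hx2, mul_inv_cancel]
      have hy : α (α x * x⁻¹) = α x * x⁻¹ := hfix _ hy2
      have hpow : ∀ j : ℕ, (α ^ j) x = x * (α x * x⁻¹) ^ j := by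
        intro j
        induction j with
        | zero => simp
        | succ j ihj =>
          rw [pow_succ', MulAut.mul_apply, ihj, map_mul, map_pow, hy, pow_succ]
          calc α x * (α x * x⁻¹) ^ j = x * ((x⁻¹ * α x) * (α x * x⁻¹) ^ j) := by group
            _ = x * ((α x * x⁻¹) ^ j * (α x * x⁻¹)) := by
                rw [hcomm x⁻¹ (α x), hcomm (α x * x⁻¹) ((α x * x⁻¹) ^ j)]
      have h1 := hpow n
      rw [hαn, MulAut.one_apply] at h1
      have h3 : (α x * x⁻¹) ^ n = 1 := by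
        have := h1.symm
        rwa [mul_eq_left] at this
      obtain ⟨t, rfl⟩ := hn
      rw [pow_succ, pow_mul, hy2, one_pow, one_mul] at h3
      exact mul_inv_eq_one.mp h3
  ext x
  obtain ⟨k, hk⟩ := h2 x
  exact key k x hk

/-- A group of odd order of automorphisms of a commutative `2`-group with at most three involutions
has order `1` or `3` and its nonidentity elements have no nontrivial fixed points. -/
theorem odd_aut_group {H : Type*} [Group H] [Finite H] (hcomm : ∀ a b : H, a * b = b * a)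
    (h2 : IsPGroup 2 H) (hX : Nat.card {x : H // x ^ 2 = 1 ∧ x ≠ 1} ≤ 3)
    (R : Subgroup (MulAut H)) (hR : Odd (Nat.card R)) :
    (Nat.card R = 1 ∨ Nat.card R = 3) ∧ ∀ α ∈ R, ∀ z : H, z ≠ 1 → α z = z → α = 1 := by
  classical
  have hfinA : Finite (MulAut H) := Finite.of_injective (fun φ : MulAut H => (φ : H → H))
    (fun φ ψ h => by ext x; exact congrFun h x)
  -- injectivity on R
  have hinj : ∀ α ∈ R, mulAutToPermInvol H α = 1 → α = 1 := by
    intro α hα h
    apply aut_eq_one_of_fix_invol hcomm h2 α (Nat.card R) hR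
    · have := pow_card_eq_one' (G := R) (x := ⟨α, hα⟩)
      exact congrArg Subtype.val this
    · intro x hx
      by_cases hx1 : x = 1
      · rw [hx1, map_one]
      · have := congrArg (fun σ : Equiv.Perm {x : H // x ^ 2 = 1 ∧ x ≠ 1} =>
          ((σ ⟨x, hx, hx1⟩ : {x : H // x ^ 2 = 1 ∧ x ≠ 1}) : H)) h
        exact this
  have hinj' : Function.Injective ((mulAutToPermInvol H).comp R.subtype) := by
    rw [← MonoidHom.ker_eq_bot_iff, Subgroup.eq_bot_iff_forall]
    intro α hα
    rw [MonoidHom.mem_ker] at hα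
    exact Subtype.ext (hinj α.1 α.2 hα)
  have hdvd := Subgroup.card_dvd_of_injective _ hinj'
  rw [Nat.card_perm] at hdvd
  have hd6 : Nat.card R ∣ 6 := by
    refine hdvd.trans ?_
    generalize Nat.card {x : H // x ^ 2 = 1 ∧ x ≠ 1} = c at hX
    interval_cases c <;> decide
  have hcard : Nat.card R = 1 ∨ Nat.card R = 3 := by
    have hle : Nat.card R ≤ 6 := Nat.le_of_dvd (by norm_num) hd6
    obtain ⟨t, ht⟩ := hR
    generalize Nat.card R = c at *
    interval_cases c <;> omega
  refine ⟨hcard, ?_⟩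
  intro α hα z hz1 hαz
  -- α ^ 3 = 1
  have hα3 : α ^ 3 = 1 := by
    have h := pow_card_eq_one' (G := R) (x := ⟨α, hα⟩)
    have h' : α ^ Nat.card R = 1 := congrArg Subtype.val h
    rcases hcard with hc | hc
    · rw [hc, pow_one] at h'; rw [h', one_pow]
    · rwa [hc] at h'
  -- an involution fixed by α
  have hzo : ∃ w : H, w ^ 2 = 1 ∧ w ≠ 1 ∧ α w = w := by
    obtain ⟨k, hk⟩ := (IsPGroup.iff_orderOf.mp h2) z
    have hk0 : k ≠ 0 := by
      rintro rfl
      rw [pow_zero, orderOf_eq_one_iff] at hk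
      exact hz1 hk
    obtain ⟨j, rfl⟩ := Nat.exists_eq_succ_of_ne_zero hk0
    refine ⟨z ^ (2 ^ j), ?_, ?_, ?_⟩
    · rw [← pow_mul, ← pow_succ, ← hk, pow_orderOf_eq_one]
    · intro h
      have := orderOf_dvd_of_pow_eq_one h
      rw [hk, pow_succ] at this
      have hpos : 0 < 2 ^ j := by positivity
      have := Nat.le_of_dvd hpos this
      omega
    · rw [map_pow, hαz]
  obtain ⟨w, hw2, hw1, hαw⟩ := hzo
  apply hinj α hα
  set σ := mulAutToPermInvol H α with hσ
  have : Fintype {x : H // x ^ 2 = 1 ∧ x ≠ 1} := Fintype.ofFinite _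
  have hσ3 : σ ^ 3 ^ 1 = 1 := by
    rw [pow_one, hσ, ← map_pow, hα3, map_one]
  have : Fact (Nat.Prime 3) := ⟨Nat.prime_three⟩
  have hmod := Equiv.Perm.card_compl_support_modEq hσ3
  have hwfix : (⟨w, hw2, hw1⟩ : {x : H // x ^ 2 = 1 ∧ x ≠ 1}) ∈ σ.supportᶜ := by
    rw [Finset.mem_compl, Equiv.Perm.mem_support, not_not]
    apply Subtype.ext
    rw [hσ, mulAutToPermInvol_apply]
    exact hαw
  have hpos : 1 ≤ σ.supportᶜ.card := Finset.card_pos.mpr ⟨_, hwfix⟩
  have hle : σ.supportᶜ.card ≤ Fintype.card {x : H // x ^ 2 = 1 ∧ x ≠ 1} := Finset.card_le_univ _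
  rw [Nat.card_eq_fintype_card] at hX
  have heq : σ.supportᶜ.card = Fintype.card {x : H // x ^ 2 = 1 ∧ x ≠ 1} := by
    unfold Nat.ModEq at hmod
    omega
  rw [Finset.card_compl] at heq
  have hle2 : σ.support.card ≤ Fintype.card {x : H // x ^ 2 = 1 ∧ x ≠ 1} := Finset.card_le_univ _
  have h0 : σ.support.card = 0 := by omega
  rw [Finset.card_eq_zero, Equiv.Perm.support_eq_empty_iff] at h0
  exact h0

end Cfsg.Agent.Lib.Helper7
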