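import Mathlib
import Cfsg.Agent.S0945
import Cfsg.Agent.Lib.Helper1.Cores

/-!
# Normal 2-complements when a Klein four Sylow 2-subgroup contains a central involution
-/

set_option autoImplicit false
open Cfsg

namespace Cfsg.Agent.Lib.Helper7

/-- if a Klein four Sylow `2`-subgroup `Q` of `H` contains a central involution of `H`, then
`N_H(Q) ≤ C_H(Q)` -/
theorem normalizer_le_centralizer_of_kleinFour_central {H : Type*} [Group H] [Finite H]
    (Q : Sylow 2 H) (hQ : IsKleinFour (Q : Subgroup H)) (z : H) (hzQ : z ∈ (Q : Subgroup H))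
    (hz1 : z ≠ 1) (hzc : ∀ h : H, z * h = h * z) :
    Subgroup.normalizer ((Q : Subgroup H) : Set H) ≤ Subgroup.centralizer ((Q : Subgroup H) : Set H) := by
  haveI := hQ
  obtain ⟨e⟩ : Nonempty ((Q : Subgroup H) ≃* Multiplicative (ZMod 2 × ZMod 2)) :=
    IsKleinFour.nonempty_mulEquiv
  have h45 := Cfsg.Agent.S0945.result Q 1 le_rfl e
  by_cases h1 : (Subgroup.centralizer ((Q : Subgroup H) : Set H)).relIndex
      (Subgroup.normalizer ((Q : Subgroup H) : Set H)) = 1
  · exact Subgroup.relIndex_eq_one.mp h1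
  · have h2 := h45.2 h1 z hzQ hz1
    have htop : Subgroup.centralizer ({z} : Set H) = ⊤ := by
      rw [eq_top_iff]
      intro h _
      rw [Subgroup.mem_centralizer_singleton_iff]
      exact (hzc h).symm
    rw [htop, top_inf_eq] at h2
    exact le_of_eq h2

/-- in that situation `H` has a normal `2`-complement -/
theorem index_pPrimeCore_of_kleinFour_central {H : Type*} [Group H] [Finite H]
    (Q : Sylow 2 H) (hQ : IsKleinFour (Q : Subgroup H)) (z : H) (hzQ : z ∈ (Q : Subgroup H))
    (hz1 : z ≠ 1) (hzc : ∀ h : H, z * h = h * z) :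
    ∃ k : ℕ, (Cfsg.pPrimeCore 2 H).index = 2 ^ k := by
  haveI : Fact (Nat.Prime 2) := ⟨Nat.prime_two⟩
  have hNC := normalizer_le_centralizer_of_kleinFour_central Q hQ z hzQ hz1 hzc
  have hcompl := MonoidHom.ker_transferSylow_isComplement' Q hNC
  have hodd := MonoidHom.not_dvd_card_ker_transferSylow Q hNC
  have hidx : (MonoidHom.transferSylow Q hNC).ker.index = 4 := by
    rw [hcompl.symm.index_eq_card]
    haveI := hQ
    exact IsKleinFour.card_four
  have hle : (MonoidHom.transferSylow Q hNC).ker ≤ Cfsg.pPrimeCore 2 H := by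
    apply Cfsg.Agent.Lib.Helper1.le_pPrimeCore (MonoidHom.normal_ker _)
    exact (Nat.Prime.coprime_iff_not_dvd Nat.prime_two).mpr hodd |>.symm
  have hdvd := Subgroup.index_dvd_of_le hle
  rw [hidx] at hdvd
  have h4 : (4 : ℕ) = 2 ^ 2 := by norm_num
  rw [h4] at hdvd
  obtain ⟨k, _, hk⟩ := (Nat.dvd_prime_pow Nat.prime_two).mp hdvd
  exact ⟨k, hk⟩

end Cfsg.Agent.Lib.Helper7
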