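import Mathlib
import Cfsg.Agent.Lib.Helper7.KleinFourNPC
import Cfsg.Agent.Lib.Helper18.Cores

/-!
# Counting pairs of involutions in a group with a Klein four Sylow 2-subgroup containing a central
involution
-/

set_option autoImplicit false

namespace Cfsg.Agent.Lib.Helper7

section Orbit

variable {H : Type*} [Group H] [Finite H]

/-- orbit counting for the conjugation action of a subgroup `K` on an element `s` -/
theorem card_conj_orbit (K : Subgroup H) (s : H) :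
    Nat.card {x : H // ∃ ρ ∈ K, ρ * s * ρ⁻¹ = x}
      * Nat.card ↥(K ⊓ Subgroup.centralizer ({s} : Set H)) = Nat.card K := by
  classical
  haveI : Fintype {x : H // ∃ ρ ∈ K, ρ * s * ρ⁻¹ = x} := Fintype.ofFinite _
  let f : K → {x : H // ∃ ρ ∈ K, ρ * s * ρ⁻¹ = x} := fun ρ => ⟨ρ * s * ρ⁻¹, ρ, ρ.2, rfl⟩
  have h1 : Nat.card K = Nat.card (Σ y : {x : H // ∃ ρ ∈ K, ρ * s * ρ⁻¹ = x}, {ρ : K // f ρ = y}) :=
    (Nat.card_congr (Equiv.sigmaFiberEquiv f)).symm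
  rw [h1, Nat.card_sigma]
  have h2 : ∀ y : {x : H // ∃ ρ ∈ K, ρ * s * ρ⁻¹ = x}, Nat.card {ρ : K // f ρ = y}
      = Nat.card ↥(K ⊓ Subgroup.centralizer ({s} : Set H)) := by
    rintro ⟨y, ρ₀, hρ₀, hy⟩
    apply Nat.card_congr
    refine
      { toFun := fun ρ => ⟨ρ₀⁻¹ * (ρ.1 : H), ?_⟩
        invFun := fun c => ⟨⟨ρ₀ * (c : H), K.mul_mem hρ₀ (Subgroup.mem_inf.mp c.2).1⟩, ?_⟩
        left_inv := fun ρ => by
          apply Subtype.ext; apply Subtype.ext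
          simp
        right_inv := fun c => by
          apply Subtype.ext
          simp }
    · refine Subgroup.mem_inf.mpr ⟨K.mul_mem (K.inv_mem hρ₀) ρ.1.2, ?_⟩
      rw [Subgroup.mem_centralizer_singleton_iff]
      have h3 : (ρ.1 : H) * s * (ρ.1 : H)⁻¹ = ρ₀ * s * ρ₀⁻¹ := by
        have := congrArg Subtype.val ρ.2
        exact this.trans hy.symm
      have h4 : ρ₀⁻¹ * (ρ.1 : H) * s = ρ₀⁻¹ * ((ρ.1 : H) * s * (ρ.1 : H)⁻¹) * (ρ.1 : H) := by group
      rw [h4, h3]; group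
    · apply Subtype.ext
      show ρ₀ * (c : H) * s * (ρ₀ * (c : H))⁻¹ = y
      have h3 : (c : H) * s = s * (c : H) :=
        (Subgroup.mem_centralizer_singleton_iff.mp (Subgroup.mem_inf.mp c.2).2)
      rw [← hy]
      have h4 : ρ₀ * (c : H) * s * (ρ₀ * (c : H))⁻¹ = ρ₀ * ((c : H) * s) * (c : H)⁻¹ * ρ₀⁻¹ := by
        group
      rw [h4, h3]; group
  simp only [h2, Finset.sum_const, Finset.card_univ, smul_eq_mul, Nat.card_eq_fintype_card]

end Orbit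

section KleinCentral

variable {H : Type*} [Group H] [Finite H] (Q : Sylow 2 H)

/-- the normal `2`-complement is a complement of the Klein four Sylow subgroup -/
theorem kc_complement (hV : IsKleinFour (Q : Subgroup H))
    (z : H) (hzQ : z ∈ (Q : Subgroup H)) (hz1 : z ≠ 1) (hzc : ∀ h : H, z * h = h * z) :
    (Cfsg.pPrimeCore 2 H).IsComplement' (Q : Subgroup H) := by
  haveI : Fact (Nat.Prime 2) := ⟨Nat.prime_two⟩
  have hNC := normalizer_le_centralizer_of_kleinFour_central Q hV z hzQ hz1 hzc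
  have hcomp := MonoidHom.ker_transferSylow_isComplement' Q hNC
  rw [Cfsg.Agent.Lib.Helper18.pPrimeCore_eq_of_isComplement' Q _ hcomp]
  exact hcomp

theorem kc_card (hV : IsKleinFour (Q : Subgroup H))
    (hcomp : (Cfsg.pPrimeCore 2 H).IsComplement' (Q : Subgroup H)) :
    Nat.card H = 4 * Nat.card (Cfsg.pPrimeCore 2 H) := by
  have h := hcomp.card_mul_card
  have h4 : Nat.card (Q : Subgroup H) = 4 := hV.card_four
  rw [h4] at h
  omega

theorem kc_odd : Odd (Nat.card (Cfsg.pPrimeCore 2 H)) :=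
  Nat.coprime_two_right.mp (Cfsg.Agent.Lib.Helper1.pPrimeCore_coprime 2)

theorem kc_decomp (hcomp : (Cfsg.pPrimeCore 2 H).IsComplement' (Q : Subgroup H)) (x : H) :
    ∃ ρ ∈ Cfsg.pPrimeCore 2 H, ∃ s ∈ (Q : Subgroup H), x = ρ * s := by
  obtain ⟨⟨⟨ρ, hρ⟩, ⟨s, hs⟩⟩, h, -⟩ := Subgroup.IsComplement.existsUnique hcomp x
  exact ⟨ρ, hρ, s, hs, h.symm⟩

theorem kc_inf (x : H) (hx : x ∈ Cfsg.pPrimeCore 2 H) (hxQ : x ∈ (Q : Subgroup H)) : x = 1 := by
  haveI : Fact (Nat.Prime 2) := ⟨Nat.prime_two⟩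
  have h1 : orderOf x ∣ Nat.card (Cfsg.pPrimeCore 2 H) := by
    have := orderOf_dvd_natCard (⟨x, hx⟩ : Cfsg.pPrimeCore 2 H)
    rwa [Subgroup.orderOf_mk] at this
  obtain ⟨k, hk⟩ := (IsPGroup.iff_orderOf.mp Q.2) ⟨x, hxQ⟩
  rw [Subgroup.orderOf_mk] at hk
  have hodd : Odd (orderOf x) := Odd.of_dvd_nat kc_odd h1
  rw [hk] at hodd
  rcases Nat.eq_zero_or_pos k with h0 | h0
  · rw [h0, pow_zero] at hk
    exact orderOf_eq_one_iff.mp hk
  · exfalso
    rw [Nat.odd_pow_iff (Nat.pos_iff_ne_zero.mp h0)] at hodd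
    exact absurd hodd (by decide)

/-- an element of the normal `2`-complement does not have order 2 -/
theorem kc_not_invol (x : H) (hx : x ∈ Cfsg.pPrimeCore 2 H) : orderOf x ≠ 2 := by
  intro h2
  have h1 : orderOf x ∣ Nat.card (Cfsg.pPrimeCore 2 H) := by
    have := orderOf_dvd_natCard (⟨x, hx⟩ : Cfsg.pPrimeCore 2 H)
    rwa [Subgroup.orderOf_mk] at this
  have hodd : Odd (orderOf x) := Odd.of_dvd_nat kc_odd h1
  rw [h2] at hodd
  exact absurd hodd (by decide)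

theorem kc_mul_self (hV : IsKleinFour (Q : Subgroup H)) {s : H} (hs : s ∈ (Q : Subgroup H)) :
    s * s = 1 := by
  haveI := hV
  have h := IsKleinFour.mul_self (⟨s, hs⟩ : (Q : Subgroup H))
  exact congrArg Subtype.val h

theorem kc_inv (hV : IsKleinFour (Q : Subgroup H)) {s : H} (hs : s ∈ (Q : Subgroup H)) :
    s⁻¹ = s := by
  rw [inv_eq_iff_mul_eq_one]
  exact kc_mul_self Q hV hs

theorem kc_comm (hV : IsKleinFour (Q : Subgroup H)) {s t : H} (hs : s ∈ (Q : Subgroup H))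
    (ht : t ∈ (Q : Subgroup H)) : s * t = t * s := by
  haveI := hV
  have h1 : (⟨s, hs⟩ : (Q : Subgroup H)) * ⟨t, ht⟩ = ⟨t, ht⟩ * ⟨s, hs⟩ :=
    mul_comm_of_exponent_two IsKleinFour.exponent_two _ _
  exact congrArg Subtype.val h1

theorem kc_cases (hV : IsKleinFour (Q : Subgroup H)) {z s q : H} (hz : z ∈ (Q : Subgroup H))
    (hs : s ∈ (Q : Subgroup H)) (hq : q ∈ (Q : Subgroup H)) (hz1 : z ≠ 1) (hs1 : s ≠ 1)
    (hsz : s ≠ z) : q = 1 ∨ q = z ∨ q = s ∨ q = z * s := by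
  haveI := hV
  by_cases h1 : q = 1
  · exact Or.inl h1
  by_cases h2 : q = z
  · exact Or.inr (Or.inl h2)
  by_cases h3 : q = s
  · exact Or.inr (Or.inr (Or.inl h3))
  right; right; right
  have h := IsKleinFour.eq_mul_of_ne_all (x := (⟨z, hz⟩ : (Q : Subgroup H))) (y := ⟨s, hs⟩)
    (z := ⟨q, hq⟩) (fun h => hz1 (congrArg Subtype.val h)) (fun h => hs1 (congrArg Subtype.val h))
    (fun h => hsz (congrArg Subtype.val h).symm) (fun h => h1 (congrArg Subtype.val h))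
    (fun h => h2 (congrArg Subtype.val h)) (fun h => h3 (congrArg Subtype.val h))
  exact congrArg Subtype.val h

/-- the centralizer in the `2`-complement of a non-central involution of `Q` -/
theorem kc_inf_centralizer (hV : IsKleinFour (Q : Subgroup H)) {z s : H}
    (hz : z ∈ (Q : Subgroup H)) (hs : s ∈ (Q : Subgroup H)) (hz1 : z ≠ 1) (hs1 : s ≠ 1)
    (hsz : s ≠ z) (hzc : ∀ h : H, z * h = h * z) :
    Cfsg.pPrimeCore 2 H ⊓ Subgroup.centralizer ({s} : Set H)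
      = Cfsg.pPrimeCore 2 H ⊓ Subgroup.centralizer ((Q : Subgroup H) : Set H) := by
  ext x
  rw [Subgroup.mem_inf, Subgroup.mem_inf]
  constructor
  · rintro ⟨hx, hxs⟩
    refine ⟨hx, ?_⟩
    rw [Subgroup.mem_centralizer_iff]
    intro q hq
    have hxs' : x * s = s * x := Subgroup.mem_centralizer_singleton_iff.mp hxs
    rcases kc_cases Q hV hz hs hq hz1 hs1 hsz with h | h | h | h
    · rw [h, one_mul, mul_one]
    · rw [h]; exact hzc x
    · rw [h]; exact hxs'.symm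
    · rw [h, mul_assoc, ← hxs', ← mul_assoc, hzc x, mul_assoc]
  · rintro ⟨hx, hxQ⟩
    refine ⟨hx, ?_⟩
    rw [Subgroup.mem_centralizer_singleton_iff]
    exact ((Subgroup.mem_centralizer_iff.mp hxQ) s hs).symm

/-- the involutions in the coset `O s` are the `O`-conjugates of `s` -/
theorem kc_count (hV : IsKleinFour (Q : Subgroup H)) {z s : H}
    (hz : z ∈ (Q : Subgroup H)) (hs : s ∈ (Q : Subgroup H)) (hz1 : z ≠ 1) (hs1 : s ≠ 1)
    (hsz : s ≠ z) (hzc : ∀ h : H, z * h = h * z) :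
    Nat.card {x : H // orderOf x = 2 ∧ x * s⁻¹ ∈ Cfsg.pPrimeCore 2 H}
      * Nat.card ↥(Cfsg.pPrimeCore 2 H ⊓ Subgroup.centralizer ((Q : Subgroup H) : Set H))
      = Nat.card (Cfsg.pPrimeCore 2 H) := by
  haveI hOn : (Cfsg.pPrimeCore 2 H).Normal := Cfsg.Agent.Lib.Helper1.pPrimeCore_normal 2
  rw [← kc_inf_centralizer Q hV hz hs hz1 hs1 hsz hzc, ← card_conj_orbit (Cfsg.pPrimeCore 2 H) s]
  congr 1
  apply Nat.card_congr
  apply Equiv.subtypeEquivRight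
  intro x
  have hss : s * s = 1 := kc_mul_self Q hV hs
  have hsinv : s⁻¹ = s := kc_inv Q hV hs
  have hos : orderOf s = 2 := orderOf_eq_prime (by rw [pow_two]; exact hss) hs1
  constructor
  · rintro ⟨hx2, hxO⟩
    obtain ⟨τ, hτ⟩ : ∃ τ, τ = x * s⁻¹ := ⟨_, rfl⟩
    have hxτ : x = τ * s := by rw [hτ]; group
    have hxx : x * x = 1 := by
      have := pow_orderOf_eq_one x
      rwa [hx2, pow_two] at this
    -- `s` inverts `τ`
    have hinv : s * τ * s⁻¹ = τ⁻¹ := by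
      rw [hxτ] at hxx
      have h1 : s * τ * s = τ⁻¹ * (τ * s * (τ * s)) := by group
      rw [hsinv, h1, hxx, mul_one]
    have hodd : Odd (orderOf τ) := by
      have h1 : orderOf τ ∣ Nat.card (Cfsg.pPrimeCore 2 H) := by
        have := orderOf_dvd_natCard (⟨τ, hτ ▸ hxO⟩ : Cfsg.pPrimeCore 2 H)
        rwa [Subgroup.orderOf_mk] at this
      exact Odd.of_dvd_nat kc_odd h1
    obtain ⟨k, hk⟩ := hodd
    refine ⟨τ ^ (k + 1), Subgroup.pow_mem _ (hτ ▸ hxO) _, ?_⟩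
    have hρρ : τ ^ (k + 1) * τ ^ (k + 1) = τ := by
      rw [← pow_add, show k + 1 + (k + 1) = (2 * k + 1) + 1 by ring, ← hk, pow_succ,
        pow_orderOf_eq_one, one_mul]
    have hsρ : s * (τ ^ (k + 1))⁻¹ * s⁻¹ = τ ^ (k + 1) := by
      have h1 : s * (τ ^ (k + 1))⁻¹ * s⁻¹ = ((s * τ * s⁻¹) ^ (k + 1))⁻¹ := by
        rw [conj_pow]; group
      rw [h1, hinv, inv_pow, inv_inv]
    have h2 : τ ^ (k + 1) * s * (τ ^ (k + 1))⁻¹
        = τ ^ (k + 1) * (s * (τ ^ (k + 1))⁻¹ * s⁻¹) * s := by group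
    rw [h2, hsρ, hρρ, hxτ]
  · rintro ⟨ρ, hρ, rfl⟩
    constructor
    · have h1 : orderOf (ρ * s * ρ⁻¹) = orderOf s := by
        have := orderOf_injective (MulAut.conj ρ).toMonoidHom (MulAut.conj ρ).injective s
        simpa using this
      rw [h1, hos]
    · have h1 : ρ * s * ρ⁻¹ * s⁻¹ = ρ * (s * ρ⁻¹ * s⁻¹) := by group
      rw [h1]
      exact Subgroup.mul_mem _ hρ (hOn.conj_mem _ (Subgroup.inv_mem _ hρ) s)

theorem kc_card_centralizer (hV : IsKleinFour (Q : Subgroup H))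
    (hcomp : (Cfsg.pPrimeCore 2 H).IsComplement' (Q : Subgroup H)) :
    Nat.card (Subgroup.centralizer ((Q : Subgroup H) : Set H))
      = 4 * Nat.card ↥(Cfsg.pPrimeCore 2 H ⊓ Subgroup.centralizer ((Q : Subgroup H) : Set H)) := by
  haveI hOn : (Cfsg.pPrimeCore 2 H).Normal := Cfsg.Agent.Lib.Helper1.pPrimeCore_normal 2
  obtain ⟨D, hD⟩ : ∃ D, D = Subgroup.centralizer ((Q : Subgroup H) : Set H) := ⟨_, rfl⟩
  rw [← hD]
  have hQD : (Q : Subgroup H) ≤ D := by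
    intro u hu
    rw [hD, Subgroup.mem_centralizer_iff]
    intro q hq
    exact kc_comm Q hV hq hu
  have htop : D ⊔ Cfsg.pPrimeCore 2 H = ⊤ := by
    rw [eq_top_iff, ← hcomp.sup_eq_top]
    exact sup_le le_sup_right (hQD.trans le_sup_left)
  have h1 : (Cfsg.pPrimeCore 2 H).relIndex D = 4 := by
    rw [← Subgroup.relIndex_sup_right, htop, Subgroup.relIndex_top_right,
      hcomp.symm.index_eq_card]
    exact hV.card_four
  have h2 : (Cfsg.pPrimeCore 2 H ⊓ D).relIndex D = 4 := by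
    rw [Subgroup.inf_relIndex_right, h1]
  have h3 := Subgroup.card_mul_index ((Cfsg.pPrimeCore 2 H ⊓ D).subgroupOf D)
  have h4 : Nat.card ((Cfsg.pPrimeCore 2 H ⊓ D).subgroupOf D)
      = Nat.card ↥(Cfsg.pPrimeCore 2 H ⊓ D) :=
    Nat.card_congr (Subgroup.subgroupOfEquivOfLe inf_le_right).toEquiv
  rw [h4] at h3
  have h5 : ((Cfsg.pPrimeCore 2 H ⊓ D).subgroupOf D).index = 4 := h2
  rw [h5] at h3
  omega

/-- **the number of pairs of involutions `(x, y)` with `z x y` in the normal `2`-complement** -/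
theorem kc_card_pairs (hV : IsKleinFour (Q : Subgroup H))
    (z : H) (hzQ : z ∈ (Q : Subgroup H)) (hz1 : z ≠ 1) (hzc : ∀ h : H, z * h = h * z) :
    Nat.card {p : H × H // orderOf p.1 = 2 ∧ orderOf p.2 = 2 ∧
        z * p.1 * p.2 ∈ Cfsg.pPrimeCore 2 H}
      * Nat.card (Subgroup.centralizer ((Q : Subgroup H) : Set H)) ^ 2 = 2 * Nat.card H ^ 2 := by
  classical
  letI : Fintype H := Fintype.ofFinite H
  haveI hOn : (Cfsg.pPrimeCore 2 H).Normal := Cfsg.Agent.Lib.Helper1.pPrimeCore_normal 2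
  have hcomp := kc_complement Q hV z hzQ hz1 hzc
  obtain ⟨d, hd⟩ : ∃ d, d = Nat.card ↥(Cfsg.pPrimeCore 2 H ⊓
    Subgroup.centralizer ((Q : Subgroup H) : Set H)) := ⟨_, rfl⟩
  have hzz : z * z = 1 := kc_mul_self Q hV hzQ
  -- the index set
  obtain ⟨T, hT⟩ : ∃ T : Finset H, T = Finset.univ.filter
      (fun s : H => s ∈ (Q : Subgroup H) ∧ s ≠ 1 ∧ s ≠ z) := ⟨_, rfl⟩
  have hTmem : ∀ s, s ∈ T ↔ s ∈ (Q : Subgroup H) ∧ s ≠ 1 ∧ s ≠ z := by
    intro s; rw [hT, Finset.mem_filter]; simp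
  have hTcard : T.card = 2 := by
    have h1 : (Finset.univ.filter (fun s : H => s ∈ (Q : Subgroup H))).card = 4 := by
      rw [← Fintype.card_subtype, ← Nat.card_eq_fintype_card]
      exact hV.card_four
    have h2 : T = ((Finset.univ.filter (fun s : H => s ∈ (Q : Subgroup H))).erase 1).erase z := by
      ext s
      rw [hTmem, Finset.mem_erase, Finset.mem_erase, Finset.mem_filter]
      simp only [Finset.mem_univ, true_and]
      tauto
    rw [h2, Finset.card_erase_of_mem, Finset.card_erase_of_mem, h1]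
    · rw [Finset.mem_filter]; exact ⟨Finset.mem_univ _, Subgroup.one_mem _⟩
    · rw [Finset.mem_erase, Finset.mem_filter]; exact ⟨hz1, Finset.mem_univ _, hzQ⟩
  -- the involutions in a coset
  obtain ⟨I, hI⟩ : ∃ I : H → Finset H, I = fun s => Finset.univ.filter
      (fun x : H => orderOf x = 2 ∧ x * s⁻¹ ∈ Cfsg.pPrimeCore 2 H) := ⟨_, rfl⟩
  have hImem : ∀ s x, x ∈ I s ↔ orderOf x = 2 ∧ x * s⁻¹ ∈ Cfsg.pPrimeCore 2 H := by
    intro s x; rw [hI, Finset.mem_filter]; simp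
  have hIcard : ∀ s ∈ T, (I s).card * d = Nat.card (Cfsg.pPrimeCore 2 H) := by
    intro s hs
    obtain ⟨hsQ, hs1, hsz⟩ := (hTmem s).mp hs
    have h := kc_count Q hV hzQ hsQ hz1 hs1 hsz hzc
    rw [← hd, Nat.card_eq_fintype_card, Fintype.card_subtype] at h
    rw [← h, hI]
  have hszT : ∀ s ∈ T, s * z ∈ T := by
    intro s hs
    obtain ⟨hsQ, hs1, hsz⟩ := (hTmem s).mp hs
    rw [hTmem]
    refine ⟨Subgroup.mul_mem _ hsQ hzQ, ?_, ?_⟩
    · intro h
      apply hsz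
      have : s = s * z * z := by rw [mul_assoc, hzz, mul_one]
      rw [this, h, one_mul]
    · intro h
      apply hs1
      exact mul_eq_right.mp h
  have hkey : ∀ ρ₁ s₁ ρ₂ s₂ : H, z * (ρ₁ * s₁) * (ρ₂ * s₂)
      = ρ₁ * (s₁ * ρ₂ * s₁⁻¹) * (z * s₁ * s₂) := by
    intro ρ₁ s₁ ρ₂ s₂
    calc z * (ρ₁ * s₁) * (ρ₂ * s₂) = (z * ρ₁) * ((s₁ * ρ₂ * s₁⁻¹) * (s₁ * s₂)) := by group
      _ = (ρ₁ * z) * ((s₁ * ρ₂ * s₁⁻¹) * (s₁ * s₂)) := by rw [hzc ρ₁]
      _ = ρ₁ * (z * (s₁ * ρ₂ * s₁⁻¹)) * (s₁ * s₂) := by group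
      _ = ρ₁ * ((s₁ * ρ₂ * s₁⁻¹) * z) * (s₁ * s₂) := by rw [hzc (s₁ * ρ₂ * s₁⁻¹)]
      _ = ρ₁ * (s₁ * ρ₂ * s₁⁻¹) * (z * s₁ * s₂) := by group
  -- the set of pairs
  have hS : Finset.univ.filter (fun p : H × H => orderOf p.1 = 2 ∧ orderOf p.2 = 2 ∧
        z * p.1 * p.2 ∈ Cfsg.pPrimeCore 2 H)
      = T.biUnion (fun s => I s ×ˢ I (s * z)) := by
    ext ⟨x, y⟩
    rw [Finset.mem_filter, Finset.mem_biUnion]
    simp only [Finset.mem_univ, true_and, Finset.mem_product]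
    constructor
    · rintro ⟨hx2, hy2, hxy⟩
      obtain ⟨ρ₁, hρ₁, s₁, hs₁, hx⟩ := kc_decomp Q hcomp x
      obtain ⟨ρ₂, hρ₂, s₂, hs₂, hy⟩ := kc_decomp Q hcomp y
      have h1 : z * s₁ * s₂ ∈ Cfsg.pPrimeCore 2 H := by
        have e1 : z * s₁ * s₂ = (ρ₁ * (s₁ * ρ₂ * s₁⁻¹))⁻¹ * (z * x * y) := by
          rw [hx, hy, hkey]; group
        rw [e1]
        exact Subgroup.mul_mem _ (Subgroup.inv_mem _ (Subgroup.mul_mem _ hρ₁
          (hOn.conj_mem _ hρ₂ s₁))) hxy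
      have h2 : z * s₁ * s₂ = 1 := kc_inf Q _ h1
        (Subgroup.mul_mem _ (Subgroup.mul_mem _ hzQ hs₁) hs₂)
      have hs₂eq : s₂ = s₁ * z := by
        have h3 : s₂ = (z * s₁)⁻¹ := eq_inv_of_mul_eq_one_right h2
        rw [h3, kc_inv Q hV (Subgroup.mul_mem _ hzQ hs₁), kc_comm Q hV hzQ hs₁]
      have hs₁1 : s₁ ≠ 1 := by
        intro h
        rw [h, mul_one] at hx
        exact kc_not_invol x (hx ▸ hρ₁) hx2
      have hs₁z : s₁ ≠ z := by
        intro h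
        rw [hs₂eq, h, hzz, mul_one] at hy
        exact kc_not_invol y (hy ▸ hρ₂) hy2
      refine ⟨s₁, (hTmem s₁).mpr ⟨hs₁, hs₁1, hs₁z⟩, ?_, ?_⟩
      · rw [hImem]
        refine ⟨hx2, ?_⟩
        rw [hx, mul_assoc, mul_inv_cancel, mul_one]
        exact hρ₁
      · rw [hImem]
        refine ⟨hy2, ?_⟩
        rw [hy, ← hs₂eq, mul_assoc, mul_inv_cancel, mul_one]
        exact hρ₂
    · rintro ⟨s, hs, hx, hy⟩
      obtain ⟨hsQ, hs1, hsz⟩ := (hTmem s).mp hs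
      rw [hImem] at hx hy
      refine ⟨hx.1, hy.1, ?_⟩
      obtain ⟨ρ₁, hρ₁⟩ : ∃ ρ₁, ρ₁ = x * s⁻¹ := ⟨_, rfl⟩
      obtain ⟨ρ₂, hρ₂⟩ : ∃ ρ₂, ρ₂ = y * (s * z)⁻¹ := ⟨_, rfl⟩
      have hxe : x = ρ₁ * s := by rw [hρ₁]; group
      have hye : y = ρ₂ * (s * z) := by rw [hρ₂]; group
      have hss : s * s = 1 := kc_mul_self Q hV hsQ
      have e1 : z * x * y = ρ₁ * (s * ρ₂ * s⁻¹) := by
        rw [hxe, hye, hkey]
        have e3 : z * s * (s * z) = z * (s * s) * z := by group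
        rw [e3, hss, mul_one, hzz, mul_one]
      rw [e1]
      exact Subgroup.mul_mem _ (hρ₁ ▸ hx.2) (hOn.conj_mem _ (hρ₂ ▸ hy.2) s)
  -- disjointness
  have hdisj : (T : Set H).PairwiseDisjoint (fun s => I s ×ˢ I (s * z)) := by
    intro s hs s' hs' hne
    rw [Function.onFun, Finset.disjoint_left]
    rintro ⟨x, y⟩ hxy hxy'
    rw [Finset.mem_product, hImem] at hxy hxy'
    apply hne
    have hsQ := ((hTmem s).mp hs).1
    have hs'Q := ((hTmem s').mp hs').1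
    have h1 : s' * s⁻¹ ∈ Cfsg.pPrimeCore 2 H := by
      have e1 : s' * s⁻¹ = (x * s'⁻¹)⁻¹ * (x * s⁻¹) := by group
      rw [e1]
      exact Subgroup.mul_mem _ (Subgroup.inv_mem _ hxy'.1.2) hxy.1.2
    have h2 := kc_inf Q _ h1 (Subgroup.mul_mem _ hs'Q (Subgroup.inv_mem _ hsQ))
    exact (mul_inv_eq_one.mp h2).symm
  have hcardS : Nat.card {p : H × H // orderOf p.1 = 2 ∧ orderOf p.2 = 2 ∧
        z * p.1 * p.2 ∈ Cfsg.pPrimeCore 2 H}
      = ∑ s ∈ T, (I s).card * (I (s * z)).card := by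
    rw [Nat.card_eq_fintype_card, Fintype.card_subtype, hS, Finset.card_biUnion hdisj]
    apply Finset.sum_congr rfl
    intro s _
    rw [Finset.card_product]
  have hsum : (∑ s ∈ T, (I s).card * (I (s * z)).card) * d ^ 2
      = 2 * Nat.card (Cfsg.pPrimeCore 2 H) ^ 2 := by
    rw [Finset.sum_mul]
    have : ∀ s ∈ T, (I s).card * (I (s * z)).card * d ^ 2
        = Nat.card (Cfsg.pPrimeCore 2 H) ^ 2 := by
      intro s hs
      have h1 := hIcard s hs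
      have h2 := hIcard (s * z) (hszT s hs)
      calc (I s).card * (I (s * z)).card * d ^ 2
          = ((I s).card * d) * ((I (s * z)).card * d) := by ring
        _ = Nat.card (Cfsg.pPrimeCore 2 H) ^ 2 := by rw [h1, h2]; ring
    rw [Finset.sum_congr rfl this, Finset.sum_const, hTcard, smul_eq_mul]
  rw [hcardS, kc_card_centralizer Q hV hcomp, kc_card Q hV hcomp, ← hd]
  calc (∑ s ∈ T, (I s).card * (I (s * z)).card) * (4 * d) ^ 2
      = 16 * ((∑ s ∈ T, (I s).card * (I (s * z)).card) * d ^ 2) := by ring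
    _ = 2 * (4 * Nat.card (Cfsg.pPrimeCore 2 H)) ^ 2 := by rw [hsum]; ring

end KleinCentral

end Cfsg.Agent.Lib.Helper7
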