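import Mathlib
import Cfsg.Prelude.Def_Blocks
import Cfsg.Agent.Lib.Helper7.PPart
import Cfsg.Agent.Lib.Helper7.PPart2

/-!
# The `p`-part and `p'`-part as functions (helper7 library)

* `pPt p g`, `pRg p g`: the `p`-part and the `p`-regular part of `g` in a finite group.
* `sum_pPt_mem`: a sum over the elements whose `p`-part lies in a `p`-subgroup `P` centralized
  by all `p`-regular elements is a double sum over `P` and the `p`-regular elements.
-/

set_option autoImplicit false

namespace Cfsg.Agent.Lib.Helper7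

variable {G : Type*} [Group G] [Finite G]

/-- the `p`-part of an element of a finite group -/
noncomputable def pPt (p : ℕ) [Fact p.Prime] (g : G) : G :=
  Classical.choose (exists_isPPart p g (isOfFinOrder_of_finite g))

theorem pPt_spec (p : ℕ) [Fact p.Prime] (g : G) : Cfsg.IsPPart p g (pPt p g) :=
  Classical.choose_spec (exists_isPPart p g (isOfFinOrder_of_finite g))

theorem pPt_eq_of_isPPart (p : ℕ) [Fact p.Prime] {g x : G} (h : Cfsg.IsPPart p g x) :
    pPt p g = x :=
  isPPart_unique p (pPt_spec p g) h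

theorem pPt_conj (p : ℕ) [Fact p.Prime] (c g : G) :
    pPt p (c * g * c⁻¹) = c * pPt p g * c⁻¹ :=
  pPt_eq_of_isPPart p (isPPart_conj p c (pPt_spec p g))

theorem pPt_mul_of_commute (p : ℕ) [Fact p.Prime] {s k : G} (hs : ∃ j : ℕ, orderOf s = p ^ j)
    (hk : ¬ p ∣ orderOf k) (h : s * k = k * s) : pPt p (s * k) = s :=
  pPt_eq_of_isPPart p ⟨k, rfl, h, hs, hk⟩

/-- the `p`-regular part of an element of a finite group -/
noncomputable def pRg (p : ℕ) [Fact p.Prime] (g : G) : G := (pPt p g)⁻¹ * g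

theorem pPt_mul_pRg (p : ℕ) [Fact p.Prime] (g : G) : pPt p g * pRg p g = g := by
  unfold pRg; group

theorem pRg_regular (p : ℕ) [Fact p.Prime] (g : G) : ¬ p ∣ orderOf (pRg p g) := by
  obtain ⟨y, hxy, _, _, hy⟩ := pPt_spec p g
  have : pRg p g = y := by
    unfold pRg
    rw [inv_mul_eq_iff_eq_mul]; exact hxy.symm
  rw [this]; exact hy

theorem pPt_pRg_commute (p : ℕ) [Fact p.Prime] (g : G) :
    pPt p g * pRg p g = pRg p g * pPt p g := by
  obtain ⟨y, hxy, hc, _, hy⟩ := pPt_spec p g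
  have : pRg p g = y := by
    unfold pRg
    rw [inv_mul_eq_iff_eq_mul]; exact hxy.symm
  rw [this]; exact hc.eq

theorem pPt_orderOf (p : ℕ) [Fact p.Prime] (g : G) : ∃ j : ℕ, orderOf (pPt p g) = p ^ j := by
  obtain ⟨y, _, _, h, _⟩ := pPt_spec p g
  exact h

theorem pRg_mul_of_commute (p : ℕ) [Fact p.Prime] {s k : G} (hs : ∃ j : ℕ, orderOf s = p ^ j)
    (hk : ¬ p ∣ orderOf k) (h : s * k = k * s) : pRg p (s * k) = k := by
  unfold pRg
  rw [pPt_mul_of_commute p hs hk h]; group

theorem pRg_conj (p : ℕ) [Fact p.Prime] (c g : G) :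
    pRg p (c * g * c⁻¹) = c * pRg p g * c⁻¹ := by
  unfold pRg
  rw [pPt_conj]; group

theorem pPt_of_regular (p : ℕ) [Fact p.Prime] {g : G} (hg : ¬ p ∣ orderOf g) : pPt p g = 1 :=
  isPPart_eq_one_of_regular p hg (pPt_spec p g)

theorem pPt_one (p : ℕ) [hp : Fact p.Prime] : pPt p (1 : G) = 1 := by
  apply pPt_of_regular
  rw [orderOf_one]
  exact fun h => hp.out.one_lt.ne' (Nat.dvd_one.mp h)

theorem pRg_one (p : ℕ) [Fact p.Prime] : pRg p (1 : G) = 1 := by
  unfold pRg
  rw [pPt_one]; group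

/-- summing over the elements whose `p`-part lies in `P` -/
theorem sum_pPt_mem [Fintype G] (p : ℕ) [Fact p.Prime] (P : Subgroup G) (hP : IsPGroup p P)
    (hcent : ∀ y : G, ¬ p ∣ orderOf y → ∀ u ∈ P, u * y = y * u) (F : G → ℂ)
    [DecidablePred (fun g : G => pPt p g ∈ P)] [Fintype P] :
    ∑ g : G, (if pPt p g ∈ P then F g else 0)
      = ∑ u : P, ∑ y : G, if p ∣ orderOf y then 0 else F ((u : G) * y) := by
  classical
  have hord : ∀ u : P, ∃ j : ℕ, orderOf (u : G) = p ^ j := by
    intro u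
    obtain ⟨j, hj⟩ := (IsPGroup.iff_orderOf.mp hP) u
    exact ⟨j, by rw [← hj, Subgroup.orderOf_coe]⟩
  rw [← Finset.sum_filter]
  have h2 : ∀ u : P, (∑ y : G, if p ∣ orderOf y then 0 else F ((u : G) * y))
      = ∑ y ∈ Finset.univ.filter (fun y : G => ¬ p ∣ orderOf y), F ((u : G) * y) := by
    intro u
    rw [Finset.sum_filter]
    apply Finset.sum_congr rfl
    intro y _
    by_cases hy : p ∣ orderOf y
    · rw [if_pos hy, if_neg (not_not.mpr hy)]
    · rw [if_neg hy, if_pos hy]
  rw [Finset.sum_congr rfl (fun u _ => h2 u), ← Finset.sum_product']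
  symm
  apply Finset.sum_bij' (fun (x : P × G) _ => (x.1 : G) * x.2)
    (fun g hg => ((⟨pPt p g, (Finset.mem_filter.mp hg).2⟩ : P), pRg p g))
  case hi =>
    intro x hx
    rw [Finset.mem_product, Finset.mem_filter] at hx
    rw [Finset.mem_filter]
    refine ⟨Finset.mem_univ _, ?_⟩
    rw [pPt_mul_of_commute p (hord x.1) hx.2.2 (hcent x.2 hx.2.2 _ x.1.2)]
    exact x.1.2
  case hj =>
    intro g hg
    refine Finset.mem_product.mpr ⟨Finset.mem_univ _, ?_⟩
    exact Finset.mem_filter.mpr ⟨Finset.mem_univ _, pRg_regular p g⟩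
  case left_neg =>
    intro x hx
    rw [Finset.mem_product, Finset.mem_filter] at hx
    have h1 := pPt_mul_of_commute p (hord x.1) hx.2.2 (hcent x.2 hx.2.2 _ x.1.2)
    have h3 := pRg_mul_of_commute p (hord x.1) hx.2.2 (hcent x.2 hx.2.2 _ x.1.2)
    apply Prod.ext
    · apply Subtype.ext
      exact h1
    · exact h3
  case right_neg =>
    intro g hg
    exact pPt_mul_pRg p g
  case h =>
    intro x hx
    rfl

end Cfsg.Agent.Lib.Helper7
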