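import Mathlib
import Cfsg.Prelude.Def_BlockRank
import Cfsg.Agent.Lib.Helper7.SectionOrtho
import Cfsg.Agent.Lib.Helper7.PPartFn
import Cfsg.Agent.S0925

/-!
# Brauer's count of the characters in a block by subsections

`k(B) = ∑_x ∑_{b^G = B} l(b)`, the sum over representatives `x` of the classes of `p`-elements and
the blocks `b` of `C_G(x)` inducing `B`.
-/

set_option autoImplicit false
open scoped ComplexConjugate
open Cfsg

namespace Cfsg.Agent.Lib.Helper7

open Cfsg.Agent.Lib.Helper24 Cfsg.Agent.Lib.Helper2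

section LinearAlgebra

/-- **trace trick**: a subspace carrying a complete system of orthogonal projections has dimension
the sum of the dimensions of the images -/
theorem finrank_eq_sum_of_projections {V : Type*} [AddCommGroup V] [Module ℂ V]
    [FiniteDimensional ℂ V]
    (W : Submodule ℂ V) {ι : Type*} [DecidableEq ι] (s : Finset ι) (T : ι → V →ₗ[ℂ] V)
    (hmap : ∀ i ∈ s, ∀ w ∈ W, T i w ∈ W)
    (hsum : ∀ w ∈ W, ∑ i ∈ s, T i w = w)
    (horth : ∀ i ∈ s, ∀ j ∈ s, ∀ w ∈ W, T i (T j w) = if i = j then T i w else 0) :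
    Module.finrank ℂ W = ∑ i ∈ s, Module.finrank ℂ (W.map (T i)) := by
  classical
  let t : {i // i ∈ s} → (W →ₗ[ℂ] W) := fun i => (T i.1).restrict (hmap i.1 i.2)
  have hproj : ∀ i : {i // i ∈ s}, LinearMap.IsProj (LinearMap.range (t i)) (t i) := by
    intro i
    refine ⟨fun x => LinearMap.mem_range_self _ x, ?_⟩
    rintro x ⟨w, rfl⟩
    apply Subtype.ext
    have := horth i.1 i.2 i.1 i.2 w.1 w.2
    rw [if_pos rfl] at this
    exact this
  have hid : (LinearMap.id : W →ₗ[ℂ] W) = ∑ i : {i // i ∈ s}, t i := by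
    apply LinearMap.ext
    intro w
    apply Subtype.ext
    rw [LinearMap.id_apply, LinearMap.sum_apply]
    have h1 : ((∑ i : {i // i ∈ s}, t i w : W) : V) = ∑ i : {i // i ∈ s}, T i.1 w.1 := by
      rw [Submodule.coe_sum]
      rfl
    rw [h1, Finset.sum_coe_sort s (fun i => T i w.1), hsum w.1 w.2]
  have htr : (Module.finrank ℂ W : ℂ)
      = ∑ i : {i // i ∈ s}, (Module.finrank ℂ (LinearMap.range (t i)) : ℂ) := by
    rw [← LinearMap.trace_id ℂ W, hid, map_sum]
    apply Finset.sum_congr rfl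
    intro i _
    exact (hproj i).trace
  have hrange : ∀ i : {i // i ∈ s}, Module.finrank ℂ (LinearMap.range (t i))
      = Module.finrank ℂ (W.map (T i.1)) := by
    intro i
    have e : (LinearMap.range (t i)).map W.subtype = W.map (T i.1) := by
      ext v
      constructor
      · rintro ⟨w, ⟨w', rfl⟩, rfl⟩
        exact ⟨w'.1, w'.2, rfl⟩
      · rintro ⟨w, hw, rfl⟩
        exact ⟨t i ⟨w, hw⟩, ⟨⟨w, hw⟩, rfl⟩, rfl⟩
    rw [← Submodule.finrank_map_subtype_eq W (LinearMap.range (t i)), e]
  have : ((Module.finrank ℂ W : ℕ) : ℂ)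
      = ((∑ i ∈ s, Module.finrank ℂ (W.map (T i)) : ℕ) : ℂ) := by
    rw [htr]
    push_cast
    rw [← Finset.sum_coe_sort s (fun i => (Module.finrank ℂ (W.map (T i)) : ℂ))]
    apply Finset.sum_congr rfl
    intro i _
    rw [hrange i]
  exact_mod_cast this

/-- two subspaces of a coordinate space with the same annihilating vectors are equal -/
theorem submodule_eq_of_annihilator {ι : Type*} [Fintype ι] [DecidableEq ι]
    (U U' : Submodule ℂ (ι → ℂ))
    (h : ∀ φ : ι → ℂ, (∀ u ∈ U, ∑ i, u i * φ i = 0) ↔ (∀ u ∈ U', ∑ i, u i * φ i = 0)) :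
    U = U' := by
  apply Subspace.dualAnnihilator_inj.mp
  ext ℓ
  rw [Submodule.mem_dualAnnihilator, Submodule.mem_dualAnnihilator]
  have key : ∀ u : ι → ℂ, ℓ u = ∑ i, u i * ℓ (Pi.single i 1) := by
    intro u
    conv_lhs => rw [← Finset.univ_sum_single u]
    rw [map_sum]
    apply Finset.sum_congr rfl
    intro i _
    have : (Pi.single i (u i) : ι → ℂ) = u i • Pi.single i 1 := by
      ext j
      simp [Pi.single_apply]
    rw [this, map_smul, smul_eq_mul]
  have := h (fun i => ℓ (Pi.single i 1))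
  constructor
  · intro hU u hu
    rw [key]
    exact this.mp (fun u hu => by rw [← key]; exact hU u hu) u hu
  · intro hU u hu
    rw [key]
    exact this.mpr (fun u hu => by rw [← key]; exact hU u hu) u hu

/-- a linear condition holds on a span as soon as it holds on the generators -/
theorem forall_mem_span_sum_eq_zero {ι : Type*} [Fintype ι] (S : Set (ι → ℂ)) (φ : ι → ℂ) :
    (∀ u ∈ Submodule.span ℂ S, ∑ i, u i * φ i = 0) ↔ (∀ u ∈ S, ∑ i, u i * φ i = 0) := by
  constructor
  · intro h u hu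
    exact h u (Submodule.subset_span hu)
  · intro h u hu
    induction hu using Submodule.span_induction with
    | mem x hx => exact h x hx
    | zero => simp
    | add x y _ _ hx hy =>
      simp only [Pi.add_apply, add_mul, Finset.sum_add_distrib, hx, hy, add_zero]
    | smul a x _ hx =>
      simp only [Pi.smul_apply, smul_eq_mul, mul_assoc]
      rw [← Finset.mul_sum, hx, mul_zero]

end LinearAlgebra

section Irr

variable {G : Type*} [Group G] [Fintype G]

/-- the irreducible characters are linearly independent -/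
theorem linearIndependent_irr :
    LinearIndependent ℂ (fun ζ : Cfsg.IrrCharacter G => (ζ : G → ℂ)) := by
  classical
  haveI : Fintype (Cfsg.IrrCharacter G) := Fintype.ofFinite _
  rw [Fintype.linearIndependent_iff]
  intro c hc ψ
  have h : Cfsg.classInner (∑ i, c i • (fun ζ : Cfsg.IrrCharacter G => (ζ : G → ℂ)) i)
      (ψ : G → ℂ) = Cfsg.classInner (0 : G → ℂ) (ψ : G → ℂ) := by rw [hc]
  rw [Cfsg.Agent.Lib.Helper25.classInner_sum_left] at h
  have h0 : Cfsg.classInner (0 : G → ℂ) (ψ : G → ℂ) = 0 := by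
    unfold Cfsg.classInner
    simp
  rw [h0, Finset.sum_eq_single ψ] at h
  · rw [classInner_irrCharacter_self, mul_one] at h
    exact h
  · intro ζ _ hζ
    rw [classInner_irrCharacter_ne hζ, mul_zero]
  · intro hψ; exact absurd (Finset.mem_univ _) hψ

/-- the span of a set of irreducible characters has dimension its cardinality -/
theorem finrank_span_irr (B : Set (Cfsg.IrrCharacter G)) :
    Module.finrank ℂ (Submodule.span ℂ ((fun ζ : Cfsg.IrrCharacter G => (ζ : G → ℂ)) '' B))
      = Nat.card B := by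
  classical
  haveI : Fintype (Cfsg.IrrCharacter G) := Fintype.ofFinite _
  haveI : Fintype B := Fintype.ofFinite _
  have hli : LinearIndependent ℂ (fun ζ : B => ((ζ : Cfsg.IrrCharacter G) : G → ℂ)) :=
    linearIndependent_irr.comp (fun ζ : B => (ζ : Cfsg.IrrCharacter G)) Subtype.val_injective
  have h := finrank_span_eq_card hli
  have hset : (fun ζ : Cfsg.IrrCharacter G => (ζ : G → ℂ)) '' B
      = Set.range (fun ζ : B => ((ζ : Cfsg.IrrCharacter G) : G → ℂ)) := by
    ext f
    constructor
    · rintro ⟨ζ, hζ, rfl⟩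
      exact ⟨⟨ζ, hζ⟩, rfl⟩
    · rintro ⟨ζ, rfl⟩
      exact ⟨ζ.1, ζ.2, rfl⟩
  rw [Nat.card_eq_fintype_card, ← h, hset]

end Irr

section Proj

open Classical

variable {G : Type*} [Group G] [Fintype G]

/-- projection to the span of a set of irreducible characters -/
noncomputable def blockProj (B : Set (Cfsg.IrrCharacter G)) : (G → ℂ) →ₗ[ℂ] (G → ℂ) :=
  haveI : Fintype (Cfsg.IrrCharacter G) := Fintype.ofFinite _
  { toFun := fun f => ∑ ψ : Cfsg.IrrCharacter G,
      if ψ ∈ B then Cfsg.classInner f (ψ : G → ℂ) • (ψ : G → ℂ) else 0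
    map_add' := by
      intro f g
      rw [← Finset.sum_add_distrib]
      apply Finset.sum_congr rfl
      intro ψ _
      by_cases hψ : ψ ∈ B
      · simp only [if_pos hψ, classInner_add_left, add_smul]
      · simp only [if_neg hψ, add_zero]
    map_smul' := by
      intro c f
      rw [RingHom.id_apply, Finset.smul_sum]
      apply Finset.sum_congr rfl
      intro ψ _
      by_cases hψ : ψ ∈ B
      · simp only [if_pos hψ, classInner_smul_left, mul_smul]
      · simp only [if_neg hψ, smul_zero] }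

theorem blockProj_apply [Fintype (Cfsg.IrrCharacter G)] (B : Set (Cfsg.IrrCharacter G))
    (f : G → ℂ) (g : G) :
    blockProj B f g = ∑ ψ : Cfsg.IrrCharacter G,
      if ψ ∈ B then Cfsg.classInner f (ψ : G → ℂ) * (ψ : G → ℂ) g else 0 := by
  unfold blockProj
  simp only [LinearMap.coe_mk, AddHom.coe_mk, Finset.sum_apply]
  apply Finset.sum_congr
  · ext ψ; simp
  intro ψ _
  by_cases hψ : ψ ∈ B
  · simp only [if_pos hψ, Pi.smul_apply, smul_eq_mul]
  · simp only [if_neg hψ, Pi.zero_apply]

theorem blockProj_mem_span (B : Set (Cfsg.IrrCharacter G)) (f : G → ℂ) :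
    blockProj B f ∈ Submodule.span ℂ ((fun ζ : Cfsg.IrrCharacter G => (ζ : G → ℂ)) '' B) := by
  unfold blockProj
  simp only [LinearMap.coe_mk, AddHom.coe_mk]
  apply Submodule.sum_mem
  intro ψ _
  by_cases hψ : ψ ∈ B
  · rw [if_pos hψ]
    exact Submodule.smul_mem _ _ (Submodule.subset_span ⟨ψ, hψ, rfl⟩)
  · rw [if_neg hψ]
    exact Submodule.zero_mem _

theorem blockProj_irr (B : Set (Cfsg.IrrCharacter G)) (ζ : Cfsg.IrrCharacter G) :
    blockProj B (ζ : G → ℂ) = if ζ ∈ B then (ζ : G → ℂ) else 0 := by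
  haveI : Fintype (Cfsg.IrrCharacter G) := Fintype.ofFinite _
  funext g
  rw [blockProj_apply, Finset.sum_eq_single ζ]
  · by_cases hζ : ζ ∈ B
    · rw [if_pos hζ, if_pos hζ, classInner_irrCharacter_self, one_mul]
    · rw [if_neg hζ, if_neg hζ]; rfl
  · intro ψ _ hψ
    by_cases hψB : ψ ∈ B
    · rw [if_pos hψB, classInner_irrCharacter_ne hψ.symm, zero_mul]
    · rw [if_neg hψB]
  · intro h; exact absurd (Finset.mem_univ _) h

/-- the kernel form of the block projection -/
theorem blockProj_kernel [Fintype (Cfsg.IrrCharacter G)] (B : Set (Cfsg.IrrCharacter G))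
    (f : G → ℂ) (g : G) :
    blockProj B f g = (Nat.card G : ℂ)⁻¹ * ∑ h : G, f h *
      ∑ ψ : Cfsg.IrrCharacter G, if ψ ∈ B then (ψ : G → ℂ) g * conj ((ψ : G → ℂ) h) else 0 := by
  rw [blockProj_apply]
  simp only [Finset.mul_sum]
  rw [Finset.sum_comm]
  apply Finset.sum_congr rfl
  intro ψ _
  by_cases hψ : ψ ∈ B
  · simp only [if_pos hψ]
    unfold Cfsg.classInner
    rw [mul_assoc, Finset.sum_mul, Finset.mul_sum]
    apply Finset.sum_congr rfl
    intro h _
    ring
  · simp only [if_neg hψ, mul_zero, Finset.sum_const_zero]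

/-- truncation of a function to a set -/
noncomputable def setTrunc (A : Set G) : (G → ℂ) →ₗ[ℂ] (G → ℂ) where
  toFun := fun f g => if g ∈ A then f g else 0
  map_add' := by
    intro f g
    funext x
    by_cases hx : x ∈ A
    · simp only [Pi.add_apply, if_pos hx]
    · simp only [Pi.add_apply, if_neg hx, add_zero]
  map_smul' := by
    intro c f
    funext x
    by_cases hx : x ∈ A
    · simp only [Pi.smul_apply, if_pos hx, RingHom.id_apply]
    · simp only [Pi.smul_apply, if_neg hx, RingHom.id_apply, smul_zero]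

theorem setTrunc_apply (A : Set G) (f : G → ℂ) (g : G) :
    setTrunc A f g = if g ∈ A then f g else 0 := rfl

end Proj

section Sections

open Classical

variable {G : Type*} [Group G] [Fintype G] {p : ℕ} [Fact p.Prime] {M : Ideal Cfsg.AlgInt}

/-- the `p`-section of `x` -/
def pSection (p : ℕ) [Fact p.Prime] (x : G) : Set G := {g | IsConj (pPt p g) x}

theorem mem_pSection (x g : G) : g ∈ pSection p x ↔ IsConj (pPt p g) x := Iff.rfl

/-- block orthogonality for elements of different sections -/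
theorem kernel_eq_zero_of_sections (hM : Cfsg.IsPModular p M) (B : Set (Cfsg.IrrCharacter G))
    (hB : Cfsg.IsPBlock M B) [Fintype (Cfsg.IrrCharacter G)] (g h : G)
    (hgh : ¬ IsConj (pPt p g) (pPt p h)) :
    ∑ ψ : Cfsg.IrrCharacter G,
      (if ψ ∈ B then (ψ : G → ℂ) g * conj ((ψ : G → ℂ) h) else 0) = 0 := by
  have h1 := block_orthogonality hM B hB g h (fun c k hk => by
    by_contra hpk
    exact hgh (isConj_of_pow_conj p (pPt_spec p g) (pPt_spec p h) hpk hk).symm)
  rw [finsum_mem_eq_sum_ite] at h1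
  exact h1

/-- truncations to different sections are separated by the block projection -/
theorem setTrunc_blockProj_setTrunc (hM : Cfsg.IsPModular p M) (B : Set (Cfsg.IrrCharacter G))
    (hB : Cfsg.IsPBlock M B) (x x' : G) (hxx : ¬ IsConj x x') (f : G → ℂ) :
    setTrunc (pSection p x) (blockProj B (setTrunc (pSection p x') f)) = 0 := by
  haveI : Fintype (Cfsg.IrrCharacter G) := Fintype.ofFinite _
  funext g
  rw [setTrunc_apply]
  by_cases hg : g ∈ pSection p x
  · rw [if_pos hg, blockProj_kernel]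
    have : ∀ h : G, setTrunc (pSection p x') f h *
        ∑ ψ : Cfsg.IrrCharacter G,
          (if ψ ∈ B then (ψ : G → ℂ) g * conj ((ψ : G → ℂ) h) else 0) = 0 := by
      intro h
      rw [setTrunc_apply]
      by_cases hh : h ∈ pSection p x'
      · rw [if_pos hh, kernel_eq_zero_of_sections hM B hB g h, mul_zero]
        intro hc
        apply hxx
        exact (((mem_pSection x g).mp hg).symm.trans hc).trans ((mem_pSection x' h).mp hh)
      · rw [if_neg hh, zero_mul]
    rw [Finset.sum_congr rfl (fun h _ => this h), Finset.sum_const_zero, mul_zero]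
    rfl
  · rw [if_neg hg]; rfl

/-- the sections of a set of representatives partition the group -/
theorem sum_setTrunc_pSection (X : Finset G)
    (hXrep : ∀ g : G, (∃ k : ℕ, orderOf g = p ^ k) → ∃! x, x ∈ X ∧ IsConj g x) (f : G → ℂ) :
    ∑ x ∈ X, setTrunc (pSection p x) f = f := by
  funext g
  rw [Finset.sum_apply]
  obtain ⟨x₀, ⟨hx₀X, hx₀⟩, huniq⟩ := hXrep (pPt p g) (pPt_orderOf p g)
  rw [Finset.sum_eq_single x₀]
  · rw [setTrunc_apply, if_pos ((mem_pSection x₀ g).mpr hx₀)]
  · intro x hxX hne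
    rw [setTrunc_apply, if_neg]
    intro hg
    exact hne (huniq x ⟨hxX, (mem_pSection x g).mp hg⟩)
  · intro h; exact absurd hx₀X h

theorem setTrunc_setTrunc_pSection (X : Finset G)
    (hXrep : ∀ g : G, (∃ k : ℕ, orderOf g = p ^ k) → ∃! x, x ∈ X ∧ IsConj g x)
    (x x' : G) (hx : x ∈ X) (hx' : x' ∈ X) (f : G → ℂ) :
    setTrunc (pSection p x) (setTrunc (pSection p x') f)
      = if x = x' then setTrunc (pSection p x) f else 0 := by
  funext g
  rw [setTrunc_apply, setTrunc_apply]
  by_cases hxx : x = x'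
  · subst hxx
    rw [if_pos rfl, setTrunc_apply]
    by_cases hg : g ∈ pSection p x
    · rw [if_pos hg, if_pos hg]
    · rw [if_neg hg, if_neg hg]
  · rw [if_neg hxx]
    by_cases hg : g ∈ pSection p x
    · rw [if_pos hg, if_neg]
      · rfl
      · intro hg'
        obtain ⟨x₀, _, huniq⟩ := hXrep (pPt p g) (pPt_orderOf p g)
        have h1 := huniq x ⟨hx, (mem_pSection x g).mp hg⟩
        have h2 := huniq x' ⟨hx', (mem_pSection x' g).mp hg'⟩
        exact hxx (h1.trans h2.symm)
    · rw [if_neg hg]; rfl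

/-- distinct representatives are not conjugate -/
theorem not_isConj_of_ne (X : Finset G) (hX : ∀ x ∈ X, ∃ k : ℕ, orderOf x = p ^ k)
    (hXrep : ∀ g : G, (∃ k : ℕ, orderOf g = p ^ k) → ∃! x, x ∈ X ∧ IsConj g x)
    (x x' : G) (hx : x ∈ X) (hx' : x' ∈ X) (hne : x ≠ x') : ¬ IsConj x x' := by
  intro hc
  obtain ⟨x₀, _, huniq⟩ := hXrep x (hX x hx)
  have h1 := huniq x ⟨hx, IsConj.refl x⟩
  have h2 := huniq x' ⟨hx', hc⟩
  exact hne (h1.trans h2.symm)

/-- the truncation of a character of `B` to a section lies in the span of `B` -/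
theorem setTrunc_mem_span (hM : Cfsg.IsPModular p M) (B : Set (Cfsg.IrrCharacter G))
    (hB : Cfsg.IsPBlock M B) (X : Finset G) (hX : ∀ x ∈ X, ∃ k : ℕ, orderOf x = p ^ k)
    (hXrep : ∀ g : G, (∃ k : ℕ, orderOf g = p ^ k) → ∃! x, x ∈ X ∧ IsConj g x)
    (x : G) (hx : x ∈ X) (ζ : Cfsg.IrrCharacter G) (hζ : ζ ∈ B) :
    setTrunc (pSection p x) (ζ : G → ℂ)
      ∈ Submodule.span ℂ ((fun ζ : Cfsg.IrrCharacter G => (ζ : G → ℂ)) '' B) := by
  have hPζ : blockProj B (ζ : G → ℂ) = (ζ : G → ℂ) := by rw [blockProj_irr, if_pos hζ]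
  have hsumζ := sum_setTrunc_pSection X hXrep (ζ : G → ℂ)
  -- `T_x ζ = T_x P_B T_x ζ`
  have h1 : setTrunc (pSection p x) (ζ : G → ℂ)
      = setTrunc (pSection p x) (blockProj B (setTrunc (pSection p x) (ζ : G → ℂ))) := by
    conv_lhs => rw [← hPζ, ← hsumζ]
    rw [map_sum, map_sum, Finset.sum_eq_single x]
    · intro x' hx' hne
      exact setTrunc_blockProj_setTrunc hM B hB x x'
        (not_isConj_of_ne X hX hXrep x x' hx hx' hne.symm) _
    · intro h; exact absurd hx h
  -- `P_B T_x ζ = T_x P_B T_x ζ`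
  have h2 : blockProj B (setTrunc (pSection p x) (ζ : G → ℂ))
      = setTrunc (pSection p x) (blockProj B (setTrunc (pSection p x) (ζ : G → ℂ))) := by
    conv_lhs => rw [← sum_setTrunc_pSection X hXrep
      (blockProj B (setTrunc (pSection p x) (ζ : G → ℂ)))]
    rw [Finset.sum_eq_single x]
    · intro x' hx' hne
      exact setTrunc_blockProj_setTrunc hM B hB x' x
        (not_isConj_of_ne X hX hXrep x' x hx' hx hne) _
    · intro h; exact absurd hx h
  rw [h1, ← h2]
  exact blockProj_mem_span B _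

/-- **the span of a block is the direct sum of its section truncations** -/
theorem finrank_span_eq_sum_sections (hM : Cfsg.IsPModular p M) (B : Set (Cfsg.IrrCharacter G))
    (hB : Cfsg.IsPBlock M B) (X : Finset G) (hX : ∀ x ∈ X, ∃ k : ℕ, orderOf x = p ^ k)
    (hXrep : ∀ g : G, (∃ k : ℕ, orderOf g = p ^ k) → ∃! x, x ∈ X ∧ IsConj g x) :
    Nat.card B = ∑ x ∈ X, Module.finrank ℂ
      ((Submodule.span ℂ ((fun ζ : Cfsg.IrrCharacter G => (ζ : G → ℂ)) '' B)).map
        (setTrunc (pSection p x))) := by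
  rw [← finrank_span_irr B]
  apply finrank_eq_sum_of_projections _ X (fun x => setTrunc (pSection p x))
  · intro x hx w hw
    have : Submodule.span ℂ ((fun ζ : Cfsg.IrrCharacter G => (ζ : G → ℂ)) '' B)
        ≤ (Submodule.span ℂ ((fun ζ : Cfsg.IrrCharacter G => (ζ : G → ℂ)) '' B)).comap
          (setTrunc (pSection p x)) := by
      rw [Submodule.span_le]
      rintro _ ⟨ζ, hζ, rfl⟩
      exact setTrunc_mem_span hM B hB X hX hXrep x hx ζ hζ
    exact this hw
  · intro w _
    exact sum_setTrunc_pSection X hXrep w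
  · intro x hx x' hx' w _
    exact setTrunc_setTrunc_pSection X hXrep x x' hx hx' w

end Sections

end Cfsg.Agent.Lib.Helper7
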