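import Mathlib
import Cfsg.Agent.Lib.Helper7.BrauerCount

/-!
# Brauer's count of the characters in a block by subsections, part 2

the section part of the span of a block, transported to the centralizer
-/

set_option autoImplicit false
open scoped ComplexConjugate
open Cfsg

namespace Cfsg.Agent.Lib.Helper7

open Cfsg.Agent.Lib.Helper24 Cfsg.Agent.Lib.Helper2

section LinearAlgebra2

theorem sum_pairing_normSq {ι Y : Type*} [Fintype ι] [Fintype Y] (u : ι → Y → ℂ) (φ : Y → ℂ) :
    ∑ i, (∑ y, u i y * φ y) * conj (∑ y, u i y * φ y)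
      = ∑ y, ∑ y', φ y * conj (φ y') * ∑ i, u i y * conj (u i y') := by
  have h1 : ∀ i, (∑ y, u i y * φ y) * conj (∑ y, u i y * φ y)
      = ∑ y, ∑ y', φ y * conj (φ y') * (u i y * conj (u i y')) := by
    intro i
    rw [map_sum, Finset.sum_mul_sum]
    apply Finset.sum_congr rfl
    intro y _
    apply Finset.sum_congr rfl
    intro y' _
    rw [map_mul]
    ring
  rw [Finset.sum_congr rfl (fun i _ => h1 i), Finset.sum_comm]
  apply Finset.sum_congr rfl
  intro y _
  rw [Finset.sum_comm]
  apply Finset.sum_congr rfl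
  intro y' _
  rw [Finset.mul_sum]

theorem forall_eq_zero_of_sum_mul_conj {κ : Type*} [Fintype κ] (b : κ → ℂ)
    (h : ∑ j, b j * conj (b j) = 0) : ∀ j, b j = 0 := by
  have h1 : ∑ j, Complex.normSq (b j) = 0 := by
    have : ((∑ j, Complex.normSq (b j) : ℝ) : ℂ) = 0 := by
      rw [← h]
      push_cast
      apply Finset.sum_congr rfl
      intro j _
      rw [Complex.mul_conj]
    exact_mod_cast this
  intro j
  have := (Finset.sum_eq_zero_iff_of_nonneg (fun j _ => Complex.normSq_nonneg (b j))).mp h1 j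
    (Finset.mem_univ j)
  exact Complex.normSq_eq_zero.mp this

/-- two families with the same Gram kernel annihilate the same vectors -/
theorem pairing_zero_iff {ι κ Y : Type*} [Fintype ι] [Fintype κ] [Fintype Y]
    (u : ι → Y → ℂ) (v : κ → Y → ℂ)
    (h : ∀ y y', ∑ i, u i y * conj (u i y') = ∑ j, v j y * conj (v j y')) (φ : Y → ℂ) :
    (∀ i, ∑ y, u i y * φ y = 0) ↔ (∀ j, ∑ y, v j y * φ y = 0) := by
  have key : ∑ i, (∑ y, u i y * φ y) * conj (∑ y, u i y * φ y)
      = ∑ j, (∑ y, v j y * φ y) * conj (∑ y, v j y * φ y) := by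
    rw [sum_pairing_normSq, sum_pairing_normSq]
    apply Finset.sum_congr rfl
    intro y _
    apply Finset.sum_congr rfl
    intro y' _
    rw [h]
  constructor
  · intro hu
    apply forall_eq_zero_of_sum_mul_conj
    rw [← key]
    apply Finset.sum_eq_zero
    intro i _
    rw [hu i, zero_mul]
  · intro hv
    apply forall_eq_zero_of_sum_mul_conj
    rw [key]
    apply Finset.sum_eq_zero
    intro j _
    rw [hv j, zero_mul]

theorem finrank_map_of_injOn {V V' : Type*} [AddCommGroup V] [Module ℂ V] [AddCommGroup V']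
    [Module ℂ V'] (K : Submodule ℂ V) (f : V →ₗ[ℂ] V')
    (hf : ∀ w ∈ K, f w = 0 → w = 0) :
    Module.finrank ℂ (K.map f) = Module.finrank ℂ K := by
  have hinj : Function.Injective (f.domRestrict K) := by
    rw [← LinearMap.ker_eq_bot, LinearMap.ker_eq_bot']
    intro w hw
    apply Subtype.ext
    exact hf w.1 w.2 hw
  have hr : LinearMap.range (f.domRestrict K) = K.map f := by
    ext v
    constructor
    · rintro ⟨w, rfl⟩
      exact ⟨w.1, w.2, rfl⟩
    · rintro ⟨w, hw, rfl⟩
      exact ⟨⟨w, hw⟩, rfl⟩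
  rw [← hr, LinearMap.finrank_range_of_inj hinj]

end LinearAlgebra2

section Shift

open Classical

variable {G : Type*} [Group G] [Fintype G] {p : ℕ} [Fact p.Prime] {M : Ideal Cfsg.AlgInt}

/-- the shifted restriction `f ↦ (y ↦ f (x y))` to the `p`-regular elements of `C_G(x)` -/
noncomputable def regShift (p : ℕ) (x : G) :
    (G → ℂ) →ₗ[ℂ] (Subgroup.centralizer ({x} : Set G) → ℂ) where
  toFun := fun f y => if ¬ p ∣ orderOf y then f (x * (y : G)) else 0
  map_add' := by
    intro f g
    funext y
    by_cases hy : ¬ p ∣ orderOf y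
    · simp only [Pi.add_apply, if_pos hy]
    · simp only [Pi.add_apply, if_neg hy, add_zero]
  map_smul' := by
    intro c f
    funext y
    by_cases hy : ¬ p ∣ orderOf y
    · simp only [Pi.smul_apply, if_pos hy, RingHom.id_apply]
    · simp only [Pi.smul_apply, if_neg hy, RingHom.id_apply, smul_zero]

theorem regShift_apply (x : G) (f : G → ℂ) (y : Subgroup.centralizer ({x} : Set G)) :
    regShift p x f y = if ¬ p ∣ orderOf y then f (x * (y : G)) else 0 := rfl

theorem mul_mem_pSection (x : G) (hx : ∃ k : ℕ, orderOf x = p ^ k)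
    (y : Subgroup.centralizer ({x} : Set G)) (hy : ¬ p ∣ orderOf y) :
    x * (y : G) ∈ pSection p x := by
  rw [mem_pSection]
  have hy' : ¬ p ∣ orderOf (y : G) := by rwa [Subgroup.orderOf_coe]
  have hc : x * (y : G) = (y : G) * x := Subgroup.mem_centralizer_singleton_iff.mp y.2 |>.symm
  rw [pPt_mul_of_commute p hx hy' hc]

/-- the shift only sees the section of `x` -/
theorem regShift_setTrunc (x : G) (hx : ∃ k : ℕ, orderOf x = p ^ k) (f : G → ℂ) :
    regShift p x (setTrunc (pSection p x) f) = regShift p x f := by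
  funext y
  rw [regShift_apply, regShift_apply]
  by_cases hy : ¬ p ∣ orderOf y
  · rw [if_pos hy, if_pos hy, setTrunc_apply, if_pos (mul_mem_pSection x hx y hy)]
  · rw [if_neg hy, if_neg hy]

/-- a class function whose shift vanishes vanishes on the section -/
theorem setTrunc_eq_zero_of_regShift (x : G) (w : G → ℂ) (hw : Cfsg.IsClassFunction G w)
    (h0 : regShift p x w = 0) : setTrunc (pSection p x) w = 0 := by
  funext g
  rw [setTrunc_apply]
  by_cases hg : g ∈ pSection p x
  · rw [if_pos hg]
    obtain ⟨c, hc⟩ := isConj_iff.mp ((mem_pSection x g).mp hg)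
    have h1 : pPt p (c * g * c⁻¹) = x := by rw [pPt_conj, hc]
    have h2 : x * pRg p (c * g * c⁻¹) = c * g * c⁻¹ := by
      conv_lhs => rw [← h1]
      exact pPt_mul_pRg p _
    have h3 : pRg p (c * g * c⁻¹) ∈ Subgroup.centralizer ({x} : Set G) := by
      rw [Subgroup.mem_centralizer_singleton_iff]
      have := pPt_pRg_commute p (c * g * c⁻¹)
      rw [h1] at this
      exact this.symm
    have h4 : ¬ p ∣ orderOf (⟨pRg p (c * g * c⁻¹), h3⟩ : Subgroup.centralizer ({x} : Set G)) := by
      rw [← Subgroup.orderOf_coe]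
      exact pRg_regular p _
    have h5 := congrFun h0 ⟨pRg p (c * g * c⁻¹), h3⟩
    rw [regShift_apply, if_pos h4] at h5
    have h6 : w (x * pRg p (c * g * c⁻¹)) = 0 := h5
    rw [h2, hw g c] at h6
    exact h6
  · rw [if_neg hg]; rfl

theorem span_irr_le_classFunction (B : Set (Cfsg.IrrCharacter G)) :
    Submodule.span ℂ ((fun ζ : Cfsg.IrrCharacter G => (ζ : G → ℂ)) '' B)
      ≤ classFunctionSubmodule G := by
  rw [Submodule.span_le]
  rintro _ ⟨ζ, _, rfl⟩
  exact IrrCharacter.isClassFunction ζ

/-- the section part of the span of `B` has the dimension of the span of the shifts -/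
theorem finrank_map_setTrunc_eq (B : Set (Cfsg.IrrCharacter G)) (x : G)
    (hx : ∃ k : ℕ, orderOf x = p ^ k) :
    Module.finrank ℂ
      ((Submodule.span ℂ ((fun ζ : Cfsg.IrrCharacter G => (ζ : G → ℂ)) '' B)).map
        (setTrunc (pSection p x)))
      = Module.finrank ℂ (Submodule.span ℂ
          ((fun ζ : Cfsg.IrrCharacter G => regShift p x (ζ : G → ℂ)) '' B)) := by
  have h1 : ((Submodule.span ℂ ((fun ζ : Cfsg.IrrCharacter G => (ζ : G → ℂ)) '' B)).map
        (setTrunc (pSection p x))).map (regShift p x)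
      = Submodule.span ℂ ((fun ζ : Cfsg.IrrCharacter G => regShift p x (ζ : G → ℂ)) '' B) := by
    rw [← Submodule.map_comp]
    have : (regShift p x).comp (setTrunc (pSection p x)) = regShift p x := by
      apply LinearMap.ext
      intro f
      exact regShift_setTrunc x hx f
    rw [this, Submodule.map_span, Set.image_image]
  rw [← h1]
  symm
  apply finrank_map_of_injOn
  rintro _ ⟨w, hw, rfl⟩ h0
  rw [regShift_setTrunc x hx] at h0
  exact setTrunc_eq_zero_of_regShift x w (span_irr_le_classFunction B hw) h0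

theorem pRegularPart_of_regular {K : Type*} [Group K] (p : ℕ) (χ : K → ℂ) (g : K)
    (hg : ¬ p ∣ orderOf g) : Cfsg.pRegularPart p χ g = χ g := by
  unfold Cfsg.pRegularPart
  exact if_pos hg

theorem pRegularPart_of_singular {K : Type*} [Group K] (p : ℕ) (χ : K → ℂ) (g : K)
    (hg : p ∣ orderOf g) : Cfsg.pRegularPart p χ g = 0 := by
  unfold Cfsg.pRegularPart
  exact if_neg (fun h => h hg)

/-- **the shifts of the characters of `B` and the regular parts of the characters in the blocks
of `C_G(x)` inducing `B` span the same space** -/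
theorem span_regShift_eq (hM : Cfsg.IsPModular p M) (B : Set (Cfsg.IrrCharacter G))
    (hB : Cfsg.IsPBlock M B) (x : G) (hx : ∃ k : ℕ, orderOf x = p ^ k) :
    Submodule.span ℂ ((fun ζ : Cfsg.IrrCharacter G => regShift p x (ζ : G → ℂ)) '' B)
      = Submodule.span ℂ ((fun ψ : Cfsg.IrrCharacter (Subgroup.centralizer ({x} : Set G)) =>
          Cfsg.pRegularPart p (ψ : Subgroup.centralizer ({x} : Set G) → ℂ)) ''
          {ψ | Cfsg.IsInducedBlock M (Subgroup.centralizer ({x} : Set G))
            (Cfsg.blockOf M (ψ : Subgroup.centralizer ({x} : Set G) → ℂ)) B}) := by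
  haveI : Fintype (Cfsg.IrrCharacter G) := Fintype.ofFinite _
  haveI : Fintype (Cfsg.IrrCharacter (Subgroup.centralizer ({x} : Set G))) := Fintype.ofFinite _
  apply submodule_eq_of_annihilator
  intro φ
  rw [forall_mem_span_sum_eq_zero, forall_mem_span_sum_eq_zero]
  have hker : ∀ y y' : Subgroup.centralizer ({x} : Set G),
      ∑ ζ : Cfsg.IrrCharacter G,
        (if ζ ∈ B then regShift p x (ζ : G → ℂ) y else 0)
          * conj (if ζ ∈ B then regShift p x (ζ : G → ℂ) y' else 0)
      = ∑ ψ : Cfsg.IrrCharacter (Subgroup.centralizer ({x} : Set G)),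
        (if Cfsg.IsInducedBlock M (Subgroup.centralizer ({x} : Set G))
            (Cfsg.blockOf M (ψ : Subgroup.centralizer ({x} : Set G) → ℂ)) B
          then Cfsg.pRegularPart p (ψ : Subgroup.centralizer ({x} : Set G) → ℂ) y else 0)
          * conj (if Cfsg.IsInducedBlock M (Subgroup.centralizer ({x} : Set G))
            (Cfsg.blockOf M (ψ : Subgroup.centralizer ({x} : Set G) → ℂ)) B
          then Cfsg.pRegularPart p (ψ : Subgroup.centralizer ({x} : Set G) → ℂ) y' else 0) := by
    intro y y'
    by_cases hy : ¬ p ∣ orderOf y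
    · by_cases hy' : ¬ p ∣ orderOf y'
      · have h := section_block_orthogonality hM x hx B hB y y' hy hy'
        refine Eq.trans ?_ (h.trans ?_)
        · apply Finset.sum_congr rfl
          intro ζ _
          by_cases hζ : ζ ∈ B
          · rw [if_pos hζ, if_pos hζ, if_pos hζ, regShift_apply, regShift_apply, if_pos hy,
              if_pos hy']
          · rw [if_neg hζ, if_neg hζ, zero_mul, if_neg hζ]
        · apply Finset.sum_congr rfl
          intro ψ _
          by_cases hψ : Cfsg.IsInducedBlock M (Subgroup.centralizer ({x} : Set G))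
            (Cfsg.blockOf M (ψ : Subgroup.centralizer ({x} : Set G) → ℂ)) B
          · rw [if_pos hψ, if_pos hψ, if_pos hψ, pRegularPart_of_regular p _ y hy,
              pRegularPart_of_regular p _ y' hy']
          · rw [if_neg hψ, if_neg hψ, if_neg hψ, zero_mul]
      · rw [Finset.sum_eq_zero, Finset.sum_eq_zero]
        · intro ψ _
          have : Cfsg.pRegularPart p (ψ : Subgroup.centralizer ({x} : Set G) → ℂ) y' = 0 :=
            pRegularPart_of_singular p _ y' (not_not.mp hy')
          rw [this]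
          simp
        · intro ζ _
          have : regShift p x (ζ : G → ℂ) y' = 0 := by rw [regShift_apply, if_neg hy']
          rw [this]
          simp
    · rw [Finset.sum_eq_zero, Finset.sum_eq_zero]
      · intro ψ _
        have : Cfsg.pRegularPart p (ψ : Subgroup.centralizer ({x} : Set G) → ℂ) y = 0 :=
          pRegularPart_of_singular p _ y (not_not.mp hy)
        rw [this]
        simp
      · intro ζ _
        have : regShift p x (ζ : G → ℂ) y = 0 := by rw [regShift_apply, if_neg hy]
        rw [this]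
        simp
  have hpair := pairing_zero_iff
    (fun (ζ : Cfsg.IrrCharacter G) (y : Subgroup.centralizer ({x} : Set G)) =>
      if ζ ∈ B then regShift p x (ζ : G → ℂ) y else 0)
    (fun (ψ : Cfsg.IrrCharacter (Subgroup.centralizer ({x} : Set G)))
      (y : Subgroup.centralizer ({x} : Set G)) =>
      if Cfsg.IsInducedBlock M (Subgroup.centralizer ({x} : Set G))
            (Cfsg.blockOf M (ψ : Subgroup.centralizer ({x} : Set G) → ℂ)) B
          then Cfsg.pRegularPart p (ψ : Subgroup.centralizer ({x} : Set G) → ℂ) y else 0)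
    hker φ
  constructor
  · intro h
    rintro _ ⟨ψ, hψ, rfl⟩
    have h1 := hpair.mp (fun ζ => by
      by_cases hζ : ζ ∈ B
      · simp only [if_pos hζ]
        exact h _ ⟨ζ, hζ, rfl⟩
      · simp only [if_neg hζ, zero_mul, Finset.sum_const_zero]) ψ
    simp only [if_pos (show Cfsg.IsInducedBlock M (Subgroup.centralizer ({x} : Set G))
            (Cfsg.blockOf M (ψ : Subgroup.centralizer ({x} : Set G) → ℂ)) B from hψ)] at h1
    exact h1
  · intro h
    rintro _ ⟨ζ, hζ, rfl⟩
    have h1 := hpair.mpr (fun ψ => by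
      by_cases hψ : Cfsg.IsInducedBlock M (Subgroup.centralizer ({x} : Set G))
            (Cfsg.blockOf M (ψ : Subgroup.centralizer ({x} : Set G) → ℂ)) B
      · simp only [if_pos hψ]
        exact h _ ⟨ψ, hψ, rfl⟩
      · simp only [if_neg hψ, zero_mul, Finset.sum_const_zero]) ζ
    simp only [if_pos hζ] at h1
    exact h1

end Shift

section RegularProj

open Classical

variable {K : Type*} [Group K] [Fintype K] {p : ℕ} [Fact p.Prime] {M : Ideal Cfsg.AlgInt}

theorem blockProj_eq_sum [Fintype (Cfsg.IrrCharacter K)] (B : Set (Cfsg.IrrCharacter K))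
    (f : K → ℂ) :
    blockProj B f = ∑ ψ : Cfsg.IrrCharacter K,
      if ψ ∈ B then Cfsg.classInner f (ψ : K → ℂ) • (ψ : K → ℂ) else 0 := by
  unfold blockProj
  simp only [LinearMap.coe_mk, AddHom.coe_mk]
  apply Finset.sum_congr
  · ext ψ; simp
  intro ψ _
  rfl

/-- block projections of distinct blocks are orthogonal idempotents -/
theorem blockProj_blockProj (hM : Cfsg.IsPModular p M) (b b' : Set (Cfsg.IrrCharacter K))
    (hb : Cfsg.IsPBlock M b) (hb' : Cfsg.IsPBlock M b') (f : K → ℂ) :
    blockProj b (blockProj b' f) = if b = b' then blockProj b f else 0 := by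
  haveI : Fintype (Cfsg.IrrCharacter K) := Fintype.ofFinite _
  rw [blockProj_eq_sum b' f, map_sum]
  by_cases hbb : b = b'
  · rw [if_pos hbb, blockProj_eq_sum b f]
    apply Finset.sum_congr rfl
    intro ψ _
    by_cases hψ : ψ ∈ b
    · rw [if_pos hψ, if_pos (hbb ▸ hψ), map_smul, blockProj_irr, if_pos hψ]
    · rw [if_neg hψ, if_neg (fun h => hψ (hbb ▸ h)), map_zero]
  · rw [if_neg hbb]
    apply Finset.sum_eq_zero
    intro ψ _
    by_cases hψ : ψ ∈ b'
    · rw [if_pos hψ, map_smul, blockProj_irr, if_neg, smul_zero]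
      intro hψb
      exact hbb ((eq_blockOf_of_mem hM hb hψb).trans (eq_blockOf_of_mem hM hb' hψ).symm)
    · rw [if_neg hψ, map_zero]

theorem pPt_ne_one_of_singular {g : K} (hg : p ∣ orderOf g) : pPt p g ≠ 1 := by
  intro h1
  have h2 := pPt_mul_pRg p g
  rw [h1, one_mul] at h2
  have h3 := pRg_regular p g
  rw [h2] at h3
  exact h3 hg

/-- the block kernel vanishes between a regular and a singular element -/
theorem kernel_eq_zero_of_regular_singular (hM : Cfsg.IsPModular p M)
    (B : Set (Cfsg.IrrCharacter K)) (hB : Cfsg.IsPBlock M B) [Fintype (Cfsg.IrrCharacter K)]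
    (g h : K) (hg : ¬ p ∣ orderOf g) (hh : p ∣ orderOf h) :
    ∑ ψ : Cfsg.IrrCharacter K,
      (if ψ ∈ B then (ψ : K → ℂ) g * conj ((ψ : K → ℂ) h) else 0) = 0 ∧
    ∑ ψ : Cfsg.IrrCharacter K,
      (if ψ ∈ B then (ψ : K → ℂ) h * conj ((ψ : K → ℂ) g) else 0) = 0 := by
  constructor
  · apply kernel_eq_zero_of_sections hM B hB
    rw [pPt_of_regular p hg, isConj_one_right]
    exact pPt_ne_one_of_singular hh
  · apply kernel_eq_zero_of_sections hM B hB
    rw [pPt_of_regular p hg, isConj_one_left]
    exact pPt_ne_one_of_singular hh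

/-- the block projection commutes with the truncation to the `p`-regular elements -/
theorem blockProj_setTrunc_regular (hM : Cfsg.IsPModular p M)
    (B : Set (Cfsg.IrrCharacter K)) (hB : Cfsg.IsPBlock M B) (f : K → ℂ) :
    blockProj B (setTrunc {g : K | ¬ p ∣ orderOf g} f)
      = setTrunc {g : K | ¬ p ∣ orderOf g} (blockProj B f) := by
  haveI : Fintype (Cfsg.IrrCharacter K) := Fintype.ofFinite _
  funext g
  rw [setTrunc_apply, blockProj_kernel]
  by_cases hg : g ∈ {g : K | ¬ p ∣ orderOf g}
  · rw [if_pos hg, blockProj_kernel]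
    congr 1
    apply Finset.sum_congr rfl
    intro h _
    rw [setTrunc_apply]
    by_cases hh : h ∈ {g : K | ¬ p ∣ orderOf g}
    · rw [if_pos hh]
    · rw [if_neg hh, zero_mul,
        (kernel_eq_zero_of_regular_singular hM B hB g h hg (not_not.mp hh)).1, mul_zero]
  · rw [if_neg hg]
    have : ∀ h : K, setTrunc {g : K | ¬ p ∣ orderOf g} f h *
        ∑ ψ : Cfsg.IrrCharacter K,
          (if ψ ∈ B then (ψ : K → ℂ) g * conj ((ψ : K → ℂ) h) else 0) = 0 := by
      intro h
      rw [setTrunc_apply]
      by_cases hh : h ∈ {g : K | ¬ p ∣ orderOf g}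
      · rw [(kernel_eq_zero_of_regular_singular hM B hB h g hh (not_not.mp hg)).2, mul_zero]
      · rw [if_neg hh, zero_mul]
    rw [Finset.sum_congr rfl (fun h _ => this h), Finset.sum_const_zero, mul_zero]

theorem pRegularPart_eq_setTrunc (χ : K → ℂ) :
    Cfsg.pRegularPart p χ = setTrunc {g : K | ¬ p ∣ orderOf g} χ := by
  funext g
  rw [setTrunc_apply]
  by_cases hg : ¬ p ∣ orderOf g
  · rw [pRegularPart_of_regular p χ g hg, if_pos (show g ∈ {g : K | ¬ p ∣ orderOf g} from hg)]
  · rw [pRegularPart_of_singular p χ g (not_not.mp hg),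
      if_neg (show g ∉ {g : K | ¬ p ∣ orderOf g} from hg)]

/-- the block projection of the regular part of an irreducible character -/
theorem blockProj_pRegularPart (hM : Cfsg.IsPModular p M)
    (B : Set (Cfsg.IrrCharacter K)) (hB : Cfsg.IsPBlock M B) (ψ : Cfsg.IrrCharacter K) :
    blockProj B (Cfsg.pRegularPart p (ψ : K → ℂ))
      = if ψ ∈ B then Cfsg.pRegularPart p (ψ : K → ℂ) else 0 := by
  rw [pRegularPart_eq_setTrunc, blockProj_setTrunc_regular hM B hB, blockProj_irr]
  by_cases hψ : ψ ∈ B
  · rw [if_pos hψ, if_pos hψ]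
  · rw [if_neg hψ, if_neg hψ, map_zero]

/-- **the regular parts of the characters of a union of blocks span a space of dimension the sum
of the block ranks** -/
theorem finrank_span_pRegularPart_blocks (hM : Cfsg.IsPModular p M)
    (S : Finset (Set (Cfsg.IrrCharacter K))) (hS : ∀ b ∈ S, Cfsg.IsPBlock M b) :
    Module.finrank ℂ (Submodule.span ℂ
      ((fun ψ : Cfsg.IrrCharacter K => Cfsg.pRegularPart p (ψ : K → ℂ)) ''
        {ψ | Cfsg.blockOf M (ψ : K → ℂ) ∈ S}))
      = ∑ b ∈ S, Cfsg.blockRank p b := by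
  rw [finrank_eq_sum_of_projections _ S (fun b => blockProj b)]
  · apply Finset.sum_congr rfl
    intro b hb
    unfold Cfsg.blockRank
    have e : (Submodule.span ℂ
      ((fun ψ : Cfsg.IrrCharacter K => Cfsg.pRegularPart p (ψ : K → ℂ)) ''
        {ψ | Cfsg.blockOf M (ψ : K → ℂ) ∈ S})).map (blockProj b)
        = Submodule.span ℂ
          ((fun χ : Cfsg.IrrCharacter K => Cfsg.pRegularPart p (χ : K → ℂ)) '' b) := ?_
    · rw [e]
    rw [Submodule.map_span, Set.image_image]
    apply le_antisymm
    · rw [Submodule.span_le]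
      rintro _ ⟨ψ, _, rfl⟩
      show blockProj b (Cfsg.pRegularPart p (ψ : K → ℂ)) ∈ _
      rw [blockProj_pRegularPart hM b (hS b hb)]
      by_cases hψ : ψ ∈ b
      · rw [if_pos hψ]
        exact Submodule.subset_span ⟨ψ, hψ, rfl⟩
      · rw [if_neg hψ]
        exact Submodule.zero_mem _
    · rw [Submodule.span_le]
      rintro _ ⟨ψ, hψ, rfl⟩
      apply Submodule.subset_span
      refine ⟨ψ, ?_, ?_⟩
      · show Cfsg.blockOf M (ψ : K → ℂ) ∈ S
        rw [← eq_blockOf_of_mem hM (hS b hb) hψ]
        exact hb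
      · show blockProj b (Cfsg.pRegularPart p (ψ : K → ℂ)) = _
        rw [blockProj_pRegularPart hM b (hS b hb), if_pos hψ]
  · intro b hb w hw
    have : Submodule.span ℂ
        ((fun ψ : Cfsg.IrrCharacter K => Cfsg.pRegularPart p (ψ : K → ℂ)) ''
          {ψ | Cfsg.blockOf M (ψ : K → ℂ) ∈ S})
        ≤ (Submodule.span ℂ
        ((fun ψ : Cfsg.IrrCharacter K => Cfsg.pRegularPart p (ψ : K → ℂ)) ''
          {ψ | Cfsg.blockOf M (ψ : K → ℂ) ∈ S})).comap (blockProj b) := by
      rw [Submodule.span_le]
      rintro _ ⟨ψ, hψ, rfl⟩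
      rw [SetLike.mem_coe, Submodule.mem_comap]
      show blockProj b (Cfsg.pRegularPart p (ψ : K → ℂ)) ∈ _
      rw [blockProj_pRegularPart hM b (hS b hb)]
      by_cases hψb : ψ ∈ b
      · rw [if_pos hψb]
        exact Submodule.subset_span ⟨ψ, hψ, rfl⟩
      · rw [if_neg hψb]
        exact Submodule.zero_mem _
    exact this hw
  · intro w hw
    have hEq : Set.EqOn (∑ b ∈ S, blockProj b : (K → ℂ) →ₗ[ℂ] (K → ℂ))
        (LinearMap.id : (K → ℂ) →ₗ[ℂ] (K → ℂ))
        (Submodule.span ℂ
        ((fun ψ : Cfsg.IrrCharacter K => Cfsg.pRegularPart p (ψ : K → ℂ)) ''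
          {ψ | Cfsg.blockOf M (ψ : K → ℂ) ∈ S})) := by
      apply LinearMap.eqOn_span
      rintro _ ⟨ψ, hψ, rfl⟩
      rw [LinearMap.sum_apply, LinearMap.id_apply,
        Finset.sum_eq_single (Cfsg.blockOf M (ψ : K → ℂ))]
      · rw [blockProj_pRegularPart hM _ (hS _ hψ), if_pos (mem_blockOf_self hM ψ)]
      · intro b hb hne
        rw [blockProj_pRegularPart hM b (hS b hb), if_neg]
        intro hψb
        exact hne (eq_blockOf_of_mem hM (hS b hb) hψb)
      · intro h; exact absurd hψ h
    have := hEq hw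
    rw [LinearMap.sum_apply, LinearMap.id_apply] at this
    exact this
  · intro b hb b' hb' w _
    exact blockProj_blockProj hM b b' (hS b hb) (hS b' hb') w

end RegularProj

end Cfsg.Agent.Lib.Helper7
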