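import Mathlib
import Cfsg.Agent.Lib.Helper7.BrauerCount2
import Cfsg.Agent.Lib.Helper7.SectionPrincipal
import Cfsg.Agent.S0939

/-!
# Brauer's count, part 3: the section of the identity, the principal block
-/

set_option autoImplicit false
open scoped ComplexConjugate
open Cfsg

namespace Cfsg.Agent.Lib.Helper7

open Cfsg.Agent.Lib.Helper24 Cfsg.Agent.Lib.Helper2

section One

open Classical

variable {G : Type*} [Group G] [Fintype G] {p : ℕ} [Fact p.Prime] {M : Ideal Cfsg.AlgInt}

theorem pSection_one : pSection p (1 : G) = {g : G | ¬ p ∣ orderOf g} := by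
  ext g
  rw [mem_pSection, isConj_one_left]
  constructor
  · intro h hg
    exact pPt_ne_one_of_singular hg h
  · intro hg
    exact pPt_of_regular p hg

/-- the section of the identity contributes the block rank -/
theorem finrank_map_setTrunc_one (B : Set (Cfsg.IrrCharacter G)) :
    Module.finrank ℂ
      ((Submodule.span ℂ ((fun ζ : Cfsg.IrrCharacter G => (ζ : G → ℂ)) '' B)).map
        (setTrunc (pSection p (1 : G)))) = Cfsg.blockRank p B := by
  unfold Cfsg.blockRank
  rw [Submodule.map_span, Set.image_image, pSection_one]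
  have : (fun ζ : Cfsg.IrrCharacter G => setTrunc {g : G | ¬ p ∣ orderOf g} (ζ : G → ℂ))
      = (fun χ : Cfsg.IrrCharacter G => Cfsg.pRegularPart p (χ : G → ℂ)) := by
    funext ζ
    rw [pRegularPart_eq_setTrunc]
  rw [this]

/-- **`k(B) = l(B) + ∑_{x ≠ 1} …`** -/
theorem card_eq_blockRank_add (hM : Cfsg.IsPModular p M) (B : Set (Cfsg.IrrCharacter G))
    (hB : Cfsg.IsPBlock M B) (X : Finset G) (h1 : (1 : G) ∉ X)
    (hX : ∀ x ∈ X, ∃ k : ℕ, orderOf x = p ^ k)
    (hXrep : ∀ g : G, (∃ k : ℕ, orderOf g = p ^ k) → g ≠ 1 → ∃! x, x ∈ X ∧ IsConj g x) :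
    Nat.card B = Cfsg.blockRank p B + ∑ x ∈ X, Module.finrank ℂ (Submodule.span ℂ
      ((fun ψ : Cfsg.IrrCharacter (Subgroup.centralizer ({x} : Set G)) =>
          Cfsg.pRegularPart p (ψ : Subgroup.centralizer ({x} : Set G) → ℂ)) ''
          {ψ | Cfsg.IsInducedBlock M (Subgroup.centralizer ({x} : Set G))
            (Cfsg.blockOf M (ψ : Subgroup.centralizer ({x} : Set G) → ℂ)) B})) := by
  have hX' : ∀ x ∈ insert (1 : G) X, ∃ k : ℕ, orderOf x = p ^ k := by
    intro x hx
    rcases Finset.mem_insert.mp hx with rfl | hx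
    · exact ⟨0, by rw [orderOf_one, pow_zero]⟩
    · exact hX x hx
  have hXrep' : ∀ g : G, (∃ k : ℕ, orderOf g = p ^ k) →
      ∃! x, x ∈ insert (1 : G) X ∧ IsConj g x := by
    intro g hg
    by_cases hg1 : g = 1
    · subst hg1
      refine ⟨1, ⟨Finset.mem_insert_self _ _, IsConj.refl _⟩, ?_⟩
      rintro x ⟨_, hx⟩
      exact (isConj_one_right.mp hx)
    · obtain ⟨x, ⟨hxX, hgx⟩, huniq⟩ := hXrep g hg hg1
      refine ⟨x, ⟨Finset.mem_insert_of_mem hxX, hgx⟩, ?_⟩
      rintro x' ⟨hx', hgx'⟩
      rcases Finset.mem_insert.mp hx' with rfl | hx'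
      · exact absurd (isConj_one_left.mp hgx') hg1
      · exact huniq x' ⟨hx', hgx'⟩
  rw [finrank_span_eq_sum_sections hM B hB (insert (1 : G) X) hX' hXrep',
    Finset.sum_insert h1, finrank_map_setTrunc_one]
  congr 1
  apply Finset.sum_congr rfl
  intro x hx
  rw [finrank_map_setTrunc_eq B x (hX x hx), span_regShift_eq hM B hB x (hX x hx)]

end One

section NormalComplement

variable {H : Type*} [Group H] [Finite H] {p : ℕ} [Fact p.Prime] {M : Ideal Cfsg.AlgInt}

/-- in a group with a normal `p`-complement the `p`-regular elements lie in it -/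
theorem mem_pPrimeCore_of_regular (hnc : ∃ k : ℕ, (Cfsg.pPrimeCore p H).index = p ^ k)
    (y : H) (hy : ¬ p ∣ orderOf y) : y ∈ Cfsg.pPrimeCore p H := by
  obtain ⟨k, hk⟩ := hnc
  have hp : p.Prime := Fact.out
  haveI hKn : (Cfsg.pPrimeCore p H).Normal := Cfsg.Agent.Lib.Helper1.pPrimeCore_normal p
  rw [← QuotientGroup.eq_one_iff]
  have h1 : orderOf ((y : H) : H ⧸ Cfsg.pPrimeCore p H) ∣ orderOf y :=
    orderOf_map_dvd (QuotientGroup.mk' _) y
  have h2 : orderOf ((y : H) : H ⧸ Cfsg.pPrimeCore p H) ∣ p ^ k := by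
    rw [← hk, Subgroup.index_eq_card]
    exact orderOf_dvd_natCard _
  have h3 : Nat.Coprime (orderOf y) (p ^ k) :=
    Nat.Coprime.pow_right k ((Nat.Prime.coprime_iff_not_dvd hp).mpr hy).symm
  have h4 := Nat.eq_one_of_dvd_coprimes h3 h1 h2
  exact orderOf_eq_one_iff.mp h4

/-- the regular parts of the characters in the principal block of a group with a normal
`p`-complement span a line -/
theorem span_pRegularPart_principal_of_normal_complement (hM : Cfsg.IsPModular p M)
    (hnc : ∃ k : ℕ, (Cfsg.pPrimeCore p H).index = p ^ k) :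
    Submodule.span ℂ ((fun χ : Cfsg.IrrCharacter H => Cfsg.pRegularPart p (χ : H → ℂ)) ''
      Cfsg.principalBlock M H)
      = Submodule.span ℂ {Cfsg.pRegularPart p (fun _ : H => (1 : ℂ))} := by
  letI : Fintype H := Fintype.ofFinite H
  have hB := Cfsg.Agent.S0939.result p M hM (G := H) hnc
  apply le_antisymm
  · rw [Submodule.span_le]
    rintro _ ⟨ψ, hψ, rfl⟩
    have hker : ∀ n ∈ Cfsg.pPrimeCore p H, (ψ : H → ℂ) n = (ψ : H → ℂ) 1 := by
      rw [hB] at hψ; exact hψ
    have : Cfsg.pRegularPart p (ψ : H → ℂ)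
        = (ψ : H → ℂ) 1 • Cfsg.pRegularPart p (fun _ : H => (1 : ℂ)) := by
      funext y
      by_cases hy : ¬ p ∣ orderOf y
      · rw [Pi.smul_apply, pRegularPart_of_regular p _ y hy, pRegularPart_of_regular p _ y hy,
          smul_eq_mul, mul_one]
        exact hker y (mem_pPrimeCore_of_regular hnc y hy)
      · rw [Pi.smul_apply, pRegularPart_of_singular p _ y (not_not.mp hy),
          pRegularPart_of_singular p _ y (not_not.mp hy), smul_zero]
    show Cfsg.pRegularPart p (ψ : H → ℂ) ∈ _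
    rw [this]
    exact Submodule.smul_mem _ _ (Submodule.subset_span rfl)
  · rw [Submodule.span_le]
    rintro _ rfl
    apply Submodule.subset_span
    exact ⟨trivIrr H, trivIrr_mem_principalBlock hM, rfl⟩

theorem pRegularPart_one_ne_zero : Cfsg.pRegularPart p (fun _ : H => (1 : ℂ)) ≠ 0 := by
  intro h
  have h1 := congrFun h 1
  have hp : p.Prime := Fact.out
  have h2 : ¬ p ∣ orderOf (1 : H) := by
    rw [orderOf_one]
    intro h3
    exact hp.one_lt.ne' (Nat.dvd_one.mp h3)
  rw [pRegularPart_of_regular p _ 1 h2] at h1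
  exact one_ne_zero h1

/-- **a group with a normal `p`-complement has `l(B₀) = 1`** -/
theorem blockRank_principalBlock_of_normal_complement (hM : Cfsg.IsPModular p M)
    (hnc : ∃ k : ℕ, (Cfsg.pPrimeCore p H).index = p ^ k) :
    Cfsg.blockRank p (Cfsg.principalBlock M H) = 1 := by
  unfold Cfsg.blockRank
  rw [span_pRegularPart_principal_of_normal_complement hM hnc]
  exact finrank_span_singleton pRegularPart_one_ne_zero

end NormalComplement

end Cfsg.Agent.Lib.Helper7
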