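import Mathlib
import Cfsg.Prelude.Def_Characters
import Cfsg.Agent.Lib.Helper11.Clifford2
import Cfsg.Agent.Lib.Helper2.DirectProduct

/-!
# Induction of a product with a restricted class function; the Gram-rigidity argument for
products with an extension (helper7 library)
-/

set_option autoImplicit false

namespace Cfsg.Agent.Lib.Helper7

open scoped ComplexConjugate
open Cfsg.Agent.Lib.Helper2 Cfsg.Agent.Lib.Helper11

section

variable {G : Type*} [Group G] [Fintype G]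

/-- `ind (θ · χ|_N) = (ind θ) · χ` for a class function `χ` of `G`. -/
theorem indFun_mul_restrict (N : Subgroup G) (θ : N → ℂ) (χ : G → ℂ)
    (hχ : Cfsg.IsClassFunction G χ) :
    Cfsg.indFun N (θ * fun n : N => χ n) = Cfsg.indFun N θ * χ := by
  funext g
  rw [Pi.mul_apply, Cfsg.Agent.Lib.Helper2.indFun_apply, Cfsg.Agent.Lib.Helper2.indFun_apply,
    mul_assoc, Finset.sum_mul]
  congr 1
  apply Finset.sum_congr rfl
  intro x _
  have hχx : χ (x⁻¹ * g * x) = χ g := by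
    have := hχ g x⁻¹
    rwa [inv_inv] at this
  by_cases hx : x⁻¹ * g * x ∈ N
  · rw [extendByZero_of_mem N _ hx, extendByZero_of_mem N _ hx, Pi.mul_apply]
    simp only
    rw [hχx]
  · rw [extendByZero_of_not_mem N _ hx, extendByZero_of_not_mem N _ hx, zero_mul]

end

section Rigidity

variable {G : Type*} [Group G] [Fintype G] (N : Subgroup G) [hN : N.Normal] [Fintype N]

/-- Generalised Gallagher theorem (Isaacs 6.16): if `φ ∈ Irr(N)` is `G`-invariant, `χ` is a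
character of `G` and `φ · χ|_N` is irreducible, then `β ↦ β χ` maps `Irr(G | φ)` injectively
onto `Irr(G | φ χ|_N)`, preserving multiplicities. -/
theorem gallagher_rigidity {φ : N → ℂ} (hφ : Cfsg.IsIrrCharacter N φ)
    (hφinv : ∀ g : G, conjFn N g φ = φ) {χ : G → ℂ} (hχ : Cfsg.IsCharacter G χ)
    (hprod : Cfsg.IsIrrCharacter N (φ * fun n : N => χ n)) :
    (∀ β : G → ℂ, Cfsg.IsIrrCharacter G β → Cfsg.classInner (Cfsg.indFun N φ) β ≠ 0 →
        Cfsg.IsIrrCharacter G (β * χ) ∧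
        Cfsg.classInner (Cfsg.indFun N (φ * fun n : N => χ n)) (β * χ)
          = Cfsg.classInner (Cfsg.indFun N φ) β) ∧
    (∀ β β' : G → ℂ, Cfsg.IsIrrCharacter G β → Cfsg.IsIrrCharacter G β' →
        Cfsg.classInner (Cfsg.indFun N φ) β ≠ 0 → Cfsg.classInner (Cfsg.indFun N φ) β' ≠ 0 →
        β * χ = β' * χ → β = β') ∧
    (∀ ψ : G → ℂ, Cfsg.IsIrrCharacter G ψ →
        Cfsg.classInner (Cfsg.indFun N (φ * fun n : N => χ n)) ψ ≠ 0 →
        ∃ β : G → ℂ, Cfsg.IsIrrCharacter G β ∧ Cfsg.classInner (Cfsg.indFun N φ) β ≠ 0 ∧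
          β * χ = ψ) := by
  classical
  have : Fintype (Cfsg.IrrCharacter G) := Fintype.ofFinite _
  have hχcf : Cfsg.IsClassFunction G χ := IsCharacter.isClassFunction hχ
  set Φ := Cfsg.indFun N φ with hΦ
  have hΦchar : Cfsg.IsCharacter G Φ := indFun_isCharacter N φ (IsIrrCharacter.isCharacter hφ)
  have hf : ∀ μ : Cfsg.IrrCharacter G, ∃ n : ℕ, Cfsg.classInner Φ (μ : G → ℂ) = n :=
    fun μ => classInner_isCharacter_nat hΦchar (IsIrrCharacter.isCharacter μ.2)
  choose f hf using hf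
  have hexp : Φ = ∑ μ : Cfsg.IrrCharacter G, (f μ : ℂ) • (μ : G → ℂ) := by
    conv_lhs => rw [classFunction_expansion Φ (IsCharacter.isClassFunction hΦchar)]
    simp only [hf]
  have hmulchar : ∀ μ : Cfsg.IrrCharacter G, Cfsg.IsCharacter G ((μ : G → ℂ) * χ) :=
    fun μ => isCharacter_mul (IsIrrCharacter.isCharacter μ.2) hχ
  have hcc : ∀ μ ν : Cfsg.IrrCharacter G, ∃ n : ℕ,
      Cfsg.classInner ((μ : G → ℂ) * χ) ((ν : G → ℂ) * χ) = n :=
    fun μ ν => classInner_isCharacter_nat (hmulchar μ) (hmulchar ν)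
  choose c hcdef using hcc
  -- the induced character of the product
  have hind : Cfsg.indFun N (φ * fun n : N => χ n)
      = ∑ μ : Cfsg.IrrCharacter G, (f μ : ℂ) • ((μ : G → ℂ) * χ) := by
    rw [indFun_mul_restrict N φ χ hχcf, ← hΦ, hexp, Finset.sum_mul]
    apply Finset.sum_congr rfl
    intro μ _
    rw [smul_mul_assoc]
  -- the two norms
  have hcardeq : ∀ (θ : N → ℂ), (∀ g : G, conjFn N g θ = θ) →
      Nat.card {g : G // conjFn N g θ = θ} = Nat.card G := by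
    intro θ hθ
    exact Nat.card_congr (Equiv.subtypeUnivEquiv hθ)
  have hprodinv : ∀ g : G, conjFn N g (φ * fun n : N => χ n) = φ * fun n : N => χ n := by
    intro g
    funext n
    rw [conjFn_apply, Pi.mul_apply, Pi.mul_apply]
    have h1 := congrFun (hφinv g) n
    rw [conjFn_apply] at h1
    rw [h1]
    congr 1
    exact hχcf n g
  have hnormΦ : Cfsg.classInner Φ Φ = (Nat.card G : ℂ) / (Nat.card N : ℂ) := by
    rw [hΦ, classInner_indFun_self_of_irr N hφ, hcardeq φ hφinv]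
  have hnormP : Cfsg.classInner (Cfsg.indFun N (φ * fun n : N => χ n))
      (Cfsg.indFun N (φ * fun n : N => χ n)) = (Nat.card G : ℂ) / (Nat.card N : ℂ) := by
    rw [classInner_indFun_self_of_irr N hprod, hcardeq _ hprodinv]
  have h1 : Cfsg.classInner Φ Φ = ((∑ μ : Cfsg.IrrCharacter G, f μ ^ 2 : ℕ) : ℂ) := by
    have e : Cfsg.classInner Φ Φ
        = Cfsg.classInner (∑ μ : Cfsg.IrrCharacter G, (f μ : ℂ) • (μ : G → ℂ)) Φ :=
      congrArg (fun F => Cfsg.classInner F Φ) hexp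
    rw [e, classInner_sum_left]
    push_cast
    apply Finset.sum_congr rfl
    intro μ _
    rw [classInner_smul_left, ← classInner_conj_symm, hf μ]
    simp only [map_natCast]
    ring
  have h2 : Cfsg.classInner (Cfsg.indFun N (φ * fun n : N => χ n))
      (Cfsg.indFun N (φ * fun n : N => χ n))
      = ((∑ μ : Cfsg.IrrCharacter G, ∑ ν : Cfsg.IrrCharacter G, f μ * f ν * c μ ν : ℕ) : ℂ) := by
    rw [hind, classInner_sum_left]
    push_cast
    apply Finset.sum_congr rfl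
    intro μ _
    rw [classInner_sum_right]
    apply Finset.sum_congr rfl
    intro ν _
    rw [classInner_smul_left, classInner_smul_right, hcdef]
    simp only [map_natCast]
    ring
  have hsum : ∑ μ : Cfsg.IrrCharacter G, ∑ ν : Cfsg.IrrCharacter G, f μ * f ν * c μ ν
      = ∑ μ : Cfsg.IrrCharacter G, f μ ^ 2 := by
    have : ((∑ μ : Cfsg.IrrCharacter G, ∑ ν : Cfsg.IrrCharacter G, f μ * f ν * c μ ν : ℕ) : ℂ)
        = ((∑ μ : Cfsg.IrrCharacter G, f μ ^ 2 : ℕ) : ℂ) := by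
      rw [← h1, ← h2, hnormΦ, hnormP]
    exact_mod_cast this
  have hχ1 : χ 1 ≠ 0 := by
    intro h0
    have := IsIrrCharacter.apply_one_ne_zero hprod
    apply this
    rw [Pi.mul_apply]
    simp only [OneMemClass.coe_one]
    rw [h0, mul_zero]
  have hcpos : ∀ μ, f μ ≠ 0 → 1 ≤ c μ μ := by
    intro μ _
    by_contra h
    have h0 : c μ μ = 0 := by omega
    have h3 := hcdef μ μ
    rw [h0, Nat.cast_zero] at h3
    have hz := eq_zero_of_classInner_self_eq_zero _ h3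
    have h4 := congrFun hz 1
    rw [Pi.mul_apply, Pi.zero_apply] at h4
    exact (mul_ne_zero (IsIrrCharacter.apply_one_ne_zero μ.2) hχ1) h4
  obtain ⟨hirr, horth⟩ := nat_gram_rigidity f c hcpos hsum
  have hfne : ∀ μ : Cfsg.IrrCharacter G, Cfsg.classInner Φ (μ : G → ℂ) ≠ 0 → f μ ≠ 0 := by
    intro μ hμ h0
    apply hμ
    rw [hf μ, h0, Nat.cast_zero]
  have hirr' : ∀ μ : Cfsg.IrrCharacter G, f μ ≠ 0 → Cfsg.IsIrrCharacter G ((μ : G → ℂ) * χ) := by
    intro μ hμ
    apply isIrrCharacter_of_classInner_self_eq_one (hmulchar μ)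
    rw [hcdef μ μ, hirr μ hμ, Nat.cast_one]
  refine ⟨?_, ?_, ?_⟩
  · intro β hβ hβne
    have hfβ := hfne ⟨β, hβ⟩ hβne
    refine ⟨hirr' ⟨β, hβ⟩ hfβ, ?_⟩
    rw [hind, classInner_sum_left, Finset.sum_eq_single (⟨β, hβ⟩ : Cfsg.IrrCharacter G)]
    · have hc1 : Cfsg.classInner (β * χ) (β * χ) = (c ⟨β, hβ⟩ ⟨β, hβ⟩ : ℂ) :=
        hcdef ⟨β, hβ⟩ ⟨β, hβ⟩
      have hf1 : Cfsg.classInner Φ β = (f ⟨β, hβ⟩ : ℂ) := hf ⟨β, hβ⟩
      rw [classInner_smul_left]
      simp only
      rw [hc1, hirr _ hfβ, hf1]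
      simp
    · intro ν _ hν
      have hc2 : Cfsg.classInner ((ν : G → ℂ) * χ) (β * χ) = (c ν ⟨β, hβ⟩ : ℂ) :=
        hcdef ν ⟨β, hβ⟩
      rw [classInner_smul_left, hc2]
      by_cases hfν : f ν = 0
      · rw [hfν]; simp
      · rw [horth ν ⟨β, hβ⟩ hν hfν hfβ]; simp
    · intro h; exact absurd (Finset.mem_univ _) h
  · intro β β' hβ hβ' hβne hβ'ne heq
    by_contra hne
    have hne' : (⟨β, hβ⟩ : Cfsg.IrrCharacter G) ≠ ⟨β', hβ'⟩ :=
      fun h => hne (congrArg Subtype.val h)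
    have hfβ := hfne ⟨β, hβ⟩ hβne
    have hfβ' := hfne ⟨β', hβ'⟩ hβ'ne
    have h3 := hcdef ⟨β, hβ⟩ ⟨β', hβ'⟩
    rw [horth _ _ hne' hfβ hfβ', Nat.cast_zero] at h3
    simp only at h3
    rw [← heq] at h3
    have h4 := hcdef ⟨β, hβ⟩ ⟨β, hβ⟩
    rw [hirr _ hfβ, Nat.cast_one] at h4
    simp only at h4
    rw [h3] at h4
    exact zero_ne_one h4
  · intro ψ hψ hψne
    rw [hind, classInner_sum_left] at hψne
    obtain ⟨μ, _, hμ⟩ := Finset.exists_ne_zero_of_sum_ne_zero hψne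
    rw [classInner_smul_left] at hμ
    have hfμ : f μ ≠ 0 := by
      intro h0
      apply hμ
      rw [h0]; simp
    have hμ2 : Cfsg.classInner ((μ : G → ℂ) * χ) ψ ≠ 0 := right_ne_zero_of_mul hμ
    refine ⟨μ.1, μ.2, ?_, eq_of_irr_of_classInner_ne_zero (hirr' μ hfμ) hψ hμ2⟩
    rw [hf μ]
    exact_mod_cast hfμ

end Rigidity

end Cfsg.Agent.Lib.Helper7
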