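import Mathlib
import Cfsg.Prelude.Def_Characters
import Cfsg.Agent.Lib.Helper7.PermChar

set_option autoImplicit false

namespace Cfsg.Agent.Lib.Helper7

open Cfsg MulAction

/-- Lemma A: if `C ⊴ G`, `C ≤ H` and `z ^ (p ^ a) ∈ C`, the number of fixed points of `z` on `G ⧸ H`
is congruent to the index of `H` modulo `p`. -/
theorem card_fixed_modEq_index {G : Type*} [Group G] [Finite G] (p a : ℕ) [Fact p.Prime]
    (C H : Subgroup G) [hC : C.Normal] (hCH : C ≤ H) (z : G) (hz : z ^ (p ^ a) ∈ C) :
    Nat.card {q : G ⧸ H // z • q = q} ≡ H.index [MOD p] := by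
  classical
  set σ : Equiv.Perm (G ⧸ H) := MulAction.toPermHom G (G ⧸ H) z with hσ
  have htriv : ∀ c ∈ C, ∀ q : G ⧸ H, c • q = q := by
    intro c hc q
    induction q using QuotientGroup.induction_on with
    | H y =>
      rw [MulAction.Quotient.smul_mk, eq_comm, QuotientGroup.eq]
      apply hCH
      have := hC.conj_mem c hc y⁻¹
      simpa [mul_assoc] using this
  have hσpow : σ ^ (p ^ a) = 1 := by
    rw [hσ, ← map_pow]
    ext q
    simpa using htriv _ hz q
  let P : Subgroup (Equiv.Perm (G ⧸ H)) := Subgroup.zpowers σ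
  have hP : IsPGroup p P := by
    rintro ⟨g, hg⟩
    obtain ⟨j, rfl⟩ := Subgroup.mem_zpowers_iff.mp hg
    refine ⟨a, ?_⟩
    apply Subtype.ext
    simp only [Subgroup.coe_pow, Subgroup.coe_one]
    rw [← zpow_natCast, ← zpow_mul, mul_comm, zpow_mul, zpow_natCast, hσpow, one_zpow]
  have key := hP.card_modEq_card_fixedPoints (G ⧸ H)
  rw [← Subgroup.index_eq_card] at key
  refine Nat.ModEq.trans ?_ key.symm
  rw [Nat.card_congr (Equiv.subtypeEquivRight (q := fun q => q ∈ fixedPoints P (G ⧸ H)) ?_)]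
  intro q
  rw [mem_fixedPoints]
  constructor
  · intro hq
    rintro ⟨g, hg⟩
    obtain ⟨j, rfl⟩ := Subgroup.mem_zpowers_iff.mp hg
    have h1 : q ∈ fixedBy (G ⧸ H) σ := hq
    exact (mem_fixedBy_zpowers_iff_mem_fixedBy.mpr h1) j
  · intro h
    exact h ⟨σ, Subgroup.mem_zpowers σ⟩

/-- Lemma B0: if `D ≤ E ≤ N(D)` with `|E : D|` a power of `p`, every element of `E` whose order is
prime to `p` lies in `D`. -/
theorem mem_of_coprime_order {K : Type*} [Group K] (p k : ℕ) (D E : Subgroup K)
    (hEN : E ≤ Subgroup.normalizer (D : Set K)) (hrel : D.relIndex E = p ^ k)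
    (h : K) (hh : h ∈ E) (hcop : Nat.Coprime (orderOf h) p) : h ∈ D := by
  have hnorm : (D.subgroupOf E).Normal := by
    have h1 : (D.subgroupOf (Subgroup.normalizer (D : Set K))).Normal := Subgroup.normal_in_normalizer
    constructor
    intro n hn g
    rw [Subgroup.mem_subgroupOf] at hn ⊢
    have hg : (g : K) ∈ Subgroup.normalizer (D : Set K) := hEN g.2
    have := (Subgroup.mem_normalizer_iff.mp hg (n : K)).mp hn
    simpa using this
  have hmem := Subgroup.pow_index_mem (D.subgroupOf E) ⟨h, hh⟩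
  rw [← Subgroup.relIndex, hrel, Subgroup.mem_subgroupOf] at hmem
  have hmem' : h ^ (p ^ k) ∈ D := by simpa using hmem
  have hcop' : Nat.Coprime (p ^ k) (orderOf h) := (Nat.Coprime.pow_right k hcop).symm
  obtain ⟨m, hm⟩ := exists_pow_eq_self_of_coprime hcop'
  rw [← hm]
  exact D.pow_mem hmem' m

end Cfsg.Agent.Lib.Helper7

namespace Cfsg.Agent.Lib.Helper7

open Cfsg MulAction

/-- `H` has a cyclic normal subgroup of order prime to `p` and `p`-power index. -/
def IsQuasiElem {G : Type*} [Group G] (p : ℕ) (H : Subgroup G) : Prop :=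
  ∃ C : Subgroup G, C ≤ H ∧ H ≤ Subgroup.normalizer (C : Set G) ∧ IsCyclic C ∧
    Nat.Coprime (Nat.card C) p ∧ ∃ k : ℕ, C.relIndex H = p ^ k

/-- the count `conjCount` transferred to a subgroup containing all the relevant conjugators -/
theorem conjCount_map_subtype {G : Type*} [Group G] (N : Subgroup G) (H' : Subgroup N) (x : N)
    (hB : ∀ y : G, y⁻¹ * (x : G) * y ∈ H'.map N.subtype → y ∈ N) :
    conjCount (H'.map N.subtype) (x : G) = conjCount H' x := by
  unfold conjCount
  apply Nat.card_congr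
  have hiff : ∀ y : N, (y : G)⁻¹ * (x : G) * (y : G) ∈ H'.map N.subtype ↔ y⁻¹ * x * y ∈ H' := by
    intro y
    have : (y : G)⁻¹ * (x : G) * (y : G) = N.subtype (y⁻¹ * x * y) := by simp
    rw [this, Subgroup.mem_map_iff_mem N.subtype_injective]
  refine
    { toFun := fun y => ⟨⟨y.1, hB y.1 y.2⟩, (hiff _).mp y.2⟩
      invFun := fun y => ⟨(y.1 : G), (hiff _).mpr y.2⟩
      left_inv := fun y => rfl
      right_inv := fun y => rfl }

theorem exists_quasiElem_not_dvd {G : Type*} [Group G] [Fintype G] (x : G) (p : ℕ)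
    [hpf : Fact p.Prime] :
    ∃ H : Subgroup G, IsQuasiElem p H ∧
      ∃ n : ℕ, indFun H (fun _ => (1 : ℂ)) x = (n : ℂ) ∧ ¬ p ∣ n := by
  classical
  have hp : p.Prime := hpf.out
  have ho : orderOf x ≠ 0 := (orderOf_pos x).ne'
  obtain ⟨a, m, hm, hom⟩ := Nat.exists_eq_pow_mul_and_not_dvd ho p hp.ne_one
  have hm0 : m ≠ 0 := by
    rintro rfl
    exact hm (dvd_zero p)
  set c := x ^ (p ^ a) with hcdef
  set C := Subgroup.zpowers c with hCdef
  have hc : orderOf c = m := by
    rw [hcdef, orderOf_pow' _ (pow_ne_zero a hp.ne_zero), hom,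
      Nat.gcd_eq_right (dvd_mul_right _ _), Nat.mul_div_cancel_left _ (pow_pos hp.pos a)]
  have hCcard : Nat.card C = m := by rw [hCdef, Nat.card_zpowers, hc]
  set N := Subgroup.normalizer (C : Set G) with hNdef
  have hCN : C ≤ N := Subgroup.le_normalizer
  have hxN : x ∈ N := by
    apply Subgroup.centralizer_le_normalizer
    rw [Subgroup.mem_centralizer_iff]
    intro h hh
    obtain ⟨j, rfl⟩ := Subgroup.mem_zpowers_iff.mp hh
    have : Commute c x := (Commute.refl x).pow_left _
    exact (this.zpow_left j).eq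
  let x' : N := ⟨x, hxN⟩
  set C' : Subgroup N := C.subgroupOf N with hC'def
  have hC'normal : C'.Normal := Subgroup.normal_in_normalizer
  have hC'map : C'.map N.subtype = C := by
    rw [hC'def, Subgroup.subgroupOf_map_subtype, inf_eq_left.mpr hCN]
  -- the p-part
  let Q' : Subgroup N := Subgroup.zpowers (x' ^ m)
  have hQ' : IsPGroup p Q' := by
    apply IsPGroup.of_card (n := a)
    rw [Nat.card_zpowers, orderOf_pow' _ hm0]
    have : orderOf x' = orderOf x := by
      rw [← Subgroup.orderOf_coe]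
    rw [this, hom, Nat.gcd_eq_right (dvd_mul_left _ _), Nat.mul_div_cancel _ (Nat.pos_of_ne_zero hm0)]
  obtain ⟨P', hQP⟩ := hQ'.exists_le_sylow
  set H' : Subgroup N := C' ⊔ (P' : Subgroup N) with hH'def
  set H : Subgroup G := H'.map N.subtype with hHdef
  have hCH : C ≤ H := by
    rw [← hC'map, hHdef]
    exact Subgroup.map_mono le_sup_left
  have hHN : H ≤ N := Subgroup.map_subtype_le _
  have hrel : ∃ k : ℕ, C.relIndex H = p ^ k := by
    have h1 : C.relIndex H = C'.relIndex H' := by
      rw [← hC'map, hHdef, Subgroup.relIndex_map_map_of_injective _ _ N.subtype_injective]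
    have h2 : C'.relIndex H' = C'.relIndex (P' : Subgroup N) := by
      rw [hH'def, Subgroup.relIndex_sup_left]
    have h3 : C'.relIndex (P' : Subgroup N) ∣ Nat.card (P' : Subgroup N) :=
      Subgroup.relIndex_dvd_card _ _
    obtain ⟨j, hj⟩ := (IsPGroup.iff_card.mp P'.2)
    rw [hj] at h3
    obtain ⟨k, _, hk⟩ := (Nat.dvd_prime_pow hp).mp h3
    exact ⟨k, by rw [h1, h2, hk]⟩
  have hquasi : IsQuasiElem p H := by
    refine ⟨C, hCH, hHN, ?_, ?_, hrel⟩
    · rw [hCdef]; infer_instance
    · rw [hCcard]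
      exact ((Nat.Prime.coprime_iff_not_dvd hp).mpr hm).symm
  refine ⟨H, hquasi, Nat.card {q : N ⧸ H' // x' • q = q}, ?_, ?_⟩
  · -- the value
    obtain ⟨k, hk⟩ := hrel
    have hB : ∀ y : G, y⁻¹ * (x' : G) * y ∈ H'.map N.subtype → y ∈ N := by
      intro y hy
      have hyinv : y⁻¹ ∈ N := by
        apply Subgroup.mem_normalizer_fintype
        intro n hn
        have hnC : n ∈ C := hn
        show y⁻¹ * n * y⁻¹⁻¹ ∈ C
        rw [inv_inv]
        obtain ⟨j, rfl⟩ := Subgroup.mem_zpowers_iff.mp hnC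
        -- y⁻¹ c^j y = ((y⁻¹ x y)^(p^a))^j
        have h1 : y⁻¹ * c ^ j * y = ((y⁻¹ * x * y) ^ (p ^ a)) ^ j := by
          have hconj : ∀ g : G, y⁻¹ * g * y = MulAut.conj y⁻¹ g := by
            intro g; simp
          rw [hconj, hconj, hcdef, map_zpow, map_pow]
        rw [h1]
        have hmemH : ((y⁻¹ * x * y) ^ (p ^ a)) ^ j ∈ H :=
          H.zpow_mem (H.pow_mem hy _) _
        apply mem_of_coprime_order p k C H hHN hk _ hmemH
        -- order divides m
        have hord : orderOf (((y⁻¹ * x * y) ^ (p ^ a)) ^ j) ∣ m := by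
          rw [← h1]
          have h2 : orderOf (y⁻¹ * c ^ j * y) = orderOf (c ^ j) := by
            have := orderOf_injective (MulAut.conj y⁻¹).toMonoidHom (MulAut.conj y⁻¹).injective (c ^ j)
            simpa using this
          rw [h2, ← hc]
          exact orderOf_dvd_of_pow_eq_one (by rw [← zpow_natCast, ← zpow_mul, mul_comm, zpow_mul, zpow_natCast, pow_orderOf_eq_one, one_zpow])
        exact Nat.Coprime.coprime_dvd_left hord ((Nat.Prime.coprime_iff_not_dvd hp).mpr hm).symm
      simpa using N.inv_mem hyinv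
    rw [indFun_one_apply]
    have h1 : conjCount H x = conjCount H' x' := conjCount_map_subtype N H' x' hB
    rw [h1, conjCount_eq_card_mul_fixed H' x']
    have h2 : Nat.card H = Nat.card H' := Subgroup.card_map_of_injective N.subtype_injective
    rw [h2]
    have hpos : (Nat.card H' : ℂ) ≠ 0 := by
      have : 0 < Nat.card H' := Nat.card_pos
      exact_mod_cast this.ne'
    push_cast
    field_simp
  · -- not divisible by p
    have hz : x' ^ (p ^ a) ∈ C' := by
      rw [hC'def, Subgroup.mem_subgroupOf]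
      show ((x' ^ (p ^ a) : N) : G) ∈ C
      rw [Subgroup.coe_pow]
      exact Subgroup.mem_zpowers c
    have hmod := card_fixed_modEq_index p a C' H' le_sup_left x' hz
    have hidx : ¬ p ∣ H'.index := by
      intro h
      have h1 : H'.index ∣ (P' : Subgroup N).index := Subgroup.index_dvd_of_le le_sup_right
      exact P'.not_dvd_index (h.trans h1)
    intro hdvd
    apply hidx
    exact (Nat.ModEq.dvd_iff hmod (dvd_refl p)).mp hdvd

end Cfsg.Agent.Lib.Helper7
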