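import Mathlib
import Cfsg.Prelude.Def_Characters
import Cfsg.Agent.Lib.Helper7.QuasiElem

set_option autoImplicit false

namespace Cfsg.Agent.Lib.Helper7

open Cfsg MulAction

/-- A subgroup of a `p`-quasi-elementary group is `p`-quasi-elementary. -/
theorem IsQuasiElem.of_le {G : Type*} [Group G] [Finite G] {p : ℕ} (hp : p.Prime) {H U : Subgroup G}
    (hH : IsQuasiElem p H) (hUH : U ≤ H) : IsQuasiElem p U := by
  obtain ⟨C, hCH, hHN, hcyc, hcop, k, hk⟩ := hH
  refine ⟨C ⊓ U, inf_le_right, ?_, ?_, ?_, ?_⟩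
  · intro u hu
    rw [Subgroup.mem_normalizer_iff]
    intro h
    have h1 := Subgroup.mem_normalizer_iff.mp (hHN (hUH hu)) h
    have h2 : h ∈ U ↔ u * h * u⁻¹ ∈ U := by
      constructor
      · intro hh
        exact U.mul_mem (U.mul_mem hu hh) (U.inv_mem hu)
      · intro hh
        have : h = u⁻¹ * (u * h * u⁻¹) * u := by group
        rw [this]
        exact U.mul_mem (U.mul_mem (U.inv_mem hu) hh) hu
    rw [Subgroup.mem_inf, Subgroup.mem_inf, h1, h2]
  · have h1 : IsCyclic ((C ⊓ U).subgroupOf C) := Subgroup.isCyclic _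
    exact isCyclic_of_surjective (Subgroup.subgroupOfEquivOfLe (inf_le_left : C ⊓ U ≤ C))
      (Subgroup.subgroupOfEquivOfLe (inf_le_left : C ⊓ U ≤ C)).surjective
  · exact Nat.Coprime.coprime_dvd_left (Subgroup.card_dvd_of_le inf_le_left) hcop
  · have hnorm : (C.subgroupOf H).Normal := (Subgroup.normal_subgroupOf_iff_le_normalizer hCH).mpr hHN
    have h1 : (C.subgroupOf H).relIndex (U.subgroupOf H) ∣ (C.subgroupOf H).index :=
      Subgroup.relIndex_dvd_index_of_normal _ _
    rw [Subgroup.relIndex_subgroupOf hUH, ← Subgroup.relIndex, hk] at h1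
    obtain ⟨j, _, hj⟩ := (Nat.dvd_prime_pow hp).mp h1
    exact ⟨j, by rw [Subgroup.inf_relIndex_right, hj]⟩

end Cfsg.Agent.Lib.Helper7
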