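import Mathlib
import Cfsg.Prelude.Def_Characters
import Cfsg.Agent.Lib.Helper2.Induction
import Cfsg.Agent.Lib.Helper2.DirectProduct
import Cfsg.Agent.Lib.Helper2.Exceptional
import Cfsg.Agent.Lib.Helper11.Clifford2
import Cfsg.Agent.Lib.Helper7.Gallagher
import Cfsg.Agent.Lib.Helper7.QuasiElem2

/-!
# Brauer's induction theorem, part 1: the span of characters induced from elementary subgroups
(helper7 library)

* `IsQE p G`: the group `G` is `p`-quasi-elementary.
* `elemSpan p G`: the additive subgroup of functions `G → ℂ` generated by the characters induced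
  from `p`-elementary subgroups.
* `elemSpan_mul_char`, `elemSpan_ind`: closure under multiplication by characters and induction.
-/

set_option autoImplicit false

namespace Cfsg.Agent.Lib.Helper7

open Cfsg.Agent.Lib.Helper2 Cfsg.Agent.Lib.Helper11
open scoped ComplexConjugate

/-- the group `G` has a cyclic normal subgroup of order prime to `p` and `p`-power index -/
def IsQE (p : ℕ) (G : Type*) [Group G] : Prop :=
  ∃ C : Subgroup G, C.Normal ∧ IsCyclic C ∧ Nat.Coprime (Nat.card C) p ∧
    ∃ k : ℕ, C.index = p ^ k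

theorem subgroupComap_subtype_injective {G : Type*} [Group G] (C T : Subgroup G) :
    Function.Injective (T.subtype.subgroupComap C) := by
  intro a b hab
  have := congrArg (fun x : C => (x : G)) hab
  apply Subtype.ext
  apply Subtype.ext
  exact this

theorem IsQE.subgroup {G : Type*} [Group G] [Finite G] {p : ℕ} (hp : p.Prime) (h : IsQE p G)
    (T : Subgroup G) : IsQE p T := by
  obtain ⟨C, hCn, hcyc, hcop, k, hk⟩ := h
  haveI := hCn
  haveI := hcyc
  refine ⟨C.subgroupOf T, inferInstance, ?_, ?_, ?_⟩
  · exact isCyclic_of_injective (T.subtype.subgroupComap C) (subgroupComap_subtype_injective C T)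
  · have : Nat.card (C.subgroupOf T) ∣ Nat.card C :=
      Subgroup.card_dvd_of_injective (T.subtype.subgroupComap C)
        (subgroupComap_subtype_injective C T)
    exact Nat.Coprime.coprime_dvd_left this hcop
  · have h1 : C.relIndex T ∣ C.index := Subgroup.relIndex_dvd_index_of_normal C T
    rw [hk] at h1
    obtain ⟨j, _, hj⟩ := (Nat.dvd_prime_pow hp).mp h1
    exact ⟨j, hj⟩

theorem IsQuasiElem.isQE {G : Type*} [Group G] [Finite G] {p : ℕ} {H : Subgroup G}
    (h : IsQuasiElem p H) : IsQE p H := by
  obtain ⟨C, hCH, hHN, hcyc, hcop, k, hk⟩ := h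
  haveI := hcyc
  refine ⟨C.subgroupOf H, (Subgroup.normal_subgroupOf_iff_le_normalizer hCH).mpr hHN, ?_, ?_,
    k, hk⟩
  · exact isCyclic_of_injective (H.subtype.subgroupComap C) (subgroupComap_subtype_injective C H)
  · have : Nat.card (C.subgroupOf H) ∣ Nat.card C :=
      Subgroup.card_dvd_of_injective (H.subtype.subgroupComap C)
        (subgroupComap_subtype_injective C H)
    exact Nat.Coprime.coprime_dvd_left this hcop

theorem isElementary_of_mulEquiv {p : ℕ} {E E' : Type*} [Group E] [Group E'] (e : E ≃* E')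
    (h : Cfsg.IsElementary p E) : Cfsg.IsElementary p E' := by
  obtain ⟨x, hx, hcop, k, hk⟩ := h
  refine ⟨e x, ?_, ?_, k, ?_⟩
  · rw [Subgroup.mem_center_iff] at hx ⊢
    intro y
    obtain ⟨y, rfl⟩ := e.surjective y
    rw [← map_mul, ← map_mul, hx y]
  · rw [MulEquiv.orderOf_eq]; exact hcop
  · have : Subgroup.zpowers (e x) = (Subgroup.zpowers x).map e.toMonoidHom := by
      rw [MonoidHom.map_zpowers]; rfl
    rw [this]
    have := Subgroup.index_map_equiv (Subgroup.zpowers x) e
    rw [← hk, ← this]
    rfl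

section Span

variable {G : Type*} [Group G] [Fintype G]

/-- induced functions from equal subgroups -/
theorem indFun_congr {E₁ E₂ : Subgroup G} (h : E₁ = E₂) (φ₁ : E₁ → ℂ) (φ₂ : E₂ → ℂ)
    (hφ : ∀ (x : G) (h₁ : x ∈ E₁) (h₂ : x ∈ E₂), φ₁ ⟨x, h₁⟩ = φ₂ ⟨x, h₂⟩) :
    Cfsg.indFun E₁ φ₁ = Cfsg.indFun E₂ φ₂ := by
  subst h
  congr 1
  funext x
  exact hφ x.1 x.2 x.2

/-- the characters induced from `p`-elementary subgroups -/
def elemGen (p : ℕ) (G : Type*) [Group G] [Fintype G] : Set (G → ℂ) :=
  {f | ∃ (E : Subgroup G) (φ : E → ℂ), Cfsg.IsElementary p E ∧ Cfsg.IsCharacter E φ ∧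
    f = Cfsg.indFun E φ}

/-- the integer span of the characters induced from `p`-elementary subgroups -/
def elemSpan (p : ℕ) (G : Type*) [Group G] [Fintype G] : AddSubgroup (G → ℂ) :=
  AddSubgroup.closure (elemGen p G)

/-- the span is closed under multiplication by characters -/
theorem elemSpan_mul_char {p : ℕ} {f ψ : G → ℂ} (hf : f ∈ elemSpan p G)
    (hψ : Cfsg.IsCharacter G ψ) : f * ψ ∈ elemSpan p G := by
  unfold elemSpan at hf ⊢
  induction hf using AddSubgroup.closure_induction with
  | mem x hx =>
    obtain ⟨E, φ, hE, hφ, rfl⟩ := hx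
    apply AddSubgroup.subset_closure
    refine ⟨E, φ * fun e : E => ψ e, hE, isCharacter_mul hφ (IsCharacter.restrict hψ E), ?_⟩
    rw [indFun_mul_restrict E φ ψ (IsCharacter.isClassFunction hψ)]
  | zero => rw [zero_mul]; exact AddSubgroup.zero_mem _
  | add x y hx hy h1 h2 => rw [add_mul]; exact AddSubgroup.add_mem _ h1 h2
  | neg x hx h => rw [neg_mul]; exact AddSubgroup.neg_mem _ h

/-- the span is closed under induction -/
theorem elemSpan_ind {p : ℕ} (T : Subgroup G) [Fintype T] {f : T → ℂ} (hf : f ∈ elemSpan p T) :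
    Cfsg.indFun T f ∈ elemSpan p G := by
  unfold elemSpan at hf ⊢
  induction hf using AddSubgroup.closure_induction with
  | mem x hx =>
    obtain ⟨E', φ, hE', hφ, rfl⟩ := hx
    apply AddSubgroup.subset_closure
    let e : E' ≃* E'.map T.subtype := E'.equivMapOfInjective T.subtype T.subtype_injective
    refine ⟨E'.map T.subtype, fun x => φ (e.symm x), isElementary_of_mulEquiv e hE',
      IsCharacter.comp hφ e.symm.toMonoidHom, ?_⟩
    have hET : E'.map T.subtype ≤ T := by
      rintro _ ⟨y, _, rfl⟩
      exact y.2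
    rw [← indFun_trans (E'.map T.subtype) T hET]
    congr 1
    apply indFun_congr
    · exact (Subgroup.comap_map_eq_self_of_injective T.subtype_injective E').symm
    · intro x h₁ h₂
      congr 1
      apply e.injective
      rw [MulEquiv.apply_symm_apply]
      apply Subtype.ext
      rfl
  | zero => rw [indFun_zero]; exact AddSubgroup.zero_mem _
  | add x y hx hy h1 h2 => rw [indFun_add]; exact AddSubgroup.add_mem _ h1 h2
  | neg x hx h =>
    have : Cfsg.indFun T (-x) = - Cfsg.indFun T x := by
      have := indFun_smul T (-1 : ℂ) x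
      rw [neg_one_smul, neg_one_smul] at this
      exact this
    rw [this]
    exact AddSubgroup.neg_mem _ h

end Span

end Cfsg.Agent.Lib.Helper7
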