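import Mathlib
import Cfsg.Prelude.Def_Characters

set_option autoImplicit false

namespace Cfsg.Agent.Lib.Helper7

open Cfsg

theorem trace_comp_fin_one (f g : (Fin 1 → ℂ) →ₗ[ℂ] (Fin 1 → ℂ)) :
    LinearMap.trace ℂ _ (f ∘ₗ g) = LinearMap.trace ℂ _ f * LinearMap.trace ℂ _ g := by
  rw [LinearMap.trace_eq_matrix_trace ℂ (Pi.basisFun ℂ (Fin 1)),
    LinearMap.trace_eq_matrix_trace ℂ (Pi.basisFun ℂ (Fin 1)) f,
    LinearMap.trace_eq_matrix_trace ℂ (Pi.basisFun ℂ (Fin 1)) g,
    LinearMap.toMatrix_comp (Pi.basisFun ℂ (Fin 1)) (Pi.basisFun ℂ (Fin 1)) (Pi.basisFun ℂ (Fin 1))]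
  simp [Matrix.trace, Matrix.mul_apply]

/-- A character of degree one is multiplicative. -/
theorem linear_char_mul {G : Type*} [Group G] {lam : G → ℂ} (h : IsCharacter G lam)
    (h1 : lam 1 = 1) (g k : G) : lam (g * k) = lam g * lam k := by
  obtain ⟨n, ρ, rfl⟩ := h
  have hn : n = 1 := by
    have := ρ.char_one
    rw [h1] at this
    simp only [Module.finrank_fin_fun] at this
    exact_mod_cast this.symm
  subst hn
  show LinearMap.trace ℂ _ (ρ (g * k)) = LinearMap.trace ℂ _ (ρ g) * LinearMap.trace ℂ _ (ρ k)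
  rw [map_mul, Module.End.mul_eq_comp, trace_comp_fin_one]

theorem linear_char_ne_zero {G : Type*} [Group G] {lam : G → ℂ} (h : IsCharacter G lam)
    (h1 : lam 1 = 1) (g : G) : lam g ≠ 0 := by
  intro h0
  have := linear_char_mul h h1 g g⁻¹
  rw [mul_inv_cancel, h1, h0, zero_mul] at this
  exact one_ne_zero this

theorem linear_char_inv {G : Type*} [Group G] {lam : G → ℂ} (h : IsCharacter G lam)
    (h1 : lam 1 = 1) (g : G) : lam g⁻¹ = (lam g)⁻¹ := by
  have := linear_char_mul h h1 g g⁻¹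
  rw [mul_inv_cancel, h1] at this
  exact eq_inv_of_mul_eq_one_right this.symm

/-- A character of degree one as a monoid hom. -/
noncomputable def linearCharHom {G : Type*} [Group G] {lam : G → ℂ} (h : IsCharacter G lam)
    (h1 : lam 1 = 1) : G →* ℂ where
  toFun := lam
  map_one' := h1
  map_mul' := linear_char_mul h h1

end Cfsg.Agent.Lib.Helper7
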