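import Mathlib
import Cfsg.Prelude.Def_Characters
import Cfsg.Agent.Lib.Helper2.Linear
import Cfsg.Agent.Lib.Helper2.BurnsidePQ
import Cfsg.Agent.Lib.Helper7.LinearChar
import Cfsg.Agent.Lib.Helper7.BrauerInd1

/-!
# Brauer's induction theorem, part 2: group-theoretic and character-theoretic lemmas
(helper7 library)
-/

set_option autoImplicit false

namespace Cfsg.Agent.Lib.Helper7

open Cfsg.Agent.Lib.Helper2 Cfsg.Agent.Lib.Helper11
open scoped ComplexConjugate

section Group

variable {G : Type*} [Group G]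

/-- a subgroup of a cyclic subgroup is generated by one element -/
theorem exists_generator_of_le_cyclic (C Z : Subgroup G) [IsCyclic C] (hZC : Z ≤ C) :
    ∃ z₀ : G, Z = Subgroup.zpowers z₀ := by
  haveI : IsCyclic (Z.subgroupOf C) := Subgroup.isCyclic _
  haveI : IsCyclic Z :=
    isCyclic_of_surjective (Subgroup.subgroupOfEquivOfLe hZC) (Subgroup.subgroupOfEquivOfLe hZC).surjective
  obtain ⟨g, hg⟩ := IsCyclic.exists_generator (α := Z)
  refine ⟨(g : G), ?_⟩
  apply le_antisymm
  · intro x hx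
    obtain ⟨k, hk⟩ := Subgroup.mem_zpowers_iff.mp (hg ⟨x, hx⟩)
    rw [Subgroup.mem_zpowers_iff]
    refine ⟨k, ?_⟩
    have := congrArg (Subtype.val : Z → G) hk
    simpa using this
  · rw [Subgroup.zpowers_le]
    exact g.2

/-- `P ⊔ ⟨z₀⟩` is `p`-elementary when `P` is a `p`-group centralizing the `p'`-element `z₀` -/
theorem isElementary_sup [Finite G] {p : ℕ} (hp : p.Prime) (P Z : Subgroup G) (hP : IsPGroup p P)
    (z₀ : G) (hZ : Z = Subgroup.zpowers z₀) (hcop : Nat.Coprime (Nat.card Z) p)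
    (hcomm : ∀ u ∈ P, u * z₀ = z₀ * u) : Cfsg.IsElementary p ↥(P ⊔ Z) := by
  have hz₀Z : z₀ ∈ Z := by rw [hZ]; exact Subgroup.mem_zpowers z₀
  have hmemZ : ∀ x : G, x ∈ Z ↔ ∃ k : ℤ, z₀ ^ k = x := by
    intro x; rw [hZ, Subgroup.mem_zpowers_iff]
  have hz₀E : z₀ ∈ P ⊔ Z := Subgroup.mem_sup_right hz₀Z
  have hEle : P ⊔ Z ≤ Subgroup.centralizer ({z₀} : Set G) := by
    apply sup_le
    · intro u hu
      rw [Subgroup.mem_centralizer_singleton_iff]
      exact hcomm u hu
    · rw [hZ, Subgroup.zpowers_le, Subgroup.mem_centralizer_singleton_iff]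
  refine ⟨⟨z₀, hz₀E⟩, ?_, ?_, ?_⟩
  · rw [Subgroup.mem_center_iff]
    intro y
    apply Subtype.ext
    have := hEle y.2
    rw [Subgroup.mem_centralizer_singleton_iff] at this
    exact this
  · rw [Subgroup.orderOf_mk, ← Nat.card_zpowers, ← hZ]
    exact hcop
  · -- the index
    have hsub : Subgroup.zpowers (⟨z₀, hz₀E⟩ : ↥(P ⊔ Z)) = Z.subgroupOf (P ⊔ Z) := by
      ext y
      rw [Subgroup.mem_zpowers_iff, Subgroup.mem_subgroupOf, hmemZ]
      constructor
      · rintro ⟨k, hk⟩
        refine ⟨k, ?_⟩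
        have := congrArg (Subtype.val : ↥(P ⊔ Z) → G) hk
        simpa using this
      · rintro ⟨k, hk⟩
        refine ⟨k, ?_⟩
        apply Subtype.ext
        simpa using hk
    rw [hsub]
    have hZE : Z ≤ P ⊔ Z := le_sup_right
    have hcardZ : Nat.card (Z.subgroupOf (P ⊔ Z)) = Nat.card Z :=
      Nat.card_congr (Subgroup.subgroupOfEquivOfLe hZE).toEquiv
    have h1 := Subgroup.card_mul_index (Z.subgroupOf (P ⊔ Z))
    rw [hcardZ] at h1
    -- `|P ⊔ Z|` divides `|P| |Z|`
    have hcm : ∀ (u : P) (z : Z), Commute (P.subtype u) (Z.subtype z) := by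
      intro u z
      obtain ⟨k, hk⟩ := (hmemZ _).mp z.2
      show Commute (u : G) (z : G)
      rw [← hk]
      exact (show Commute (u : G) z₀ from hcomm u u.2).zpow_right k
    have hrange := MonoidHom.noncommCoprod_range P.subtype Z.subtype hcm
    rw [Subgroup.range_subtype, Subgroup.range_subtype] at hrange
    have h2 := Subgroup.card_range_dvd (MonoidHom.noncommCoprod P.subtype Z.subtype hcm)
    rw [hrange, Nat.card_prod] at h2
    rw [← h1, mul_comm (Nat.card P)] at h2
    have hZpos : 0 < Nat.card Z := Nat.card_pos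
    have h3 : (Z.subgroupOf (P ⊔ Z)).index ∣ Nat.card P := Nat.dvd_of_mul_dvd_mul_left hZpos h2
    haveI : Fact p.Prime := ⟨hp⟩
    obtain ⟨a, ha⟩ := IsPGroup.iff_card.mp hP
    rw [ha] at h3
    obtain ⟨j, _, hj⟩ := (Nat.dvd_prime_pow hp).mp h3
    exact ⟨j, hj⟩

/-- a normal `p'`-subgroup of `p`-power index and a Sylow `p`-subgroup generate the group -/
theorem sup_sylow_eq_top [Finite G] {p : ℕ} [hp : Fact p.Prime] (C : Subgroup G)
    (hcop : Nat.Coprime (Nat.card C) p) {k : ℕ} (hk : C.index = p ^ k) (P : Sylow p G) :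
    C ⊔ (P : Subgroup G) = ⊤ := by
  have hGne : Nat.card G ≠ 0 := Nat.card_pos.ne'
  have hCne : Nat.card C ≠ 0 := Nat.card_pos.ne'
  have hnd : ¬ p ∣ Nat.card C := fun h =>
    hp.out.one_lt.ne' (Nat.Coprime.eq_one_of_dvd hcop.symm h)
  have hfac : (Nat.card G).factorization p = k := by
    rw [← Subgroup.card_mul_index C, hk,
      Nat.factorization_mul hCne (pow_ne_zero _ hp.out.ne_zero), Finsupp.add_apply,
      Nat.Prime.factorization_pow hp.out, Finsupp.single_eq_same,
      Nat.factorization_eq_zero_of_not_dvd hnd, zero_add]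
  have hPcard : Nat.card (P : Subgroup G) = p ^ k := by
    rw [Sylow.card_eq_multiplicity, hfac]
  have h1 : Nat.card C ∣ Nat.card (C ⊔ (P : Subgroup G) : Subgroup G) :=
    Subgroup.card_dvd_of_le le_sup_left
  have h2 : Nat.card (P : Subgroup G) ∣ Nat.card (C ⊔ (P : Subgroup G) : Subgroup G) :=
    Subgroup.card_dvd_of_le le_sup_right
  have hcop' : Nat.Coprime (Nat.card C) (Nat.card (P : Subgroup G)) := by
    rw [hPcard]; exact Nat.Coprime.pow_right k hcop
  have h3 : Nat.card C * Nat.card (P : Subgroup G) ∣ Nat.card (C ⊔ (P : Subgroup G) : Subgroup G) :=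
    Nat.Coprime.mul_dvd_of_dvd_of_dvd hcop' h1 h2
  rw [hPcard, ← hk, Subgroup.card_mul_index] at h3
  apply Subgroup.eq_top_of_card_eq
  exact le_antisymm (Subgroup.card_le_card_group _) (Nat.le_of_dvd Nat.card_pos h3)

end Group

section Chars

variable {G : Type*} [Group G] [Fintype G]

theorem isCharacter_one' (K : Type*) [Group K] : Cfsg.IsCharacter K (fun _ : K => (1 : ℂ)) :=
  IsIrrCharacter.isCharacter isIrrCharacter_one

/-- If the principal character occurs in the restriction of a character to `K`, it occurs in the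
restriction to every subgroup `H ≤ K`; stated with sums. -/
theorem sum_restrict_ne_zero {Φ : G → ℂ} (hΦ : Cfsg.IsCharacter G Φ) {H K : Subgroup G}
    (hHK : H ≤ K) [Fintype H] [Fintype K] (h : ∑ k : K, Φ k ≠ 0) : ∑ x : H, Φ x ≠ 0 := by
  classical
  letI : Fintype (H.subgroupOf K) := Fintype.ofFinite _
  -- the restriction to `K`
  have hΦK : Cfsg.IsCharacter K (fun k : K => Φ k) := IsCharacter.restrict hΦ K
  have hK1 : Cfsg.classInner (fun k : K => Φ k) ((trivialIrr K : Cfsg.IrrCharacter K) : K → ℂ) ≠ 0 := by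
    rw [classInner_def]
    apply mul_ne_zero (inv_ne_zero card_ne_zero_complex)
    have : ∀ k : K, Φ k * conj (((trivialIrr K : Cfsg.IrrCharacter K) : K → ℂ) k) = Φ k := by
      intro k; simp [trivialIrr]
    rw [Finset.sum_congr rfl (fun k _ => this k)]
    exact h
  obtain ⟨Ψ, hΨ, hsum⟩ := exists_add_of_classInner_ne_zero hΦK (trivialIrr K) hK1
  -- sum over `H.subgroupOf K`
  have h2 : ∑ x : H.subgroupOf K, Φ ((x : K) : G) ≠ 0 := by
    have hΨH : Cfsg.IsCharacter (H.subgroupOf K) (fun x : H.subgroupOf K => Ψ x) :=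
      IsCharacter.restrict hΨ _
    obtain ⟨n, hn⟩ := classInner_isCharacter_nat hΨH (isCharacter_one' (H.subgroupOf K))
    have h3 : ∀ x : H.subgroupOf K, Φ ((x : K) : G) = 1 + Ψ x := by
      intro x
      have := congrFun hsum (x : K)
      simp only [Pi.add_apply, trivialIrr] at this
      exact this
    rw [Finset.sum_congr rfl (fun x _ => h3 x), Finset.sum_add_distrib]
    rw [classInner_def] at hn
    have h4 : ∑ x : H.subgroupOf K, Ψ x = (Nat.card (H.subgroupOf K) : ℂ) * n := by
      rw [← hn, ← mul_assoc, mul_inv_cancel₀ card_ne_zero_complex, one_mul]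
      apply Finset.sum_congr rfl
      intro x _
      simp
    rw [h4, Finset.sum_const, Finset.card_univ, nsmul_eq_mul, mul_one,
      ← Nat.card_eq_fintype_card, ← mul_one_add]
    apply mul_ne_zero card_ne_zero_complex
    have : ((1 + n : ℕ) : ℂ) ≠ 0 := by exact_mod_cast (by omega : 1 + n ≠ 0)
    simpa using this
  -- transport to `H`
  have h5 : ∑ x : H.subgroupOf K, Φ ((x : K) : G) = ∑ x : H, Φ x := by
    apply Fintype.sum_equiv (Subgroup.subgroupOfEquivOfLe hHK).toEquiv
    intro x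
    rfl
  rw [← h5]
  exact h2

/-- a linear character whose sum over the group is nonzero is trivial -/
theorem linear_char_eq_one_of_sum_ne_zero {K : Type*} [Group K] [Fintype K] {lam : K → ℂ}
    (hlam : Cfsg.IsCharacter K lam) (h1 : lam 1 = 1) (hsum : ∑ x : K, lam x ≠ 0) (x : K) :
    lam x = 1 := by
  by_contra hne
  apply hsum
  have h2 : ∑ y : K, lam y = lam x * ∑ y : K, lam y := by
    rw [Finset.mul_sum, ← Equiv.sum_comp (Equiv.mulLeft x)]
    apply Finset.sum_congr rfl
    intro y _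
    rw [Equiv.coe_mulLeft, linear_char_mul hlam h1]
  have h3 : (1 - lam x) * ∑ y : K, lam y = 0 := by
    rw [sub_mul, one_mul, ← h2, sub_self]
  rcases mul_eq_zero.mp h3 with h | h
  · exact absurd (sub_eq_zero.mp h).symm hne
  · exact h

end Chars

end Cfsg.Agent.Lib.Helper7
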