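import Mathlib
import Cfsg.Prelude.Def_Characters
import Cfsg.Agent.Lib.Helper2.Ito
import Cfsg.Agent.Lib.Helper25.Kernel
import Cfsg.Agent.Lib.Helper7.BrauerInd2
import Cfsg.Agent.S0873

/-!
# Brauer's induction theorem, part 3: quasi-elementary groups (helper7 library)

`one_mem_elemSpan_of_isQE`: in a `p`-quasi-elementary group the principal character is an integer
combination of characters induced from `p`-elementary subgroups.
-/

set_option autoImplicit false

namespace Cfsg.Agent.Lib.Helper7

open Cfsg.Agent.Lib.Helper2 Cfsg.Agent.Lib.Helper11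
open scoped ComplexConjugate

universe u

/-- the key step: a nonprincipal constituent of `(1_E)^G` is induced from a proper subgroup -/
theorem mem_elemSpan_of_constituent (p : ℕ) [hp : Fact p.Prime] {G : Type u} [Group G]
    [Fintype G] (C : Subgroup G) [hCn : C.Normal] [IsCyclic C]
    (hcop : Nat.Coprime (Nat.card C) p) (P : Sylow p G) (hCP : C ⊔ (P : Subgroup G) = ⊤)
    (E : Subgroup G) (hPE : (P : Subgroup G) ≤ E)
    (hZE : C ⊓ Subgroup.centralizer ((P : Subgroup G) : Set G) ≤ E)
    (ihT : ∀ (T : Subgroup G) [Fintype T], T ≠ ⊤ → (fun _ : T => (1 : ℂ)) ∈ elemSpan p T)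
    (χ : Cfsg.IrrCharacter G)
    (hχΦ : Cfsg.classInner (Cfsg.indFun E (fun _ => (1 : ℂ))) (χ : G → ℂ) ≠ 0)
    (hne : (χ : G → ℂ) ≠ fun _ => 1) : (χ : G → ℂ) ∈ elemSpan p G := by
  classical
  letI : Fintype C := Fintype.ofFinite C
  letI : Fintype E := Fintype.ofFinite E
  letI : Fintype (P : Subgroup G) := Fintype.ofFinite _
  letI : Fintype (C ⊓ Subgroup.centralizer ((P : Subgroup G) : Set G) : Subgroup G) :=
    Fintype.ofFinite _
  have hχ := χ.2
  have hχchar := IsIrrCharacter.isCharacter hχ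
  have hχcf : Cfsg.IsClassFunction G (χ : G → ℂ) := IsCharacter.isClassFunction hχchar
  have hPp : IsPGroup p (P : Subgroup G) := P.isPGroup'
  -- the sum of `χ` over `E` is nonzero
  have hsumE : ∑ e : E, (χ : G → ℂ) e ≠ 0 := by
    rw [frobenius_reciprocity E _ _ hχcf, classInner_def] at hχΦ
    intro h0
    apply hχΦ
    have : ∑ e : E, (1 : ℂ) * conj ((χ : G → ℂ) e) = conj (∑ e : E, (χ : G → ℂ) e) := by
      rw [map_sum]
      apply Finset.sum_congr rfl
      intro e _
      rw [one_mul]
    rw [this, h0, map_zero, mul_zero]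
  -- an irreducible constituent `lam` of the restriction to `C`
  have hresne : (fun a : C => (χ : G → ℂ) a) ≠ 0 := by
    intro h
    have := congrFun h 1
    exact IsIrrCharacter.apply_one_ne_zero hχ this
  obtain ⟨lamI, Ψ, hΨ, hsum⟩ := exists_irr_add_of_ne_zero (IsCharacter.restrict hχchar C) hresne
  set lam : C → ℂ := (lamI : C → ℂ) with hlamdef
  have hlam : Cfsg.IsIrrCharacter C lam := lamI.2
  have hlamchar := IsIrrCharacter.isCharacter hlam
  have hconst : Cfsg.classInner (fun a : C => (χ : G → ℂ) a) lam ≠ 0 := by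
    rw [hsum, classInner_add_left]
    have h1 : Cfsg.classInner (lamI : C → ℂ) lam = 1 := classInner_irrCharacter_self lamI
    obtain ⟨k, hk⟩ := classInner_isCharacter_nat hΨ hlamchar
    rw [h1, hk]
    have : ((1 + k : ℕ) : ℂ) ≠ 0 := by exact_mod_cast (by omega : 1 + k ≠ 0)
    simpa using this
  have hCcomm : ∀ a b : C, a * b = b * a := by
    haveI : IsMulCommutative C := IsCyclic.isMulCommutative
    exact fun a b => mul_comm' a b
  have hlam1 : lam 1 = 1 := IsIrrCharacter.apply_one_of_comm hCcomm hlam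
  have hlamcf : Cfsg.IsClassFunction C lam := IrrCharacter.isClassFunction lamI
  set T := inertia C lam with hTdef
  have hCT : C ≤ T := le_inertia C hlamcf
  by_cases hT : T = ⊤
  · -- `lam` is invariant; we derive a contradiction
    exfalso
    apply hne
    have hinv : ∀ g : G, conjFun C g lam = lam := by
      intro g
      have : g ∈ T := by rw [hT]; trivial
      exact this
    have hcl := clifford_restriction C hχ hlam hconst
    have hset : {ψ : C → ℂ | ∃ g : G, ψ = conjFun C g lam} = {lam} := by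
      ext ψ
      constructor
      · rintro ⟨g, rfl⟩; exact hinv g
      · intro h; exact ⟨1, by rw [Set.mem_singleton_iff.mp h, conjFun_one]⟩
    rw [hset, finsum_mem_singleton] at hcl
    set e := Cfsg.classInner (fun a : C => (χ : G → ℂ) a) lam with he
    have hval : ∀ a : C, (χ : G → ℂ) a = e * lam a := by
      intro a
      have := congrFun hcl a
      simpa using this
    have he1 : e = (χ : G → ℂ) 1 := by
      have := hval 1
      rw [hlam1, mul_one] at this
      exact this.symm
    have hene : e ≠ 0 := by rw [he1]; exact IsIrrCharacter.apply_one_ne_zero hχ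
    -- `lam` is trivial on `Z`
    have hsumZ : ∑ z : (C ⊓ Subgroup.centralizer ((P : Subgroup G) : Set G) : Subgroup G),
        (χ : G → ℂ) z ≠ 0 := sum_restrict_ne_zero hχchar hZE hsumE
    -- the restriction of `lam` to `Z`
    let lamZ : (C ⊓ Subgroup.centralizer ((P : Subgroup G) : Set G) : Subgroup G) → ℂ :=
      fun z => lam ⟨(z : G), z.2.1⟩
    have hlamZchar : Cfsg.IsCharacter _ lamZ :=
      IsCharacter.comp hlamchar (Subgroup.inclusion (inf_le_left :
        C ⊓ Subgroup.centralizer ((P : Subgroup G) : Set G) ≤ C))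
    have hlamZ1 : lamZ 1 = 1 := hlam1
    have hsumlamZ : ∑ z : (C ⊓ Subgroup.centralizer ((P : Subgroup G) : Set G) : Subgroup G),
        lamZ z ≠ 0 := by
      intro h0
      apply hsumZ
      have : ∀ z : (C ⊓ Subgroup.centralizer ((P : Subgroup G) : Set G) : Subgroup G),
          (χ : G → ℂ) z = e * lamZ z := fun z => hval ⟨(z : G), z.2.1⟩
      rw [Finset.sum_congr rfl (fun z _ => this z), ← Finset.mul_sum, h0, mul_zero]
    have hker : ∀ c : C, (c : G) ∈ Subgroup.centralizer ((P : Subgroup G) : Set G) → lam c = 1 := by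
      intro c hc
      exact linear_char_eq_one_of_sum_ne_zero hlamZchar hlamZ1 hsumlamZ ⟨(c : G), c.2, hc⟩
    have hinv' : ∀ (g : G) (c : C), lam ⟨g * c * g⁻¹, hCn.conj_mem (c : G) c.2 g⟩ = lam c := by
      intro g c
      have := congrFun (hinv g) c
      exact this
    have hlamone : lam = fun _ => 1 :=
      Cfsg.Agent.S0873.result p C (P : Subgroup G) hPp hcop hCP lam ⟨hlamchar, hlam1⟩ hinv' hker
    -- `C` is in the kernel of `χ`
    have hkerχ : ∀ c ∈ C, (χ : G → ℂ) c = (χ : G → ℂ) 1 := by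
      intro c hc
      rw [hval ⟨c, hc⟩, hlamone, mul_one, he1]
    obtain ⟨ψ', hψ'irr, hψ'⟩ := Cfsg.Agent.Lib.Helper25.exists_deflation C hχ hkerχ
    -- every element is `c * u`
    have hdecomp : ∀ g : G, ∃ c ∈ C, ∃ u ∈ (P : Subgroup G), g = c * u := by
      intro g
      have hg : g ∈ C ⊔ (P : Subgroup G) := by rw [hCP]; trivial
      rw [← SetLike.mem_coe, Subgroup.normal_mul] at hg
      obtain ⟨c, hc, u, hu, rfl⟩ := hg
      exact ⟨c, hc, u, hu, rfl⟩
    -- the restriction of `χ` to `P` is irreducible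
    have hsurj : Function.Surjective ((QuotientGroup.mk' C).comp (P : Subgroup G).subtype) := by
      intro q
      obtain ⟨g, rfl⟩ := QuotientGroup.mk_surjective q
      obtain ⟨c, hc, u, hu, rfl⟩ := hdecomp g
      refine ⟨⟨u, hu⟩, ?_⟩
      show ((u : G) : G ⧸ C) = ((c * u : G) : G ⧸ C)
      rw [QuotientGroup.mk_mul, (QuotientGroup.eq_one_iff c).mpr hc, one_mul]
    have hPirr : Cfsg.IsIrrCharacter (P : Subgroup G) (fun u : (P : Subgroup G) => (χ : G → ℂ) u) := by
      have := Cfsg.Agent.Lib.Helper25.isIrrCharacter_comp _ hsurj hψ'irr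
      convert this using 1
      funext u
      exact hψ' u
    have hsumP : ∑ u : (P : Subgroup G), (χ : G → ℂ) u ≠ 0 :=
      sum_restrict_ne_zero hχchar hPE hsumE
    have hP1 : (fun u : (P : Subgroup G) => (χ : G → ℂ) u) = fun _ => 1 := by
      apply eq_of_irr_of_classInner_ne_zero' hPirr isIrrCharacter_one
      rw [classInner_def]
      apply mul_ne_zero (inv_ne_zero card_ne_zero_complex)
      have : ∀ u : (P : Subgroup G), (χ : G → ℂ) u * conj (1 : ℂ) = (χ : G → ℂ) u := by
        intro u; simp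
      rw [Finset.sum_congr rfl (fun u _ => this u)]
      exact hsumP
    funext g
    obtain ⟨c, hc, u, hu, rfl⟩ := hdecomp g
    have h1 := (Cfsg.Agent.Lib.Helper25.char_mul_of_mem_ker hχchar (hkerχ c hc) u).2
    rw [h1]
    exact congrFun hP1 ⟨u, hu⟩
  · -- `χ` is induced from the proper subgroup `T`
    haveI : Fintype T := Fintype.ofFinite T
    set A' : Subgroup T := C.subgroupOf T with hA'
    haveI : Fintype A' := Fintype.ofFinite A'
    let lam' : A' → ℂ := fun x => lam ⟨(x : T), Subgroup.mem_subgroupOf.mp x.2⟩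
    let ΧT : T → ℂ := fun t => (χ : G → ℂ) t
    have hΧTcf : Cfsg.IsClassFunction T ΧT := fun t s => hχcf t s
    have h1 : Cfsg.classInner (Cfsg.indFun A' lam') ΧT ≠ 0 := by
      rw [frobenius_reciprocity A' lam' ΧT hΧTcf]
      have h2 : Cfsg.classInner lam' (fun x : A' => ΧT x)
          = Cfsg.classInner lam (fun a : C => (χ : G → ℂ) a) := by
        rw [classInner_def, classInner_def]
        let eqv : A' ≃* C := Subgroup.subgroupOfEquivOfLe hCT
        rw [Nat.card_congr eqv.toEquiv]
        congr 1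
        rw [← Equiv.sum_comp eqv.toEquiv (fun a : C => lam a * conj ((χ : G → ℂ) a))]
        rfl
      rw [h2, ← classInner_conj_symm]
      intro h
      apply hconst
      have := congrArg conj h
      simpa using this
    obtain ⟨ψ, hψ1, hψ2⟩ := exists_common_constituent _ ΧT hΧTcf h1
    have hcc := Cfsg.Agent.Lib.Helper11.clifford_correspondence C T lam hlam
      (fun g => Iff.rfl) hCT ψ ψ ψ.2 ψ.2 hψ1 hψ1
    have hind : Cfsg.indFun T (ψ : T → ℂ) = (χ : G → ℂ) := by
      apply eq_of_irr_of_classInner_ne_zero' hcc.1 hχ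
      rw [frobenius_reciprocity T _ _ hχcf, ← classInner_conj_symm]
      intro h
      apply hψ2
      have := congrArg conj h
      simpa using this
    have h1T := ihT T hT
    have h2T := elemSpan_mul_char h1T (IsIrrCharacter.isCharacter ψ.2)
    have h3T : ((fun _ : T => (1 : ℂ)) * (ψ : T → ℂ)) = (ψ : T → ℂ) := by
      funext t
      simp
    rw [h3T] at h2T
    rw [← hind]
    exact elemSpan_ind T h2T

theorem one_mem_elemSpan_aux (p : ℕ) [hp : Fact p.Prime] :
    ∀ (n : ℕ) (G : Type u) [Group G] [Fintype G],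
    Nat.card G = n → IsQE p G → (fun _ : G => (1 : ℂ)) ∈ elemSpan p G := by
  intro n
  induction n using Nat.strong_induction_on with
  | _ n ih =>
  intro G _ _ hcard hQE
  classical
  obtain ⟨C, hCn, hcyc, hcop, k, hk⟩ := id hQE
  haveI := hCn
  haveI := hcyc
  haveI : Fintype (Cfsg.IrrCharacter G) := Fintype.ofFinite _
  obtain ⟨P⟩ : Nonempty (Sylow p G) := inferInstance
  have hPp : IsPGroup p (P : Subgroup G) := P.isPGroup'
  have hCP : C ⊔ (P : Subgroup G) = ⊤ := sup_sylow_eq_top C hcop hk P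
  obtain ⟨z₀, hz₀⟩ := exists_generator_of_le_cyclic C
    (C ⊓ Subgroup.centralizer ((P : Subgroup G) : Set G)) inf_le_left
  have hcopZ : Nat.Coprime
      (Nat.card ↥(C ⊓ Subgroup.centralizer ((P : Subgroup G) : Set G))) p :=
    Nat.Coprime.coprime_dvd_left (Subgroup.card_dvd_of_le inf_le_left) hcop
  have hz₀mem : z₀ ∈ C ⊓ Subgroup.centralizer ((P : Subgroup G) : Set G) := by
    rw [hz₀]; exact Subgroup.mem_zpowers z₀
  have hcomm : ∀ u ∈ (P : Subgroup G), u * z₀ = z₀ * u := fun u hu =>
    (Subgroup.mem_centralizer_iff.mp hz₀mem.2) u hu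
  have hEel := isElementary_sup hp.out (P : Subgroup G)
    (C ⊓ Subgroup.centralizer ((P : Subgroup G) : Set G)) hPp z₀ hz₀ hcopZ hcomm
  letI : Fintype ↥((P : Subgroup G) ⊔ (C ⊓ Subgroup.centralizer ((P : Subgroup G) : Set G))) :=
    Fintype.ofFinite _
  have hΦchar : Cfsg.IsCharacter G (Cfsg.indFun
      ((P : Subgroup G) ⊔ (C ⊓ Subgroup.centralizer ((P : Subgroup G) : Set G)))
      (fun _ => (1 : ℂ))) := indFun_isCharacter _ _ (isCharacter_one' _)
  have hΦmem : Cfsg.indFun
      ((P : Subgroup G) ⊔ (C ⊓ Subgroup.centralizer ((P : Subgroup G) : Set G)))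
      (fun _ => (1 : ℂ)) ∈ elemSpan p G :=
    AddSubgroup.subset_closure ⟨_, _, hEel, isCharacter_one' _, rfl⟩
  have ihT : ∀ (T : Subgroup G) [Fintype T], T ≠ ⊤ →
      (fun _ : T => (1 : ℂ)) ∈ elemSpan p T := by
    intro T _ hT
    have hTcard : Nat.card T < n := by
      rw [← hcard]
      apply lt_of_le_of_ne (Subgroup.card_le_card_group T)
      intro h
      exact hT ((Subgroup.card_eq_iff_eq_top T).mp h)
    exact ih (Nat.card T) hTcard T rfl (hQE.subgroup hp.out T)
  have key : ∀ χ : Cfsg.IrrCharacter G, (χ : G → ℂ) ≠ (fun _ => 1) →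
      Cfsg.classInner (Cfsg.indFun
        ((P : Subgroup G) ⊔ (C ⊓ Subgroup.centralizer ((P : Subgroup G) : Set G)))
        (fun _ => (1 : ℂ))) (χ : G → ℂ) ≠ 0 → (χ : G → ℂ) ∈ elemSpan p G :=
    fun χ hne hχ => mem_elemSpan_of_constituent p C hcop P hCP _ le_sup_left le_sup_right
      ihT χ hχ hne
  have hexp := classFunction_expansion _ (IsCharacter.isClassFunction hΦchar)
  have h1 : Cfsg.classInner (Cfsg.indFun
      ((P : Subgroup G) ⊔ (C ⊓ Subgroup.centralizer ((P : Subgroup G) : Set G)))
      (fun _ => (1 : ℂ))) ((trivialIrr G : Cfsg.IrrCharacter G) : G → ℂ) = 1 := by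
    rw [frobenius_reciprocity _ _ _ (IrrCharacter.isClassFunction (trivialIrr G))]
    exact classInner_irrCharacter_self (trivialIrr _)
  rw [← Finset.add_sum_erase Finset.univ _ (Finset.mem_univ (trivialIrr G)), h1, one_smul]
    at hexp
  have h2 : (fun _ : G => (1 : ℂ)) = Cfsg.indFun
      ((P : Subgroup G) ⊔ (C ⊓ Subgroup.centralizer ((P : Subgroup G) : Set G)))
      (fun _ => (1 : ℂ)) - ∑ χ ∈ Finset.univ.erase (trivialIrr G),
        Cfsg.classInner (Cfsg.indFun
          ((P : Subgroup G) ⊔ (C ⊓ Subgroup.centralizer ((P : Subgroup G) : Set G)))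
          (fun _ => (1 : ℂ))) (χ : G → ℂ) • (χ : G → ℂ) := by
    rw [eq_sub_iff_add_eq]
    exact hexp.symm
  rw [h2]
  apply AddSubgroup.sub_mem _ hΦmem
  apply AddSubgroup.sum_mem
  intro χ hχ
  rw [Finset.mem_erase] at hχ
  obtain ⟨m, hm⟩ := classInner_isCharacter_nat hΦchar (IsIrrCharacter.isCharacter χ.2)
  by_cases hm0 : m = 0
  · rw [hm, hm0, Nat.cast_zero, zero_smul]
    exact AddSubgroup.zero_mem _
  · have hkey := key χ (by
      intro h
      apply hχ.1
      apply Subtype.ext
      exact h) (by rw [hm]; exact_mod_cast hm0)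
    rw [hm, Nat.cast_smul_eq_nsmul]
    exact AddSubgroup.nsmul_mem _ hkey m

/-- In a `p`-quasi-elementary group the principal character is an integer combination of
characters induced from `p`-elementary subgroups. -/
theorem one_mem_elemSpan_of_isQE (p : ℕ) [Fact p.Prime] {G : Type u} [Group G] [Fintype G]
    (h : IsQE p G) : (fun _ : G => (1 : ℂ)) ∈ elemSpan p G :=
  one_mem_elemSpan_aux p _ G rfl h

/-- from membership in the span to an explicit list -/
theorem exists_list_of_mem_elemSpan {p : ℕ} {G : Type u} [Group G] [Fintype G] {f : G → ℂ}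
    (hf : f ∈ elemSpan p G) :
    ∃ l : List ((E : Subgroup G) × ((E → ℂ) × ℤ)),
      (∀ t ∈ l, Cfsg.IsElementary p t.1 ∧ Cfsg.IsCharacter t.1 t.2.1) ∧
      f = (l.map fun t => (t.2.2 : ℂ) • Cfsg.indFun t.1 t.2.1).sum := by
  unfold elemSpan at hf
  induction hf using AddSubgroup.closure_induction with
  | mem x hx =>
    obtain ⟨E, φ, hE, hφ, rfl⟩ := hx
    refine ⟨[⟨E, (φ, 1)⟩], ?_, ?_⟩
    · intro t ht
      rw [List.mem_singleton] at ht
      subst ht
      exact ⟨hE, hφ⟩
    · simp
  | zero => exact ⟨[], by simp, by simp⟩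
  | add x y hx hy h1 h2 =>
    obtain ⟨l₁, hl₁, rfl⟩ := h1
    obtain ⟨l₂, hl₂, rfl⟩ := h2
    refine ⟨l₁ ++ l₂, ?_, ?_⟩
    · intro t ht
      rcases List.mem_append.mp ht with h | h
      · exact hl₁ t h
      · exact hl₂ t h
    · rw [List.map_append, List.sum_append]
  | neg x hx h =>
    obtain ⟨l, hl, rfl⟩ := h
    refine ⟨l.map (fun t => ⟨t.1, (t.2.1, -t.2.2)⟩), ?_, ?_⟩
    · intro t ht
      rw [List.mem_map] at ht
      obtain ⟨t', ht', rfl⟩ := ht
      exact hl t' ht'
    · rw [List.map_map]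
      clear hl hx
      induction l with
      | nil => simp
      | cons a l ih =>
        rw [List.map_cons, List.sum_cons, List.map_cons, List.sum_cons, neg_add, ih]
        congr 1
        simp

end Cfsg.Agent.Lib.Helper7
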