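import Mathlib
import Cfsg.Prelude.Def_Characters
import Cfsg.Agent.Lib.Helper7.BrauerInd3
import Cfsg.Agent.S0872

/-!
# Brauer's induction theorem (helper7 library)

`exists_int_mem_elemSpan`: for every prime `p` some integer `m` prime to `p` (as a constant
function) is an integer combination of characters induced from `p`-elementary subgroups.
-/

set_option autoImplicit false

namespace Cfsg.Agent.Lib.Helper7

open Cfsg.Agent.Lib.Helper2 Cfsg.Agent.Lib.Helper11
open scoped ComplexConjugate

universe u

theorem exists_int_mem_elemSpan (p : ℕ) [hp : Fact p.Prime] (G : Type u) [Group G] [Fintype G] :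
    ∃ m : ℤ, ¬ (p : ℤ) ∣ m ∧ (fun _ : G => (m : ℂ)) ∈ elemSpan p G := by
  classical
  obtain ⟨m, a, hm, ha, hsum⟩ := Cfsg.Agent.S0872.result (G := G) p hp.out
  refine ⟨m, hm, ?_⟩
  rw [hsum]
  apply AddSubgroup.sum_mem
  intro H _
  by_cases h0 : a H = 0
  · rw [h0, Int.cast_zero, zero_smul]
    exact AddSubgroup.zero_mem _
  · have hq : IsQuasiElem p H := ha H h0
    letI : Fintype H := Fintype.ofFinite H
    have h1 := one_mem_elemSpan_of_isQE p hq.isQE
    have h2 := elemSpan_ind (p := p) H h1
    rw [Int.cast_smul_eq_zsmul]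
    exact AddSubgroup.zsmul_mem _ h2 _

end Cfsg.Agent.Lib.Helper7
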