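import Mathlib
import Cfsg.Prelude.Def_Characters
import Cfsg.Agent.Lib.Helper7.BrauerInd4

/-!
# Brauer's characterization of characters (helper7 library)

* `gc_*`: closure properties of generalized characters.
* `one_mem_elemSpanAll`: the principal character is an integer combination of characters induced
  from elementary subgroups (for varying primes).
* `isGeneralizedCharacter_of_elementary`: a class function whose restriction to every elementary
  subgroup is a generalized character is a generalized character.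
-/

set_option autoImplicit false

namespace Cfsg.Agent.Lib.Helper7

open Cfsg.Agent.Lib.Helper2 Cfsg.Agent.Lib.Helper11
open scoped ComplexConjugate

universe u

section GC

variable {G : Type*} [Group G]

theorem gc_of_char {χ : G → ℂ} (h : Cfsg.IsCharacter G χ) : Cfsg.IsGeneralizedCharacter G χ :=
  ⟨χ, 0, h, isCharacter_zero, by simp⟩

theorem gc_zero : Cfsg.IsGeneralizedCharacter G (0 : G → ℂ) :=
  ⟨0, 0, isCharacter_zero, isCharacter_zero, by simp⟩

theorem gc_add {θ φ : G → ℂ} (hθ : Cfsg.IsGeneralizedCharacter G θ)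
    (hφ : Cfsg.IsGeneralizedCharacter G φ) : Cfsg.IsGeneralizedCharacter G (θ + φ) := by
  obtain ⟨a, b, ha, hb, rfl⟩ := hθ
  obtain ⟨c, d, hc, hd, rfl⟩ := hφ
  exact ⟨a + c, b + d, isCharacter_add ha hc, isCharacter_add hb hd, by ring⟩

theorem gc_neg {θ : G → ℂ} (hθ : Cfsg.IsGeneralizedCharacter G θ) :
    Cfsg.IsGeneralizedCharacter G (-θ) := by
  obtain ⟨a, b, ha, hb, rfl⟩ := hθ
  exact ⟨b, a, hb, ha, by ring⟩

theorem gc_sub {θ φ : G → ℂ} (hθ : Cfsg.IsGeneralizedCharacter G θ)
    (hφ : Cfsg.IsGeneralizedCharacter G φ) : Cfsg.IsGeneralizedCharacter G (θ - φ) := by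
  rw [sub_eq_add_neg]
  exact gc_add hθ (gc_neg hφ)

theorem gc_nsmul (n : ℕ) {θ : G → ℂ} (hθ : Cfsg.IsGeneralizedCharacter G θ) :
    Cfsg.IsGeneralizedCharacter G (n • θ) := by
  obtain ⟨a, b, ha, hb, rfl⟩ := hθ
  exact ⟨n • a, n • b, isCharacter_nsmul n ha, isCharacter_nsmul n hb, by rw [smul_sub]⟩

theorem gc_mul_char {θ ψ : G → ℂ} (hθ : Cfsg.IsGeneralizedCharacter G θ)
    (hψ : Cfsg.IsCharacter G ψ) : Cfsg.IsGeneralizedCharacter G (θ * ψ) := by
  obtain ⟨a, b, ha, hb, rfl⟩ := hθ
  exact ⟨a * ψ, b * ψ, isCharacter_mul ha hψ, isCharacter_mul hb hψ, by rw [sub_mul]⟩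

theorem gc_indFun [Fintype G] (E : Subgroup G) {φ : E → ℂ}
    (hφ : Cfsg.IsGeneralizedCharacter E φ) :
    Cfsg.IsGeneralizedCharacter G (Cfsg.indFun E φ) := by
  obtain ⟨a, b, ha, hb, rfl⟩ := hφ
  exact ⟨Cfsg.indFun E a, Cfsg.indFun E b, indFun_isCharacter E a ha, indFun_isCharacter E b hb,
    indFun_sub E a b⟩

end GC

section All

variable {G : Type u} [Group G] [Fintype G]

/-- characters induced from subgroups which are elementary for some prime -/
def elemGenAll (G : Type*) [Group G] [Fintype G] : Set (G → ℂ) :=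
  {f | ∃ q : ℕ, q.Prime ∧ f ∈ elemGen q G}

/-- their integer span -/
def elemSpanAll (G : Type*) [Group G] [Fintype G] : AddSubgroup (G → ℂ) :=
  AddSubgroup.closure (elemGenAll G)

theorem elemSpan_le_elemSpanAll {q : ℕ} (hq : q.Prime) : elemSpan q G ≤ elemSpanAll G := by
  unfold elemSpan elemSpanAll
  apply AddSubgroup.closure_mono
  intro f hf
  exact ⟨q, hq, hf⟩

/-- **Brauer's induction theorem**: the principal character is an integer combination of
characters induced from elementary subgroups. -/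
theorem one_mem_elemSpanAll : (fun _ : G => (1 : ℂ)) ∈ elemSpanAll G := by
  classical
  let φ : ℤ →+ (G → ℂ) :=
    { toFun := fun n _ => (n : ℂ)
      map_zero' := by funext _; simp
      map_add' := by intro a b; funext _; simp }
  have hφ : ∀ n : ℤ, φ n = fun _ => (n : ℂ) := fun n => rfl
  obtain ⟨d, hd⟩ := Int.subgroup_cyclic ((elemSpanAll G).comap φ)
  have hmem : ∀ q : ℕ, q.Prime → ∃ m : ℤ, ¬ (q : ℤ) ∣ m ∧ m ∈ (elemSpanAll G).comap φ := by
    intro q hq
    haveI : Fact q.Prime := ⟨hq⟩
    obtain ⟨m, hm, hmem⟩ := exists_int_mem_elemSpan q G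
    exact ⟨m, hm, elemSpan_le_elemSpanAll hq hmem⟩
  have hdvd : ∀ m : ℤ, m ∈ (elemSpanAll G).comap φ → d ∣ m := by
    intro m hm
    rw [hd, AddSubgroup.mem_closure_singleton] at hm
    obtain ⟨n, hn⟩ := hm
    exact ⟨n, by rw [← hn]; simp [mul_comm]⟩
  have hdmem : d ∈ (elemSpanAll G).comap φ := by
    rw [hd]; exact AddSubgroup.subset_closure rfl
  have hd1 : d.natAbs = 1 := by
    by_contra hne
    obtain ⟨q, hq, hqd⟩ := Nat.exists_prime_and_dvd hne
    obtain ⟨m, hm, hmm⟩ := hmem q hq
    apply hm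
    have h1 : (q : ℤ) ∣ d := Int.natCast_dvd.mpr hqd
    exact dvd_trans h1 (hdvd m hmm)
  have h1mem : (1 : ℤ) ∈ (elemSpanAll G).comap φ := by
    rcases Int.natAbs_eq d with h | h
    · rw [hd1] at h
      have : d = 1 := by simpa using h
      rw [← this]; exact hdmem
    · rw [hd1] at h
      have : (1 : ℤ) = -d := by rw [h]; simp
      rw [this]
      exact AddSubgroup.neg_mem _ hdmem
  have := AddSubgroup.mem_comap.mp h1mem
  rw [hφ] at this
  simpa using this

/-- **Brauer's characterization of characters.** -/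
theorem isGeneralizedCharacter_of_elementary {θ : G → ℂ} (hθ : Cfsg.IsClassFunction G θ)
    (h : ∀ q : ℕ, q.Prime → ∀ E : Subgroup G, Cfsg.IsElementary q E →
      Cfsg.IsGeneralizedCharacter E (fun e : E => θ e)) :
    Cfsg.IsGeneralizedCharacter G θ := by
  have key : ∀ f ∈ elemSpanAll G, Cfsg.IsGeneralizedCharacter G (f * θ) := by
    intro f hf
    unfold elemSpanAll at hf
    induction hf using AddSubgroup.closure_induction with
    | mem x hx =>
      obtain ⟨q, hq, E, φ, hE, hφ, rfl⟩ := hx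
      rw [← indFun_mul_restrict E φ θ hθ]
      apply gc_indFun
      rw [mul_comm]
      exact gc_mul_char (h q hq E hE) hφ
    | zero => rw [zero_mul]; exact gc_zero
    | add x y hx hy h1 h2 => rw [add_mul]; exact gc_add h1 h2
    | neg x hx h1 => rw [neg_mul]; exact gc_neg h1
  have := key _ one_mem_elemSpanAll
  have h1 : (fun _ : G => (1 : ℂ)) * θ = θ := by
    funext g; simp
  rwa [h1] at this

end All

end Cfsg.Agent.Lib.Helper7
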