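import Mathlib
import Cfsg.Prelude.Def_Characters
import Cfsg.Agent.Lib.Helper2.NormalInduction
import Cfsg.Agent.Lib.Helper7.BrauerChar
import Cfsg.Agent.Lib.Helper7.RegularDetermines

/-!
# Applications of Brauer's characterization of characters (helper7 library)

* `exists_normal_pcomplement_of_isElementary`: an elementary group has a normal `p`-complement
  for every prime `p`.
* `isCharacter_pRegular_of_normal_complement`
* `isGeneralizedCharacter_pow_mul_pRegular`: `p ^ a * χ` on the `p`-regular elements, `0` elsewhere,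
  is a generalized character when `p ^ a` is the `p`-part of the group order.
-/

set_option autoImplicit false

namespace Cfsg.Agent.Lib.Helper7

open Cfsg.Agent.Lib.Helper2 Cfsg.Agent.Lib.Helper11
open scoped ComplexConjugate

universe u

theorem normal_of_le_center' {E : Type*} [Group E] (X : Subgroup E) (h : X ≤ Subgroup.center E) :
    X.Normal := by
  constructor
  intro n hn g
  have := Subgroup.mem_center_iff.mp (h hn) g
  have e : g * n * g⁻¹ = n := by rw [this]; group
  rw [e]; exact hn

/-- an elementary group has a normal `p`-complement for every prime `p` -/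
theorem exists_normal_pcomplement_of_isElementary {E : Type*} [Group E] [Finite E] {q p : ℕ}
    (hq : q.Prime) (hp : p.Prime) (hE : Cfsg.IsElementary q E) :
    ∃ K : Subgroup E, K.Normal ∧ ¬ p ∣ Nat.card K ∧ ∃ j : ℕ, K.index = p ^ j := by
  obtain ⟨x, hx, hcop, k, hk⟩ := hE
  have hXc : Subgroup.zpowers x ≤ Subgroup.center E := by
    rw [Subgroup.zpowers_le]; exact hx
  haveI hXn : (Subgroup.zpowers x).Normal := normal_of_le_center' _ hXc
  by_cases hqp : q = p
  · subst hqp
    refine ⟨Subgroup.zpowers x, hXn, ?_, k, hk⟩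
    rw [Nat.card_zpowers]
    intro hd
    exact hq.one_lt.ne' (Nat.Coprime.eq_one_of_dvd hcop.symm hd)
  · haveI : Fact p.Prime := ⟨hp⟩
    obtain ⟨S⟩ : Nonempty (Sylow p E) := inferInstance
    have hSX : (S : Subgroup E) ≤ Subgroup.zpowers x := by
      intro s hs
      apply mem_of_regular_of_index_pow (Subgroup.zpowers x) hq ⟨k, hk⟩ s
      obtain ⟨i, hi⟩ := (IsPGroup.iff_orderOf.mp S.isPGroup') ⟨s, hs⟩
      have hi' : orderOf s = p ^ i := by rw [← hi, Subgroup.orderOf_mk]
      rw [hi']
      intro hd
      have := (Nat.prime_dvd_prime_iff_eq hq hp).mp (hq.dvd_of_dvd_pow hd)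
      exact hqp this
    have hSc : (S : Subgroup E) ≤ Subgroup.center E := hSX.trans hXc
    haveI hSn : (S : Subgroup E).Normal := normal_of_le_center' _ hSc
    obtain ⟨H, hH⟩ := Subgroup.exists_right_complement'_of_coprime
      (N := (S : Subgroup E)) S.card_coprime_index
    have hHn : H.Normal := by
      constructor
      intro h hh g
      obtain ⟨⟨⟨s, hs⟩, ⟨h', hh'⟩⟩, hsh, _⟩ := hH.existsUnique g
      simp only at hsh
      have hsc := Subgroup.mem_center_iff.mp (hSc hs)
      have e : g * h * g⁻¹ = h' * h * h'⁻¹ := by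
        rw [← hsh]
        have e1 : s * h' * h * (s * h')⁻¹ = s * (h' * h * h'⁻¹) * s⁻¹ := by group
        rw [e1, ← hsc (h' * h * h'⁻¹)]
        group
      rw [e]
      exact H.mul_mem (H.mul_mem hh' hh) (H.inv_mem hh')
    have hcard := hH.card_mul
    refine ⟨H, hHn, ?_, ?_⟩
    · intro hd
      have h1 := Subgroup.card_mul_index (S : Subgroup E)
      have h2 : Nat.card H = (S : Subgroup E).index := by
        have hSpos : 0 < Nat.card (S : Subgroup E) := Nat.card_pos
        apply Nat.eq_of_mul_eq_mul_left hSpos
        rw [hcard, h1]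
      rw [h2] at hd
      exact S.not_dvd_index hd
    · have h1 := Subgroup.index_mul_card H
      have h2 : H.index = Nat.card (S : Subgroup E) := by
        have hHpos : 0 < Nat.card H := Nat.card_pos
        apply Nat.eq_of_mul_eq_mul_right hHpos
        rw [h1, hcard]
      obtain ⟨j, hj⟩ := IsPGroup.iff_card.mp S.isPGroup'
      exact ⟨j, by rw [h2, hj]⟩

/-- with a normal `p`-complement `K` of index `p ^ j`, `j ≤ a`, the function `p ^ a * χ` on
`p`-regular elements and `0` elsewhere is a character -/
theorem isCharacter_pRegular_of_normal_complement {E : Type*} [Group E] [Fintype E] {p : ℕ}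
    (hp : p.Prime) (K : Subgroup E) [hKn : K.Normal] (hK : ¬ p ∣ Nat.card K) {j : ℕ}
    (hj : K.index = p ^ j) (a : ℕ) (hja : j ≤ a) (χ : E → ℂ) (hχ : Cfsg.IsCharacter E χ) :
    Cfsg.IsCharacter E (fun e => if p ∣ orderOf e then 0 else ((p ^ a : ℕ) : ℂ) * χ e) := by
  classical
  have hχcf := IsCharacter.isClassFunction hχ
  have hind : Cfsg.IsCharacter E ((p ^ (a - j)) • Cfsg.indFun K (fun k : K => χ k)) :=
    isCharacter_nsmul _ (indFun_isCharacter K _ (IsCharacter.restrict hχ K))
  convert hind using 1
  funext e
  rw [Pi.smul_apply, nsmul_eq_mul]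
  by_cases he : e ∈ K
  · have hreg : ¬ p ∣ orderOf e := by
      intro hd
      apply hK
      have h1 : orderOf (⟨e, he⟩ : K) ∣ Nat.card K := orderOf_dvd_natCard _
      rw [Subgroup.orderOf_mk] at h1
      exact dvd_trans hd h1
    rw [if_neg hreg]
    have h1 := indFun_apply_mem K (fun k : K => χ k) ⟨e, he⟩
    have h2 : ∀ x : E, conjFun K x (fun k : K => χ k) ⟨e, he⟩ = χ e := by
      intro x
      rw [conjFun_apply]
      exact hχcf e x
    rw [Finset.sum_congr rfl (fun x _ => h2 x), Finset.sum_const, Finset.card_univ, nsmul_eq_mul,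
      ← Nat.card_eq_fintype_card] at h1
    have h3 : Cfsg.indFun K (fun k : K => χ k) e = (K.index : ℂ) * χ e := by
      have : Cfsg.indFun K (fun k : K => χ k) e
          = Cfsg.indFun K (fun k : K => χ k) ((⟨e, he⟩ : K) : E) := rfl
      rw [this, h1, ← Subgroup.index_mul_card K]
      have hKne : (Nat.card K : ℂ) ≠ 0 := by exact_mod_cast Nat.card_pos.ne'
      push_cast
      field_simp
    rw [h3, hj]
    have : p ^ a = p ^ (a - j) * p ^ j := by rw [← pow_add, Nat.sub_add_cancel hja]
    rw [this]
    push_cast
    ring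
  · have hsing : p ∣ orderOf e := by
      by_contra hreg
      exact he (mem_of_regular_of_index_pow K hp ⟨j, hj⟩ e hreg)
    rw [if_pos hsing, indFun_apply_not_mem K _ he, mul_zero]

/-- `p ^ a * χ` on the `p`-regular elements and `0` elsewhere is a generalized character, where
`p ^ a` is the `p`-part of the group order. -/
theorem isGeneralizedCharacter_pow_mul_pRegular {G : Type u} [Group G] [Fintype G] (p : ℕ)
    [hp : Fact p.Prime] (χ : G → ℂ) (hχ : Cfsg.IsCharacter G χ) :
    Cfsg.IsGeneralizedCharacter G (fun x : G => if p ∣ orderOf x then 0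
      else ((p ^ (Nat.card G).factorization p : ℕ) : ℂ) * χ x) := by
  classical
  have hχcf := IsCharacter.isClassFunction hχ
  apply isGeneralizedCharacter_of_elementary
  · intro g h
    have h1 : orderOf (h * g * h⁻¹) = orderOf g := by
      have := (MulAut.conj h).orderOf_eq g
      simpa [MulAut.conj_apply] using this
    simp only [h1, hχcf g h]
  · intro q hq E hE
    letI : Fintype E := Fintype.ofFinite E
    obtain ⟨K, hKn, hK, j, hj⟩ := exists_normal_pcomplement_of_isElementary hq hp.out hE
    haveI := hKn
    have hja : j ≤ (Nat.card G).factorization p := by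
      apply (Nat.Prime.pow_dvd_iff_le_factorization hp.out Nat.card_pos.ne').mp
      rw [← hj]
      exact dvd_trans (Subgroup.index_dvd_card K) (Subgroup.card_subgroup_dvd_card E)
    have := isCharacter_pRegular_of_normal_complement hp.out K hK hj _ hja (fun e : E => χ e)
      (IsCharacter.restrict hχ E)
    apply gc_of_char
    convert this using 2
    rename_i e
    rw [Subgroup.orderOf_coe]

end Cfsg.Agent.Lib.Helper7
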