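import Mathlib
import Cfsg.Prelude.Def_Characters
import Cfsg.Agent.Lib.Helper7.LinearChar
import Cfsg.Agent.Lib.Helper2.Linear

/-!
# Extending invariant linear characters via the transfer (helper7 library)
-/

set_option autoImplicit false

namespace Cfsg.Agent.Lib.Helper7

open Cfsg

section CoeFun

variable (K : Type*) [Group K]

/-- Homomorphisms into `ℂˣ` as complex-valued functions, as a monoid homomorphism for the
pointwise product. -/
def coeFunHom : (K →* ℂˣ) →* (K → ℂ) where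
  toFun φ := fun k => ((φ k : ℂˣ) : ℂ)
  map_one' := by funext k; simp
  map_mul' := by intro a b; funext k; simp

variable {K}

theorem coeFunHom_apply (φ : K →* ℂˣ) (k : K) : coeFunHom K φ k = ((φ k : ℂˣ) : ℂ) := rfl

theorem coeFunHom_injective : Function.Injective (coeFunHom K) := by
  intro a b h
  ext k
  exact congrFun h k

theorem orderOf_coeFunHom (φ : K →* ℂˣ) : orderOf (coeFunHom K φ) = orderOf φ :=
  orderOf_injective (coeFunHom K) coeFunHom_injective φ

/-- A character of degree one comes from a homomorphism into `ℂˣ`. -/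
theorem exists_hom_of_linear {lam : K → ℂ} (h : IsCharacter K lam) (h1 : lam 1 = 1) :
    ∃ φ : K →* ℂˣ, coeFunHom K φ = lam := by
  refine ⟨(linearCharHom h h1).toHomUnits, ?_⟩
  funext k
  rfl

theorem isCharacter_coeFunHom (φ : K →* ℂˣ) :
    IsCharacter K (coeFunHom K φ) ∧ coeFunHom K φ 1 = 1 := by
  refine ⟨?_, by simp [coeFunHom_apply]⟩
  obtain ⟨n, ρ, _, h⟩ := Cfsg.Agent.Lib.Helper2.isIrrCharacter_of_monoidHom φ
  exact ⟨n, ρ, h⟩

end CoeFun

section Transfer

open MonoidHom Subgroup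

variable {G A : Type*} [Group G] [CommGroup A]

/-- Evaluation of the transfer at an element `g ∈ H` all of whose conjugated powers lying in `H`
have the expected value. -/
theorem transfer_eq_pow_of_key (H : Subgroup G) [H.FiniteIndex] (ν : H →* A) (g : G) (a : A)
    (key : ∀ (k : ℕ) (x : G) (hk : x⁻¹ * g ^ k * x ∈ H), ν ⟨x⁻¹ * g ^ k * x, hk⟩ = a ^ k) :
    transfer ν g = a ^ H.index := by
  classical
  have : Fintype (G ⧸ H) := H.fintypeQuotientOfFiniteIndex
  rw [transfer_eq_prod_quotient_orbitRel_zpowers_quot]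
  simp_rw [key]
  rw [Finset.prod_pow_eq_pow_sum, ← index_eq_sum_minimalPeriod]

/-- If `N ≤ H`, `N` normal in `G`, and `ν : H →* A` restricts on `N` to a `G`-invariant
homomorphism `φ`, then the transfer of `ν` restricts on `N` to `φ ^ |G : H|`. -/
theorem transfer_restrict_of_invariant (N H : Subgroup G) [hN : N.Normal] [H.FiniteIndex]
    (hNH : N ≤ H) (ν : H →* A) (φ : N →* A) (hres : ∀ n : N, ν ⟨(n : G), hNH n.2⟩ = φ n)
    (hinv : ∀ (g : G) (n : N), φ ⟨g * n * g⁻¹, hN.conj_mem (n : G) n.2 g⟩ = φ n) (n : N) :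
    transfer ν (n : G) = φ n ^ H.index := by
  apply transfer_eq_pow_of_key
  intro k x hk
  have hmem : x⁻¹ * (n : G) ^ k * x ∈ N := by
    have := hN.conj_mem ((n : G) ^ k) (N.pow_mem n.2 k) x⁻¹
    rwa [inv_inv] at this
  have h1 : ν ⟨x⁻¹ * (n : G) ^ k * x, hk⟩ = φ ⟨x⁻¹ * (n : G) ^ k * x, hmem⟩ :=
    hres ⟨x⁻¹ * (n : G) ^ k * x, hmem⟩
  rw [h1]
  have h2 := hinv x⁻¹ (n ^ k)
  have h3 : (⟨x⁻¹ * ((n ^ k : N) : G) * x⁻¹⁻¹, hN.conj_mem _ (n ^ k).2 x⁻¹⟩ : N)
      = ⟨x⁻¹ * (n : G) ^ k * x, hmem⟩ := by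
    apply Subtype.ext
    simp
  rw [h3] at h2
  rw [h2, map_pow]

end Transfer

section IntLemma

/-- A subgroup of `ℤ` containing `m ≠ 0` and, for every prime `p ∣ m`, a number prime to `p`,
contains `1`. -/
theorem one_mem_of_coprime_family (S : AddSubgroup ℤ) (m : ℕ) (hmS : (m : ℤ) ∈ S)
    (h : ∀ p : ℕ, p.Prime → p ∣ m → ∃ t : ℕ, (t : ℤ) ∈ S ∧ Nat.Coprime t p) : (1 : ℤ) ∈ S := by
  obtain ⟨d, hd⟩ := Int.subgroup_cyclic S
  have hmem : ∀ x : ℤ, x ∈ S ↔ d ∣ x := by
    intro x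
    rw [hd, AddSubgroup.mem_closure_singleton]
    constructor
    · rintro ⟨n, rfl⟩; exact ⟨n, by simp [mul_comm]⟩
    · rintro ⟨n, rfl⟩; exact ⟨n, by simp [mul_comm]⟩
  have hdm : d ∣ (m : ℤ) := (hmem _).1 hmS
  by_cases h1 : d.natAbs = 1
  · rw [hmem]
    exact Int.natAbs_dvd_natAbs.mp (by rw [h1]; exact one_dvd _)
  · exfalso
    obtain ⟨p, hp, hpd⟩ := Nat.exists_prime_and_dvd h1
    have hpm : p ∣ m := by
      have : d.natAbs ∣ m := by
        have := Int.natAbs_dvd_natAbs.mpr hdm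
        simpa using this
      exact hpd.trans this
    obtain ⟨t, htS, htp⟩ := h p hp hpm
    have hdt : d.natAbs ∣ t := by
      have := Int.natAbs_dvd_natAbs.mpr ((hmem _).1 htS)
      simpa using this
    have hpt : p ∣ t := hpd.trans hdt
    have : p ∣ Nat.gcd t p := Nat.dvd_gcd hpt dvd_rfl
    rw [htp] at this
    exact hp.one_lt.ne' (Nat.dvd_one.mp this)

end IntLemma

section Extension

open MonoidHom Subgroup

variable {G : Type*} [Group G] [Finite G] (N : Subgroup G) [hN : N.Normal]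

omit [Finite G] in
/-- a homomorphism trivial on the normal subgroup `N` has order dividing the index -/
theorem hom_pow_index_eq_one (ψ : G →* ℂˣ) (h : ∀ n : N, ψ n = 1) : ψ ^ N.index = 1 := by
  ext g
  rw [MonoidHom.pow_apply, ← map_pow]
  have := h ⟨g ^ N.index, N.pow_index_mem g⟩
  simp only at this
  rw [this]
  simp

/-- the order of a homomorphism from a finite group into `ℂˣ` divides the group order -/
theorem orderOf_hom_dvd_card {K : Type*} [Group K] [Finite K] (φ : K →* ℂˣ) :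
    orderOf φ ∣ Nat.card K := by
  apply orderOf_dvd_of_pow_eq_one
  ext k
  rw [MonoidHom.pow_apply, ← map_pow, pow_card_eq_one', map_one]
  simp

theorem orderOf_hom_ne_zero {K : Type*} [Group K] [Finite K] (φ : K →* ℂˣ) : orderOf φ ≠ 0 := by
  intro h
  have := orderOf_hom_dvd_card φ
  rw [h, zero_dvd_iff] at this
  exact Nat.card_pos.ne' this

/-- Isaacs 6.26 in homomorphism form: an invariant homomorphism `φ : N →* ℂˣ` which extends,
for every prime `p` dividing its order, to a subgroup of index prime to `p`, extends to `G`. -/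
theorem exists_extension_of_local (φ : N →* ℂˣ)
    (hinv : ∀ (g : G) (n : N), φ ⟨g * n * g⁻¹, hN.conj_mem (n : G) n.2 g⟩ = φ n)
    (hloc : ∀ p : ℕ, p.Prime → p ∣ orderOf φ → ∃ (H : Subgroup G) (hNH : N ≤ H) (ν : H →* ℂˣ),
      Nat.Coprime H.index p ∧ ∀ n : N, ν ⟨(n : G), hNH n.2⟩ = φ n) :
    ∃ μ : G →* ℂˣ, ∀ n : N, μ n = φ n := by
  let S : AddSubgroup ℤ :=
    { carrier := {k : ℤ | ∃ μ : G →* ℂˣ, ∀ n : N, μ n = φ n ^ k}
      zero_mem' := ⟨1, fun n => by simp⟩
      add_mem' := by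
        rintro a b ⟨μ₁, h₁⟩ ⟨μ₂, h₂⟩
        refine ⟨μ₁ * μ₂, fun n => ?_⟩
        rw [MonoidHom.mul_apply, h₁, h₂, zpow_add]
      neg_mem' := by
        rintro a ⟨μ₁, h₁⟩
        refine ⟨μ₁⁻¹, fun n => ?_⟩
        rw [MonoidHom.inv_apply, h₁, zpow_neg] }
  have hmS : ((orderOf φ : ℕ) : ℤ) ∈ S := by
    refine ⟨1, fun n => ?_⟩
    have h := DFunLike.congr_fun (pow_orderOf_eq_one φ) n
    rw [zpow_natCast]
    exact (MonoidHom.one_apply _).trans h.symm
  have h1 : (1 : ℤ) ∈ S := by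
    apply one_mem_of_coprime_family S (orderOf φ) hmS
    intro p hp hpm
    obtain ⟨H, hNH, ν, hcop, hres⟩ := hloc p hp hpm
    refine ⟨H.index, ⟨transfer ν, fun n => ?_⟩, hcop⟩
    rw [transfer_restrict_of_invariant N H hNH ν φ hres hinv n, zpow_natCast]
  obtain ⟨μ, hμ⟩ := h1
  exact ⟨μ, fun n => by rw [hμ n, zpow_one]⟩

/-- Isaacs 6.27/6.28 for linear characters in homomorphism form: an invariant homomorphism
`φ : N →* ℂˣ` of order prime to `|G : N|` has a unique extension of order prime to `|G : N|`,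
and that extension has the same order as `φ`. -/
theorem exists_unique_extension_of_coprime (φ : N →* ℂˣ)
    (hinv : ∀ (g : G) (n : N), φ ⟨g * n * g⁻¹, hN.conj_mem (n : G) n.2 g⟩ = φ n)
    (hcop : Nat.Coprime N.index (orderOf φ)) :
    ∃ μ : G →* ℂˣ, (∀ n : N, μ n = φ n) ∧ orderOf μ = orderOf φ ∧
      ∀ μ' : G →* ℂˣ, (∀ n : N, μ' n = φ n) → Nat.Coprime N.index (orderOf μ') → μ' = μ := by
  set t := N.index with ht
  set m := orderOf φ with hm
  have hφm : ∀ n : N, φ n ^ m = 1 := by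
    intro n
    rw [← MonoidHom.pow_apply, hm, pow_orderOf_eq_one]
    simp
  -- Bezout
  have hbez : (t : ℤ) * Nat.gcdA t m + (m : ℤ) * Nat.gcdB t m = 1 := by
    have := Nat.gcd_eq_gcd_ab t m
    rw [hcop] at this
    simpa using this.symm
  set a := Nat.gcdA t m with ha
  set b := Nat.gcdB t m with hb
  have hpow : ∀ n : N, φ n ^ ((t : ℤ) * a) = φ n := by
    intro n
    have h1 : (t : ℤ) * a = 1 - (m : ℤ) * b := by linarith
    rw [h1, zpow_sub, zpow_one, zpow_mul, zpow_natCast, hφm n, one_zpow]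
    simp
  -- first extension
  have hV : ∀ n : N, transfer φ (n : G) = φ n ^ t :=
    fun n => transfer_restrict_of_invariant N N le_rfl φ φ (fun _ => rfl) hinv n
  set μ₀ : G →* ℂˣ := (transfer φ) ^ a with hμ₀
  have hμ₀N : ∀ n : N, μ₀ n = φ n := by
    intro n
    rw [hμ₀, MonoidHom.zpow_apply, hV n, ← zpow_natCast, ← zpow_mul, hpow n]
  set μ : G →* ℂˣ := μ₀ ^ ((t : ℤ) * a) with hμ
  have hμN : ∀ n : N, μ n = φ n := by
    intro n
    rw [hμ, MonoidHom.zpow_apply, hμ₀N n, hpow n]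
  have hμm : μ ^ m = 1 := by
    have h1 : (μ₀ ^ m) ^ t = 1 := by
      apply hom_pow_index_eq_one N
      intro n
      rw [MonoidHom.pow_apply, hμ₀N n, hφm n]
    ext g
    have h1g : (μ₀ g ^ m) ^ t = 1 := by
      have := DFunLike.congr_fun h1 g
      simpa [MonoidHom.pow_apply] using this
    have h3 : (μ g) ^ m = 1 := by
      rw [hμ, MonoidHom.zpow_apply, ← zpow_natCast, ← zpow_mul]
      have h2 : (t : ℤ) * a * (m : ℤ) = ((m : ℤ) * (t : ℤ)) * a := by ring
      rw [h2, zpow_mul, zpow_mul, zpow_natCast, zpow_natCast, h1g, one_zpow]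
    simp [MonoidHom.pow_apply, h3]
  have hord : orderOf μ = m := by
    apply Nat.dvd_antisymm (orderOf_dvd_of_pow_eq_one hμm)
    rw [hm]
    apply orderOf_dvd_of_pow_eq_one
    ext n
    rw [MonoidHom.pow_apply, ← hμN n, ← MonoidHom.pow_apply, pow_orderOf_eq_one]
    simp
  refine ⟨μ, hμN, hord, ?_⟩
  intro μ' hμ'N hcop'
  set ψ : G →* ℂˣ := μ' * μ⁻¹ with hψ
  have hψt : ψ ^ t = 1 := by
    apply hom_pow_index_eq_one N
    intro n
    rw [hψ, MonoidHom.mul_apply, MonoidHom.inv_apply, hμ'N n, hμN n, mul_inv_cancel]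
  have hψ2 : ψ ^ (orderOf μ' * m) = 1 := by
    ext g
    have h1g : μ' g ^ orderOf μ' = 1 := DFunLike.congr_fun (pow_orderOf_eq_one μ') g
    have h2g : μ g ^ m = 1 := by
      have := DFunLike.congr_fun hμm g
      simpa [MonoidHom.pow_apply] using this
    have h3 : (ψ g) ^ (orderOf μ' * m) = 1 := by
      rw [hψ, MonoidHom.mul_apply, MonoidHom.inv_apply, mul_pow, inv_pow, pow_mul, h1g, one_pow,
        mul_comm (orderOf μ') m, pow_mul, h2g, one_pow, inv_one, mul_one]
    simp [MonoidHom.pow_apply, h3]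
  have h1 : orderOf ψ ∣ t := orderOf_dvd_of_pow_eq_one hψt
  have h2 : orderOf ψ ∣ orderOf μ' * m := orderOf_dvd_of_pow_eq_one hψ2
  have h3 : Nat.Coprime t (orderOf μ' * m) := Nat.Coprime.mul_right hcop' hcop
  have h4 : orderOf ψ = 1 := Nat.eq_one_of_dvd_coprimes h3 h1 h2
  have h5 : ψ = 1 := orderOf_eq_one_iff.mp h4
  rw [hψ] at h5
  exact mul_inv_eq_one.mp h5

end Extension

end Cfsg.Agent.Lib.Helper7
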