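import Mathlib
import Cfsg.Prelude.Def_Blocks
import Cfsg.Agent.Lib.Helper2.CenterIndex
import Cfsg.Agent.Lib.Helper2.Linear
import Cfsg.Agent.Lib.Helper25.CharBasic
import Cfsg.Agent.Lib.Helper7.LinearExt

/-!
# Irreducible characters on central elements (helper7 library)

* `irr_mul_of_mem_center`: `χ(zg) χ(1) = χ(z) χ(g)` for central `z`.
* `exists_central_hom`: the linear character `φ` of a central subgroup `Z` with
  `χ(zg) = φ(z) χ(g)`.
* `card_sup_eq_card_map_mul`: `|S ⊔ N| = |SN/N| |N|`.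
-/

set_option autoImplicit false

namespace Cfsg.Agent.Lib.Helper7

open Cfsg.Agent.Lib.Helper2
open scoped ComplexConjugate

variable {G : Type*} [Group G] [Finite G]

theorem irr_mul_of_mem_center (χ : Cfsg.IrrCharacter G) {z : G} (hz : z ∈ Subgroup.center G)
    (g : G) : (χ : G → ℂ) (z * g) * (χ : G → ℂ) 1 = (χ : G → ℂ) z * (χ : G → ℂ) g := by
  classical
  letI : Fintype G := Fintype.ofFinite G
  obtain ⟨n, ρ, hirr, hρ⟩ := χ.2
  haveI := hirr
  obtain ⟨ω, hω⟩ := exists_smul_id_of_mem_center ρ hz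
  have h1 : ∀ x : G, ρ.character (z * x) = ω * ρ.character x := by
    intro x
    unfold Representation.character
    rw [map_mul, hω, smul_mul_assoc, map_smul, smul_eq_mul]
    congr 1
  rw [← hρ, h1 g]
  have h2 := h1 1
  rw [mul_one] at h2
  rw [h2]
  ring

/-- the central character as a homomorphism -/
theorem exists_central_hom (χ : Cfsg.IrrCharacter G) (Z : Subgroup G)
    (hZ : Z ≤ Subgroup.center G) :
    ∃ φ : Z →* ℂˣ, ∀ (z : Z) (g : G),
      (χ : G → ℂ) ((z : G) * g) = ((φ z : ℂˣ) : ℂ) * (χ : G → ℂ) g := by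
  have hne : (χ : G → ℂ) 1 ≠ 0 := Cfsg.Agent.Lib.Helper25.irr_one_ne_zero χ.2
  have hmul : ∀ (z : Z) (g : G),
      (χ : G → ℂ) ((z : G) * g) = (χ : G → ℂ) z / (χ : G → ℂ) 1 * (χ : G → ℂ) g := by
    intro z g
    have := irr_mul_of_mem_center χ (hZ z.2) g
    field_simp
    rw [this]
  let f : Z →* ℂ :=
    { toFun := fun z => (χ : G → ℂ) z / (χ : G → ℂ) 1
      map_one' := by
        show (χ : G → ℂ) ((1 : Z) : G) / (χ : G → ℂ) 1 = 1
        rw [Subgroup.coe_one, div_self hne]
      map_mul' := by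
        intro a b
        show (χ : G → ℂ) ((a * b : Z) : G) / (χ : G → ℂ) 1 = _
        rw [Subgroup.coe_mul, hmul a b]
        ring }
  refine ⟨f.toHomUnits, ?_⟩
  intro z g
  rw [hmul z g]
  rfl

/-- `|S ⊔ N| = |SN/N| |N|` -/
theorem card_sup_eq_card_map_mul (S N : Subgroup G) [N.Normal] :
    Nat.card (S ⊔ N : Subgroup G)
      = Nat.card (S.map (QuotientGroup.mk' N)) * Nat.card N := by
  let f : (S ⊔ N : Subgroup G) →* G ⧸ N := (QuotientGroup.mk' N).comp (S ⊔ N : Subgroup G).subtype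
  have hrange : f.range = S.map (QuotientGroup.mk' N) := by
    have h1 : f.range = (S ⊔ N : Subgroup G).map (QuotientGroup.mk' N) := by
      ext x
      constructor
      · rintro ⟨s, rfl⟩
        exact ⟨(s : G), s.2, rfl⟩
      · rintro ⟨y, hy, rfl⟩
        exact ⟨⟨y, hy⟩, rfl⟩
    rw [h1, Subgroup.map_sup, QuotientGroup.map_mk'_self, sup_bot_eq]
  have hker : Nat.card f.ker = Nat.card N := by
    have : f.ker = N.subgroupOf (S ⊔ N : Subgroup G) := by
      ext x
      rw [MonoidHom.mem_ker, Subgroup.mem_subgroupOf]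
      exact QuotientGroup.eq_one_iff _
    rw [this]
    exact Nat.card_congr (Subgroup.subgroupOfEquivOfLe le_sup_right).toEquiv
  have h := Subgroup.index_mul_card f.ker
  rw [Subgroup.index_ker, hrange, hker] at h
  exact h.symm

end Cfsg.Agent.Lib.Helper7
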