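import Mathlib
import Cfsg.Prelude.Def_Blocks
import Cfsg.Agent.Lib.Helper2.Linear
import Cfsg.Agent.Lib.Helper2.Completeness
import Cfsg.Agent.Lib.Helper2.Induction
import Cfsg.Agent.Lib.Helper24.Loc
import Cfsg.Agent.Lib.Helper7.LinearChar

/-!
# Character values at `x * y`, `x` a `p`-element commuting with `y` (helper7 library)

`char_mul_sub_memLocalIdeal`: `χ (x * y) ≡ χ y` modulo the local ideal.
-/

set_option autoImplicit false

namespace Cfsg.Agent.Lib.Helper7

open Cfsg.Agent.Lib.Helper2 Cfsg.Agent.Lib.Helper24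
open scoped ComplexConjugate

section

variable {G : Type*} [Group G] [Finite G] {p : ℕ} {M : Ideal Cfsg.AlgInt}

/-- values of linear characters are roots of unity, hence local integers -/
theorem linear_char_pow {A : Type*} [Group A] {lam : A → ℂ} (h : Cfsg.IsCharacter A lam)
    (h1 : lam 1 = 1) (a : A) (n : ℕ) : lam (a ^ n) = lam a ^ n := by
  induction n with
  | zero => simp [h1]
  | succ n ih => rw [pow_succ, linear_char_mul h h1, ih, pow_succ]

theorem linear_char_isIntegral {A : Type*} [Group A] [Finite A] {lam : A → ℂ}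
    (h : Cfsg.IsCharacter A lam) (h1 : lam 1 = 1) (a : A) : IsIntegral ℤ (lam a) := by
  have hpow : lam a ^ orderOf a = 1 := by
    rw [← linear_char_pow h h1, pow_orderOf_eq_one, h1]
  exact ⟨Polynomial.X ^ orderOf a - 1,
    Polynomial.monic_X_pow_sub_C 1 (orderOf_pos a).ne', by simp [hpow]⟩

/-- `χ (x * y) ≡ χ y` modulo the local ideal, for a character `χ`, a `p`-element `x` and `y`
commuting with `x`. -/
theorem char_mul_sub_memLocalIdeal (hM : Cfsg.IsPModular p M) (χ : G → ℂ)
    (hχ : Cfsg.IsCharacter G χ) (x y : G) (hxy : x * y = y * x)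
    (hx : ∃ k : ℕ, orderOf x = p ^ k) : Cfsg.MemLocalIdeal M (χ (x * y) - χ y) := by
  classical
  obtain ⟨k, hk⟩ := hx
  have hcommS : ∀ a ∈ ({x, y} : Set G), ∀ b ∈ ({x, y} : Set G), a * b = b * a := by
    intro a ha b hb
    rcases ha with rfl | rfl <;> rcases hb with rfl | rfl
    · rfl
    · exact hxy
    · exact hxy.symm
    · rfl
  set A := Subgroup.closure ({x, y} : Set G) with hA
  have hab : ∀ a b : A, a * b = b * a := by
    intro a b
    have := Subgroup.isMulCommutative_closure hcommS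
    exact mul_comm' a b
  have hxA : x ∈ A := Subgroup.subset_closure (by simp)
  have hyA : y ∈ A := Subgroup.subset_closure (by simp)
  have hres : Cfsg.IsCharacter A (fun a : A => χ a) := IsCharacter.restrict hχ A
  obtain ⟨m, hm⟩ := IsCharacter.exists_multiset_irr hres
  have hval : χ (x * y) - χ y
      = (fun a : A => χ a) (⟨x, hxA⟩ * ⟨y, hyA⟩) - (fun a : A => χ a) ⟨y, hyA⟩ := rfl
  rw [hval, hm]
  clear hm hval
  induction m using Multiset.induction_on with
  | empty =>
    simp only [Multiset.map_zero, Multiset.sum_zero, Pi.zero_apply, sub_self]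
    exact memLocalIdeal_zero hM
  | cons lam m ih =>
    rw [Multiset.map_cons, Multiset.sum_cons]
    simp only [Pi.add_apply]
    have h1 : (lam : A → ℂ) 1 = 1 := IsIrrCharacter.apply_one_of_comm hab lam.2
    have hc : Cfsg.IsCharacter A (lam : A → ℂ) := IsIrrCharacter.isCharacter lam.2
    have e : (lam : A → ℂ) (⟨x, hxA⟩ * ⟨y, hyA⟩) +
        (Multiset.map (fun χ : Cfsg.IrrCharacter A => (χ : A → ℂ)) m).sum (⟨x, hxA⟩ * ⟨y, hyA⟩)
        - ((lam : A → ℂ) ⟨y, hyA⟩ +
          (Multiset.map (fun χ : Cfsg.IrrCharacter A => (χ : A → ℂ)) m).sum ⟨y, hyA⟩)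
        = ((lam : A → ℂ) ⟨x, hxA⟩ - 1) * (lam : A → ℂ) ⟨y, hyA⟩
          + ((Multiset.map (fun χ : Cfsg.IrrCharacter A => (χ : A → ℂ)) m).sum
              (⟨x, hxA⟩ * ⟨y, hyA⟩)
            - (Multiset.map (fun χ : Cfsg.IrrCharacter A => (χ : A → ℂ)) m).sum ⟨y, hyA⟩) := by
      rw [linear_char_mul hc h1]; ring
    rw [e]
    apply memLocalIdeal_add hM _ ih
    apply memLocalIdeal_mul_right hM
    · apply memLocalIdeal_sub_one_of_pow_eq_one hM (k := k)
      rw [← linear_char_pow hc h1]
      have : (⟨x, hxA⟩ : A) ^ p ^ k = 1 := by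
        apply Subtype.ext
        rw [Subgroup.coe_pow, Subgroup.coe_one]
        show x ^ p ^ k = 1
        rw [← hk, pow_orderOf_eq_one]
      rw [this, h1]
    · exact memLocalRing_of_isIntegral hM (linear_char_isIntegral hc h1 _)

end

end Cfsg.Agent.Lib.Helper7
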