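import Mathlib
import Cfsg.Prelude.Def_Blocks
import Cfsg.Agent.Lib.Helper7.DefectOrder
import Cfsg.Agent.Lib.Helper7.PCongr

/-!
# Characters of height zero on defect classes (helper7 library)
-/

set_option autoImplicit false

namespace Cfsg.Agent.Lib.Helper7

open Cfsg.Agent.Lib.Helper2 Cfsg.Agent.Lib.Helper24
open scoped ComplexConjugate

section Valuation

variable {p : ℕ} {M : Ideal Cfsg.AlgInt}

/-- if `ν(n) ≤ ν(k)` and `z` is in the local ideal then so is `k z / n` -/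
theorem memLocalIdeal_nat_mul_div (hM : Cfsg.IsPModular p M) {k n : ℕ} (hn : n ≠ 0)
    (hkn : n.factorization p ≤ k.factorization p) (hk : k ≠ 0) {z : ℂ}
    (hz : Cfsg.MemLocalIdeal M z) : Cfsg.MemLocalIdeal M ((k : ℂ) * z / (n : ℂ)) := by
  have hp : p.Prime := hM.1
  set i := n.factorization p with hi
  have hn' : p ^ i * (n / p ^ i) = n := Nat.ordProj_mul_ordCompl_eq_self n p
  have hn'nd : ¬ p ∣ n / p ^ i := Nat.not_dvd_ordCompl hp hn
  have hdk : p ^ i ∣ k := (hp.pow_dvd_iff_le_factorization hk).mpr hkn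
  obtain ⟨k', hk'⟩ := hdk
  set n' := n / p ^ i with hn'def
  have hn'0 : (n' : ℂ) ≠ 0 := by
    intro h0
    have : n' = 0 := by exact_mod_cast h0
    rw [this] at hn'nd
    exact hn'nd (dvd_zero p)
  have hp0 : (p : ℂ) ≠ 0 := by exact_mod_cast hp.ne_zero
  have e : (k : ℂ) * z / (n : ℂ) = ((k' : ℂ) * (n' : ℂ)⁻¹) * z := by
    have : (n : ℂ) = (p : ℂ) ^ i * (n' : ℂ) := by rw [← hn']; push_cast; ring
    rw [this, hk']
    push_cast
    field_simp
  rw [e]
  exact memLocalIdeal_mul_left hM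
    (memLocalRing_mul hM (memLocalRing_natCast hM _) (memLocalRing_natCast_inv hM hn'nd)) hz

/-- if `ν(k) ≤ ν(n)` and `z` is a unit of the local ring then `k z / n` is not in the local
ideal -/
theorem not_memLocalIdeal_nat_mul_div (hM : Cfsg.IsPModular p M) {k n : ℕ} (hn : n ≠ 0)
    (hk : k ≠ 0) (hkn : k.factorization p ≤ n.factorization p) {z : ℂ}
    (hzR : Cfsg.MemLocalRing M z) (hz : ¬ Cfsg.MemLocalIdeal M z) :
    ¬ Cfsg.MemLocalIdeal M ((k : ℂ) * z / (n : ℂ)) := by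
  have hp : p.Prime := hM.1
  intro hcon
  set j := k.factorization p with hj
  have hk' : p ^ j * (k / p ^ j) = k := Nat.ordProj_mul_ordCompl_eq_self k p
  have hk'nd : ¬ p ∣ k / p ^ j := Nat.not_dvd_ordCompl hp hk
  have hdn : p ^ j ∣ n := (hp.pow_dvd_iff_le_factorization hn).mpr hkn
  obtain ⟨n', hn'⟩ := hdn
  set k' := k / p ^ j with hk'def
  have hp0 : (p : ℂ) ≠ 0 := by exact_mod_cast hp.ne_zero
  have hn0 : (n : ℂ) ≠ 0 := by exact_mod_cast hn
  have e : (k' : ℂ) * z = (n' : ℂ) * ((k : ℂ) * z / (n : ℂ)) := by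
    have h1 : (k : ℂ) = (p : ℂ) ^ j * (k' : ℂ) := by rw [← hk']; push_cast; ring
    have h2 : (n : ℂ) = (p : ℂ) ^ j * (n' : ℂ) := by rw [hn']; push_cast; ring
    have hn'0 : (n' : ℂ) ≠ 0 := by
      intro h0
      rw [h2, h0, mul_zero] at hn0
      exact hn0 rfl
    rw [h1, h2]
    field_simp
  have h3 : Cfsg.MemLocalIdeal M ((k' : ℂ) * z) := by
    rw [e]
    exact memLocalIdeal_mul_left hM (memLocalRing_natCast hM _) hcon
  rcases memLocalIdeal_or_of_mul hM (memLocalRing_natCast hM k') hzR h3 with h | h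
  · rw [memLocalIdeal_natCast_iff hM] at h
    exact hk'nd h
  · exact hz h

end Valuation

section

variable {G : Type*} [Group G] [Fintype G] {p : ℕ} {M : Ideal Cfsg.AlgInt}

/-- a member of height zero does not vanish modulo the local ideal on a defect class -/
theorem not_memLocalIdeal_of_height_zero [Fact p.Prime] (hM : Cfsg.IsPModular p M)
    (B : Set (Cfsg.IrrCharacter G)) (hB : Cfsg.IsPBlock M B) (y : G)
    (hy : Cfsg.IsDefectClass M B y) (χ : Cfsg.IrrCharacter G) (hχ : χ ∈ B)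
    (h0 : Cfsg.blockHeight p B (χ : G → ℂ) = 0) :
    ¬ Cfsg.MemLocalIdeal M ((χ : G → ℂ) y) := by
  intro hcon
  apply hy.2.2 χ hχ
  unfold Cfsg.centralChar
  have hχ1 : (χ : G → ℂ) 1 = (Cfsg.charDegree (χ : G → ℂ) : ℂ) :=
    Cfsg.Agent.Lib.Helper25.char_one_eq_charDegree (Cfsg.Agent.Lib.Helper25.isCharacter_of_irr χ.2)
  rw [hχ1]
  apply memLocalIdeal_nat_mul_div hM (irr_charDegree_pos χ).ne' _
    Subgroup.index_ne_zero_of_finite hcon
  rw [factorization_of_height_zero hM B hB y hy χ hχ h0]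

/-- existence of a member of height zero -/
theorem exists_height_zero (hM : Cfsg.IsPModular p M)
    (B : Set (Cfsg.IrrCharacter G)) (hB : Cfsg.IsPBlock M B) :
    ∃ χ ∈ B, Cfsg.blockHeight p B (χ : G → ℂ) = 0 := by
  obtain ⟨χ₀, hχ₀⟩ := isPBlock_nonempty hM hB
  have hne : ((fun χ : Cfsg.IrrCharacter G =>
      (Cfsg.charDegree (χ : G → ℂ)).factorization p) '' B).Nonempty := ⟨_, χ₀, hχ₀, rfl⟩
  obtain ⟨χ, hχ, hχeq⟩ := Nat.sInf_mem hne
  refine ⟨χ, hχ, ?_⟩
  unfold Cfsg.blockHeight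
  rw [← hχeq]
  exact Nat.sub_self _

end

end Cfsg.Agent.Lib.Helper7
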