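import Mathlib

/-!
# Integer matrices with odd entries and `N² = 2^d N` (helper7 library)

Pure arithmetic used for `2`-blocks of defect at most two.
-/

set_option autoImplicit false

namespace Cfsg.Agent.Lib.Helper7

section OddMatrix

theorem odd_sq_emod_eight {n : ℤ} (hn : Odd n) : n ^ 2 % 8 = 1 := by
  obtain ⟨k, rfl⟩ := hn
  have h := Int.even_mul_succ_self k
  obtain ⟨j, hj⟩ := h
  have e : (2 * k + 1) ^ 2 = 8 * j + 1 := by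
    have : (2 * k + 1) ^ 2 = 4 * (k * (k + 1)) + 1 := by ring
    rw [this, hj]; ring
  rw [e]
  omega

theorem odd_sq_pos {n : ℤ} (hn : Odd n) : 1 ≤ n ^ 2 := by
  have h0 : n ≠ 0 := by
    rintro rfl
    exact (by decide : ¬ Odd (0 : ℤ)) hn
  have : 0 < n ^ 2 := by positivity
  omega

variable {ι : Type*} [DecidableEq ι]

theorem sum_odd_sq_emod_eight (S : Finset ι) (n : ι → ℤ) (hodd : ∀ ξ ∈ S, Odd (n ξ)) :
    (∑ ξ ∈ S, n ξ ^ 2) % 8 = (S.card : ℤ) % 8 := by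
  induction S using Finset.induction_on with
  | empty => simp
  | insert a s ha ih =>
    rw [Finset.sum_insert ha, Finset.card_insert_of_notMem ha]
    have h1 := odd_sq_emod_eight (hodd a (Finset.mem_insert_self _ _))
    have h2 := ih (fun ξ hξ => hodd ξ (Finset.mem_insert_of_mem hξ))
    push_cast
    omega

theorem card_le_sum_odd_sq (S : Finset ι) (n : ι → ℤ) (hodd : ∀ ξ ∈ S, Odd (n ξ)) :
    (S.card : ℤ) ≤ ∑ ξ ∈ S, n ξ ^ 2 := by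
  have h : ∑ ξ ∈ S, (1 : ℤ) ≤ ∑ ξ ∈ S, n ξ ^ 2 :=
    Finset.sum_le_sum (fun ξ hξ => odd_sq_pos (hodd ξ hξ))
  simpa using h

theorem sq_add_card_le_sum_odd_sq (S : Finset ι) (n : ι → ℤ) (hodd : ∀ ξ ∈ S, Odd (n ξ))
    (χ : ι) (hχ : χ ∈ S) :
    n χ ^ 2 + ((S.card : ℤ) - 1) ≤ ∑ ξ ∈ S, n ξ ^ 2 := by
  rw [← Finset.add_sum_erase S _ hχ]
  have h := card_le_sum_odd_sq (S.erase χ) n (fun ξ hξ => hodd ξ (Finset.mem_of_mem_erase hξ))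
  rw [Finset.card_erase_of_mem hχ] at h
  have hc : 1 ≤ S.card := Finset.card_pos.mpr ⟨χ, hχ⟩
  push_cast [hc] at h
  linarith

/-- defect two: four characters and rank between one and three -/
theorem card_eq_four_of_odd_matrix (S : Finset ι) (n : ι → ι → ℤ) (l : ℕ)
    (hodd : ∀ χ ∈ S, ∀ ξ ∈ S, Odd (n χ ξ))
    (hrow : ∀ χ ∈ S, ∑ ξ ∈ S, n χ ξ ^ 2 = 4 * n χ χ)
    (htr : ∑ χ ∈ S, n χ χ = 4 * (l : ℤ)) (hne : S.Nonempty) (hle : S.card ≤ 5) :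
    S.card = 4 ∧ 1 ≤ l ∧ l ≤ 3 := by
  obtain ⟨χ₀, hχ₀⟩ := hne
  have hcard : S.card = 4 := by
    have h1 := sum_odd_sq_emod_eight S (n χ₀) (hodd χ₀ hχ₀)
    rw [hrow χ₀ hχ₀] at h1
    obtain ⟨k, hk⟩ := hodd χ₀ hχ₀ χ₀ hχ₀
    have hc : 1 ≤ S.card := Finset.card_pos.mpr ⟨χ₀, hχ₀⟩
    omega
  refine ⟨hcard, ?_⟩
  have hdiag : ∀ χ ∈ S, 1 ≤ n χ χ ∧ n χ χ ≤ 3 := by
    intro χ hχ
    have h1 := sq_add_card_le_sum_odd_sq S (n χ) (hodd χ hχ) χ hχ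
    rw [hrow χ hχ, hcard] at h1
    push_cast at h1
    constructor <;> nlinarith
  have h1 : ∑ χ ∈ S, (1 : ℤ) ≤ ∑ χ ∈ S, n χ χ := Finset.sum_le_sum (fun χ hχ => (hdiag χ hχ).1)
  have h2 : ∑ χ ∈ S, n χ χ ≤ ∑ χ ∈ S, (3 : ℤ) := Finset.sum_le_sum (fun χ hχ => (hdiag χ hχ).2)
  simp only [Finset.sum_const, hcard, nsmul_eq_mul] at h1 h2
  rw [htr] at h1 h2
  push_cast at h1 h2
  constructor <;> omega

/-- small diagonal: rank one -/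
theorem rank_eq_one_of_odd_matrix (S : Finset ι) (n : ι → ι → ℤ) (d l : ℕ) (hd : d ≤ 2)
    (hodd : ∀ χ ∈ S, ∀ ξ ∈ S, Odd (n χ ξ))
    (hrow : ∀ χ ∈ S, ∑ ξ ∈ S, n χ ξ ^ 2 = 2 ^ d * n χ χ)
    (htr : ∑ χ ∈ S, n χ χ = 2 ^ d * (l : ℤ)) (hne : S.Nonempty)
    (hdiag : ∀ χ ∈ S, 2 * n χ χ ≤ 2 ^ d) : l = 1 := by
  have hpow : (2 : ℤ) ^ d ≤ 4 := by
    have : (2 : ℤ) ^ d ≤ 2 ^ 2 := pow_le_pow_right₀ (by norm_num) hd
    simpa using this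
  have hpos : (0 : ℤ) < 2 ^ d := by positivity
  have hone : ∀ χ ∈ S, n χ χ = 1 := by
    intro χ hχ
    have h1 := sq_add_card_le_sum_odd_sq S (n χ) (hodd χ hχ) χ hχ
    rw [hrow χ hχ] at h1
    have hc : 1 ≤ S.card := Finset.card_pos.mpr ⟨χ, hχ⟩
    have h2 := hdiag χ hχ
    obtain ⟨k, hk⟩ := hodd χ hχ χ hχ
    have h3 := odd_sq_pos (hodd χ hχ χ hχ)
    have h4 : (1 : ℤ) ≤ (S.card : ℤ) := by exact_mod_cast hc
    have h5 : 0 < n χ χ := by nlinarith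
    omega
  obtain ⟨χ₀, hχ₀⟩ := hne
  have hcardle : (S.card : ℤ) ≤ 2 ^ d := by
    have h1 := card_le_sum_odd_sq S (n χ₀) (hodd χ₀ hχ₀)
    rw [hrow χ₀ hχ₀, hone χ₀ hχ₀, mul_one] at h1
    exact h1
  have hsum : ∑ χ ∈ S, n χ χ = (S.card : ℤ) := by
    rw [Finset.sum_congr rfl hone]
    simp
  rw [hsum] at htr
  have hc : (1 : ℤ) ≤ (S.card : ℤ) := by
    exact_mod_cast Finset.card_pos.mpr ⟨χ₀, hχ₀⟩
  have hl1 : (l : ℤ) ≤ 1 := by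
    by_contra hcon
    push Not at hcon
    have : (2 : ℤ) ^ d * 2 ≤ 2 ^ d * (l : ℤ) := by nlinarith
    linarith
  have hl0 : (1 : ℤ) ≤ (l : ℤ) := by
    by_contra hcon
    push Not at hcon
    have : (l : ℤ) = 0 := by omega
    rw [this, mul_zero] at htr
    linarith
  omega

end OddMatrix

end Cfsg.Agent.Lib.Helper7
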