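import Mathlib
import Cfsg.Prelude.Def_Blocks
import Cfsg.Prelude.Def_BlockRank
import Cfsg.Agent.Lib.Helper24.Contribution
import Cfsg.Agent.Lib.Helper25.ContribMatrix
import Cfsg.Agent.Lib.Helper7.OddMatrix
import Cfsg.Agent.Lib.Helper7.HeightZero
import Cfsg.Agent.Lib.Helper7.PPartFn
import Cfsg.Agent.Lib.Helper7.CentralHom
import Cfsg.Agent.S4667
import Cfsg.Agent.S4710
import Cfsg.Agent.S4676

/-!
# The contribution matrix of a `2`-block of small defect (helper7 library)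

* `sum_contribN_self`: the trace of the contribution matrix is `p^a l(B)`.
* `card_eq_four_of_defect_two`: a `2`-block of defect two has four characters and
  `1 ≤ l(B) ≤ 3`.
* `blockRank_eq_one_of_central`: a `2`-block of defect at most two of a group with a nontrivial
  central `2`-element has `l(B) = 1`.
-/

set_option autoImplicit false

namespace Cfsg.Agent.Lib.Helper7

open Cfsg.Agent.Lib.Helper2 Cfsg.Agent.Lib.Helper24 Cfsg.Agent.Lib.Helper25
open scoped ComplexConjugate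

section Trace

variable {G : Type*} [Group G] [Fintype G] {p : ℕ} [Fact p.Prime] {M : Ideal Cfsg.AlgInt}

/-- the trace of the contribution matrix -/
theorem sum_contribN_self (hM : Cfsg.IsPModular p M) (B : Set (Cfsg.IrrCharacter G))
    (hB : Cfsg.IsPBlock M B) [Fintype (Cfsg.IrrCharacter G)] [DecidablePred (· ∈ B)] :
    ∑ χ : Cfsg.IrrCharacter G, (if χ ∈ B then contribN p χ χ else 0)
      = (p : ℤ) ^ (Nat.card G).factorization p * (Cfsg.blockRank p B : ℤ) := by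
  have h1 := Cfsg.Agent.S4667.result p M hM B hB
  have hG0 : (Nat.card G : ℂ) ≠ 0 := Nat.cast_ne_zero.mpr Nat.card_pos.ne'
  have h2 : ∑ x : G, ∑ᶠ χ ∈ B, Cfsg.pRegularPart p (χ : G → ℂ) x * (χ : G → ℂ) x⁻¹
      = ∑ χ : Cfsg.IrrCharacter G, if χ ∈ B then (Nat.card G : ℂ)
          * Cfsg.classInner (Cfsg.pRegularPart p (χ : G → ℂ)) (χ : G → ℂ) else 0 := by
    have : ∀ x : G, ∑ᶠ χ ∈ B, Cfsg.pRegularPart p (χ : G → ℂ) x * (χ : G → ℂ) x⁻¹
        = ∑ χ : Cfsg.IrrCharacter G, if χ ∈ B then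
            Cfsg.pRegularPart p (χ : G → ℂ) x * conj ((χ : G → ℂ) x) else 0 := by
      intro x
      rw [finsum_mem_eq_sum_ite]
      apply Finset.sum_congr rfl
      intro χ _
      rw [IrrCharacter.apply_inv]
    rw [Finset.sum_congr rfl (fun x _ => this x), Finset.sum_comm]
    apply Finset.sum_congr rfl
    intro χ _
    by_cases hχ : χ ∈ B
    · simp only [if_pos hχ]
      rw [classInner_def, ← mul_assoc, mul_inv_cancel₀ hG0, one_mul]
    · simp only [if_neg hχ]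
      exact Finset.sum_const_zero
  rw [h2] at h1
  have h3 : (((∑ χ : Cfsg.IrrCharacter G, (if χ ∈ B then contribN p χ χ else 0) : ℤ)) : ℂ)
      = (((p : ℤ) ^ (Nat.card G).factorization p * (Cfsg.blockRank p B : ℤ) : ℤ) : ℂ) := by
    push_cast
    have h4 : (Nat.card G : ℂ) * ((p : ℂ) ^ (Nat.card G).factorization p
        * (Cfsg.blockRank p B : ℂ))
        = (Nat.card G : ℂ) * ∑ χ : Cfsg.IrrCharacter G,
            (if χ ∈ B then (contribN p χ χ : ℂ) else 0) := by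
      rw [mul_left_comm, h1, Finset.mul_sum, Finset.mul_sum]
      apply Finset.sum_congr rfl
      intro χ _
      by_cases hχ : χ ∈ B
      · rw [if_pos hχ, if_pos hχ, ← contribN_spec]
        ring
      · rw [if_neg hχ, if_neg hχ, mul_zero, mul_zero]
    have h5 := mul_left_cancel₀ hG0 h4
    rw [h5]
  exact Int.cast_injective h3

end Trace

section Two

variable {G : Type*} [Group G] [Fintype G] {M : Ideal Cfsg.AlgInt}

theorem exists_odd_mul_pow (m : ℤ) (hm : m ≠ 0) :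
    ∃ n : ℤ, Odd n ∧ m = 2 ^ (padicValInt 2 m) * n := by
  have hN : m.natAbs ≠ 0 := Int.natAbs_ne_zero.mpr hm
  have h1 := Nat.ordProj_mul_ordCompl_eq_self m.natAbs 2
  have h2 : ¬ 2 ∣ m.natAbs / 2 ^ m.natAbs.factorization 2 := Nat.not_dvd_ordCompl Nat.prime_two hN
  have h3 : m.natAbs.factorization 2 = padicValInt 2 m := by
    rw [Nat.factorization_def _ Nat.prime_two]
    rfl
  have hodd : Odd (m.natAbs / 2 ^ m.natAbs.factorization 2) := by
    rw [← Nat.not_even_iff_odd, even_iff_two_dvd]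
    exact h2
  have hoddZ : Odd ((m.natAbs / 2 ^ m.natAbs.factorization 2 : ℕ) : ℤ) := by
    exact_mod_cast hodd
  rcases Int.natAbs_eq m with h | h
  · refine ⟨((m.natAbs / 2 ^ m.natAbs.factorization 2 : ℕ) : ℤ), hoddZ, ?_⟩
    rw [← h3]
    conv_lhs => rw [h, ← h1]
    push_cast
    ring
  · refine ⟨-((m.natAbs / 2 ^ m.natAbs.factorization 2 : ℕ) : ℤ), hoddZ.neg, ?_⟩
    rw [← h3]
    conv_lhs => rw [h, ← h1]
    push_cast
    ring

/-- the degree valuation of a character of height zero -/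
theorem factorization_add_defect_of_height_zero (p : ℕ) [Fact p.Prime]
    (B : Set (Cfsg.IrrCharacter G)) (ξ : Cfsg.IrrCharacter G) (hξ : ξ ∈ B)
    (h0 : Cfsg.blockHeight p B (ξ : G → ℂ) = 0) :
    (Cfsg.charDegree (ξ : G → ℂ)).factorization p + Cfsg.blockDefect p B
      = (Nat.card G).factorization p := by
  have hs : sInf ((fun χ : Cfsg.IrrCharacter G =>
      (Cfsg.charDegree (χ : G → ℂ)).factorization p) '' B)
      ≤ (Cfsg.charDegree (ξ : G → ℂ)).factorization p := Nat.sInf_le ⟨ξ, hξ, rfl⟩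
  have hle : (Cfsg.charDegree (ξ : G → ℂ)).factorization p ≤ (Nat.card G).factorization p :=
    (Nat.factorization_le_iff_dvd (irr_charDegree_pos ξ).ne' Nat.card_pos.ne').mpr
      (Cfsg.Agent.Lib.Helper25.charDegree_dvd_card ξ.2) p
  unfold Cfsg.blockHeight at h0
  unfold Cfsg.blockDefect
  omega

/-- **the odd matrix of a `2`-block of defect at most two** -/
theorem odd_matrix_data (hM : Cfsg.IsPModular 2 M) (B : Set (Cfsg.IrrCharacter G))
    (hB : Cfsg.IsPBlock M B) (d : ℕ) (hd : Cfsg.blockDefect 2 B = d) (hd2 : d ≤ 2)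
    [Fintype (Cfsg.IrrCharacter G)] [DecidablePred (· ∈ B)] :
    haveI : Fact (Nat.Prime 2) := ⟨Nat.prime_two⟩
    ∃ n : Cfsg.IrrCharacter G → Cfsg.IrrCharacter G → ℤ,
      (∀ χ ∈ Finset.univ.filter (· ∈ B), ∀ ξ ∈ Finset.univ.filter (· ∈ B), Odd (n χ ξ)) ∧
      (∀ χ ∈ Finset.univ.filter (· ∈ B),
        ∑ ξ ∈ Finset.univ.filter (· ∈ B), n χ ξ ^ 2 = 2 ^ d * n χ χ) ∧
      (∑ χ ∈ Finset.univ.filter (· ∈ B), n χ χ = 2 ^ d * (Cfsg.blockRank 2 B : ℤ)) ∧
      (∀ χ ∈ B, contribN 2 χ χ = 2 ^ ((Nat.card G).factorization 2 - d) * n χ χ) := by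
  haveI : Fact (Nat.Prime 2) := ⟨Nat.prime_two⟩
  obtain ⟨a, ha⟩ : ∃ a, a = (Nat.card G).factorization 2 := ⟨_, rfl⟩
  have hht : ∀ χ ∈ B, Cfsg.blockHeight 2 B (χ : G → ℂ) = 0 := by
    intro χ hχ
    obtain ⟨h1, h2⟩ := (Cfsg.Agent.S4710.result 2 M hM B hB d hd).2 χ hχ
    by_cases hd1 : d ≤ 1
    · exact h1 hd1
    · have := h2 (by omega)
      omega
  have hval : ∀ ξ ∈ B, (Cfsg.charDegree (ξ : G → ℂ)).factorization 2 + d = a := by
    intro ξ hξ
    rw [← hd, ha]
    exact factorization_add_defect_of_height_zero 2 B ξ hξ (hht ξ hξ)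
  have hda : d ≤ a := by
    obtain ⟨χ₀, hχ₀⟩ := isPBlock_nonempty hM hB
    have := hval χ₀ hχ₀
    omega
  have hex : ∀ χ ξ : Cfsg.IrrCharacter G, ∃ n : ℤ, χ ∈ B → ξ ∈ B →
      (Odd n ∧ contribN 2 χ ξ = 2 ^ (a - d) * n) := by
    intro χ ξ
    by_cases hχ : χ ∈ B
    · by_cases hξ : ξ ∈ B
      · obtain ⟨hm0, hmv⟩ := contribN_of_height_zero hM B hB χ hχ (hht χ hχ) ξ hξ
        obtain ⟨n, hn, hmn⟩ := exists_odd_mul_pow _ hm0
        refine ⟨n, fun _ _ => ⟨hn, ?_⟩⟩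
        rw [hmv] at hmn
        have := hval ξ hξ
        have e : (Cfsg.charDegree (ξ : G → ℂ)).factorization 2 = a - d := by omega
        rw [e] at hmn
        exact hmn
      · exact ⟨0, fun _ h => absurd h hξ⟩
    · exact ⟨0, fun h => absurd h hχ⟩
  choose n hn using hex
  have hmemS : ∀ χ, χ ∈ Finset.univ.filter (· ∈ B) ↔ χ ∈ B := by
    intro χ
    simp
  have hq0 : (2 : ℤ) ^ (a - d) ≠ 0 := by positivity
  have h2a : (2 : ℤ) ^ a = 2 ^ d * 2 ^ (a - d) := by
    rw [← pow_add]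
    congr 1
    omega
  have h2a' : ((2 : ℕ) : ℤ) ^ a = 2 ^ d * 2 ^ (a - d) := by exact_mod_cast h2a
  refine ⟨n, ?_, ?_, ?_, ?_⟩
  · intro χ hχ ξ hξ
    exact (hn χ ξ ((hmemS χ).mp hχ) ((hmemS ξ).mp hξ)).1
  · intro χ hχ
    have hχB := (hmemS χ).mp hχ
    have h1 := sum_contribN_sq hM B hB χ hχB
    rw [← Finset.sum_filter, ← ha] at h1
    have h2 : ∑ ξ ∈ Finset.univ.filter (· ∈ B), contribN 2 χ ξ ^ 2
        = (2 : ℤ) ^ (a - d) * (2 ^ (a - d) * ∑ ξ ∈ Finset.univ.filter (· ∈ B), n χ ξ ^ 2) := by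
      rw [Finset.mul_sum, Finset.mul_sum]
      apply Finset.sum_congr rfl
      intro ξ hξ
      rw [(hn χ ξ hχB ((hmemS ξ).mp hξ)).2]
      ring
    rw [h2, (hn χ χ hχB hχB).2, h2a'] at h1
    have h3 : (2 : ℤ) ^ (a - d) * (2 ^ (a - d) * ∑ ξ ∈ Finset.univ.filter (· ∈ B), n χ ξ ^ 2)
        = (2 : ℤ) ^ (a - d) * (2 ^ (a - d) * (2 ^ d * n χ χ)) := by
      rw [h1]; ring
    exact mul_left_cancel₀ hq0 (mul_left_cancel₀ hq0 h3)
  · have h1 := sum_contribN_self hM B hB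
    rw [← Finset.sum_filter, ← ha] at h1
    have h2 : ∑ χ ∈ Finset.univ.filter (· ∈ B), contribN 2 χ χ
        = (2 : ℤ) ^ (a - d) * ∑ χ ∈ Finset.univ.filter (· ∈ B), n χ χ := by
      rw [Finset.mul_sum]
      apply Finset.sum_congr rfl
      intro χ hχ
      rw [(hn χ χ ((hmemS χ).mp hχ) ((hmemS χ).mp hχ)).2]
    rw [h2, h2a'] at h1
    have h3 : (2 : ℤ) ^ (a - d) * ∑ χ ∈ Finset.univ.filter (· ∈ B), n χ χ
        = (2 : ℤ) ^ (a - d) * (2 ^ d * (Cfsg.blockRank 2 B : ℤ)) := by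
      rw [h1]; ring
    exact mul_left_cancel₀ hq0 h3
  · intro χ hχ
    rw [← ha]
    exact (hn χ χ hχ hχ).2

end Two

section Main

variable {G : Type*} [Group G] [Fintype G] {M : Ideal Cfsg.AlgInt}

theorem card_set_eq_card_filter {ι : Type*} [Fintype ι] (B : Set ι) [DecidablePred (· ∈ B)] :
    Nat.card B = (Finset.univ.filter (· ∈ B)).card := by
  rw [Nat.card_eq_fintype_card, Fintype.card_subtype]

/-- **a `2`-block of defect two has four characters and `1 ≤ l(B) ≤ 3`** -/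
theorem card_eq_four_of_defect_two (hM : Cfsg.IsPModular 2 M) (B : Set (Cfsg.IrrCharacter G))
    (hB : Cfsg.IsPBlock M B) (hd : Cfsg.blockDefect 2 B = 2) :
    Nat.card B = 4 ∧ 1 ≤ Cfsg.blockRank 2 B ∧ Cfsg.blockRank 2 B ≤ 3 := by
  classical
  haveI : Fact (Nat.Prime 2) := ⟨Nat.prime_two⟩
  haveI : Fintype (Cfsg.IrrCharacter G) := Fintype.ofFinite _
  obtain ⟨n, hodd, hrow, htr, -⟩ := odd_matrix_data hM B hB 2 hd le_rfl
  have hht : ∀ χ ∈ B, Cfsg.blockHeight 2 B (χ : G → ℂ) = 0 := by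
    intro χ hχ
    have := ((Cfsg.Agent.S4710.result 2 M hM B hB 2 hd).2 χ hχ).2 le_rfl
    omega
  obtain ⟨P, hP⟩ := exists_isDefectGroup hM B hB
  have hcardP : Nat.card P = 4 := by
    rw [card_of_isDefectGroup hM B hB P hP, hd]
    norm_num
  have hle : (Finset.univ.filter (· ∈ B)).card ≤ 5 := by
    have h1 := Cfsg.Agent.S4676.result 2 M hM B hB P hP
    rw [hcardP] at h1
    have h2 : ∑ᶠ χ ∈ B, 2 ^ (2 * Cfsg.blockHeight 2 B (χ : G → ℂ))
        = (Finset.univ.filter (· ∈ B)).card := by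
      rw [finsum_mem_eq_finite_toFinset_sum _ (Set.toFinite B)]
      have : (Set.toFinite B).toFinset = Finset.univ.filter (· ∈ B) := by
        ext χ; simp
      rw [this, Finset.card_eq_sum_ones]
      apply Finset.sum_congr rfl
      intro χ hχ
      rw [hht χ (by simpa using hχ)]
      rfl
    rw [h2] at h1
    exact h1
  have hne : (Finset.univ.filter (· ∈ B)).Nonempty := by
    obtain ⟨χ₀, hχ₀⟩ := isPBlock_nonempty hM hB
    exact ⟨χ₀, by simpa using hχ₀⟩
  have hrow' : ∀ χ ∈ Finset.univ.filter (· ∈ B),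
      ∑ ξ ∈ Finset.univ.filter (· ∈ B), n χ ξ ^ 2 = 4 * n χ χ := by
    intro χ hχ
    rw [hrow χ hχ]
    norm_num
  have htr' : ∑ χ ∈ Finset.univ.filter (· ∈ B), n χ χ = 4 * (Cfsg.blockRank 2 B : ℤ) := by
    rw [htr]
    norm_num
  rw [card_set_eq_card_filter]
  exact card_eq_four_of_odd_matrix _ n _ hodd hrow' htr' hne hle

end Main

section Central

variable {G : Type*} [Group G] [Fintype G] {M : Ideal Cfsg.AlgInt}

/-- a central element multiplies an irreducible character by a scalar of absolute value one -/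
theorem normSq_central_mul (z : G) (hz : z ∈ Subgroup.center G) (ψ : Cfsg.IrrCharacter G)
    (y : G) : Complex.normSq ((ψ : G → ℂ) (z * y)) = Complex.normSq ((ψ : G → ℂ) y) := by
  have hle : Subgroup.zpowers z ≤ Subgroup.center G := by
    rw [Subgroup.zpowers_le]; exact hz
  obtain ⟨φ, hφ⟩ := exists_central_hom ψ (Subgroup.zpowers z) hle
  have h1 := hφ ⟨z, Subgroup.mem_zpowers z⟩ y
  simp only at h1
  rw [h1, Complex.normSq_mul]
  have hpow : ((φ ⟨z, Subgroup.mem_zpowers z⟩ : ℂˣ) : ℂ) ^ orderOf z = 1 := by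
    rw [← Units.val_pow_eq_pow_val, ← map_pow]
    have : (⟨z, Subgroup.mem_zpowers z⟩ : Subgroup.zpowers z) ^ orderOf z = 1 := by
      apply Subtype.ext
      push_cast
      exact pow_orderOf_eq_one z
    rw [this, map_one, Units.val_one]
  have hnorm : ‖((φ ⟨z, Subgroup.mem_zpowers z⟩ : ℂˣ) : ℂ)‖ = 1 :=
    Complex.norm_eq_one_of_pow_eq_one hpow (orderOf_pos z).ne'
  rw [Complex.normSq_eq_norm_sq, hnorm]
  norm_num

/-- **the central bound**: in a group with a nontrivial central `2`-element the diagonal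
contributions are at most half of `2^a` -/
theorem two_mul_contribN_le (z : G) (hz : z ∈ Subgroup.center G) (hz1 : z ≠ 1)
    (hz2 : ∃ k : ℕ, orderOf z = 2 ^ k) (ψ : Cfsg.IrrCharacter G) :
    haveI : Fact (Nat.Prime 2) := ⟨Nat.prime_two⟩
    2 * contribN 2 ψ ψ ≤ 2 ^ (Nat.card G).factorization 2 := by
  classical
  haveI : Fact (Nat.Prime 2) := ⟨Nat.prime_two⟩
  obtain ⟨R, hR⟩ : ∃ R : Finset G, R = Finset.univ.filter (fun g : G => ¬ 2 ∣ orderOf g) :=
    ⟨_, rfl⟩
  obtain ⟨f, hf⟩ : ∃ f : G → ℝ, f = fun g => Complex.normSq ((ψ : G → ℂ) g) := ⟨_, rfl⟩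
  have hf0 : ∀ g, 0 ≤ f g := fun g => by rw [hf]; exact Complex.normSq_nonneg _
  have hfc : ∀ g, ((f g : ℝ) : ℂ) = (ψ : G → ℂ) g * conj ((ψ : G → ℂ) g) := by
    intro g
    rw [hf, Complex.mul_conj]
  have hG0 : (Nat.card G : ℝ) ≠ 0 := Nat.cast_ne_zero.mpr Nat.card_pos.ne'
  have hG0' : (Nat.card G : ℂ) ≠ 0 := Nat.cast_ne_zero.mpr Nat.card_pos.ne'
  -- (1)
  have ht : ∑ g : G, f g = (Nat.card G : ℝ) := by
    have h1 := classInner_irrCharacter_self ψ
    rw [classInner_def] at h1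
    have h2 : ((∑ g : G, f g : ℝ) : ℂ) = ((Nat.card G : ℝ) : ℂ) := by
      push_cast
      rw [Finset.sum_congr rfl (fun g _ => hfc g)]
      field_simp at h1
      exact h1
    exact Complex.ofReal_injective h2
  -- (2)
  have hr : (contribN 2 ψ ψ : ℂ) = ((2 : ℕ) : ℂ) ^ (Nat.card G).factorization 2
      * ((Nat.card G : ℂ)⁻¹ * ((∑ g ∈ R, f g : ℝ) : ℂ)) := by
    rw [← contribN_spec, classInner_def]
    congr 2
    push_cast
    rw [hR, Finset.sum_filter]
    apply Finset.sum_congr rfl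
    intro g _
    by_cases hg : 2 ∣ orderOf g
    · rw [if_neg (not_not.mpr hg), Cfsg.Agent.Lib.Helper24.pRegularPart_of_singular _ hg, zero_mul]
    · rw [if_pos hg, Cfsg.Agent.Lib.Helper24.pRegularPart_of_regular _ hg, hfc]
  -- (3)
  have h3 : 2 * ∑ g ∈ R, f g ≤ ∑ g : G, f g := by
    have hdisj : Disjoint R (R.image (fun y => z * y)) := by
      rw [Finset.disjoint_left]
      intro g hg hg'
      rw [Finset.mem_image] at hg'
      obtain ⟨y, hy, rfl⟩ := hg'
      rw [hR, Finset.mem_filter] at hg hy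
      have hcomm : z * y = y * z := (Subgroup.mem_center_iff.mp hz y).symm
      have h1 := pPt_mul_of_commute 2 hz2 hy.2 hcomm
      rw [pPt_of_regular 2 hg.2] at h1
      exact hz1 h1.symm
    have h1 : ∑ g ∈ R ∪ R.image (fun y => z * y), f g ≤ ∑ g : G, f g :=
      Finset.sum_le_sum_of_subset_of_nonneg (Finset.subset_univ _) (fun g _ _ => hf0 g)
    rw [Finset.sum_union hdisj, Finset.sum_image (fun a _ b _ h => mul_left_cancel h)] at h1
    have h2 : ∑ y ∈ R, f (z * y) = ∑ y ∈ R, f y := by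
      apply Finset.sum_congr rfl
      intro y _
      rw [hf]
      exact normSq_central_mul z hz ψ y
    rw [h2] at h1
    linarith
  have h4 : ((contribN 2 ψ ψ : ℤ) : ℝ) = (2 : ℝ) ^ (Nat.card G).factorization 2
      * ((Nat.card G : ℝ)⁻¹ * ∑ g ∈ R, f g) := by
    apply Complex.ofReal_injective
    push_cast
    rw [hr]
    push_cast
    ring
  have h5 : ((2 * contribN 2 ψ ψ : ℤ) : ℝ) ≤ (((2 : ℤ) ^ (Nat.card G).factorization 2 : ℤ) : ℝ) := by
    push_cast
    rw [h4]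
    have hpos : (0 : ℝ) < 2 ^ (Nat.card G).factorization 2 := by positivity
    have hGpos : (0 : ℝ) < (Nat.card G : ℝ) := by exact_mod_cast Nat.card_pos
    rw [ht] at h3
    have h6 : (Nat.card G : ℝ)⁻¹ * (2 * ∑ g ∈ R, f g) ≤ 1 := by
      rw [inv_mul_le_iff₀ hGpos, mul_one]
      exact h3
    nlinarith
  exact_mod_cast h5

/-- **a `2`-block of defect at most two of a group with a nontrivial central `2`-element has a
single irreducible Brauer character** -/
theorem blockRank_eq_one_of_central (hM : Cfsg.IsPModular 2 M) (z : G)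
    (hz : z ∈ Subgroup.center G) (hz1 : z ≠ 1) (hz2 : ∃ k : ℕ, orderOf z = 2 ^ k)
    (b : Set (Cfsg.IrrCharacter G)) (hb : Cfsg.IsPBlock M b)
    (hd : Cfsg.blockDefect 2 b ≤ 2) : Cfsg.blockRank 2 b = 1 := by
  classical
  haveI : Fact (Nat.Prime 2) := ⟨Nat.prime_two⟩
  haveI : Fintype (Cfsg.IrrCharacter G) := Fintype.ofFinite _
  obtain ⟨d, hd'⟩ : ∃ d, Cfsg.blockDefect 2 b = d := ⟨_, rfl⟩
  rw [hd'] at hd
  obtain ⟨n, hodd, hrow, htr, hdiag⟩ := odd_matrix_data hM b hb d hd' hd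
  have hda : d ≤ (Nat.card G).factorization 2 := by
    rw [← hd']
    unfold Cfsg.blockDefect
    exact Nat.sub_le _ _
  have hne : (Finset.univ.filter (· ∈ b)).Nonempty := by
    obtain ⟨χ₀, hχ₀⟩ := isPBlock_nonempty hM hb
    exact ⟨χ₀, by simpa using hχ₀⟩
  apply rank_eq_one_of_odd_matrix _ n d _ hd hodd hrow htr hne
  intro χ hχ
  have hχb : χ ∈ b := by simpa using hχ
  have h1 := two_mul_contribN_le z hz hz1 hz2 χ
  rw [hdiag χ hχb] at h1
  have h2 : (2 : ℤ) ^ (Nat.card G).factorization 2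
      = 2 ^ ((Nat.card G).factorization 2 - d) * 2 ^ d := by
    rw [← pow_add]
    congr 1
    omega
  rw [h2] at h1
  have hq : (0 : ℤ) < 2 ^ ((Nat.card G).factorization 2 - d) := by positivity
  have h3 : 2 ^ ((Nat.card G).factorization 2 - d) * (2 * n χ χ)
      ≤ 2 ^ ((Nat.card G).factorization 2 - d) * 2 ^ d := by
    calc 2 ^ ((Nat.card G).factorization 2 - d) * (2 * n χ χ)
        = 2 * (2 ^ ((Nat.card G).factorization 2 - d) * n χ χ) := by ring
      _ ≤ _ := h1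
  exact le_of_mul_le_mul_left h3 hq

end Central

end Cfsg.Agent.Lib.Helper7
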