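import Mathlib
import Cfsg.Prelude.Def_Blocks
import Cfsg.Prelude.Def_BlockLocal
import Cfsg.Prelude.Def_BrauerPairs
import Cfsg.Agent.Lib.Helper24.PairTools
import Cfsg.Agent.Lib.Helper24.InertialPrime

/-!
# The inertial quotient of a maximal Brauer pair with abelian first component (helper7 library)

* `exists_stabConjHom`: the conjugation homomorphism `N_G(P, e) → Aut(P)`, its kernel and the
  order of its range.
* `coprime_relIndex_stabSubgroup`: for a maximal pair `(P, e)` with `P` abelian the inertial
  index `[N_G(P, e) : C_G(P)]` is prime to `p`.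
-/

set_option autoImplicit false

namespace Cfsg.Agent.Lib.Helper7

open Cfsg.Agent.Lib.Helper2 Cfsg.Agent.Lib.Helper24

section Inertial

variable {G : Type*} [Group G] [Fintype G] {p : ℕ} {M : Ideal Cfsg.AlgInt}

/-- the conjugation homomorphism `N_G(P, e) → Aut(P)` -/
theorem exists_stabConjHom (P : Subgroup G)
    (e : Set (Cfsg.IrrCharacter (Subgroup.centralizer (P : Set G)))) :
    ∃ φ : stabSubgroup P e →* MulAut P,
      (∀ (t : stabSubgroup P e) (x : P), ((φ t) x : G) = (t : G) * x * (t : G)⁻¹) ∧
      φ.ker = (Subgroup.centralizer (P : Set G)).subgroupOf (stabSubgroup P e) ∧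
      Nat.card φ.range = (Subgroup.centralizer (P : Set G)).relIndex (stabSubgroup P e) := by
  have hTN : stabSubgroup P e ≤ Subgroup.normalizer (P : Set G) := stabSubgroup_le_normalizer P e
  obtain ⟨φ, hφ⟩ : ∃ φ : stabSubgroup P e →* MulAut P,
      φ = P.normalizerMonoidHom.comp (Subgroup.inclusion hTN) := ⟨_, rfl⟩
  have hφapp : ∀ (t : stabSubgroup P e) (x : P), ((φ t) x : G) = (t : G) * x * (t : G)⁻¹ := by
    intro t x
    rw [hφ]
    rfl
  have hker : φ.ker = (Subgroup.centralizer (P : Set G)).subgroupOf (stabSubgroup P e) := by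
    ext t
    rw [MonoidHom.mem_ker, Subgroup.mem_subgroupOf, Subgroup.mem_centralizer_iff]
    constructor
    · intro h q hq
      have h1 := hφapp t ⟨q, hq⟩
      rw [h] at h1
      simp only [MulAut.one_apply] at h1
      have h2 : (t : G) * q = ((t : G) * q * (t : G)⁻¹) * t := by group
      rw [h2, ← h1]
    · intro h
      ext x
      rw [hφapp, MulAut.one_apply, ← h x x.2]; group
  refine ⟨φ, hφapp, hker, ?_⟩
  rw [← Subgroup.index_ker, hker]
  rfl

/-- for a maximal pair `(P, e)` with `P` abelian the inertial index is prime to `p` -/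
theorem coprime_relIndex_stabSubgroup [Fact p.Prime] (hM : Cfsg.IsPModular p M)
    (B : Set (Cfsg.IrrCharacter G)) (P : Subgroup G)
    (e : Set (Cfsg.IrrCharacter (Subgroup.centralizer (P : Set G))))
    (hmax : Cfsg.IsMaximalBrauerPair p M B P e)
    (hPC : P ≤ Subgroup.centralizer (P : Set G)) :
    Nat.Coprime ((Subgroup.centralizer (P : Set G)).relIndex (stabSubgroup P e)) p := by
  have hp : p.Prime := Fact.out
  have hP : IsPGroup p P := hmax.1.1.1
  rw [Nat.coprime_comm, hp.coprime_iff_not_dvd]
  have hPT : P ≤ stabSubgroup P e := le_stabSubgroup P e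
  have hP' : IsPGroup p (P.subgroupOf (stabSubgroup P e)) :=
    hP.comap_of_injective _ (Subgroup.subtype_injective _)
  obtain ⟨S, hS⟩ := hP'.exists_le_sylow
  have hS'p : IsPGroup p ((S : Subgroup (stabSubgroup P e)).map (stabSubgroup P e).subtype) :=
    S.2.map _
  have hPS' : P ≤ (S : Subgroup (stabSubgroup P e)).map (stabSubgroup P e).subtype := by
    intro x hx
    exact ⟨⟨x, hPT hx⟩, hS (Subgroup.mem_subgroupOf.mpr hx), rfl⟩
  have hS'T : (S : Subgroup (stabSubgroup P e)).map (stabSubgroup P e).subtype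
      ≤ stabSubgroup P e := Subgroup.map_subtype_le _
  have hS'H := le_sup_centralizer_of_isMaximalBrauerPair hM B P e hmax _ hS'p hPS' hS'T
  rw [sup_of_le_right hPC] at hS'H
  have hle : (S : Subgroup (stabSubgroup P e))
      ≤ (Subgroup.centralizer (P : Set G)).subgroupOf (stabSubgroup P e) := by
    intro s hs
    rw [Subgroup.mem_subgroupOf]
    exact hS'H ⟨s, hs, rfl⟩
  have hdvd : ((Subgroup.centralizer (P : Set G)).subgroupOf (stabSubgroup P e)).index
      ∣ (S : Subgroup (stabSubgroup P e)).index := Subgroup.index_dvd_of_le hle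
  intro hpd
  exact S.not_dvd_index (dvd_trans hpd hdvd)

end Inertial

end Cfsg.Agent.Lib.Helper7
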