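import Mathlib

/-!
# Odd-order groups of automorphisms of the Klein four group (helper7 library)

* `kleinFour_odd_aut`: a subgroup `A` of odd order of `Aut(V)`, `V` a Klein four group, acts
  freely on `V \ {1}`, has order `1` or `3`, and is transitive on `V \ {1}` when its order is `3`.
-/

set_option autoImplicit false

namespace Cfsg.Agent.Lib.Helper7

section KleinAut

open IsKleinFour

variable {V : Type*} [Group V] [IsKleinFour V]

/-- an automorphism of odd order of a Klein four group fixing a nonidentity element is trivial -/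
theorem kleinFour_aut_eq_one (α : MulAut V) (hodd : Odd (orderOf α)) (u : V) (hu : u ≠ 1)
    (hfix : α u = u) : α = 1 := by
  classical
  letI := Fintype.ofFinite V
  -- a third element
  obtain ⟨v, hv1, hvu⟩ : ∃ v : V, v ≠ 1 ∧ v ≠ u := by
    by_contra hcon
    push Not at hcon
    have h1 : (Finset.univ : Finset V) ⊆ {1, u} := by
      intro v _
      by_cases hv : v = 1
      · simp [hv]
      · simp [hcon v hv]
    have h2 := Finset.card_le_card h1
    rw [Finset.card_univ, card_four'] at h2
    have h3 : ({1, u} : Finset V).card ≤ 2 := Finset.card_le_two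
    omega
  have huniv := eq_finset_univ hu hv1 (Ne.symm hvu)
  have hαv1 : α v ≠ 1 := by
    intro h
    apply hv1
    have := α.injective (h.trans (map_one α).symm)
    exact this
  have hαvu : α v ≠ u := by
    intro h
    apply hvu
    exact α.injective (h.trans hfix.symm)
  have hαv : α v = v ∨ α v = u * v := by
    have h1 : α v ∈ ({u * v, u, v, (1 : V)} : Finset V) := huniv ▸ Finset.mem_univ _
    simp only [Finset.mem_insert, Finset.mem_singleton] at h1
    rcases h1 with h | h | h | h
    · right; exact h
    · exact absurd h hαvu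
    · left; exact h
    · exact absurd h hαv1
  have hall : ∀ β : MulAut V, β u = u → β v = v → β = 1 := by
    intro β h1 h2
    ext w
    have hw : w ∈ ({u * v, u, v, (1 : V)} : Finset V) := huniv ▸ Finset.mem_univ _
    simp only [Finset.mem_insert, Finset.mem_singleton] at hw
    rcases hw with h | h | h | h
    · rw [h, map_mul, h1, h2]; rfl
    · rw [h, h1]; rfl
    · rw [h, h2]; rfl
    · rw [h, map_one]; rfl
  rcases hαv with h | h
  · exact hall α hfix h
  · -- `α ^ 2 = 1`
    have h2 : α ^ 2 = 1 := by
      apply hall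
      · rw [sq, MulAut.mul_apply, hfix, hfix]
      · rw [sq, MulAut.mul_apply, h, map_mul, hfix, h, ← mul_assoc, mul_self, one_mul]
    have h3 : orderOf α ∣ 2 := orderOf_dvd_of_pow_eq_one h2
    have h4 : orderOf α = 1 := by
      rcases (Nat.dvd_prime Nat.prime_two).mp h3 with h5 | h5
      · exact h5
      · rw [h5] at hodd
        exact absurd hodd (by decide)
    exact orderOf_eq_one_iff.mp h4

/-- **odd-order groups of automorphisms of a Klein four group** -/
theorem kleinFour_odd_aut (A : Subgroup (MulAut V)) (hA : Odd (Nat.card A)) :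
    (∀ α ∈ A, ∀ u : V, u ≠ 1 → α u = u → α = 1) ∧ (Nat.card A = 1 ∨ Nat.card A = 3) ∧
      (Nat.card A = 3 → ∀ u u' : V, u ≠ 1 → u' ≠ 1 → ∃ α ∈ A, α u = u') := by
  classical
  letI := Fintype.ofFinite V
  haveI : Finite (MulAut V) := Finite.of_injective (fun α : MulAut V => (α : V → V))
    (fun α β h => by ext w; exact congrFun h w)
  have hfree : ∀ α ∈ A, ∀ u : V, u ≠ 1 → α u = u → α = 1 := by
    intro α hα u hu hfix
    apply kleinFour_aut_eq_one α _ u hu hfix
    have h1 : orderOf α ∣ Nat.card A := by
      have := orderOf_dvd_natCard (⟨α, hα⟩ : A)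
      rwa [Subgroup.orderOf_mk] at this
    exact Odd.of_dvd_nat hA h1
  -- a nonidentity element
  obtain ⟨u₀, hu₀⟩ : ∃ u₀ : V, u₀ ≠ 1 := by
    by_contra hcon
    push Not at hcon
    have h1 : (Finset.univ : Finset V) ⊆ {1} := by
      intro v _
      simp [hcon v]
    have h2 := Finset.card_le_card h1
    rw [Finset.card_univ, card_four', Finset.card_singleton] at h2
    omega
  have hcard3 : Nat.card {v : V // v ≠ 1} = 3 := by
    rw [Nat.card_eq_fintype_card, Fintype.card_subtype_compl (fun v : V => v = 1),
      Fintype.card_subtype_eq, card_four']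
  have hinj : ∀ (u : V) (hu : u ≠ 1), Function.Injective
      (fun α : A => (⟨(α : MulAut V) u, fun h =>
        hu ((α : MulAut V).injective (h.trans (map_one (α : MulAut V)).symm))⟩ :
        {v : V // v ≠ 1})) := by
    intro u hu α β hαβ
    have h1 : (α : MulAut V) u = (β : MulAut V) u := congrArg Subtype.val hαβ
    have h2 : ((β : MulAut V)⁻¹ * (α : MulAut V)) u = u := by
      rw [MulAut.mul_apply, h1]
      exact (β : MulAut V).symm_apply_apply u
    have h3 := hfree _ (A.mul_mem (A.inv_mem β.2) α.2) u hu h2
    apply Subtype.ext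
    have : (β : MulAut V) * ((β : MulAut V)⁻¹ * (α : MulAut V)) = (β : MulAut V) * 1 := by
      rw [h3]
    rw [mul_inv_cancel_left, mul_one] at this
    exact this
  have hle : Nat.card A ≤ 3 := by
    rw [← hcard3]
    exact Nat.card_le_card_of_injective _ (hinj u₀ hu₀)
  refine ⟨hfree, ?_, ?_⟩
  · obtain ⟨k, hk⟩ := hA
    have hpos : 0 < Nat.card A := Nat.card_pos
    omega
  · intro h3 u u' hu hu'
    have hbij := (hinj u hu).bijective_of_nat_card_le (by rw [hcard3, h3])
    obtain ⟨α, hα⟩ := hbij.2 ⟨u', hu'⟩
    exact ⟨(α : MulAut V), α.2, congrArg Subtype.val hα⟩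

end KleinAut

end Cfsg.Agent.Lib.Helper7
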