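import Mathlib
import Cfsg.Prelude.Def_Blocks
import Cfsg.Prelude.Def_BlockLocal
import Cfsg.Prelude.Def_BrauerPairs
import Cfsg.Agent.Lib.Helper24.AbelianPairs
import Cfsg.Agent.Lib.Helper24.BlockFusion

/-!
# Fusion of subpairs of a maximal Brauer pair with abelian first component (helper7 library)

* `exists_mem_stabSubgroup_of_conjIdx_eq`: if `(Q', f')` and `(Q, f)` lie below the maximal pair
  `(P, e)` with `P` abelian and `x (Q', f') = (Q, f)` then `c x ∈ N_G(P, e)` for some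
  `c ∈ C_G(Q)`.
* `idx_eq_of_subpairLE_of_fst_eq`: uniqueness of subpairs on the level of indices.
-/

set_option autoImplicit false

namespace Cfsg.Agent.Lib.Helper7

open Cfsg.Agent.Lib.Helper2 Cfsg.Agent.Lib.Helper24
open scoped ComplexConjugate

section Fusion

variable {G : Type*} [Group G] [Fintype G] {p : ℕ} {M : Ideal Cfsg.AlgInt}

/-- uniqueness of subpairs on the level of indices -/
theorem idx_eq_of_subpairLE_of_fst_eq (hM : Cfsg.IsPModular p M) (a₁ a₂ y : Cfsg.BrauerPairIdx G)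
    (hy : Cfsg.IsBrauerPair p M y.1 y.2)
    (h1 : Relation.ReflTransGen (Cfsg.NormalSubpairRel p M) a₁ y)
    (h2 : Relation.ReflTransGen (Cfsg.NormalSubpairRel p M) a₂ y) (h : a₁.1 = a₂.1) :
    a₁ = a₂ := by
  obtain ⟨Q₁, f₁⟩ := a₁
  obtain ⟨Q₂, f₂⟩ := a₂
  obtain ⟨P, e⟩ := y
  simp only at h
  subst h
  have hQP : Q₁ ≤ P := le_of_reflTransGen h1
  rw [subpairLE_unique hM P e hy Q₁ hQP f₁ f₂ h1 h2]

/-- **fusion of subpairs for an abelian defect group is controlled by `N_G(P, e)`** -/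
theorem exists_mem_stabSubgroup_of_conjIdx_eq [Fact p.Prime] (hM : Cfsg.IsPModular p M)
    (B : Set (Cfsg.IrrCharacter G)) (P : Subgroup G)
    (e : Set (Cfsg.IrrCharacter (Subgroup.centralizer (P : Set G))))
    (hmax : Cfsg.IsMaximalBrauerPair p M B P e) (hab : ∀ x ∈ P, ∀ y ∈ P, x * y = y * x)
    (Q Q' : Subgroup G) (f : Set (Cfsg.IrrCharacter (Subgroup.centralizer (Q : Set G))))
    (f' : Set (Cfsg.IrrCharacter (Subgroup.centralizer (Q' : Set G))))
    (hQP : Q ≤ P) (hQ'P : Q' ≤ P) (hf : Cfsg.IsPBlock M f)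
    (hle : Cfsg.SubpairLE p M Q f P e) (hle' : Cfsg.SubpairLE p M Q' f' P e)
    (x : G) (hx : conjIdx x ⟨Q', f'⟩ = ⟨Q, f⟩) :
    ∃ c ∈ Subgroup.centralizer (Q : Set G), c * x ∈ stabSubgroup P e := by
  classical
  haveI : Fintype (Subgroup.centralizer (Q : Set G)) := Fintype.ofFinite _
  have hPe := hmax.1.1
  have hP := hPe.1
  have hB := hmax.1.2.1
  have hQ : IsPGroup p Q := hP.to_le hQP
  have hQf : Cfsg.IsBrauerPairOf p M B Q f :=
    (isBrauerPairOf_iff_of_subpairLE hM hPe ⟨hQ, hf⟩ hle B hB).mp hmax.1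
  have hPC : P ≤ Subgroup.centralizer (Q : Set G) := by
    intro u hu
    rw [Subgroup.mem_centralizer_iff]
    intro q hq
    exact hab q (hQP hq) u hu
  have hPN : P ≤ Subgroup.normalizer (Q : Set G) :=
    hPC.trans (Subgroup.centralizer_le_normalizer _)
  have hPC' : P ≤ Subgroup.centralizer (Q' : Set G) := by
    intro u hu
    rw [Subgroup.mem_centralizer_iff]
    intro q hq
    exact hab q (hQ'P hq) u hu
  have hPN' : P ≤ Subgroup.normalizer (Q' : Set G) :=
    hPC'.trans (Subgroup.centralizer_le_normalizer _)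
  have hns : Cfsg.IsNormalSubpair p M Q f P e := isNormalSubpair_of_subpairLE hM hPe hQP hPN hle
  have hns' : Cfsg.IsNormalSubpair p M Q' f' P e :=
    isNormalSubpair_of_subpairLE hM hPe hQ'P hPN' hle'
  obtain ⟨a, ha1, hapair, halift⟩ := exists_liftIdx_eq Q P hQP hPC f e hns
  have hcardP : Nat.card a.1 = Nat.card P := by
    rw [ha1]
    exact Nat.card_congr (Subgroup.subgroupOfEquivOfLe hPC).toEquiv
  have hamax : Cfsg.IsMaximalBrauerPair p M f a.1 a.2 :=
    isMaximalBrauerPair_of_card_le hM B P e hmax Q f hQf a hapair (le_of_eq hcardP.symm)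
  -- the conjugate pair
  have hnsx := isNormalSubpair_conj x hns'
  have hnsx' : Cfsg.IsNormalSubpair p M Q f (P.map (MulAut.conj x).toMonoidHom)
      (Cfsg.conjBlock P x e) := by
    have h1 : Cfsg.IsNormalSubpair p M (conjIdx x ⟨Q', f'⟩).1 (conjIdx x ⟨Q', f'⟩).2
        (P.map (MulAut.conj x).toMonoidHom) (Cfsg.conjBlock P x e) := hnsx
    rw [hx] at h1
    exact h1
  have hQPx : Q ≤ P.map (MulAut.conj x).toMonoidHom := hnsx'.2.2.1
  have hPxC : P.map (MulAut.conj x).toMonoidHom ≤ Subgroup.centralizer (Q : Set G) := by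
    rintro _ ⟨u, hu, rfl⟩
    rw [Subgroup.mem_centralizer_iff]
    intro q hq
    obtain ⟨v, hv, rfl⟩ := hQPx hq
    rw [← map_mul, ← map_mul, hab v hv u hu]
  obtain ⟨ax, hax1, haxpair, haxlift⟩ :=
    exists_liftIdx_eq Q (P.map (MulAut.conj x).toMonoidHom) hQPx hPxC f (Cfsg.conjBlock P x e) hnsx'
  obtain ⟨c, hc⟩ := exists_conj_subpairLE hM f a.1 ax.1 a.2 ax.2 hamax haxpair
  have hcard : Nat.card ax.1 = Nat.card a.1 := by
    rw [hcardP, hax1, Nat.card_congr (Subgroup.subgroupOfEquivOfLe hPxC).toEquiv,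
      Subgroup.card_map_of_injective (MulAut.conj x).injective]
  have heq : conjIdx c ax = a := by
    apply eq_of_reflTransGen_of_fst_eq hM hc
    apply Subgroup.eq_of_le_of_card_ge (le_of_reflTransGen hc)
    show Nat.card a.1 ≤ Nat.card (ax.1.map (MulAut.conj c).toMonoidHom)
    rw [Subgroup.card_map_of_injective (MulAut.conj c).injective, hcard]
  have h1 : conjIdx (c : G) (conjIdx x ⟨P, e⟩) = ⟨P, e⟩ := by
    have h2 : conjIdx x ⟨P, e⟩ = liftIdx Q ax := haxlift.symm
    rw [h2, conjIdx_liftIdx, heq, halift]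
  rw [conjIdx_mul] at h1
  have hy := mem_stabSubgroup_of_conjIdx_eq_self P e _ h1
  exact ⟨(c : G), c.2, hy⟩

end Fusion

end Cfsg.Agent.Lib.Helper7
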