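import Mathlib

/-!
# `p'`-groups of automorphisms of cyclic `p`-groups (helper7 library)

* `cyclicAut_structure`: a subgroup `A` of `Aut(P)`, `P` a cyclic `p`-group, whose order is prime
  to `p`, is cyclic of order dividing `p - 1` and acts freely on `P \ {1}`.
-/

set_option autoImplicit false

namespace Cfsg.Agent.Lib.Helper7

section CyclicAut

variable {P : Type*} [Group P] [Finite P]

/-- an automorphism of a cyclic group is a power map -/
theorem exists_pow_of_mulAut_cyclic [IsCyclic P] (α : MulAut P) :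
    ∃ k : ℕ, ∀ z : P, α z = z ^ k := by
  obtain ⟨y, hy⟩ := IsCyclic.exists_generator (α := P)
  obtain ⟨k, hk⟩ : ∃ k : ℕ, y ^ k = α y := by
    have h1 := hy (α y)
    rw [← mem_powers_iff_mem_zpowers] at h1
    exact Submonoid.mem_powers_iff _ _ |>.mp h1
  refine ⟨k, fun z => ?_⟩
  have hz := hy z
  rw [Subgroup.mem_zpowers_iff] at hz
  obtain ⟨j, rfl⟩ := hz
  rw [map_zpow, ← hk, ← zpow_natCast, ← zpow_natCast, ← zpow_mul, ← zpow_mul, mul_comm]

/-- iterating a power-map automorphism -/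
theorem mulAut_pow_apply_of_pow (α : MulAut P) (k : ℕ) (hk : ∀ z : P, α z = z ^ k) (j : ℕ)
    (z : P) : (α ^ j) z = z ^ (k ^ j) := by
  induction j generalizing z with
  | zero => simp
  | succ j ih =>
    rw [pow_succ, MulAut.mul_apply, hk, ih, ← pow_mul, pow_succ, mul_comm]

/-- a subgroup `A` of `Aut(P)`, `P` a cyclic `p`-group, whose order is prime to `p`, is cyclic of
order dividing `p - 1` and acts freely on `P \ {1}` -/
theorem cyclicAut_structure (p : ℕ) [hp : Fact p.Prime] [IsCyclic P] (hP : IsPGroup p P)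
    (A : Subgroup (MulAut P)) (hA : Nat.Coprime (Nat.card A) p) :
    IsCyclic A ∧ Nat.card A ∣ p - 1 ∧ ∀ α ∈ A, ∀ x : P, x ≠ 1 → α x = x → α = 1 := by
  obtain ⟨n, hn⟩ := IsPGroup.iff_card.mp hP
  rcases Nat.eq_zero_or_pos n with h0 | hpos
  · -- trivial `P`
    rw [h0, pow_zero] at hn
    haveI : Subsingleton P := (Nat.card_eq_one_iff_unique.mp hn).1
    haveI : Subsingleton (MulAut P) := ⟨fun a b => by ext z; exact Subsingleton.elim _ _⟩
    haveI : Subsingleton A := ⟨fun a b => Subtype.ext (Subsingleton.elim _ _)⟩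
    refine ⟨isCyclic_of_subsingleton, ?_, ?_⟩
    · rw [Nat.card_unique]; exact one_dvd _
    · intro α _ x hx
      exact absurd (Subsingleton.elim x 1) hx
  obtain ⟨m, rfl⟩ : ∃ m, n = m + 1 := ⟨n - 1, by omega⟩
  have hcardAut : Nat.card (MulAut P) = p ^ m * (p - 1) := by
    rw [IsCyclic.card_mulAut, hn, Nat.totient_prime_pow_succ hp.out]
  have hdvd : Nat.card A ∣ p - 1 := by
    have h1 : Nat.card A ∣ p ^ m * (p - 1) := hcardAut ▸ Subgroup.card_subgroup_dvd_card A
    exact (Nat.Coprime.pow_right m hA).dvd_of_dvd_mul_left h1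
  refine ⟨?_, hdvd, ?_⟩
  · by_cases hp2 : p = 2
    · have h1 : Nat.card A = 1 := by
        rw [hp2] at hdvd
        exact Nat.dvd_one.mp hdvd
      haveI : Subsingleton A := (Nat.card_eq_one_iff_unique.mp h1).1
      exact isCyclic_of_subsingleton
    · haveI h1 : IsCyclic (ZMod (Nat.card P))ˣ := by
        rw [hn]
        exact ZMod.isCyclic_units_of_prime_pow p hp.out hp2 (m + 1)
      haveI : IsCyclic (MulAut P) :=
        isCyclic_of_surjective (IsCyclic.mulAutMulEquiv P).symm (MulEquiv.surjective _)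
      infer_instance
  · intro α hα x hx hfix
    obtain ⟨k, hk⟩ := exists_pow_of_mulAut_cyclic α
    have hord : Nat.Coprime (orderOf α) p := by
      have h1 : orderOf α ∣ Nat.card A := by
        have := orderOf_dvd_natCard (⟨α, hα⟩ : A)
        rwa [Subgroup.orderOf_mk] at this
      exact Nat.Coprime.coprime_dvd_left h1 hA
    -- `p ∣ k - 1`
    have hpk : ((p : ℕ) : ℤ) ∣ (k : ℤ) - 1 := by
      have h1 : x ^ ((k : ℤ) - 1) = 1 := by
        rw [zpow_sub, zpow_natCast, zpow_one, ← hk, hfix, mul_inv_cancel]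
      have h2 : (orderOf x : ℤ) ∣ (k : ℤ) - 1 := orderOf_dvd_iff_zpow_eq_one.mpr h1
      obtain ⟨j, hj⟩ := (IsPGroup.iff_orderOf.mp hP) x
      have hj0 : j ≠ 0 := by
        rintro rfl
        rw [pow_zero, orderOf_eq_one_iff] at hj
        exact hx hj
      have h3 : p ∣ orderOf x := hj ▸ dvd_pow_self p hj0
      exact dvd_trans (Int.natCast_dvd_natCast.mpr h3) h2
    have hpow := dvd_sub_pow_of_dvd_sub (R := ℤ) (p := p) (a := (k : ℤ)) (b := 1) hpk m
    rw [one_pow] at hpow
    have hαpow : α ^ (p ^ m) = 1 := by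
      ext z
      rw [mulAut_pow_apply_of_pow α k hk, MulAut.one_apply]
      have h1 : (orderOf z : ℤ) ∣ (k : ℤ) ^ p ^ m - 1 := by
        have h2 : orderOf z ∣ p ^ (m + 1) := hn ▸ orderOf_dvd_natCard z
        have h3 : ((orderOf z : ℕ) : ℤ) ∣ ((p ^ (m + 1) : ℕ) : ℤ) := Int.natCast_dvd_natCast.mpr h2
        rw [Nat.cast_pow] at h3
        exact dvd_trans h3 hpow
      have h2 : z ^ ((k : ℤ) ^ p ^ m - 1) = 1 := orderOf_dvd_iff_zpow_eq_one.mp h1
      rw [zpow_sub, zpow_one, mul_inv_eq_one] at h2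
      rw [← Nat.cast_pow, zpow_natCast] at h2
      exact h2
    have h1 : orderOf α ∣ p ^ m := orderOf_dvd_of_pow_eq_one hαpow
    have h2 : orderOf α = 1 := Nat.Coprime.eq_one_of_dvd (hord.pow_right m) h1
    exact orderOf_eq_one_iff.mp h2

end CyclicAut

end Cfsg.Agent.Lib.Helper7
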