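import Mathlib
import Cfsg.Prelude.Def_Blocks
import Cfsg.Prelude.Def_BlockLocal
import Cfsg.Prelude.Def_BlockRank
import Cfsg.Prelude.Def_BrauerPairs
import Cfsg.Agent.Lib.Helper7.ContribTwo
import Cfsg.Agent.Lib.Helper7.AbelianFusion
import Cfsg.Agent.Lib.Helper7.BrauerCount3
import Cfsg.Agent.S4633
import Cfsg.Agent.S4683
import Cfsg.Agent.S4717
import Cfsg.Agent.S0919

/-!
# Counting the subsections of a `2`-block of defect two (helper7 library)
-/

set_option autoImplicit false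

namespace Cfsg.Agent.Lib.Helper7

open Cfsg.Agent.Lib.Helper2 Cfsg.Agent.Lib.Helper24 Cfsg.Agent.Lib.Helper25
open scoped ComplexConjugate

section Reps

variable {G : Type*} [Group G] [Fintype G]

/-- representatives of the classes of nonidentity `p`-elements -/
theorem exists_pElement_reps (p : ℕ) :
    ∃ X : Finset G, (1 : G) ∉ X ∧ (∀ x ∈ X, ∃ k : ℕ, orderOf x = p ^ k) ∧
      ∀ g : G, (∃ k : ℕ, orderOf g = p ^ k) → g ≠ 1 → ∃! x, x ∈ X ∧ IsConj g x := by
  classical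
  obtain ⟨𝒞, h𝒞⟩ : ∃ 𝒞 : Finset (ConjClasses G), 𝒞 = Finset.univ.filter
      (fun κ => ∃ g : G, ConjClasses.mk g = κ ∧ g ≠ 1 ∧ ∃ k : ℕ, orderOf g = p ^ k) := ⟨_, rfl⟩
  have hord : ∀ a b : G, IsConj a b → orderOf a = orderOf b := by
    intro a b hab
    obtain ⟨c, hc⟩ := isConj_iff.mp hab
    rw [← hc]
    exact ((MulAut.conj c).orderOf_eq a).symm
  have hsurj : ∀ κ : ConjClasses G, ∃ g : G, ConjClasses.mk g = κ := ConjClasses.mk_surjective
  choose rep hout using hsurj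
  refine ⟨𝒞.image rep, ?_, ?_, ?_⟩
  · intro h1
    rw [Finset.mem_image] at h1
    obtain ⟨κ, hκ, hκ1⟩ := h1
    rw [h𝒞, Finset.mem_filter] at hκ
    obtain ⟨_, g, hg, hg1, _⟩ := hκ
    have h2 : ConjClasses.mk (1 : G) = ConjClasses.mk g := by
      rw [← hκ1, hout, hg]
    have h3 := ConjClasses.mk_eq_mk_iff_isConj.mp h2
    exact hg1 (isConj_one_left.mp h3.symm)
  · intro x hx
    rw [Finset.mem_image] at hx
    obtain ⟨κ, hκ, rfl⟩ := hx
    rw [h𝒞, Finset.mem_filter] at hκ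
    obtain ⟨_, g, hg, _, k, hk⟩ := hκ
    have h2 : ConjClasses.mk (rep κ) = ConjClasses.mk g := by rw [hout, hg]
    have h3 := ConjClasses.mk_eq_mk_iff_isConj.mp h2
    exact ⟨k, by rw [hord _ _ h3, hk]⟩
  · intro g hg hg1
    refine ⟨rep (ConjClasses.mk g), ⟨?_, ?_⟩, ?_⟩
    · rw [Finset.mem_image]
      refine ⟨ConjClasses.mk g, ?_, rfl⟩
      rw [h𝒞, Finset.mem_filter]
      exact ⟨Finset.mem_univ _, g, rfl, hg1, hg⟩
    · exact ConjClasses.mk_eq_mk_iff_isConj.mp (hout _).symm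
    · rintro x ⟨hx, hgx⟩
      rw [Finset.mem_image] at hx
      obtain ⟨κ, _, rfl⟩ := hx
      have h2 : ConjClasses.mk g = κ := by
        rw [ConjClasses.mk_eq_mk_iff_isConj.mpr hgx, hout]
      rw [h2]

end Reps

section PerElement

variable {G : Type*} [Group G] [Fintype G] {M : Ideal Cfsg.AlgInt}

/-- transport of the local rank along an equality of subgroups -/
theorem finrank_induced_congr (p : ℕ) (B : Set (Cfsg.IrrCharacter G)) (H K : Subgroup G)
    (hK : H = K) :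
    Module.finrank ℂ (Submodule.span ℂ
      ((fun ψ : Cfsg.IrrCharacter H => Cfsg.pRegularPart p (ψ : H → ℂ)) ''
        {ψ | Cfsg.IsInducedBlock M H (Cfsg.blockOf M (ψ : H → ℂ)) B}))
    = Module.finrank ℂ (Submodule.span ℂ
      ((fun ψ : Cfsg.IrrCharacter K => Cfsg.pRegularPart p (ψ : K → ℂ)) ''
        {ψ | Cfsg.IsInducedBlock M K (Cfsg.blockOf M (ψ : K → ℂ)) B})) := by
  subst hK
  rfl

theorem centralizer_zpowers_eq (x : G) :
    Subgroup.centralizer ({x} : Set G)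
      = Subgroup.centralizer ((Subgroup.zpowers x : Subgroup G) : Set G) := by
  rw [Subgroup.zpowers_eq_closure, Subgroup.centralizer_closure]

theorem isPGroup_zpowers (p : ℕ) [Fact p.Prime] (x : G) (hx : ∃ k : ℕ, orderOf x = p ^ k) :
    IsPGroup p (Subgroup.zpowers x) := by
  obtain ⟨k, hk⟩ := hx
  apply IsPGroup.of_card (n := k)
  rw [Nat.card_zpowers, hk]

/-- Brauer pairs at a cyclic `p`-subgroup are the blocks of the centralizer inducing `B` -/
theorem isBrauerPairOf_zpowers_iff (p : ℕ) [Fact p.Prime] (hM : Cfsg.IsPModular p M)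
    (B : Set (Cfsg.IrrCharacter G)) (x : G) (hx : ∃ k : ℕ, orderOf x = p ^ k)
    (f : Set (Cfsg.IrrCharacter
      (Subgroup.centralizer ((Subgroup.zpowers x : Subgroup G) : Set G)))) :
    Cfsg.IsBrauerPairOf p M B (Subgroup.zpowers x) f ↔
      Cfsg.IsInducedBlock M (Subgroup.centralizer ((Subgroup.zpowers x : Subgroup G) : Set G))
        f B := by
  have hP := isPGroup_zpowers p x hx
  constructor
  · intro hBe
    have hPC : Subgroup.zpowers x
        ≤ Subgroup.centralizer ((Subgroup.zpowers x : Subgroup G) : Set G) := by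
      rw [← centralizer_zpowers_eq, Subgroup.zpowers_le, Subgroup.mem_centralizer_singleton_iff]
    have hdef := Cfsg.Agent.S0919.result p M hM (Subgroup.zpowers x)
      (Subgroup.centralizer ((Subgroup.zpowers x : Subgroup G) : Set G)) hP hPC le_rfl
      (Subgroup.centralizer_le_normalizer _) f hBe.1.2
    exact Cfsg.Agent.S4683.isInducedBlock_of_isBrauerPairOf hM _ B f hBe hdef
  · intro hind
    exact Cfsg.Agent.S4633.isBrauerPairOf_of_isInducedBlock_centralizer p M hM B _ hP f hind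

/-- **the local rank at a nonidentity `2`-element for a `2`-block of defect two is the number of
Brauer pairs at the element** -/
theorem finrank_eq_card_pairs (hM : Cfsg.IsPModular 2 M) (B : Set (Cfsg.IrrCharacter G))
    (hd : Cfsg.blockDefect 2 B ≤ 2) (x : G) (hx1 : x ≠ 1)
    (hx2 : ∃ k : ℕ, orderOf x = 2 ^ k) :
    Module.finrank ℂ (Submodule.span ℂ
      ((fun ψ : Cfsg.IrrCharacter (Subgroup.centralizer ({x} : Set G)) =>
          Cfsg.pRegularPart 2 (ψ : Subgroup.centralizer ({x} : Set G) → ℂ)) ''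
        {ψ | Cfsg.IsInducedBlock M (Subgroup.centralizer ({x} : Set G))
          (Cfsg.blockOf M (ψ : Subgroup.centralizer ({x} : Set G) → ℂ)) B}))
    = Nat.card {f : Set (Cfsg.IrrCharacter
        (Subgroup.centralizer ((Subgroup.zpowers x : Subgroup G) : Set G))) |
        Cfsg.IsBrauerPairOf 2 M B (Subgroup.zpowers x) f} := by
  classical
  haveI : Fact (Nat.Prime 2) := ⟨Nat.prime_two⟩
  rw [finrank_induced_congr 2 B _ _ (centralizer_zpowers_eq x)]
  obtain ⟨K, hK⟩ : ∃ K : Subgroup G,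
      K = Subgroup.centralizer ((Subgroup.zpowers x : Subgroup G) : Set G) := ⟨_, rfl⟩
  haveI : Fintype (Subgroup.centralizer ((Subgroup.zpowers x : Subgroup G) : Set G)) :=
    Fintype.ofFinite _
  haveI : Fintype (Cfsg.IrrCharacter
    (Subgroup.centralizer ((Subgroup.zpowers x : Subgroup G) : Set G))) := Fintype.ofFinite _
  obtain ⟨𝔅, h𝔅⟩ : ∃ 𝔅 : Set (Set (Cfsg.IrrCharacter
      (Subgroup.centralizer ((Subgroup.zpowers x : Subgroup G) : Set G)))),
      𝔅 = {f | Cfsg.IsBrauerPairOf 2 M B (Subgroup.zpowers x) f} := ⟨_, rfl⟩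
  rw [← h𝔅]
  obtain ⟨S, hS⟩ : ∃ S : Finset (Set (Cfsg.IrrCharacter
      (Subgroup.centralizer ((Subgroup.zpowers x : Subgroup G) : Set G)))), (S : Set _) = 𝔅 :=
    ⟨(Set.toFinite 𝔅).toFinset, by simp⟩
  have hmemS : ∀ f, f ∈ S ↔ Cfsg.IsBrauerPairOf 2 M B (Subgroup.zpowers x) f := by
    intro f
    have : f ∈ S ↔ f ∈ (S : Set _) := Iff.rfl
    rw [this, hS, h𝔅]
    rfl
  have hset : {ψ : Cfsg.IrrCharacter
      (Subgroup.centralizer ((Subgroup.zpowers x : Subgroup G) : Set G)) |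
      Cfsg.IsInducedBlock M (Subgroup.centralizer ((Subgroup.zpowers x : Subgroup G) : Set G))
        (Cfsg.blockOf M (ψ : _ → ℂ)) B}
      = {ψ : Cfsg.IrrCharacter
          (Subgroup.centralizer ((Subgroup.zpowers x : Subgroup G) : Set G)) |
        Cfsg.blockOf M (ψ : _ → ℂ) ∈ S} := by
    ext ψ
    simp only [Set.mem_ofPred_eq]
    rw [hmemS, isBrauerPairOf_zpowers_iff 2 hM B x hx2]
  rw [hset, finrank_span_pRegularPart_blocks hM S (fun b hb => ((hmemS b).mp hb).1.2)]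
  have hone : ∀ b ∈ S, Cfsg.blockRank 2 b = 1 := by
    intro b hb
    have hpair := (hmemS b).mp hb
    have hind := (isBrauerPairOf_zpowers_iff 2 hM B x hx2 b).mp hpair
    have hdb : Cfsg.blockDefect 2 b ≤ 2 :=
      (Cfsg.Agent.S4717.blockDefect_le_of_isInducedBlock hM _ b B hind).trans hd
    have hxK : x ∈ Subgroup.centralizer ((Subgroup.zpowers x : Subgroup G) : Set G) := by
      rw [← centralizer_zpowers_eq, Subgroup.mem_centralizer_singleton_iff]
    apply blockRank_eq_one_of_central hM ⟨x, hxK⟩ _ _ _ b hpair.1.2 hdb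
    · rw [Subgroup.mem_center_iff]
      intro k
      apply Subtype.ext
      have := (Subgroup.mem_centralizer_iff.mp k.2) x (Subgroup.mem_zpowers x)
      exact this.symm
    · intro h
      exact hx1 (congrArg Subtype.val h)
    · rw [Subgroup.orderOf_mk]
      exact hx2
  rw [Finset.sum_congr rfl hone, Finset.sum_const, smul_eq_mul, mul_one, ← hS,
    Nat.card_coe_set_eq, Set.ncard_coe_finset]

end PerElement

section Pairs

variable {G : Type*} [Group G] [Fintype G] {p : ℕ} [Fact p.Prime] {M : Ideal Cfsg.AlgInt}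

theorem map_conj_zpowers (g x : G) :
    (Subgroup.zpowers x).map (MulAut.conj g).toMonoidHom = Subgroup.zpowers (g * x * g⁻¹) := by
  rw [MonoidHom.map_zpowers]
  rfl

/-- every Brauer pair at a cyclic subgroup is conjugate below the maximal pair -/
theorem exists_conj_mem_of_pair (hM : Cfsg.IsPModular p M) (B : Set (Cfsg.IrrCharacter G))
    (P : Subgroup G) (e : Set (Cfsg.IrrCharacter (Subgroup.centralizer (P : Set G))))
    (hmax : Cfsg.IsMaximalBrauerPair p M B P e) (x : G)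
    (f : Set (Cfsg.IrrCharacter
      (Subgroup.centralizer ((Subgroup.zpowers x : Subgroup G) : Set G))))
    (hpair : Cfsg.IsBrauerPairOf p M B (Subgroup.zpowers x) f) :
    ∃ g : G, Relation.ReflTransGen (Cfsg.NormalSubpairRel p M)
      (conjIdx g ⟨Subgroup.zpowers x, f⟩) ⟨P, e⟩ ∧ g * x * g⁻¹ ∈ P := by
  obtain ⟨g, hg⟩ := exists_conj_subpairLE hM B P (Subgroup.zpowers x) e f hmax hpair
  refine ⟨g, hg, ?_⟩
  have h1 : (Subgroup.zpowers x).map (MulAut.conj g).toMonoidHom ≤ P := le_of_reflTransGen hg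
  exact h1 ⟨x, Subgroup.mem_zpowers x, rfl⟩

/-- if `N_G(P, e)` is transitive on `P \ {1}` any two Brauer pairs at nonidentity elements are
conjugate -/
theorem exists_conj_pair_of_transitive (hM : Cfsg.IsPModular p M)
    (B : Set (Cfsg.IrrCharacter G))
    (P : Subgroup G) (e : Set (Cfsg.IrrCharacter (Subgroup.centralizer (P : Set G))))
    (hmax : Cfsg.IsMaximalBrauerPair p M B P e)
    (htrans : ∀ u ∈ P, ∀ u' ∈ P, u ≠ 1 → u' ≠ 1 → ∃ t ∈ stabSubgroup P e, t * u * t⁻¹ = u')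
    (x x' : G) (hx1 : x ≠ 1) (hx'1 : x' ≠ 1)
    (f : Set (Cfsg.IrrCharacter
      (Subgroup.centralizer ((Subgroup.zpowers x : Subgroup G) : Set G))))
    (f' : Set (Cfsg.IrrCharacter
      (Subgroup.centralizer ((Subgroup.zpowers x' : Subgroup G) : Set G))))
    (hpair : Cfsg.IsBrauerPairOf p M B (Subgroup.zpowers x) f)
    (hpair' : Cfsg.IsBrauerPairOf p M B (Subgroup.zpowers x') f') :
    ∃ h : G, h * x * h⁻¹ = x' ∧
      conjIdx h ⟨Subgroup.zpowers x, f⟩ = ⟨Subgroup.zpowers x', f'⟩ := by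
  obtain ⟨g, hg, hgP⟩ := exists_conj_mem_of_pair hM B P e hmax x f hpair
  obtain ⟨g', hg', hg'P⟩ := exists_conj_mem_of_pair hM B P e hmax x' f' hpair'
  have hu1 : g * x * g⁻¹ ≠ 1 := by
    intro h
    apply hx1
    have : x = g⁻¹ * (g * x * g⁻¹) * g := by group
    rw [this, h]; group
  have hu'1 : g' * x' * g'⁻¹ ≠ 1 := by
    intro h
    apply hx'1
    have : x' = g'⁻¹ * (g' * x' * g'⁻¹) * g' := by group
    rw [this, h]; group
  obtain ⟨t, ht, htu⟩ := htrans _ hgP _ hg'P hu1 hu'1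
  have hel : (g'⁻¹ * (t * g)) * x * (g'⁻¹ * (t * g))⁻¹ = x' := by
    have e1 : (g'⁻¹ * (t * g)) * x * (g'⁻¹ * (t * g))⁻¹
        = g'⁻¹ * (t * (g * x * g⁻¹) * t⁻¹) * g' := by group
    rw [e1, htu]; group
  refine ⟨g'⁻¹ * (t * g), hel, ?_⟩
  -- the two pairs below `(P, e)`
  have h1 : Relation.ReflTransGen (Cfsg.NormalSubpairRel p M)
      (conjIdx (t * g) ⟨Subgroup.zpowers x, f⟩) ⟨P, e⟩ := by
    rw [← conjIdx_mul]
    exact subpairLE_conj_of_mem_stabSubgroup t ht hg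
  have hfst : (conjIdx (t * g) ⟨Subgroup.zpowers x, f⟩).1
      = (conjIdx g' ⟨Subgroup.zpowers x', f'⟩).1 := by
    show (Subgroup.zpowers x).map (MulAut.conj (t * g)).toMonoidHom
      = (Subgroup.zpowers x').map (MulAut.conj g').toMonoidHom
    rw [map_conj_zpowers, map_conj_zpowers, ← htu]
    congr 1
    group
  have heq := idx_eq_of_subpairLE_of_fst_eq hM _ _ ⟨P, e⟩ hmax.1.1 h1 hg' hfst
  have h2 := congrArg (conjIdx g'⁻¹) heq
  rw [conjIdx_mul, conjIdx_mul, inv_mul_cancel, conjIdx_one] at h2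
  exact h2

/-- if `N_G(P, e) = C_G(P)` then distinct elements of the abelian group `P` give non-conjugate
Brauer pairs -/
theorem eq_of_conjIdx_eq_of_stab_le (hM : Cfsg.IsPModular p M)
    (B : Set (Cfsg.IrrCharacter G))
    (P : Subgroup G) (e : Set (Cfsg.IrrCharacter (Subgroup.centralizer (P : Set G))))
    (hmax : Cfsg.IsMaximalBrauerPair p M B P e) (hab : ∀ x ∈ P, ∀ y ∈ P, x * y = y * x)
    (hT1 : stabSubgroup P e ≤ Subgroup.centralizer (P : Set G))
    (u u' : G) (hu : u ∈ P) (hu' : u' ∈ P)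
    (fu : Set (Cfsg.IrrCharacter
      (Subgroup.centralizer ((Subgroup.zpowers u : Subgroup G) : Set G))))
    (fu' : Set (Cfsg.IrrCharacter
      (Subgroup.centralizer ((Subgroup.zpowers u' : Subgroup G) : Set G))))
    (hle : Cfsg.SubpairLE p M (Subgroup.zpowers u) fu P e)
    (hle' : Cfsg.SubpairLE p M (Subgroup.zpowers u') fu' P e) (hfu' : Cfsg.IsPBlock M fu')
    (g g' : G)
    (hconj : conjIdx g ⟨Subgroup.zpowers u, fu⟩ = conjIdx g' ⟨Subgroup.zpowers u', fu'⟩)
    (hel : g * u * g⁻¹ = g' * u' * g'⁻¹) : u = u' := by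
  have hy : conjIdx (g'⁻¹ * g) ⟨Subgroup.zpowers u, fu⟩ = ⟨Subgroup.zpowers u', fu'⟩ := by
    have h2 := congrArg (conjIdx g'⁻¹) hconj
    rw [conjIdx_mul, conjIdx_mul, inv_mul_cancel, conjIdx_one] at h2
    exact h2
  have hQP : Subgroup.zpowers u ≤ P := by rw [Subgroup.zpowers_le]; exact hu
  have hQ'P : Subgroup.zpowers u' ≤ P := by rw [Subgroup.zpowers_le]; exact hu'
  obtain ⟨c, hc, hcy⟩ := exists_mem_stabSubgroup_of_conjIdx_eq hM B P e hmax hab
    (Subgroup.zpowers u') (Subgroup.zpowers u) fu' fu hQ'P hQP hfu' hle' hle (g'⁻¹ * g) hy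
  have h1 := (Subgroup.mem_centralizer_iff.mp (hT1 hcy)) u hu
  have h2 := (Subgroup.mem_centralizer_iff.mp hc) u' (Subgroup.mem_zpowers u')
  have h3 : (g'⁻¹ * g) * u * (g'⁻¹ * g)⁻¹ = u' := by
    have e1 : (g'⁻¹ * g) * u * (g'⁻¹ * g)⁻¹ = g'⁻¹ * (g * u * g⁻¹) * g' := by group
    rw [e1, hel]; group
  calc u = (c * (g'⁻¹ * g)) * u * (c * (g'⁻¹ * g))⁻¹ := by
        rw [← h1]; group
    _ = c * ((g'⁻¹ * g) * u * (g'⁻¹ * g)⁻¹) * c⁻¹ := by group
    _ = c * u' * c⁻¹ := by rw [h3]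
    _ = u' := by rw [← h2]; group

end Pairs

section Count

variable {G : Type*} [Group G] [Fintype G] {p : ℕ} [Fact p.Prime] {M : Ideal Cfsg.AlgInt}

/-- transitive case: at most one subsection -/
theorem sum_card_pairs_le_one (hM : Cfsg.IsPModular p M) (B : Set (Cfsg.IrrCharacter G))
    (P : Subgroup G) (e : Set (Cfsg.IrrCharacter (Subgroup.centralizer (P : Set G))))
    (hmax : Cfsg.IsMaximalBrauerPair p M B P e)
    (htrans : ∀ u ∈ P, ∀ u' ∈ P, u ≠ 1 → u' ≠ 1 → ∃ t ∈ stabSubgroup P e, t * u * t⁻¹ = u')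
    (X : Finset G) (h1 : (1 : G) ∉ X)
    (hXrep : ∀ g : G, (∃ k : ℕ, orderOf g = p ^ k) → g ≠ 1 → ∃! x, x ∈ X ∧ IsConj g x)
    (hX : ∀ x ∈ X, ∃ k : ℕ, orderOf x = p ^ k) :
    ∑ x ∈ X, Nat.card {f : Set (Cfsg.IrrCharacter
        (Subgroup.centralizer ((Subgroup.zpowers x : Subgroup G) : Set G))) |
        Cfsg.IsBrauerPairOf p M B (Subgroup.zpowers x) f} ≤ 1 := by
  classical
  have hx1 : ∀ x ∈ X, x ≠ 1 := fun x hx h => h1 (h ▸ hx)
  -- (a)
  have ha : ∀ x ∈ X, Nat.card {f : Set (Cfsg.IrrCharacter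
        (Subgroup.centralizer ((Subgroup.zpowers x : Subgroup G) : Set G))) |
        Cfsg.IsBrauerPairOf p M B (Subgroup.zpowers x) f} ≤ 1 := by
    intro x hx
    haveI : Fintype (Subgroup.centralizer ((Subgroup.zpowers x : Subgroup G) : Set G)) :=
      Fintype.ofFinite _
    rw [Finite.card_le_one_iff_subsingleton]
    constructor
    rintro ⟨f, hf⟩ ⟨f', hf'⟩
    apply Subtype.ext
    obtain ⟨h, hh, hconj⟩ := exists_conj_pair_of_transitive hM B P e hmax htrans x x
      (hx1 x hx) (hx1 x hx) f f' hf hf'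
    have hhC : h ∈ Subgroup.centralizer ((Subgroup.zpowers x : Subgroup G) : Set G) := by
      rw [← centralizer_zpowers_eq, Subgroup.mem_centralizer_singleton_iff]
      calc h * x = (h * x * h⁻¹) * h := by group
        _ = x * h := by rw [hh]
    have h2 := conjIdx_eq_self_of_mem_stabSubgroup (Subgroup.zpowers x) f h
      (centralizer_le_stabSubgroup _ f hhC)
    rw [h2] at hconj
    exact eq_of_heq (Sigma.mk.inj hconj).2
  -- (b)
  have hb : ∀ x ∈ X, ∀ x' ∈ X, Nat.card {f : Set (Cfsg.IrrCharacter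
        (Subgroup.centralizer ((Subgroup.zpowers x : Subgroup G) : Set G))) |
        Cfsg.IsBrauerPairOf p M B (Subgroup.zpowers x) f} ≠ 0 →
      Nat.card {f : Set (Cfsg.IrrCharacter
        (Subgroup.centralizer ((Subgroup.zpowers x' : Subgroup G) : Set G))) |
        Cfsg.IsBrauerPairOf p M B (Subgroup.zpowers x') f} ≠ 0 → x' = x := by
    intro x hx x' hx' hc hc'
    haveI : Fintype (Subgroup.centralizer ((Subgroup.zpowers x : Subgroup G) : Set G)) :=
      Fintype.ofFinite _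
    haveI : Fintype (Subgroup.centralizer ((Subgroup.zpowers x' : Subgroup G) : Set G)) :=
      Fintype.ofFinite _
    obtain ⟨⟨f, hf⟩⟩ := (Nat.card_pos_iff.mp (Nat.pos_of_ne_zero hc)).1
    obtain ⟨⟨f', hf'⟩⟩ := (Nat.card_pos_iff.mp (Nat.pos_of_ne_zero hc')).1
    obtain ⟨h, hh, -⟩ := exists_conj_pair_of_transitive hM B P e hmax htrans x x'
      (hx1 x hx) (hx1 x' hx') f f' hf hf'
    have hconj : IsConj x x' := isConj_iff.mpr ⟨h, hh⟩
    obtain ⟨x₀, _, huniq⟩ := hXrep x (hX x hx) (hx1 x hx)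
    rw [huniq x ⟨hx, IsConj.refl x⟩, huniq x' ⟨hx', hconj⟩]
  by_cases hall : ∀ x ∈ X, Nat.card {f : Set (Cfsg.IrrCharacter
        (Subgroup.centralizer ((Subgroup.zpowers x : Subgroup G) : Set G))) |
        Cfsg.IsBrauerPairOf p M B (Subgroup.zpowers x) f} = 0
  · rw [Finset.sum_eq_zero hall]
    exact Nat.zero_le 1
  · push Not at hall
    obtain ⟨x₀, hx₀, hc₀⟩ := hall
    rw [Finset.sum_eq_single_of_mem x₀ hx₀]
    · exact ha x₀ hx₀
    · intro x hx hne
      by_contra hc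
      exact hne (hb x₀ hx₀ x hx hc₀ hc)

/-- trivial inertial quotient: at least `|P| - 1` subsections (here for `|P| = 4`) -/
theorem three_le_sum_card_pairs (hM : Cfsg.IsPModular p M) (B : Set (Cfsg.IrrCharacter G))
    (P : Subgroup G) (e : Set (Cfsg.IrrCharacter (Subgroup.centralizer (P : Set G))))
    (hmax : Cfsg.IsMaximalBrauerPair p M B P e) (hab : ∀ x ∈ P, ∀ y ∈ P, x * y = y * x)
    (hT1 : stabSubgroup P e ≤ Subgroup.centralizer (P : Set G)) (hcard : Nat.card P = 4)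
    (X : Finset G)
    (hXrep : ∀ g : G, (∃ k : ℕ, orderOf g = p ^ k) → g ≠ 1 → ∃! x, x ∈ X ∧ IsConj g x) :
    3 ≤ ∑ x ∈ X, Nat.card {f : Set (Cfsg.IrrCharacter
        (Subgroup.centralizer ((Subgroup.zpowers x : Subgroup G) : Set G))) |
        Cfsg.IsBrauerPairOf p M B (Subgroup.zpowers x) f} := by
  classical
  haveI : Fintype P := Fintype.ofFinite _
  have hPe := hmax.1.1
  have hB := hmax.1.2.1
  have hsum : ∑ x ∈ X, Nat.card {f : Set (Cfsg.IrrCharacter
        (Subgroup.centralizer ((Subgroup.zpowers x : Subgroup G) : Set G))) |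
        Cfsg.IsBrauerPairOf p M B (Subgroup.zpowers x) f}
      = Nat.card (Σ x : {x // x ∈ X}, {f : Set (Cfsg.IrrCharacter
        (Subgroup.centralizer ((Subgroup.zpowers (x : G) : Subgroup G) : Set G))) //
        Cfsg.IsBrauerPairOf p M B (Subgroup.zpowers (x : G)) f}) := by
    rw [Nat.card_sigma, ← Finset.sum_coe_sort]
    rfl
  rw [hsum]
  have hcard3 : Nat.card {u : P // u ≠ 1} = 3 := by
    rw [Nat.card_eq_fintype_card, Fintype.card_subtype_compl (fun v : P => v = 1),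
      Fintype.card_subtype_eq, ← Nat.card_eq_fintype_card, hcard]
  have hex : ∀ u : {u : P // u ≠ 1}, ∃ (a : Σ x : {x // x ∈ X}, {f : Set (Cfsg.IrrCharacter
        (Subgroup.centralizer ((Subgroup.zpowers (x : G) : Subgroup G) : Set G))) //
        Cfsg.IsBrauerPairOf p M B (Subgroup.zpowers (x : G)) f}) (g : G)
      (fu : Set (Cfsg.IrrCharacter
        (Subgroup.centralizer ((Subgroup.zpowers ((u : P) : G) : Subgroup G) : Set G)))),
      Cfsg.IsPBlock M fu ∧ Cfsg.SubpairLE p M (Subgroup.zpowers ((u : P) : G)) fu P e ∧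
        g * ((u : P) : G) * g⁻¹ = (a.1 : G) ∧
        conjIdx g ⟨Subgroup.zpowers ((u : P) : G), fu⟩
          = ⟨Subgroup.zpowers (a.1 : G), a.2.1⟩ := by
    rintro ⟨u, hu⟩
    have hu1 : (u : G) ≠ 1 := fun h => hu (Subtype.ext h)
    have hu2 : ∃ k : ℕ, orderOf (u : G) = p ^ k := by
      obtain ⟨k, hk⟩ := (IsPGroup.iff_orderOf.mp hPe.1) u
      exact ⟨k, by rw [Subgroup.orderOf_coe, hk]⟩
    obtain ⟨x, ⟨hxX, hux⟩, _⟩ := hXrep u hu2 hu1
    obtain ⟨g, hg⟩ := isConj_iff.mp hux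
    have hQP : Subgroup.zpowers (u : G) ≤ P := by
      rw [Subgroup.zpowers_le]; exact u.2
    obtain ⟨fu, hfu, hle⟩ := exists_subpairLE hM P e hPe (Subgroup.zpowers (u : G)) hQP
    have hpairu : Cfsg.IsBrauerPairOf p M B (Subgroup.zpowers (u : G)) fu :=
      (isBrauerPairOf_iff_of_subpairLE hM hPe ⟨hPe.1.to_le hQP, hfu⟩ hle B hB).mp hmax.1
    have hconjpair := isBrauerPairOf_conj (p := p) (M := M) g hpairu
    have hQeq : (Subgroup.zpowers (u : G)).map (MulAut.conj g).toMonoidHom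
        = Subgroup.zpowers x := by
      rw [map_conj_zpowers, hg]
    obtain ⟨f', hf'⟩ := exists_idx_eq hQeq (Cfsg.conjBlock (Subgroup.zpowers (u : G)) g fu)
    have hf'pair : Cfsg.IsBrauerPairOf p M B (Subgroup.zpowers x) f' := by
      have h0 : Cfsg.IsBrauerPairOf p M B
          (⟨Subgroup.zpowers x, f'⟩ : Cfsg.BrauerPairIdx G).1
          (⟨Subgroup.zpowers x, f'⟩ : Cfsg.BrauerPairIdx G).2 := hf' ▸ hconjpair
      exact h0
    exact ⟨⟨⟨x, hxX⟩, ⟨f', hf'pair⟩⟩, g, fu, hfu, hle, hg, hf'⟩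
  choose Φ gΦ fΦ h1 h2 h3 h4 using hex
  have hinj : Function.Injective Φ := by
    intro u u' huu
    have hx : ((Φ u).1 : G) = ((Φ u').1 : G) := by rw [huu]
    have hidx : (⟨Subgroup.zpowers ((Φ u).1 : G), (Φ u).2.1⟩ : Cfsg.BrauerPairIdx G)
        = ⟨Subgroup.zpowers ((Φ u').1 : G), (Φ u').2.1⟩ := by rw [huu]
    have hconj : conjIdx (gΦ u) ⟨Subgroup.zpowers ((u : P) : G), fΦ u⟩
        = conjIdx (gΦ u') ⟨Subgroup.zpowers ((u' : P) : G), fΦ u'⟩ := by
      rw [h4 u, h4 u', hidx]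
    have hel : gΦ u * ((u : P) : G) * (gΦ u)⁻¹ = gΦ u' * ((u' : P) : G) * (gΦ u')⁻¹ := by
      rw [h3 u, h3 u', hx]
    have := eq_of_conjIdx_eq_of_stab_le hM B P e hmax hab hT1 _ _ (u : P).2 (u' : P).2
      (fΦ u) (fΦ u') (h2 u) (h2 u') (h1 u') (gΦ u) (gΦ u') hconj hel
    exact Subtype.ext (Subtype.ext this)
  rw [← hcard3]
  exact Nat.card_le_card_of_injective Φ hinj

end Count

end Cfsg.Agent.Lib.Helper7
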