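import Mathlib
import Cfsg.Agent.Lib.Helper7.BrauerCount3
import Cfsg.Agent.Lib.Helper7.SectionPrincipal
import Cfsg.Agent.Lib.Helper24.Transport
import Cfsg.Agent.Lib.Helper24.PrincipalPairs
import Cfsg.Agent.Lib.Helper24.MaxPairs
import Cfsg.Agent.S4637
import Cfsg.Agent.S0919
import Cfsg.Agent.S0936

/-!
# Counting the principal block: `k(B₀) = l(B₀) + ∑ l(B₀(C_G(x)))`
-/

set_option autoImplicit false
open Cfsg
open Cfsg.Agent.Lib.Helper2 Cfsg.Agent.Lib.Helper24

namespace Cfsg.Agent.Lib.Helper7

section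

variable {G : Type*} [Group G] [Fintype G] {p : ℕ} [Fact p.Prime] {M : Ideal Cfsg.AlgInt}

/-- **Brauer's count for the principal block** -/
theorem card_principalBlock_eq (hM : Cfsg.IsPModular p M) (X : Finset G) (h1 : (1 : G) ∉ X)
    (hX : ∀ x ∈ X, ∃ k : ℕ, orderOf x = p ^ k)
    (hXrep : ∀ g : G, (∃ k : ℕ, orderOf g = p ^ k) → g ≠ 1 → ∃! x, x ∈ X ∧ IsConj g x) :
    Nat.card (Cfsg.principalBlock M G) = Cfsg.blockRank p (Cfsg.principalBlock M G)
      + ∑ x ∈ X, Cfsg.blockRank p
          (Cfsg.principalBlock M (Subgroup.centralizer ({x} : Set G))) := by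
  classical
  rw [card_eq_blockRank_add hM _ isPBlock_principalBlock X h1 hX hXrep]
  congr 1
  apply Finset.sum_congr rfl
  intro x hx
  unfold Cfsg.blockRank
  have hset : {ψ : Cfsg.IrrCharacter (Subgroup.centralizer ({x} : Set G)) |
      Cfsg.IsInducedBlock M (Subgroup.centralizer ({x} : Set G))
        (Cfsg.blockOf M (ψ : Subgroup.centralizer ({x} : Set G) → ℂ)) (Cfsg.principalBlock M G)}
      = Cfsg.principalBlock M (Subgroup.centralizer ({x} : Set G)) := by
    ext ψ
    exact isInducedBlock_principal_iff hM x (hX x hx) ψ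
  rw [hset]

end

section Transport

variable {K K' : Type*} [Group K] [Group K'] [Finite K] [Finite K'] (φ : K ≃* K')

omit [Finite K] [Finite K'] in
theorem pRegularPart_comp_symm (p : ℕ) (f : K → ℂ) :
    Cfsg.pRegularPart p (f ∘ φ.symm) = (Cfsg.pRegularPart p f) ∘ φ.symm := by
  funext k'
  have ho : orderOf (φ.symm k') = orderOf k' := MulEquiv.orderOf_eq φ.symm k'
  by_cases h : p ∣ orderOf k'
  · rw [Cfsg.Agent.Lib.Helper24.pRegularPart_of_singular _ h, Function.comp_apply,
      Cfsg.Agent.Lib.Helper24.pRegularPart_of_singular _ (by rw [ho]; exact h)]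
  · rw [Cfsg.Agent.Lib.Helper24.pRegularPart_of_regular _ h, Function.comp_apply,
      Function.comp_apply,
      Cfsg.Agent.Lib.Helper24.pRegularPart_of_regular _ (by rw [ho]; exact h)]

/-- the block rank is invariant under transport along an isomorphism -/
theorem blockRank_image_irrMap (p : ℕ) (f : Set (Cfsg.IrrCharacter K)) :
    Cfsg.blockRank p (irrMap φ '' f) = Cfsg.blockRank p f := by
  unfold Cfsg.blockRank
  have hmap : Submodule.span ℂ ((fun χ : Cfsg.IrrCharacter K' =>
        Cfsg.pRegularPart p (χ : K' → ℂ)) '' (irrMap φ '' f))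
      = (Submodule.span ℂ ((fun χ : Cfsg.IrrCharacter K =>
        Cfsg.pRegularPart p (χ : K → ℂ)) '' f)).map
        (LinearEquiv.funCongrLeft ℂ ℂ φ.symm.toEquiv : (K → ℂ) ≃ₗ[ℂ] (K' → ℂ)).toLinearMap := by
    rw [Submodule.map_span, Set.image_image, Set.image_image]
    congr 1
    apply Set.image_congr
    intro χ _
    show Cfsg.pRegularPart p ((χ : K → ℂ) ∘ φ.symm) = _
    rw [pRegularPart_comp_symm]
    rfl
  rw [hmap]
  exact LinearEquiv.finrank_map_eq _ _

theorem principalBlock_eq_image_irrMap (M : Ideal Cfsg.AlgInt) :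
    Cfsg.principalBlock M K' = irrMap φ '' Cfsg.principalBlock M K := by
  have h := blockOf_irrMap (M := M) φ (trivIrr K)
  exact h

include φ in
/-- the rank of the principal block is invariant under isomorphism -/
theorem blockRank_principalBlock_congr (p : ℕ) (M : Ideal Cfsg.AlgInt) :
    Cfsg.blockRank p (Cfsg.principalBlock M K') = Cfsg.blockRank p (Cfsg.principalBlock M K) := by
  rw [principalBlock_eq_image_irrMap φ M, blockRank_image_irrMap]

end Transport

section KleinFour

variable {H : Type*} [Group H] [Finite H] {M : Ideal Cfsg.AlgInt}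

/-- **a group with a Klein four Sylow `2`-subgroup on which its normalizer acts non-trivially**:
the principal block has three Brauer characters and the involutions of the Sylow subgroup are
fused -/
theorem kleinFour_principal (hM : Cfsg.IsPModular 2 M) (P : Sylow 2 H)
    (hV : IsKleinFour (P : Subgroup H))
    (hN : ¬ (Subgroup.normalizer ((P : Subgroup H) : Set H)
      ≤ Subgroup.centralizer ((P : Subgroup H) : Set H))) :
    Cfsg.blockRank 2 (Cfsg.principalBlock M H) = 3 ∧
      ∀ u ∈ (P : Subgroup H), ∀ u' ∈ (P : Subgroup H), u ≠ 1 → u' ≠ 1 →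
        ∃ t : H, t * u * t⁻¹ = u' := by
  classical
  letI : Fintype H := Fintype.ofFinite H
  have hP : IsPGroup 2 (P : Subgroup H) := P.isPGroup'
  have hab : ∀ x ∈ (P : Subgroup H), ∀ y ∈ (P : Subgroup H), x * y = y * x := by
    intro x hx y hy
    have h1 : (⟨x, hx⟩ : (P : Subgroup H)) * ⟨y, hy⟩ = ⟨y, hy⟩ * ⟨x, hx⟩ :=
      mul_comm_of_exponent_two IsKleinFour.exponent_two _ _
    exact congrArg Subtype.val h1
  have hPC : (P : Subgroup H) ≤ Subgroup.centralizer ((P : Subgroup H) : Set H) := by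
    intro u hu
    rw [Subgroup.mem_centralizer_iff]
    intro q hq
    exact hab q hq u hu
  obtain ⟨c, hcdef⟩ : ∃ c, c = Cfsg.principalBlock M
    (Subgroup.centralizer ((P : Subgroup H) : Set H)) := ⟨_, rfl⟩
  have hdef : Cfsg.InducedBlockDefined M (Subgroup.centralizer ((P : Subgroup H) : Set H)) c := by
    rw [hcdef]
    exact Cfsg.Agent.S0919.result 2 M hM (P : Subgroup H) _ hP hPC le_rfl
      (Subgroup.centralizer_le_normalizer _) _ isPBlock_principalBlock
  have hc : Cfsg.IsInducedBlock M (Subgroup.centralizer ((P : Subgroup H) : Set H)) c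
      (Cfsg.principalBlock M H) :=
    (Cfsg.Agent.S0936.result 2 M hM _ c hdef).mpr hcdef
  have hmax : Cfsg.IsMaximalBrauerPair 2 M (Cfsg.principalBlock M H) (P : Subgroup H) c := by
    rw [hcdef]; exact isMaximalBrauerPair_principal hM P
  have hPD : Cfsg.IsDefectGroup 2 M (Cfsg.principalBlock M H) (P : Subgroup H) :=
    isDefectGroup_of_isMaximalBrauerPair (P : Subgroup H) c hM _ hmax
  obtain ⟨h13, -, hrank⟩ := Cfsg.Agent.S4637.result M hM (Cfsg.principalBlock M H)
    isPBlock_principalBlock (P : Subgroup H) hPD hV c hc (stabSubgroup (P : Subgroup H) c)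
    (mem_stabSubgroup (P : Subgroup H) c) _ rfl
  -- the normalizer stabilizes the principal block
  have hNT : Subgroup.normalizer ((P : Subgroup H) : Set H) ≤ stabSubgroup (P : Subgroup H) c := by
    intro g hg
    rw [mem_stabSubgroup]
    refine ⟨hg, ?_⟩
    rw [hcdef]
    apply stabilizesBlock_principalBlock
    rw [Subgroup.mem_normalizer_iff]
    have hconj : ∀ g : H, g ∈ Subgroup.normalizer ((P : Subgroup H) : Set H) →
        ∀ x, x ∈ Subgroup.centralizer ((P : Subgroup H) : Set H) →
        g * x * g⁻¹ ∈ Subgroup.centralizer ((P : Subgroup H) : Set H) := by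
      intro g hg x hx
      rw [Subgroup.mem_centralizer_iff]
      intro q hq
      have hq' : g⁻¹ * q * g ∈ (P : Subgroup H) := by
        have := (Subgroup.mem_normalizer_iff.mp (Subgroup.inv_mem _ hg) q).mp hq
        rwa [inv_inv] at this
      have h1 := (Subgroup.mem_centralizer_iff.mp hx) _ hq'
      have e1 : q * (g * x * g⁻¹) = g * ((g⁻¹ * q * g) * x) * g⁻¹ := by group
      have e2 : g * x * g⁻¹ * q = g * (x * (g⁻¹ * q * g)) * g⁻¹ := by group
      rw [e1, e2, h1]
    intro x
    constructor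
    · exact hconj g hg x
    · intro hx
      have := hconj g⁻¹ (Subgroup.inv_mem _ hg) _ hx
      have e1 : g⁻¹ * (g * x * g⁻¹) * g⁻¹⁻¹ = x := by group
      rwa [e1] at this
  have h3 : (Subgroup.centralizer ((P : Subgroup H) : Set H)).relIndex
      (stabSubgroup (P : Subgroup H) c) = 3 := by
    rcases h13 with h1 | h3
    · exfalso
      apply hN
      exact hNT.trans (Subgroup.relIndex_eq_one.mp h1)
    · exact h3
  refine ⟨by rw [hrank, h3], ?_⟩
  obtain ⟨φ, hφapp, -, hrange⟩ := exists_stabConjHom (P : Subgroup H) c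
  rw [h3] at hrange
  have hodd : Odd (Nat.card φ.range) := by rw [hrange]; decide
  obtain ⟨-, -, htransA⟩ := kleinFour_odd_aut φ.range hodd
  intro u hu u' hu' hu1 hu'1
  obtain ⟨α, ⟨t, rfl⟩, hα⟩ := htransA hrange ⟨u, hu⟩ ⟨u', hu'⟩
    (fun h => hu1 (congrArg Subtype.val h)) (fun h => hu'1 (congrArg Subtype.val h))
  refine ⟨t, ?_⟩
  have := hφapp t ⟨u, hu⟩
  rw [hα] at this
  exact this.symm

end KleinFour

end Cfsg.Agent.Lib.Helper7
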