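import Mathlib
import Cfsg.Agent.S0939
import Cfsg.Agent.Lib.Helper25.NormalComplementSum
import Cfsg.Agent.Lib.Helper25.ClassMult
import Cfsg.Agent.Lib.Helper7.SectionPrincipal
import Cfsg.Agent.Lib.Helper2.Expansion

/-!
# The principal block part of a class function on a section with `p`-nilpotent centralizer

If `z` is a `p`-element whose centralizer `C` has a normal `p`-complement `O`, then for every class
function `Θ` of `G`:  `∑_{χ ∈ B₀} ⟨Θ, χ⟩ χ(z) = |O|⁻¹ ∑_{c ∈ O} Θ(z c)`.
-/

set_option autoImplicit false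
open scoped ComplexConjugate
open Cfsg
open Cfsg.Agent.Lib.Helper2 Cfsg.Agent.Lib.Helper24 Cfsg.Agent.Lib.Helper25

namespace Cfsg.Agent.Lib.Helper7

section Kernel

variable {G : Type*} [Group G] [Finite G]

/-- the regular character of `G/N`, written with the characters of `G` trivial on `N` -/
theorem sum_degree_mul_kernel_ge (N : Subgroup G) [N.Normal] (c : G)
    [Fintype (Cfsg.IrrCharacter G)]
    [DecidablePred (fun χ : Cfsg.IrrCharacter G => ∀ n ∈ N, (χ : G → ℂ) n = (χ : G → ℂ) 1)]
    [Decidable (c ∈ N)] :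
    ∑ ψ : Cfsg.IrrCharacter G, (if (∀ n ∈ N, (ψ : G → ℂ) n = (ψ : G → ℂ) 1)
        then (ψ : G → ℂ) 1 * (ψ : G → ℂ) c else 0)
      = if c ∈ N then (N.index : ℂ) else 0 := by
  classical
  haveI := Fintype.ofFinite G
  haveI : Fintype (G ⧸ N) := Fintype.ofFinite _
  haveI : Fintype (Cfsg.IrrCharacter (G ⧸ N)) := Fintype.ofFinite _
  have himg : {χ : Cfsg.IrrCharacter G | ∀ n ∈ N, (χ : G → ℂ) n = (χ : G → ℂ) 1} =
      Set.range (inflIrr N) := by
    ext χ
    constructor
    · intro hχ
      obtain ⟨ψ, hψ, hχψ⟩ := exists_deflation N χ.2 hχ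
      refine ⟨⟨ψ, hψ⟩, ?_⟩
      apply Subtype.ext
      funext g
      rw [inflIrr_apply]
      exact (hχψ g).symm
    · rintro ⟨ψ, rfl⟩ n hn
      rw [inflIrr_apply, inflIrr_apply, QuotientGroup.mk_one, (QuotientGroup.eq_one_iff n).2 hn]
  have h1 : ∑ ψ : Cfsg.IrrCharacter G, (if (∀ n ∈ N, (ψ : G → ℂ) n = (ψ : G → ℂ) 1)
        then (ψ : G → ℂ) 1 * (ψ : G → ℂ) c else 0)
      = ∑ᶠ ψ ∈ {χ : Cfsg.IrrCharacter G | ∀ n ∈ N, (χ : G → ℂ) n = (χ : G → ℂ) 1},
          (ψ : G → ℂ) 1 * (ψ : G → ℂ) c := by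
    rw [finsum_mem_eq_sum_ite]
    apply Finset.sum_congr rfl
    intro ψ _
    rfl
  rw [h1, himg, ← Set.image_univ, finsum_mem_image (fun a _ b _ h => inflIrr_injective N h),
    finsum_mem_univ, finsum_eq_sum_of_fintype]
  have h2 := regular_char_sum (G := G ⧸ N) ((c : G) : G ⧸ N)
  have h3 : ∑ ψ : Cfsg.IrrCharacter (G ⧸ N), (inflIrr N ψ : G → ℂ) 1 * (inflIrr N ψ : G → ℂ) c
      = ∑ χ : Cfsg.IrrCharacter (G ⧸ N), (χ : G ⧸ N → ℂ) 1 * (χ : G ⧸ N → ℂ) ((c : G) : G ⧸ N) := by
    apply Finset.sum_congr rfl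
    intro ψ _
    rw [inflIrr_apply, inflIrr_apply, QuotientGroup.mk_one]
  rw [h3, h2]
  by_cases hc : c ∈ N
  · rw [if_pos hc, if_pos ((QuotientGroup.eq_one_iff c).mpr hc), Subgroup.index_eq_card]
  · rw [if_neg hc, if_neg (fun h => hc ((QuotientGroup.eq_one_iff c).mp h))]

end Kernel

section Average

variable {G : Type*} [Group G] [Fintype G] {p : ℕ} [Fact p.Prime] {M : Ideal Cfsg.AlgInt}

/-- **the principal block part of a class function on a section whose centralizer has a normal
`p`-complement** -/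
theorem principal_section_average (hM : Cfsg.IsPModular p M) (z : G)
    (hz : ∃ k : ℕ, orderOf z = p ^ k)
    (hnc : ∃ k : ℕ, (Cfsg.pPrimeCore p (Subgroup.centralizer ({z} : Set G))).index = p ^ k)
    (Θ : G → ℂ) (hΘ : Cfsg.IsClassFunction G Θ)
    [Fintype (Cfsg.IrrCharacter G)] [DecidablePred (· ∈ Cfsg.principalBlock M G)]
    [Fintype (Subgroup.centralizer ({z} : Set G))]
    [DecidablePred (· ∈ Cfsg.pPrimeCore p (Subgroup.centralizer ({z} : Set G)))] :
    ∑ χ : Cfsg.IrrCharacter G, (if χ ∈ Cfsg.principalBlock M G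
        then Cfsg.classInner Θ (χ : G → ℂ) * (χ : G → ℂ) z else 0)
      = (Nat.card (Cfsg.pPrimeCore p (Subgroup.centralizer ({z} : Set G))) : ℂ)⁻¹ *
        ∑ c : Subgroup.centralizer ({z} : Set G),
          (if c ∈ Cfsg.pPrimeCore p (Subgroup.centralizer ({z} : Set G))
            then Θ (z * (c : G)) else 0) := by
  classical
  haveI : Fintype (Cfsg.IrrCharacter (Subgroup.centralizer ({z} : Set G))) := Fintype.ofFinite _
  obtain ⟨C, hC⟩ : ∃ C, C = Subgroup.centralizer ({z} : Set G) := ⟨_, rfl⟩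
  haveI hOn : (Cfsg.pPrimeCore p (Subgroup.centralizer ({z} : Set G))).Normal :=
    Cfsg.Agent.Lib.Helper1.pPrimeCore_normal p
  have hB0C := Cfsg.Agent.S0939.result p M hM (G := Subgroup.centralizer ({z} : Set G)) hnc
  have hp : p.Prime := Fact.out
  have h1reg : ¬ p ∣ orderOf (1 : Subgroup.centralizer ({z} : Set G)) := by
    rw [orderOf_one]
    intro h3
    exact hp.one_lt.ne' (Nat.dvd_one.mp h3)
  -- expansion of `Θ`
  have hexp := Cfsg.Agent.Lib.Helper25.classFunction_expansion Θ hΘ
  have hΘz : ∀ c : Subgroup.centralizer ({z} : Set G), Θ (z * (c : G))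
      = ∑ χ : Cfsg.IrrCharacter G, Cfsg.classInner Θ (χ : G → ℂ) * (χ : G → ℂ) (z * (c : G)) :=
    fun c => hexp _
  -- each character
  have hχ : ∀ χ : Cfsg.IrrCharacter G,
      (if χ ∈ Cfsg.principalBlock M G then (χ : G → ℂ) z else 0)
      = ∑ ψ : Cfsg.IrrCharacter (Subgroup.centralizer ({z} : Set G)),
        (if ψ ∈ Cfsg.principalBlock M (Subgroup.centralizer ({z} : Set G))
          then Cfsg.classInner
              (fun c : Subgroup.centralizer ({z} : Set G) => (χ : G → ℂ) (z * (c : G)))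
              (ψ : Subgroup.centralizer ({z} : Set G) → ℂ)
            * (ψ : Subgroup.centralizer ({z} : Set G) → ℂ) 1 else 0) := by
    intro χ
    have h := section_expansion hM z hz _ isPBlock_principalBlock χ
      (1 : Subgroup.centralizer ({z} : Set G)) h1reg
    rw [Subgroup.coe_one, mul_one] at h
    rw [← h]
    apply Finset.sum_congr rfl
    intro ψ _
    by_cases hψ : ψ ∈ Cfsg.principalBlock M (Subgroup.centralizer ({z} : Set G))
    · rw [if_pos hψ, if_pos ((isInducedBlock_principal_iff hM z hz ψ).mpr hψ)]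
    · rw [if_neg hψ, if_neg (fun h => hψ ((isInducedBlock_principal_iff hM z hz ψ).mp h))]
  have hLHS : ∑ χ : Cfsg.IrrCharacter G, (if χ ∈ Cfsg.principalBlock M G
        then Cfsg.classInner Θ (χ : G → ℂ) * (χ : G → ℂ) z else 0)
      = ∑ ψ : Cfsg.IrrCharacter (Subgroup.centralizer ({z} : Set G)),
        (if ψ ∈ Cfsg.principalBlock M (Subgroup.centralizer ({z} : Set G))
          then Cfsg.classInner
              (fun c : Subgroup.centralizer ({z} : Set G) => Θ (z * (c : G)))
              (ψ : Subgroup.centralizer ({z} : Set G) → ℂ)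
            * (ψ : Subgroup.centralizer ({z} : Set G) → ℂ) 1 else 0) := by
    have e1 : ∀ χ : Cfsg.IrrCharacter G, (if χ ∈ Cfsg.principalBlock M G
        then Cfsg.classInner Θ (χ : G → ℂ) * (χ : G → ℂ) z else 0)
        = Cfsg.classInner Θ (χ : G → ℂ) *
          (if χ ∈ Cfsg.principalBlock M G then (χ : G → ℂ) z else 0) := by
      intro χ
      split_ifs
      · rfl
      · rw [mul_zero]
    simp_rw [e1, hχ, Finset.mul_sum]
    rw [Finset.sum_comm]
    apply Finset.sum_congr rfl
    intro ψ _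
    by_cases hψ : ψ ∈ Cfsg.principalBlock M (Subgroup.centralizer ({z} : Set G))
    · simp only [if_pos hψ]
      have e2 : (fun c : Subgroup.centralizer ({z} : Set G) => Θ (z * (c : G)))
          = ∑ χ : Cfsg.IrrCharacter G, Cfsg.classInner Θ (χ : G → ℂ) •
            (fun c : Subgroup.centralizer ({z} : Set G) => (χ : G → ℂ) (z * (c : G))) := by
        funext c
        rw [hΘz c, Finset.sum_apply]
        apply Finset.sum_congr rfl
        intro χ _
        rw [Pi.smul_apply, smul_eq_mul]
      rw [e2, Cfsg.Agent.Lib.Helper25.classInner_sum_left, Finset.sum_mul]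
      apply Finset.sum_congr rfl
      intro χ _
      ring
    · simp only [if_neg hψ, mul_zero, Finset.sum_const_zero]
  rw [hLHS]
  -- now the regular character of `C/O`
  have hreg : ∀ c : Subgroup.centralizer ({z} : Set G),
      ∑ ψ : Cfsg.IrrCharacter (Subgroup.centralizer ({z} : Set G)),
        (if ψ ∈ Cfsg.principalBlock M (Subgroup.centralizer ({z} : Set G))
          then conj ((ψ : Subgroup.centralizer ({z} : Set G) → ℂ) c)
            * (ψ : Subgroup.centralizer ({z} : Set G) → ℂ) 1 else 0)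
      = if c ∈ Cfsg.pPrimeCore p (Subgroup.centralizer ({z} : Set G))
          then ((Cfsg.pPrimeCore p (Subgroup.centralizer ({z} : Set G))).index : ℂ) else 0 := by
    intro c
    have h := sum_degree_mul_kernel_ge (Cfsg.pPrimeCore p (Subgroup.centralizer ({z} : Set G))) c
    have h2 := congrArg conj h
    rw [map_sum] at h2
    have h3 : conj (if c ∈ Cfsg.pPrimeCore p (Subgroup.centralizer ({z} : Set G))
          then ((Cfsg.pPrimeCore p (Subgroup.centralizer ({z} : Set G))).index : ℂ) else 0)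
        = if c ∈ Cfsg.pPrimeCore p (Subgroup.centralizer ({z} : Set G))
          then ((Cfsg.pPrimeCore p (Subgroup.centralizer ({z} : Set G))).index : ℂ) else 0 := by
      split_ifs
      · rw [Complex.conj_natCast]
      · rw [map_zero]
    rw [h3] at h2
    rw [← h2]
    apply Finset.sum_congr rfl
    intro ψ _
    have hmem : ψ ∈ Cfsg.principalBlock M (Subgroup.centralizer ({z} : Set G))
        ↔ ∀ n ∈ Cfsg.pPrimeCore p (Subgroup.centralizer ({z} : Set G)),
          (ψ : Subgroup.centralizer ({z} : Set G) → ℂ) n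
            = (ψ : Subgroup.centralizer ({z} : Set G) → ℂ) 1 := by
      rw [hB0C]; rfl
    obtain ⟨n, hn⟩ := char_one_eq (isCharacter_of_irr ψ.2)
    by_cases hψ : ψ ∈ Cfsg.principalBlock M (Subgroup.centralizer ({z} : Set G))
    · rw [if_pos hψ, if_pos (hmem.mp hψ), map_mul, hn, Complex.conj_natCast]
      ring
    · rw [if_neg hψ, if_neg (fun h => hψ (hmem.mpr h)), map_zero]
  have hcardC : (Nat.card (Subgroup.centralizer ({z} : Set G)) : ℂ)
      = (Nat.card (Cfsg.pPrimeCore p (Subgroup.centralizer ({z} : Set G))) : ℂ)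
        * ((Cfsg.pPrimeCore p (Subgroup.centralizer ({z} : Set G))).index : ℂ) := by
    rw [← Nat.cast_mul, Subgroup.card_mul_index]
  have hO0 : (Nat.card (Cfsg.pPrimeCore p (Subgroup.centralizer ({z} : Set G))) : ℂ) ≠ 0 := by
    exact_mod_cast Nat.card_pos.ne'
  have hi0 : ((Cfsg.pPrimeCore p (Subgroup.centralizer ({z} : Set G))).index : ℂ) ≠ 0 := by
    exact_mod_cast Subgroup.index_ne_zero_of_finite
  -- unfold the inner products
  have hstep : ∑ ψ : Cfsg.IrrCharacter (Subgroup.centralizer ({z} : Set G)),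
        (if ψ ∈ Cfsg.principalBlock M (Subgroup.centralizer ({z} : Set G))
          then Cfsg.classInner
              (fun c : Subgroup.centralizer ({z} : Set G) => Θ (z * (c : G)))
              (ψ : Subgroup.centralizer ({z} : Set G) → ℂ)
            * (ψ : Subgroup.centralizer ({z} : Set G) → ℂ) 1 else 0)
      = (Nat.card (Subgroup.centralizer ({z} : Set G)) : ℂ)⁻¹ *
        ∑ c : Subgroup.centralizer ({z} : Set G), Θ (z * (c : G)) *
          ∑ ψ : Cfsg.IrrCharacter (Subgroup.centralizer ({z} : Set G)),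
            (if ψ ∈ Cfsg.principalBlock M (Subgroup.centralizer ({z} : Set G))
              then conj ((ψ : Subgroup.centralizer ({z} : Set G) → ℂ) c)
                * (ψ : Subgroup.centralizer ({z} : Set G) → ℂ) 1 else 0) := by
    simp_rw [Finset.mul_sum]
    rw [Finset.sum_comm]
    apply Finset.sum_congr rfl
    intro ψ _
    by_cases hψ : ψ ∈ Cfsg.principalBlock M (Subgroup.centralizer ({z} : Set G))
    · simp only [if_pos hψ]
      unfold Cfsg.classInner
      rw [Finset.mul_sum, Finset.sum_mul]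
      apply Finset.sum_congr rfl
      intro c _
      ring
    · simp only [if_neg hψ, mul_zero, Finset.sum_const_zero]
  rw [hstep]
  simp_rw [hreg]
  rw [hcardC, mul_inv, mul_assoc]
  congr 1
  rw [Finset.mul_sum]
  apply Finset.sum_congr rfl
  intro c _
  by_cases hc : c ∈ Cfsg.pPrimeCore p (Subgroup.centralizer ({z} : Set G))
  · rw [if_pos hc, if_pos hc]
    field_simp
  · rw [if_neg hc, if_neg hc, mul_zero, mul_zero]

end Average

end Cfsg.Agent.Lib.Helper7
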