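import Mathlib
import Cfsg.Agent.Lib.Helper7.SectionAverage
import Cfsg.Agent.Lib.Helper7.InvolPairs
import Cfsg.Agent.Lib.Helper7.KleinInvolCount
import Cfsg.Agent.Lib.Helper7.QuatBlock
import Cfsg.Agent.Lib.Helper13.Sylow

/-!
# Brauer's order formula for groups with a Klein four Sylow 2-subgroup
-/

set_option autoImplicit false
open scoped ComplexConjugate
open Cfsg
open Cfsg.Agent.Lib.Helper2 Cfsg.Agent.Lib.Helper24 Cfsg.Agent.Lib.Helper25

namespace Cfsg.Agent.Lib.Helper7

section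

variable {G : Type*} [Group G] [Finite G]

/-- involutions `x, y` whose product is `J` times an element of odd order commuting with `J`
centralize `J` -/
theorem mem_centralizer_of_mul_eq {J x y c : G} (hJ : J * J = 1) (hx : x * x = 1)
    (hy : y * y = 1) (hc : c * J = J * c) (hodd : Odd (orderOf c)) (hxy : x * y = J * c) :
    x * J = J * x ∧ y * J = J * y := by
  obtain ⟨k, hk⟩ := hodd
  have hxinv : x⁻¹ = x := inv_eq_of_mul_eq_one_left hx
  have hyinv : y⁻¹ = y := inv_eq_of_mul_eq_one_left hy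
  have hJinv : J⁻¹ = J := inv_eq_of_mul_eq_one_left hJ
  -- `w = x y` satisfies `w ^ m = J`
  have hcomm : Commute J c := hc.symm
  have hw : (x * y) ^ (2 * k + 1) = J := by
    rw [hxy, hcomm.mul_pow, ← hk, pow_orderOf_eq_one, mul_one, hk, pow_succ, pow_mul]
    rw [pow_two, hJ, one_pow, one_mul]
  -- `x` inverts `w`
  have hxw : x * (x * y) * x⁻¹ = (x * y)⁻¹ := by
    rw [mul_inv_rev, hxinv, hyinv, ← mul_assoc, hx, one_mul]
  have hxJ : x * J * x⁻¹ = J := by
    rw [← hw, ← conj_pow, hxw, inv_pow, hw, hJinv]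
  have h1 : x * J = J * x := by
    have : x * J = x * J * x⁻¹ * x := by group
    rw [this, hxJ]
  refine ⟨h1, ?_⟩
  -- `y = x * (J c)`
  have hy' : y = x * (J * c) := by
    rw [← hxy, ← mul_assoc, hx, one_mul]
  rw [hy']
  calc x * (J * c) * J = x * (J * (c * J)) := by group
    _ = x * (J * (J * c)) := by rw [hc]
    _ = (x * J) * (J * c) := by group
    _ = (J * x) * (J * c) := by rw [h1]
    _ = J * (x * (J * c)) := by group

/-- **Brauer's order formula, core form**: for a Klein four Sylow `2`-subgroup `P` on which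
`N_G(P)` acts non-trivially and an involution `J` of `P`,
`|G| · ∑_{χ ∈ B₀} conj(χ(J)² / χ(1)) χ(J) · |C(P)|² = 8 |C(J)|³`. -/
theorem order_formula_core (M : Ideal Cfsg.AlgInt) (hM : Cfsg.IsPModular 2 M)
    (P : Sylow 2 G) (hV : IsKleinFour (P : Subgroup G))
    (hN : ¬ (Subgroup.normalizer ((P : Subgroup G) : Set G)
      ≤ Subgroup.centralizer ((P : Subgroup G) : Set G)))
    (J : G) (hJP : J ∈ (P : Subgroup G)) (hJ2 : orderOf J = 2)
    [Fintype (Cfsg.IrrCharacter G)] [DecidablePred (· ∈ Cfsg.principalBlock M G)] :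
    (Nat.card G : ℂ) * (∑ χ : Cfsg.IrrCharacter G, if χ ∈ Cfsg.principalBlock M G
        then conj ((χ : G → ℂ) J * (χ : G → ℂ) J / (χ : G → ℂ) 1) * (χ : G → ℂ) J else 0)
      * (Nat.card (Subgroup.centralizer ((P : Subgroup G) : Set G)) : ℂ) ^ 2
      = 8 * (Nat.card (Subgroup.centralizer ({J} : Set G)) : ℂ) ^ 3 := by
  classical
  letI : Fintype G := Fintype.ofFinite G
  haveI : Fact (Nat.Prime 2) := ⟨Nat.prime_two⟩
  have hJJ : J * J = 1 := by
    have := pow_orderOf_eq_one J
    rwa [hJ2, pow_two] at this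
  have hJ1 : J ≠ 1 := by
    intro h
    rw [h, orderOf_one] at hJ2
    omega
  have hJinv : J⁻¹ = J := inv_eq_of_mul_eq_one_left hJJ
  -- `P` is abelian and lies in `C = C_G(J)`
  have hab : ∀ x ∈ (P : Subgroup G), ∀ y ∈ (P : Subgroup G), x * y = y * x :=
    fun x hx y hy => kc_comm P hV hx hy
  have hPC : (P : Subgroup G) ≤ Subgroup.centralizer ({J} : Set G) := by
    intro u hu
    rw [Subgroup.mem_centralizer_singleton_iff]
    exact hab u hu J hJP
  have hJC : J ∈ Subgroup.centralizer ({J} : Set G) := hPC hJP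
  -- the Sylow subgroup of `C`
  obtain ⟨Q, hQ⟩ : ∃ Q : Sylow 2 (Subgroup.centralizer ({J} : Set G)), Q = P.subtype hPC :=
    ⟨_, rfl⟩
  have hQcoe : (Q : Subgroup (Subgroup.centralizer ({J} : Set G)))
      = (P : Subgroup G).subgroupOf (Subgroup.centralizer ({J} : Set G)) := by
    rw [hQ, Sylow.coe_subtype]
  have hVQ : IsKleinFour (Q : Subgroup (Subgroup.centralizer ({J} : Set G))) := by
    rw [hQcoe]
    refine ⟨?_, ?_⟩
    · rw [Nat.card_congr (Subgroup.subgroupOfEquivOfLe hPC).toEquiv]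
      exact hV.card_four
    · rw [Monoid.exponent_eq_of_mulEquiv (Subgroup.subgroupOfEquivOfLe hPC)]
      exact hV.exponent_two
  have hzQ : (⟨J, hJC⟩ : Subgroup.centralizer ({J} : Set G))
      ∈ (Q : Subgroup (Subgroup.centralizer ({J} : Set G))) := by
    rw [hQcoe, Subgroup.mem_subgroupOf]
    exact hJP
  have hz1 : (⟨J, hJC⟩ : Subgroup.centralizer ({J} : Set G)) ≠ 1 :=
    fun h => hJ1 (congrArg Subtype.val h)
  have hzc : ∀ h : Subgroup.centralizer ({J} : Set G), (⟨J, hJC⟩ : Subgroup.centralizer ({J} : Set G)) * h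
      = h * ⟨J, hJC⟩ := by
    intro h
    apply Subtype.ext
    exact ((Subgroup.mem_centralizer_singleton_iff).mp h.2).symm
  have hnc := index_pPrimeCore_of_kleinFour_central Q hVQ _ hzQ hz1 hzc
  have hcomp := kc_complement Q hVQ _ hzQ hz1 hzc
  have hcardC := kc_card Q hVQ hcomp
  -- the fusion of involutions
  obtain ⟨-, hfus⟩ := kleinFour_principal hM P hV hN
  have hallconj : ∀ x : G, orderOf x = 2 → IsConj J x := by
    intro x hx
    obtain ⟨c, hc⟩ := Cfsg.Agent.Lib.Helper13.exists_conj_mem_sylow P x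
      ⟨1, by rw [pow_one, ← hx]; exact pow_orderOf_eq_one x⟩
    have hne : c * x * c⁻¹ ≠ 1 := by
      intro h
      have : x = 1 := by
        have e : x = c⁻¹ * (c * x * c⁻¹) * c := by group
        rw [e, h]; group
      rw [this, orderOf_one] at hx
      omega
    obtain ⟨t, ht⟩ := hfus J hJP (c * x * c⁻¹) hc hJ1 hne
    rw [isConj_iff]
    refine ⟨c⁻¹ * t, ?_⟩
    have e : c⁻¹ * t * J * (c⁻¹ * t)⁻¹ = c⁻¹ * (t * J * t⁻¹) * c := by group
    rw [e, ht]; group
  have hconj2 : ∀ x : G, IsConj J x → orderOf x = 2 := by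
    intro x hx
    obtain ⟨c, hc⟩ := isConj_iff.mp hx
    rw [← hc]
    have := orderOf_injective (MulAut.conj c).toMonoidHom (MulAut.conj c).injective J
    simpa [hJ2] using this
  -- apply the section average
  have hA := principal_section_average hM J ⟨1, by rw [hJ2, pow_one]⟩ hnc (pairCount J)
    (pairCount_isClassFunction J)
  -- the left hand side
  have hL : ∑ χ : Cfsg.IrrCharacter G, (if χ ∈ Cfsg.principalBlock M G
        then Cfsg.classInner (pairCount J) (χ : G → ℂ) * (χ : G → ℂ) J else 0)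
      = (Nat.card G : ℂ) * ∑ χ : Cfsg.IrrCharacter G, (if χ ∈ Cfsg.principalBlock M G
        then conj ((χ : G → ℂ) J * (χ : G → ℂ) J / (χ : G → ℂ) 1) * (χ : G → ℂ) J else 0) := by
    rw [Finset.mul_sum]
    apply Finset.sum_congr rfl
    intro χ _
    by_cases hχ : χ ∈ Cfsg.principalBlock M G
    · rw [if_pos hχ, if_pos hχ, classInner_pairCount J χ.2]
      rw [mul_assoc (Nat.card G : ℂ), mul_div_assoc, map_mul, Complex.conj_natCast]
      ring
    · rw [if_neg hχ, if_neg hχ, mul_zero]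
  rw [hL] at hA
  -- the right hand side
  obtain ⟨F, hF⟩ : ∃ F : G → G → ℂ, F = fun x y =>
      if (∃ c : Subgroup.centralizer ({J} : Set G),
        c ∈ Cfsg.pPrimeCore 2 (Subgroup.centralizer ({J} : Set G)) ∧ x * y = J * (c : G))
      then (1 : ℂ) else 0 := ⟨_, rfl⟩
  have hR1 : ∑ c : Subgroup.centralizer ({J} : Set G),
        (if c ∈ Cfsg.pPrimeCore 2 (Subgroup.centralizer ({J} : Set G))
          then pairCount J (J * (c : G)) else 0)
      = ∑ h₁ : G, ∑ h₂ : G, F (h₁ * J * h₁⁻¹) (h₂ * J * h₂⁻¹) := by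
    have e1 : ∀ c : Subgroup.centralizer ({J} : Set G),
        (if c ∈ Cfsg.pPrimeCore 2 (Subgroup.centralizer ({J} : Set G))
          then pairCount J (J * (c : G)) else 0)
        = ∑ h₁ : G, ∑ h₂ : G,
          (if c ∈ Cfsg.pPrimeCore 2 (Subgroup.centralizer ({J} : Set G)) then
            (if h₁ * J * h₁⁻¹ * (h₂ * J * h₂⁻¹) = J * (c : G) then (1 : ℂ) else 0) else 0) := by
      intro c
      by_cases hc : c ∈ Cfsg.pPrimeCore 2 (Subgroup.centralizer ({J} : Set G))
      · simp only [if_pos hc]; rfl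
      · simp only [if_neg hc, Finset.sum_const_zero]
    rw [Finset.sum_congr rfl (fun c _ => e1 c), Finset.sum_comm]
    apply Finset.sum_congr rfl
    intro h₁ _
    rw [Finset.sum_comm]
    apply Finset.sum_congr rfl
    intro h₂ _
    rw [hF]
    by_cases hex : ∃ c : Subgroup.centralizer ({J} : Set G),
        c ∈ Cfsg.pPrimeCore 2 (Subgroup.centralizer ({J} : Set G)) ∧
          h₁ * J * h₁⁻¹ * (h₂ * J * h₂⁻¹) = J * (c : G)
    · simp only [if_pos hex]
      obtain ⟨c₀, hc₀, hc₀'⟩ := hex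
      rw [Finset.sum_eq_single c₀]
      · rw [if_pos hc₀, if_pos hc₀']
      · intro c _ hne
        by_cases hc : c ∈ Cfsg.pPrimeCore 2 (Subgroup.centralizer ({J} : Set G))
        · rw [if_pos hc, if_neg]
          intro h
          apply hne
          apply Subtype.ext
          exact mul_left_cancel (h.symm.trans hc₀')
        · rw [if_neg hc]
      · intro h; exact absurd (Finset.mem_univ _) h
    · simp only [if_neg hex]
      apply Finset.sum_eq_zero
      intro c _
      by_cases hc : c ∈ Cfsg.pPrimeCore 2 (Subgroup.centralizer ({J} : Set G))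
      · rw [if_pos hc, if_neg]
        intro h
        exact hex ⟨c, hc, h⟩
      · rw [if_neg hc]
  rw [hR1, sum_sum_conj_eq F J] at hA
  -- the number of pairs
  have hR2 : ∑ x : G, ∑ y : G, (if IsConj J x ∧ IsConj J y then F x y else 0)
      = (Nat.card {q : (Subgroup.centralizer ({J} : Set G)) × (Subgroup.centralizer ({J} : Set G)) //
          orderOf q.1 = 2 ∧ orderOf q.2 = 2 ∧ (⟨J, hJC⟩ : Subgroup.centralizer ({J} : Set G)) * q.1 * q.2
            ∈ Cfsg.pPrimeCore 2 (Subgroup.centralizer ({J} : Set G))} : ℂ) := by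
    have e1 : ∑ x : G, ∑ y : G, (if IsConj J x ∧ IsConj J y then F x y else 0)
        = (Nat.card {p : G × G // IsConj J p.1 ∧ IsConj J p.2 ∧
            ∃ c : Subgroup.centralizer ({J} : Set G),
              c ∈ Cfsg.pPrimeCore 2 (Subgroup.centralizer ({J} : Set G)) ∧
                p.1 * p.2 = J * (c : G)} : ℂ) := by
      rw [Nat.card_eq_fintype_card, Fintype.card_subtype, Finset.card_filter, Nat.cast_sum,
        Fintype.sum_prod_type]
      apply Finset.sum_congr rfl
      intro x _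
      apply Finset.sum_congr rfl
      intro y _
      rw [hF]
      beta_reduce
      by_cases h1 : IsConj J x ∧ IsConj J y
      · rw [if_pos h1]
        by_cases h2 : ∃ c : Subgroup.centralizer ({J} : Set G),
            c ∈ Cfsg.pPrimeCore 2 (Subgroup.centralizer ({J} : Set G)) ∧ x * y = J * (c : G)
        · rw [if_pos h2, if_pos ⟨h1.1, h1.2, h2⟩, Nat.cast_one]
        · rw [if_neg h2, if_neg (fun h => h2 h.2.2), Nat.cast_zero]
      · rw [if_neg h1, if_neg (fun h => h1 ⟨h.1, h.2.1⟩), Nat.cast_zero]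
    rw [e1]
    congr 1
    symm
    apply Nat.card_eq_of_bijective
      (fun q : {q : (Subgroup.centralizer ({J} : Set G)) × (Subgroup.centralizer ({J} : Set G)) //
          orderOf q.1 = 2 ∧ orderOf q.2 = 2 ∧ (⟨J, hJC⟩ : Subgroup.centralizer ({J} : Set G)) * q.1 * q.2
            ∈ Cfsg.pPrimeCore 2 (Subgroup.centralizer ({J} : Set G))} =>
        (⟨((q.1.1 : G), (q.1.2 : G)), by
          obtain ⟨⟨x, y⟩, hx, hy, hxy⟩ := q
          refine ⟨hallconj _ ((Subgroup.orderOf_coe x).trans hx),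
            hallconj _ ((Subgroup.orderOf_coe y).trans hy), ⟨_, hxy, ?_⟩⟩
          show (x : G) * (y : G) = J * (J * (x : G) * (y : G))
          rw [← mul_assoc, ← mul_assoc, hJJ, one_mul]⟩ :
          {p : G × G // IsConj J p.1 ∧ IsConj J p.2 ∧
            ∃ c : Subgroup.centralizer ({J} : Set G),
              c ∈ Cfsg.pPrimeCore 2 (Subgroup.centralizer ({J} : Set G)) ∧
                p.1 * p.2 = J * (c : G)}))
    constructor
    · rintro ⟨⟨x, y⟩, hq⟩ ⟨⟨x', y'⟩, hq'⟩ h
      have h1 := congrArg Subtype.val h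
      simp only [Prod.mk.injEq] at h1
      apply Subtype.ext
      exact Prod.ext (Subtype.ext h1.1) (Subtype.ext h1.2)
    · rintro ⟨⟨x, y⟩, hx, hy, c, hc, hxy⟩
      have hx2 : x * x = 1 := by
        have := pow_orderOf_eq_one x
        rwa [hconj2 x hx, pow_two] at this
      have hy2 : y * y = 1 := by
        have := pow_orderOf_eq_one y
        rwa [hconj2 y hy, pow_two] at this
      have hcJ : (c : G) * J = J * (c : G) := (Subgroup.mem_centralizer_singleton_iff).mp c.2
      have hcodd : Odd (orderOf (c : G)) := by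
        have h1 : orderOf c ∣ Nat.card (Cfsg.pPrimeCore 2 (Subgroup.centralizer ({J} : Set G))) := by
          have := orderOf_dvd_natCard (⟨c, hc⟩ : Cfsg.pPrimeCore 2 (Subgroup.centralizer ({J} : Set G)))
          rwa [Subgroup.orderOf_mk] at this
        rw [Subgroup.orderOf_coe]
        exact Odd.of_dvd_nat kc_odd h1
      obtain ⟨hxC, hyC⟩ := mem_centralizer_of_mul_eq hJJ hx2 hy2 hcJ hcodd hxy
      have hxC' : x ∈ Subgroup.centralizer ({J} : Set G) :=
        (Subgroup.mem_centralizer_singleton_iff).mpr hxC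
      have hyC' : y ∈ Subgroup.centralizer ({J} : Set G) :=
        (Subgroup.mem_centralizer_singleton_iff).mpr hyC
      refine ⟨⟨(⟨x, hxC'⟩, ⟨y, hyC'⟩), ?_, ?_, ?_⟩, rfl⟩
      · show orderOf (⟨x, hxC'⟩ : Subgroup.centralizer ({J} : Set G)) = 2
        rw [Subgroup.orderOf_mk]; exact hconj2 x hx
      · show orderOf (⟨y, hyC'⟩ : Subgroup.centralizer ({J} : Set G)) = 2
        rw [Subgroup.orderOf_mk]; exact hconj2 y hy
      · have e : (⟨J, hJC⟩ : Subgroup.centralizer ({J} : Set G)) * ⟨x, hxC'⟩ * ⟨y, hyC'⟩ = c := by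
          apply Subtype.ext
          show J * x * y = (c : G)
          rw [mul_assoc, hxy, ← mul_assoc, hJJ, one_mul]
        show (⟨J, hJC⟩ : Subgroup.centralizer ({J} : Set G)) * ⟨x, hxC'⟩ * ⟨y, hyC'⟩ ∈ _
        rw [e]; exact hc
  rw [hR2] at hA
  -- the count
  have hcount := kc_card_pairs Q hVQ _ hzQ hz1 hzc
  have hcentQ : Nat.card (Subgroup.centralizer
      ((Q : Subgroup (Subgroup.centralizer ({J} : Set G))) : Set (Subgroup.centralizer ({J} : Set G))))
      = Nat.card (Subgroup.centralizer ((P : Subgroup G) : Set G)) := by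
    apply Nat.card_eq_of_bijective
      (fun x : Subgroup.centralizer ((Q : Subgroup (Subgroup.centralizer ({J} : Set G))) :
          Set (Subgroup.centralizer ({J} : Set G))) =>
        (⟨((x : Subgroup.centralizer ({J} : Set G)) : G), by
          rw [Subgroup.mem_centralizer_iff]
          intro q hq
          have h1 := (Subgroup.mem_centralizer_iff.mp x.2) ⟨q, hPC hq⟩ (by
            rw [SetLike.mem_coe, hQcoe, Subgroup.mem_subgroupOf]; exact hq)
          exact congrArg Subtype.val h1⟩ : Subgroup.centralizer ((P : Subgroup G) : Set G)))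
    constructor
    · intro x x' h
      apply Subtype.ext; apply Subtype.ext
      have h' := congrArg Subtype.val h
      exact h'
    · rintro ⟨y, hy⟩
      have hyC : y ∈ Subgroup.centralizer ({J} : Set G) := by
        rw [Subgroup.mem_centralizer_singleton_iff]
        exact ((Subgroup.mem_centralizer_iff.mp hy) J hJP).symm
      refine ⟨⟨⟨y, hyC⟩, ?_⟩, rfl⟩
      rw [Subgroup.mem_centralizer_iff]
      rintro ⟨q, hqC⟩ hq
      rw [SetLike.mem_coe, hQcoe, Subgroup.mem_subgroupOf] at hq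
      apply Subtype.ext
      exact (Subgroup.mem_centralizer_iff.mp hy) q hq
  rw [hcentQ] at hcount
  -- final algebra
  obtain ⟨N₂, hN₂⟩ : ∃ N₂ : ℕ, N₂ = Nat.card
      {q : (Subgroup.centralizer ({J} : Set G)) × (Subgroup.centralizer ({J} : Set G)) //
          orderOf q.1 = 2 ∧ orderOf q.2 = 2 ∧ (⟨J, hJC⟩ : Subgroup.centralizer ({J} : Set G)) * q.1 * q.2
            ∈ Cfsg.pPrimeCore 2 (Subgroup.centralizer ({J} : Set G))} := ⟨_, rfl⟩
  rw [← hN₂] at hA hcount
  obtain ⟨o, ho⟩ : ∃ o : ℕ, o = Nat.card (Cfsg.pPrimeCore 2 (Subgroup.centralizer ({J} : Set G))) :=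
    ⟨_, rfl⟩
  rw [← ho] at hA hcardC
  obtain ⟨cJ, hcJ⟩ : ∃ cJ : ℕ, cJ = Nat.card (Subgroup.centralizer ({J} : Set G)) := ⟨_, rfl⟩
  obtain ⟨cP, hcP⟩ : ∃ cP : ℕ, cP = Nat.card (Subgroup.centralizer ((P : Subgroup G) : Set G)) :=
    ⟨_, rfl⟩
  rw [← hcJ] at hA hcardC hcount ⊢
  rw [← hcP] at hcount ⊢
  have ho0 : (o : ℂ) ≠ 0 := by
    rw [ho]; exact_mod_cast Nat.card_pos.ne'
  have hcountC : (N₂ : ℂ) * (cP : ℂ) ^ 2 = 2 * (cJ : ℂ) ^ 2 := by exact_mod_cast hcount
  have hcardCC : (cJ : ℂ) = 4 * (o : ℂ) := by exact_mod_cast hcardC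
  rw [hA, hcardCC]
  have : (o : ℂ)⁻¹ * ((4 * (o : ℂ)) ^ 2 * (N₂ : ℂ)) * (cP : ℂ) ^ 2
      = (o : ℂ)⁻¹ * (4 * (o : ℂ)) ^ 2 * ((N₂ : ℂ) * (cP : ℂ) ^ 2) := by ring
  rw [this, hcountC, hcardCC]
  field_simp
  ring

end

end Cfsg.Agent.Lib.Helper7
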