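import Mathlib
import Cfsg.Agent.Lib.Helper7.OrderFormula
import Cfsg.Agent.Lib.Helper7.DefectOrder
import Cfsg.Agent.Lib.Helper24.BlockOrtho

/-!
# Brauer's order formula when the principal 2-block has four characters
-/

set_option autoImplicit false
open scoped ComplexConjugate
open Cfsg
open Cfsg.Agent.Lib.Helper2 Cfsg.Agent.Lib.Helper24 Cfsg.Agent.Lib.Helper25

namespace Cfsg.Agent.Lib.Helper7

section

variable {G : Type*} [Group G] [Finite G]

/-- a group of order `4 g₀`, `g₀` odd, without normal subgroup of order `g₀` has a Klein four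
Sylow `2`-subgroup on which its normalizer acts non-trivially -/
theorem kleinFour_of_card_four_mul (g₀ : ℕ) (hg₀ : Odd g₀) (hG : Nat.card G = 4 * g₀)
    (hnc : ¬ ∃ N : Subgroup G, N.Normal ∧ Nat.card N = g₀) (P : Sylow 2 G) :
    IsKleinFour (P : Subgroup G) ∧
      ¬ (Subgroup.normalizer ((P : Subgroup G) : Set G)
        ≤ Subgroup.centralizer ((P : Subgroup G) : Set G)) := by
  haveI : Fact (Nat.Prime 2) := ⟨Nat.prime_two⟩
  have hg₀0 : g₀ ≠ 0 := by
    rintro rfl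
    exact absurd hg₀ (by decide)
  have hcardP : Nat.card (P : Subgroup G) = 4 := by
    rw [Sylow.card_eq_multiplicity, hG, Nat.factorization_mul (by norm_num) hg₀0,
      Finsupp.add_apply, show (4 : ℕ) = 2 ^ 2 by norm_num,
      Nat.Prime.factorization_pow Nat.prime_two, Finsupp.single_eq_same,
      Nat.factorization_eq_zero_of_not_dvd (by
        intro h
        exact (Nat.not_even_iff_odd.mpr hg₀) (even_iff_two_dvd.mpr h))]
  have hno : ∀ K : Subgroup G, K.Normal → K.IsComplement' (P : Subgroup G) → False := by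
    intro K hK hcomp
    apply hnc
    refine ⟨K, hK, ?_⟩
    have h := hcomp.card_mul_card
    rw [hcardP, hG] at h
    omega
  have hncyc : ¬ IsCyclic (P : Subgroup G) := by
    intro hcyc
    have hp : (Nat.card G).minFac = 2 := by
      rw [Nat.minFac_eq_two_iff, hG]
      exact Dvd.dvd.mul_right (by norm_num) _
    exact hno _ (MonoidHom.normal_ker _) (IsCyclic.isComplement' hp hcyc)
  have hN : ¬ (Subgroup.normalizer ((P : Subgroup G) : Set G)
        ≤ Subgroup.centralizer ((P : Subgroup G) : Set G)) := by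
    intro h
    exact hno _ (MonoidHom.normal_ker _) (MonoidHom.ker_transferSylow_isComplement' P h)
  refine ⟨⟨hcardP, ?_⟩, hN⟩
  -- exponent two
  have hsq : ∀ x : (P : Subgroup G), x ^ 2 = 1 := by
    intro x
    have h1 : orderOf x ∣ 2 ^ 2 := by
      have := orderOf_dvd_natCard x
      rw [hcardP] at this
      exact this
    obtain ⟨k, hk, hk2⟩ := (Nat.dvd_prime_pow Nat.prime_two).mp h1
    interval_cases k
    · rw [pow_zero, orderOf_eq_one_iff] at hk2
      rw [hk2, one_pow]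
    · rw [pow_one] at hk2
      have := pow_orderOf_eq_one x
      rwa [hk2] at this
    · exfalso
      apply hncyc
      apply isCyclic_of_orderOf_eq_card x
      rw [hk2, hcardP]; norm_num
  have hd : Monoid.exponent (P : Subgroup G) ∣ 2 := Monoid.exponent_dvd_of_forall_pow_eq_one hsq
  rcases (Nat.dvd_prime Nat.prime_two).mp hd with h | h
  · exfalso
    rw [Monoid.exp_eq_one_iff] at h
    rw [Nat.card_eq_one_iff_unique.mpr ⟨h, ⟨1⟩⟩] at hcardP
    omega
  · exact h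

/-- a sum over a principal block consisting of four characters -/
theorem sum_principalBlock_four (M : Ideal Cfsg.AlgInt) (χ₁ χ₂ χ₃ : Cfsg.IrrCharacter G)
    (hB : Cfsg.principalBlock M G = {χ : Cfsg.IrrCharacter G | (χ : G → ℂ) = (fun _ => 1) ∨
      χ = χ₁ ∨ χ = χ₂ ∨ χ = χ₃})
    (hdist : (χ₁ : G → ℂ) ≠ (fun _ => 1) ∧ (χ₂ : G → ℂ) ≠ (fun _ => 1) ∧
      (χ₃ : G → ℂ) ≠ (fun _ => 1) ∧ χ₁ ≠ χ₂ ∧ χ₁ ≠ χ₃ ∧ χ₂ ≠ χ₃)
    [Fintype (Cfsg.IrrCharacter G)] [DecidablePred (· ∈ Cfsg.principalBlock M G)]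
    (f : Cfsg.IrrCharacter G → ℂ) :
    ∑ χ : Cfsg.IrrCharacter G, (if χ ∈ Cfsg.principalBlock M G then f χ else 0)
      = f (trivIrr G) + f χ₁ + f χ₂ + f χ₃ := by
  classical
  obtain ⟨h1, h2, h3, h12, h13, h23⟩ := hdist
  have ht1 : trivIrr G ≠ χ₁ := fun h => h1 (by rw [← h]; rfl)
  have ht2 : trivIrr G ≠ χ₂ := fun h => h2 (by rw [← h]; rfl)
  have ht3 : trivIrr G ≠ χ₃ := fun h => h3 (by rw [← h]; rfl)
  have hmem : ∀ χ : Cfsg.IrrCharacter G, χ ∈ Cfsg.principalBlock M G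
      ↔ χ ∈ ({trivIrr G, χ₁, χ₂, χ₃} : Finset (Cfsg.IrrCharacter G)) := by
    intro χ
    rw [hB, Set.mem_ofPred_eq, Finset.mem_insert, Finset.mem_insert, Finset.mem_insert,
      Finset.mem_singleton]
    constructor
    · rintro (h | h | h | h)
      · left; exact Subtype.ext h
      · right; left; exact h
      · right; right; left; exact h
      · right; right; right; exact h
    · rintro (h | h | h | h)
      · left; rw [h]; rfl
      · right; left; exact h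
      · right; right; left; exact h
      · right; right; right; exact h
  have e1 : ∑ χ : Cfsg.IrrCharacter G, (if χ ∈ Cfsg.principalBlock M G then f χ else 0)
      = ∑ χ : Cfsg.IrrCharacter G,
        (if χ ∈ ({trivIrr G, χ₁, χ₂, χ₃} : Finset (Cfsg.IrrCharacter G)) then f χ else 0) := by
    apply Finset.sum_congr rfl
    intro χ _
    by_cases h : χ ∈ Cfsg.principalBlock M G
    · rw [if_pos h, if_pos ((hmem χ).mp h)]
    · rw [if_neg h, if_neg (fun h' => h ((hmem χ).mpr h'))]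
  rw [e1, Finset.sum_ite_mem, Finset.univ_inter, Finset.sum_insert, Finset.sum_insert,
    Finset.sum_insert, Finset.sum_singleton]
  · ring
  · rw [Finset.mem_singleton]; exact h23
  · rw [Finset.mem_insert, Finset.mem_singleton]
    rintro (h | h)
    · exact h12 h
    · exact h13 h
  · rw [Finset.mem_insert, Finset.mem_insert, Finset.mem_singleton]
    rintro (h | h | h)
    · exact ht1 h
    · exact ht2 h
    · exact ht3 h

/-- **Brauer's order formula** for a principal `2`-block `{1, χ₁, χ₂, χ₃}`, together with the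
degree relation -/
theorem order_formula_four (M : Ideal Cfsg.AlgInt) (hM : Cfsg.IsPModular 2 M) (g₀ : ℕ)
    (hg₀ : Odd g₀) (hG : Nat.card G = 4 * g₀)
    (hnc : ¬ ∃ N : Subgroup G, N.Normal ∧ Nat.card N = g₀) (P : Sylow 2 G) (J : G)
    (hJ : J ∈ (P : Subgroup G)) (hJ2 : orderOf J = 2) (χ₁ χ₂ χ₃ : Cfsg.IrrCharacter G)
    (ε₁ ε₂ ε₃ : ℤ)
    (hB : Cfsg.principalBlock M G = {χ : Cfsg.IrrCharacter G | (χ : G → ℂ) = (fun _ => 1) ∨
      χ = χ₁ ∨ χ = χ₂ ∨ χ = χ₃})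
    (hdist : (χ₁ : G → ℂ) ≠ (fun _ => 1) ∧ (χ₂ : G → ℂ) ≠ (fun _ => 1) ∧
      (χ₃ : G → ℂ) ≠ (fun _ => 1) ∧ χ₁ ≠ χ₂ ∧ χ₁ ≠ χ₃ ∧ χ₂ ≠ χ₃)
    (hε : (ε₁ = 1 ∨ ε₁ = -1) ∧ (ε₂ = 1 ∨ ε₂ = -1) ∧ (ε₃ = 1 ∨ ε₃ = -1))
    (hval : (χ₁ : G → ℂ) J = ε₁ ∧ (χ₂ : G → ℂ) J = ε₂ ∧ (χ₃ : G → ℂ) J = ε₃) :
    ((Nat.card G : ℚ) * (1 + (ε₁ : ℚ) / Cfsg.charDegree (χ₁ : G → ℂ)
        + (ε₂ : ℚ) / Cfsg.charDegree (χ₂ : G → ℂ) + (ε₃ : ℚ) / Cfsg.charDegree (χ₃ : G → ℂ))
      * (Nat.card (Subgroup.centralizer ((P : Subgroup G) : Set G)) : ℚ) ^ 2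
      = 8 * (Nat.card (Subgroup.centralizer ({J} : Set G)) : ℚ) ^ 3) ∧
    (1 + (ε₁ : ℚ) * Cfsg.charDegree (χ₁ : G → ℂ) + (ε₂ : ℚ) * Cfsg.charDegree (χ₂ : G → ℂ)
      + (ε₃ : ℚ) * Cfsg.charDegree (χ₃ : G → ℂ) = 0) := by
  classical
  haveI : Fintype (Cfsg.IrrCharacter G) := Fintype.ofFinite _
  letI : Fintype G := Fintype.ofFinite G
  haveI : Fact (Nat.Prime 2) := ⟨Nat.prime_two⟩
  obtain ⟨hV, hN⟩ := kleinFour_of_card_four_mul g₀ hg₀ hG hnc P
  have hcore := order_formula_core M hM P hV hN J hJ hJ2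
  obtain ⟨hv1, hv2, hv3⟩ := hval
  have hd1 := char_one_eq_charDegree (isCharacter_of_irr χ₁.2)
  have hd2 := char_one_eq_charDegree (isCharacter_of_irr χ₂.2)
  have hd3 := char_one_eq_charDegree (isCharacter_of_irr χ₃.2)
  have hsq : ∀ ε : ℤ, (ε = 1 ∨ ε = -1) → (ε : ℂ) * (ε : ℂ) = 1 := by
    rintro ε (h | h) <;> rw [h] <;> norm_num
  have ht : ∀ g : G, (trivIrr G : G → ℂ) g = 1 := fun g => rfl
  rw [sum_principalBlock_four M χ₁ χ₂ χ₃ hB hdist, ht, ht, hv1, hv2, hv3, hd1, hd2, hd3] at hcore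
  simp only [map_div₀, map_mul, map_intCast, map_natCast, map_one] at hcore
  -- block orthogonality
  have horth := block_orthogonality hM _ isPBlock_principalBlock J 1 (by
    intro g k h
    rw [one_pow, mul_one] at h
    have h1 : J ^ k = 1 := mul_eq_right.mp h
    have := orderOf_dvd_of_pow_eq_one h1
    rwa [hJ2] at this)
  rw [finsum_mem_eq_sum_ite,
    sum_principalBlock_four M χ₁ χ₂ χ₃ hB hdist, ht, ht, hv1, hv2, hv3, hd1, hd2, hd3] at horth
  simp only [Complex.conj_natCast, map_one] at horth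
  have h1 := hsq ε₁ hε.1
  have h2 := hsq ε₂ hε.2.1
  have h3 := hsq ε₃ hε.2.2
  constructor
  · have e : (Nat.card G : ℂ) * (1 + (ε₁ : ℂ) / Cfsg.charDegree (χ₁ : G → ℂ)
        + (ε₂ : ℂ) / Cfsg.charDegree (χ₂ : G → ℂ) + (ε₃ : ℂ) / Cfsg.charDegree (χ₃ : G → ℂ))
      * (Nat.card (Subgroup.centralizer ((P : Subgroup G) : Set G)) : ℂ) ^ 2
      = 8 * (Nat.card (Subgroup.centralizer ({J} : Set G)) : ℂ) ^ 3 := by
      rw [← hcore]
      congr 2
      rw [h1, h2, h3]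
      ring
    exact_mod_cast e
  · have e : 1 + (ε₁ : ℂ) * Cfsg.charDegree (χ₁ : G → ℂ) + (ε₂ : ℂ) * Cfsg.charDegree (χ₂ : G → ℂ)
        + (ε₃ : ℂ) * Cfsg.charDegree (χ₃ : G → ℂ) = 0 := by
      rw [← horth]; ring
    exact_mod_cast e

end

end Cfsg.Agent.Lib.Helper7
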