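import Mathlib
import Cfsg.Agent.S0928
import Cfsg.Agent.Lib.Helper24.Principal
import Cfsg.Agent.Lib.Helper25.CharBasic

/-!
# Characters in blocks of positive defect do not vanish on all elements of order `p`
-/

set_option autoImplicit false
open scoped ComplexConjugate
open Cfsg

namespace Cfsg.Agent.Lib.Helper7

open Cfsg.Agent.Lib.Helper24 Cfsg.Agent.Lib.Helper2 Cfsg.Agent.S0928

section
variable {G : Type*} [Group G] [Fintype G] {p : ℕ} {M : Ideal Cfsg.AlgInt}

/-- for a character in a block of positive defect, the central character at the sum of the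
elements of order dividing `p` lies in the local ideal -/
theorem omega_rootInd_memLocalIdeal_of_defect_pos [Fact p.Prime] (hM : Cfsg.IsPModular p M)
    (χ : Cfsg.IrrCharacter G)
    (hdpos : 0 < Cfsg.blockDefect p (Cfsg.blockOf M (χ : G → ℂ))) :
    Cfsg.MemLocalIdeal M (omega (χ : G → ℂ) (rootInd p G)) := by
  classical
  have hp : p.Prime := Fact.out
  have hB : Cfsg.IsPBlock M (Cfsg.blockOf M (χ : G → ℂ)) := ⟨χ, rfl⟩
  have hχB : χ ∈ Cfsg.blockOf M (χ : G → ℂ) := mem_blockOf_self hM χ
  obtain ⟨D, hD⟩ := Cfsg.Agent.Lib.Helper24.exists_isDefectGroup hM _ hB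
  have hcardD := card_of_isDefectGroup hM _ hB D hD
  have hDp : IsPGroup p D := IsPGroup.of_card hcardD
  have hcenter : p ∣ Nat.card (Subgroup.center D) := by
    haveI : Nontrivial D := by
      rw [← Finite.one_lt_card_iff_nontrivial, hcardD]
      exact Nat.one_lt_pow hdpos.ne' hp.one_lt
    haveI := hDp.center_nontrivial
    have hZp : IsPGroup p (Subgroup.center D) := hDp.to_subgroup _
    rcases hZp.card_eq_or_dvd with h | h
    · exfalso
      have := Finite.one_lt_card_iff_nontrivial.mpr ‹Nontrivial (Subgroup.center D)›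
      omega
    · exact h
  obtain ⟨z₀, hz₀⟩ := exists_prime_orderOf_dvd_card' p hcenter
  obtain ⟨e, he⟩ := exists_isMaximalBrauerPair_of_isDefectGroup hM _ hB D hD
  letI : Fintype (Subgroup.centralizer (D : Set G)) := Fintype.ofFinite _
  obtain ⟨ξ, hξ⟩ := isPBlock_nonempty hM he.1.1.2
  have haR : IsRCF M (rootInd p G) :=
    ⟨rootInd_isClassFunction p G, rootInd_memLocalRing hM G⟩
  have hcong := omega_restrict_sub_omega_of_isBrauerPairOf hM _ D e he.1 χ hχB ξ hξ _ haR
  have hres : restrictTo (Subgroup.centralizer (D : Set G)) (rootInd p G)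
      = rootInd p (Subgroup.centralizer (D : Set G)) := by
    funext c
    unfold restrictTo rootInd
    have : ((c : G) ^ p = 1) ↔ (c ^ p = 1) := by
      rw [← Subgroup.coe_pow, OneMemClass.coe_eq_one]
    by_cases hc : c ^ p = 1
    · rw [if_pos (this.mpr hc), if_pos hc]
    · rw [if_neg (fun h => hc (this.mp h)), if_neg hc]
  rw [hres] at hcong
  have hz₀D : (((z₀ : D)) : G) ∈ Subgroup.centralizer (D : Set G) := by
    rw [Subgroup.mem_centralizer_iff]
    intro d hd
    have := Subgroup.mem_center_iff.mp z₀.2 ⟨d, hd⟩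
    have h2 := congrArg (Subtype.val) this
    simpa using h2
  have hzord : orderOf (⟨(((z₀ : D)) : G), hz₀D⟩ : Subgroup.centralizer (D : Set G)) = p := by
    rw [Subgroup.orderOf_mk, Subgroup.orderOf_coe, Subgroup.orderOf_coe, hz₀]
  have hzc : ∀ k : Subgroup.centralizer (D : Set G),
      (⟨(((z₀ : D)) : G), hz₀D⟩ : Subgroup.centralizer (D : Set G)) * k
        = k * ⟨(((z₀ : D)) : G), hz₀D⟩ := by
    intro k
    apply Subtype.ext
    push_cast
    exact (Subgroup.mem_centralizer_iff.mp k.2 _ (z₀ : D).2)
  have hI := omega_rootInd_memLocalIdeal hM _ hzord hzc ξ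
  have h1 := memLocalIdeal_sub hM hI hcong
  rwa [sub_sub_cancel] at h1

/-- a character in a block of positive defect is nonzero at some element of order `p` -/
theorem exists_orderOf_eq_prime_ne_zero [Fact p.Prime] (hM : Cfsg.IsPModular p M)
    (χ : Cfsg.IrrCharacter G)
    (hdpos : 0 < Cfsg.blockDefect p (Cfsg.blockOf M (χ : G → ℂ))) :
    ∃ g : G, orderOf g = p ∧ (χ : G → ℂ) g ≠ 0 := by
  classical
  by_contra hvan
  push Not at hvan
  have hI := omega_rootInd_memLocalIdeal_of_defect_pos hM χ hdpos
  have hχ1 : (χ : G → ℂ) 1 ≠ 0 := Cfsg.Agent.Lib.Helper25.irr_one_ne_zero χ.2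
  have hom1 : omega (χ : G → ℂ) (rootInd p G) = 1 := by
    unfold omega
    rw [Finset.sum_eq_single (1 : G)]
    · unfold rootInd
      simp only [one_pow, if_true, one_mul]
      exact div_self hχ1
    · intro g _ hg
      unfold rootInd
      by_cases hgp : g ^ p = 1
      · simp only [hgp, if_true, one_mul]
        exact hvan g (orderOf_eq_prime hgp hg)
      · simp only [hgp, if_false, zero_mul]
    · intro h; exact absurd (Finset.mem_univ _) h
  rw [hom1] at hI
  exact not_memLocalIdeal_one hM hI

/-- the principal block has defect the full `p`-part of the group order -/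
theorem blockDefect_principalBlock [Fact p.Prime] (hM : Cfsg.IsPModular p M) :
    Cfsg.blockDefect p (Cfsg.principalBlock M G) = (Nat.card G).factorization p := by
  unfold Cfsg.blockDefect
  have h0 : sInf ((fun ψ : Cfsg.IrrCharacter G =>
      (Cfsg.charDegree (ψ : G → ℂ)).factorization p) '' Cfsg.principalBlock M G) = 0 := by
    apply Nat.eq_zero_of_le_zero
    apply Nat.sInf_le
    refine ⟨trivIrr G, ?_, ?_⟩
    · exact trivIrr_mem_principalBlock hM
    · have : Cfsg.charDegree ((trivIrr G : Cfsg.IrrCharacter G) : G → ℂ) = 1 := by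
        have h1 := Cfsg.Agent.Lib.Helper25.char_one_eq_charDegree (Cfsg.Agent.Lib.Helper25.isCharacter_of_irr (trivIrr G).2)
        have h2 : ((trivIrr G : Cfsg.IrrCharacter G) : G → ℂ) 1 = 1 := rfl
        rw [h2] at h1
        exact_mod_cast h1.symm
      simp only [this]
      simp
  rw [h0, Nat.sub_zero]

end

end Cfsg.Agent.Lib.Helper7
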