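import Mathlib
import Cfsg.Agent.Lib.Helper7.SpExtDefs

/-!
# S5664, case `(r, q) = (2, 2)`: the relation `T_x T_y ∈ H`
-/

set_option autoImplicit false

namespace Cfsg.Agent.Lib.Helper7.SpExt

open Matrix

variable {F : Type*} [Field F] {ι : Type} [Fintype ι] [DecidableEq ι]

/-- `T_x T_y ∈ H`, where `T_u` is the `F`-transvection `v ↦ v + f(v,u) u` (used for `F = F₂`) -/
def Rel (f : (ι → F) →ₗ[F] (ι → F) →ₗ[F] F) (H : Subgroup (GL ι F)) (x y : ι → F) : Prop :=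
  ∀ g g' : GL ι F, IsTv f x 1 g → IsTv f y 1 g' → g * g' ∈ H

end Cfsg.Agent.Lib.Helper7.SpExt
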