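import Mathlib
import Cfsg.Prelude.Def_GeometricClasses
import Cfsg.Agent.Lib.Helper7.AschDefs
import Cfsg.Agent.Lib.Helper11.AschCliffDefs

/-!
# S5630 block I4, piece CL3 `exists_block_form` (block form of a homogeneous semisimple restriction)  (helper7)

Exact signature of `notes/S5630I4Skel_helper11.lean.txt`.
-/

set_option autoImplicit false
set_option synthInstance.maxHeartbeats 400000

namespace Cfsg.Agent.Lib.Helper7.S5630I4CL3

open Matrix Cfsg Cfsg.Geo Cfsg.Agent.Lib.Helper7.Asch Cfsg.Agent.Lib.Helper11.Cliff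
open scoped MatrixGroups Kronecker

variable {n : ℕ} {F : Type*} [Field F]

theorem algebraMap_smul_vec (X : Subgroup (GL (Fin n) F)) (c : F) (v : Fin n → F) :
    (algebraMap F (envEnd X) c) • v = c • v := by
  show ((algebraMap F (envEnd X) c : envEnd X) : Module.End F (Fin n → F)) v = c • v
  simp

/-- the element of `envEnd X` given by `x ∈ X` -/
def rX (X : Subgroup (GL (Fin n) F)) (x : GL (Fin n) F) (hx : x ∈ X) : envEnd X :=
  ⟨Matrix.toLin' (x : Matrix (Fin n) (Fin n) F), toLin_mem_envEnd hx⟩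

theorem rX_smul (X : Subgroup (GL (Fin n) F)) (x : GL (Fin n) F) (hx : x ∈ X) (v : Fin n → F) :
    rX X x hx • v = (x : Matrix (Fin n) (Fin n) F) *ᵥ v := by
  show Matrix.toLin' (x : Matrix (Fin n) (Fin n) F) v = _
  rw [Matrix.toLin'_apply]

/-- an `envEnd X`-submodule as an `F`-subspace -/
def toF (X : Subgroup (GL (Fin n) F)) (S : Submodule (envEnd X) (Fin n → F)) : Submodule F (Fin n → F) where
  carrier := S
  add_mem' := S.add_mem
  zero_mem' := S.zero_mem
  smul_mem' c v hv := by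
    have := S.smul_mem (algebraMap F (envEnd X) c) hv
    rwa [algebraMap_smul_vec] at this

theorem mem_toF (X : Subgroup (GL (Fin n) F)) (S : Submodule (envEnd X) (Fin n → F)) (v : Fin n → F) :
    v ∈ toF X S ↔ v ∈ S := Iff.rfl

/-- the `F`-linear version of an `envEnd X`-linear equivalence `V ≃ (Fin s → S)` -/
def psi (X : Subgroup (GL (Fin n) F)) (S : Submodule (envEnd X) (Fin n → F)) (s : ℕ)
    (ε : (Fin n → F) ≃ₗ[envEnd X] (Fin s → S)) : (Fin n → F) ≃ₗ[F] (Fin s → toF X S) where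
  toFun v j := ⟨(ε v j : Fin n → F), (ε v j).2⟩
  invFun z := ε.symm (fun j => ⟨(z j : Fin n → F), (z j).2⟩)
  map_add' v v' := by
    funext j
    apply Subtype.ext
    simp
  map_smul' c v := by
    funext j
    apply Subtype.ext
    have : ε (c • v) = (algebraMap F (envEnd X) c) • ε v := by
      rw [← algebraMap_smul_vec X c v, map_smul]
    simp only [this, Pi.smul_apply, Submodule.coe_smul, RingHom.id_apply]
    exact algebraMap_smul_vec X c _
  left_inv v := by
    show ε.symm (fun j => ⟨(ε v j : Fin n → F), (ε v j).2⟩) = v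
    have : (fun j => (⟨(ε v j : Fin n → F), (ε v j).2⟩ : S)) = ε v := rfl
    rw [this, LinearEquiv.symm_apply_apply]
  right_inv z := by
    funext j
    apply Subtype.ext
    simp

theorem psi_apply_coe (X : Subgroup (GL (Fin n) F)) (S : Submodule (envEnd X) (Fin n → F)) (s : ℕ)
    (ε : (Fin n → F) ≃ₗ[envEnd X] (Fin s → S)) (v : Fin n → F) (j : Fin s) :
    ((psi X S s ε v j : toF X S) : Fin n → F) = (ε v j : Fin n → F) := rfl

/-- `psi` intertwines the action of `x ∈ X` -/
theorem psi_mulVec (X : Subgroup (GL (Fin n) F)) (S : Submodule (envEnd X) (Fin n → F)) (s : ℕ)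
    (ε : (Fin n → F) ≃ₗ[envEnd X] (Fin s → S)) (x : GL (Fin n) F) (hx : x ∈ X) (v : Fin n → F) (j : Fin s) :
    ((psi X S s ε ((x : Matrix (Fin n) (Fin n) F) *ᵥ v) j : toF X S) : Fin n → F)
      = (x : Matrix (Fin n) (Fin n) F) *ᵥ ((psi X S s ε v j : toF X S) : Fin n → F) := by
  rw [psi_apply_coe, psi_apply_coe, ← rX_smul X x hx, map_smul, Pi.smul_apply, Submodule.coe_smul, rX_smul]

/-- swap of coordinates `(Fin s → Fin d → F) ≃ (Fin d × Fin s → F)` -/
def uncurryEquiv (d s : ℕ) (F : Type*) [Field F] : (Fin s → Fin d → F) ≃ₗ[F] (Fin d × Fin s → F) where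
  toFun z p := z p.2 p.1
  invFun c j i := c (i, j)
  map_add' _ _ := rfl
  map_smul' _ _ := rfl
  left_inv _ := rfl
  right_inv _ := rfl

/-- **Lemma A**: a linear isomorphism `Φ : V ≃ (Fin d × Fin s → F)` intertwining `x` with `a ⊗ 1` conjugates `x` to `a ⊗ 1`. -/
theorem exists_P {d s : ℕ} (e : Fin n ≃ Fin d × Fin s) (Φ : (Fin n → F) ≃ₗ[F] (Fin d × Fin s → F)) :
    ∃ P : GL (Fin n) F, ∀ (x : Matrix (Fin n) (Fin n) F) (a : Matrix (Fin d) (Fin d) F),
      (∀ v, Φ (x *ᵥ v) = (a ⊗ₖ (1 : Matrix (Fin s) (Fin s) F)) *ᵥ Φ v) → x = kronLM e P a := by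
  let θ : (Fin n → F) ≃ₗ[F] (Fin n → F) := Φ.trans (LinearEquiv.funCongrLeft F F e)
  let Q : Matrix (Fin n) (Fin n) F := LinearMap.toMatrix' θ.toLinearMap
  let Q' : Matrix (Fin n) (Fin n) F := LinearMap.toMatrix' θ.symm.toLinearMap
  have h1 : Q' * Q = 1 := by
    rw [← LinearMap.toMatrix'_comp]
    simp
  have h2 : Q * Q' = 1 := by
    rw [← LinearMap.toMatrix'_comp]
    simp
  refine ⟨⟨Q', Q, h1, h2⟩, fun x a hx => ?_⟩
  have hθ : ∀ v, θ (x *ᵥ v) = (Matrix.reindex e.symm e.symm (a ⊗ₖ (1 : Matrix (Fin s) (Fin s) F))) *ᵥ θ v := by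
    intro v
    show (LinearEquiv.funCongrLeft F F e) (Φ (x *ᵥ v)) = _ *ᵥ (LinearEquiv.funCongrLeft F F e) (Φ v)
    rw [hx v]
    ext l
    simp only [LinearEquiv.funCongrLeft_apply, LinearMap.funLeft_apply, Matrix.mulVec, dotProduct,
      Matrix.reindex_apply, Matrix.submatrix_apply, Equiv.symm_symm]
    exact (Fintype.sum_equiv e _ _ (fun _ => rfl)).symm
  have hQ : Q * x = Matrix.reindex e.symm e.symm (a ⊗ₖ (1 : Matrix (Fin s) (Fin s) F)) * Q := by
    have e1 : Q * x = LinearMap.toMatrix' (θ.toLinearMap ∘ₗ Matrix.toLin' x) := by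
      rw [LinearMap.toMatrix'_comp, LinearMap.toMatrix'_toLin']
    have e2 : Matrix.reindex e.symm e.symm (a ⊗ₖ (1 : Matrix (Fin s) (Fin s) F)) * Q
        = LinearMap.toMatrix' (Matrix.toLin' (Matrix.reindex e.symm e.symm (a ⊗ₖ (1 : Matrix (Fin s) (Fin s) F))) ∘ₗ θ.toLinearMap) := by
      rw [LinearMap.toMatrix'_comp, LinearMap.toMatrix'_toLin']
    rw [e1, e2]
    congr 1
    refine LinearMap.ext fun v => ?_
    show θ (Matrix.toLin' x v) = Matrix.toLin' _ (θ v)
    rw [Matrix.toLin'_apply, Matrix.toLin'_apply]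
    exact hθ v
  show x = Q' * _ * Q
  rw [mul_assoc, ← hQ, ← mul_assoc, h1, one_mul]

/-- **Piece 2**: an invertible `x = P (a ⊗ 1) P⁻¹` comes from an invertible `a` -/
theorem exists_gl_of_kronLM {d s : ℕ} (hs : s ≠ 0) (e : Fin n ≃ Fin d × Fin s) (P : GL (Fin n) F)
    (x : GL (Fin n) F) (a : Matrix (Fin d) (Fin d) F) (hx : (x : Matrix (Fin n) (Fin n) F) = kronLM e P a) :
    ∃ y : GL (Fin d) F, (y : Matrix (Fin d) (Fin d) F) = a ∧ kronL e P y = x := by
  have hdet : (x : Matrix (Fin n) (Fin n) F).det = a.det ^ s := by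
    rw [hx, kronLM, Matrix.det_mul, Matrix.det_mul, mul_comm, ← mul_assoc, ← Matrix.det_mul, ← Units.val_mul,
      inv_mul_cancel, Units.val_one, Matrix.det_one, one_mul, Matrix.det_reindex_self, Matrix.det_kronecker]
    simp
  have hx0 : (x : Matrix (Fin n) (Fin n) F).det ≠ 0 := by
    have := Matrix.GeneralLinearGroup.det_ne_zero x
    exact this
  have ha : a.det ≠ 0 := by
    intro h0
    rw [hdet, h0, zero_pow hs] at hx0
    exact hx0 rfl
  refine ⟨Matrix.GeneralLinearGroup.mkOfDetNeZero a ha, rfl, ?_⟩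
  apply Units.ext
  rw [kronL_val, hx]
  rfl


/-- **CL3** (block form) -/
theorem exists_block_form (hn : 1 ≤ n) (X : Subgroup (GL (Fin n) F))
    (hss : IsSemisimpleModule (envEnd X) (Fin n → F)) (hH : Homog X) :
    ∃ (d s : ℕ) (e : Fin n ≃ Fin d × Fin s) (P : GL (Fin n) F) (Y : Subgroup (GL (Fin d) F)),
      Irr Y ∧ X = Y.map (kronL e P) := by
  classical
  have : Nonempty (Fin n) := ⟨⟨0, by omega⟩⟩
  have hnt : Nontrivial (Fin n → F) := inferInstance
  have hfin : Module.Finite (envEnd X) (Fin n → F) := Module.Finite.of_restrictScalars_finite F _ _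
  obtain ⟨s, hs, S, hS, ⟨ε⟩⟩ := IsIsotypic.linearEquiv_fun hH
  set U := toF X S with hU
  set d := Module.finrank F U with hd
  let b : Module.Basis (Fin d) F U := Module.finBasis F U
  let Ψ := psi X S s ε
  let Φ : (Fin n → F) ≃ₗ[F] (Fin d × Fin s → F) :=
    (Ψ.trans (LinearEquiv.piCongrRight fun _ => b.equivFun)).trans (uncurryEquiv d s F)
  have hΦ : ∀ v i j, Φ v (i, j) = b.repr (Ψ v j) i := fun v i j => rfl
  have hcard : n = d * s := by
    have := LinearEquiv.finrank_eq Φ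
    simpa using this
  let e : Fin n ≃ Fin d × Fin s := (finCongr hcard).trans finProdFinEquiv.symm
  obtain ⟨P, hP⟩ := exists_P e Φ
  have hinv : ∀ x ∈ X, ∀ u ∈ U, (x : Matrix (Fin n) (Fin n) F) *ᵥ u ∈ U := by
    intro x hx u hu
    rw [← rX_smul X x hx]
    exact S.smul_mem _ hu
  let res : ∀ x : GL (Fin n) F, x ∈ X → (U →ₗ[F] U) := fun x hx =>
    (Matrix.toLin' (x : Matrix (Fin n) (Fin n) F)).restrict (p := U) (q := U) (fun u hu => by
      rw [Matrix.toLin'_apply]; exact hinv x hx u hu)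
  let A : ∀ x : GL (Fin n) F, x ∈ X → Matrix (Fin d) (Fin d) F := fun x hx => LinearMap.toMatrix b b (res x hx)
  have hA : ∀ x (hx : x ∈ X) (v : Fin n → F), Φ ((x : Matrix (Fin n) (Fin n) F) *ᵥ v)
      = ((A x hx) ⊗ₖ (1 : Matrix (Fin s) (Fin s) F)) *ᵥ Φ v := by
    intro x hx v
    funext ⟨k, j⟩
    rw [hΦ]
    have h1 : Ψ ((x : Matrix (Fin n) (Fin n) F) *ᵥ v) j = res x hx (Ψ v j) := by
      apply Subtype.ext
      rw [psi_mulVec X S s ε x hx v j]
      show _ = Matrix.toLin' (x : Matrix (Fin n) (Fin n) F) ((Ψ v j : U) : Fin n → F)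
      rw [Matrix.toLin'_apply]
    rw [h1, ← LinearMap.toMatrix_mulVec_repr b b (res x hx) (Ψ v j)]
    simp only [Matrix.mulVec, dotProduct, Matrix.kroneckerMap_apply, Fintype.sum_prod_type, Matrix.one_apply]
    refine Finset.sum_congr rfl fun i _ => ?_
    rw [Finset.sum_eq_single j]
    · rw [if_pos rfl, mul_one, hΦ]
    · intro j' _ hj'
      rw [if_neg (Ne.symm hj'), mul_zero, zero_mul]
    · intro h
      exact absurd (Finset.mem_univ j) h
  have hs0 : s ≠ 0 := NeZero.ne s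
  have hY : ∀ x (hx : x ∈ X), ∃ y : GL (Fin d) F, (y : Matrix (Fin d) (Fin d) F) = A x hx ∧ kronL e P y = x := by
    intro x hx
    exact exists_gl_of_kronLM hs0 e P x (A x hx) (hP _ _ (hA x hx))
  refine ⟨d, s, e, P, X.comap (kronL e P), ?_, ?_⟩
  · intro W' hW'
    let W'' : Submodule F (Fin n → F) := (W'.comap b.equivFun.toLinearMap).map U.subtype
    have hW''U : W'' ≤ U := by
      rintro _ ⟨u, _, rfl⟩
      exact u.2
    have hW''inv : ∀ x ∈ X, ∀ v ∈ W'', (x : Matrix (Fin n) (Fin n) F) *ᵥ v ∈ W'' := by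
      rintro x hx _ ⟨u, hu, rfl⟩
      obtain ⟨y, hy1, hy2⟩ := hY x hx
      refine ⟨res x hx u, ?_, ?_⟩
      · show b.equivFun (res x hx u) ∈ W'
        have h3 : b.equivFun (res x hx u) = (A x hx) *ᵥ b.equivFun u :=
          (LinearMap.toMatrix_mulVec_repr b b (res x hx) u).symm
        rw [h3, ← hy1]
        have hyY : y ∈ X.comap (kronL e P) := by rw [Subgroup.mem_comap, hy2]; exact hx
        exact hW' _ ⟨y, hyY, rfl⟩ ⟨b.equivFun u, hu, by rw [Matrix.toLin'_apply]⟩
      · show ((res x hx u : U) : Fin n → F) = _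
        show Matrix.toLin' (x : Matrix (Fin n) (Fin n) F) ((u : U) : Fin n → F) = _
        rw [Matrix.toLin'_apply]
        rfl
    let T : Submodule (envEnd X) (Fin n → F) := envSub X W'' hW''inv
    have hTS : T ≤ S := fun v hv => hW''U hv
    have hatom : IsAtom S := isSimpleModule_iff_isAtom.1 hS
    rcases eq_or_lt_of_le hTS with h | h
    · right
      rw [eq_top_iff]
      intro c _
      have hu : ((b.equivFun.symm c : U) : Fin n → F) ∈ T := by rw [h]; exact (b.equivFun.symm c).2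
      obtain ⟨u, hu1, hu2⟩ := hu
      have h4 : u = b.equivFun.symm c := Subtype.ext hu2
      rw [h4] at hu1
      have hu3 : b.equivFun (b.equivFun.symm c) ∈ W' := hu1
      rwa [LinearEquiv.apply_symm_apply] at hu3
    · left
      have hT : T = ⊥ := hatom.2 T h
      rw [eq_bot_iff]
      intro c hc
      have hu : ((b.equivFun.symm c : U) : Fin n → F) ∈ T :=
        ⟨b.equivFun.symm c, by
          show b.equivFun (b.equivFun.symm c) ∈ W'
          rwa [LinearEquiv.apply_symm_apply], rfl⟩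
      rw [hT] at hu
      have h0 : (b.equivFun.symm c : U) = 0 := Subtype.ext hu
      have h5 : c = 0 := by
        have h6 := congrArg b.equivFun h0
        rwa [LinearEquiv.apply_symm_apply, map_zero] at h6
      rw [h5]
      exact Submodule.zero_mem _
  · ext x
    constructor
    · intro hx
      obtain ⟨y, hy1, hy2⟩ := hY x hx
      exact ⟨y, by rw [SetLike.mem_coe, Subgroup.mem_comap, hy2]; exact hx, hy2⟩
    · rintro ⟨y, hy, rfl⟩
      exact hy

end Cfsg.Agent.Lib.Helper7.S5630I4CL3
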