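import Cfsg.Agent.Lib.Helper1.MinDegTv

/-!
# S2140 front (helper11), piece F5 (helper7): case (ii) of the dichotomy is impossible

If `A v ⊓ H = A2 v (w v)` for every `v ≠ 0` (with `w v ∉ F v`), the planes `λ(v) = span {v, w v}` satisfy
`r ∈ λ(v) ∖ F v → λ(r) = λ(v)`, and `v ∉ λ(u) → w u ∈ span {v, w v, u}`; for `u ∉ λ(v)` this is contradictory.
-/

set_option autoImplicit false

namespace Cfsg.Agent.Lib.Helper11.MinDeg

open Matrix

namespace CaseII

variable {F : Type*} [Field F] {n : ℕ}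

/-- (K1) -/
theorem tv_mem_iff (H : Subgroup (SpecialLinearGroup (Fin n) F)) {v w φ : Fin n → F} (hv : v ≠ 0)
    (hA : A v ⊓ H = A2 v w) (hφ : φ ⬝ᵥ v = 0) : tv v φ ∈ H ↔ φ ⬝ᵥ w = 0 := by
  constructor
  · intro hH
    have h1 : tv v φ ∈ A v ⊓ H := ⟨tv_mem_A hφ, hH⟩
    rw [hA, mem_A2_iff hv] at h1
    obtain ⟨φ', h1', h2', h3'⟩ := h1
    have := tv_injective hv hφ h1' h3'
    rw [this]; exact h2'
  · intro hw
    have h1 : tv v φ ∈ A2 v w := (mem_A2_iff hv w _).2 ⟨φ, hφ, hw, rfl⟩
    rw [← hA] at h1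
    exact h1.2

/-- (R) -/
theorem w_mem_span (H : Subgroup (SpecialLinearGroup (Fin n) F)) {v wv u wu : Fin n → F}
    (hv : v ≠ 0) (hu : u ≠ 0) (hAv : A v ⊓ H = A2 v wv) (hAu : A u ⊓ H = A2 u wu)
    (hvu : v ∉ Submodule.span F {u, wu}) : wu ∈ Submodule.span F {v, wv, u} := by
  by_contra hnot
  obtain ⟨φ, hφS, hφ1⟩ := exists_dual hnot
  obtain ⟨ψ, hψS, hψ1⟩ := exists_dual hvu
  have hφv : φ ⬝ᵥ v = 0 := hφS v (Submodule.subset_span (by simp))
  have hφwv : φ ⬝ᵥ wv = 0 := hφS wv (Submodule.subset_span (by simp))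
  have hφu : φ ⬝ᵥ u = 0 := hφS u (Submodule.subset_span (by simp))
  have hψu : ψ ⬝ᵥ u = 0 := hψS u (Submodule.subset_span (by simp))
  have hψwu : ψ ⬝ᵥ wu = 0 := hψS wu (Submodule.subset_span (by simp))
  have h1 : tv v φ ∈ H := (tv_mem_iff H hv hAv hφv).2 hφwv
  have h2 : tv u ψ ∈ H := (tv_mem_iff H hu hAu hψu).2 hψwu
  have hc := comm_tv (v := v) (φ := φ) (v' := u) (φ' := ψ) hφv hψu hφu
  rw [hψ1, one_smul] at hc
  have h3 : tv u φ ∈ H := by
    rw [← hc]
    exact H.mul_mem (H.mul_mem (H.mul_mem h2 h1) (H.inv_mem h2)) (H.inv_mem h1)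
  have := (tv_mem_iff H hu hAu hφu).1 h3
  rw [hφ1] at this
  exact one_ne_zero this

/-- (a), first half: `r ∈ λ(v) ∖ F v` implies `v ∈ λ(r)` -/
theorem mem_lam_symm (H : Subgroup (SpecialLinearGroup (Fin n) F)) {v wv r wr : Fin n → F}
    (hv : v ≠ 0) (hr : r ≠ 0) (hAv : A v ⊓ H = A2 v wv) (hAr : A r ⊓ H = A2 r wr)
    (hwr : wr ∉ F ∙ r) (hrv : r ∈ Submodule.span F {v, wv}) (hrFv : r ∉ F ∙ v) :
    v ∈ Submodule.span F {r, wr} := by
  by_contra hnot
  have h1 := w_mem_span H hv hr hAv hAr hnot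
  rw [Submodule.mem_span_triple] at h1
  obtain ⟨x, y, z, hxyz⟩ := h1
  rw [Submodule.mem_span_pair] at hrv
  obtain ⟨a, b, hab⟩ := hrv
  have hb : b ≠ 0 := by
    rintro rfl
    apply hrFv
    rw [Submodule.mem_span_singleton]
    exact ⟨a, by rw [← hab, zero_smul, add_zero]⟩
  -- wr = c v + d wv
  have hwr' : wr = (x + z * a) • v + (y + z * b) • wv := by
    rw [← hxyz, ← hab]
    module
  generalize x + z * a = c at hwr'
  generalize y + z * b = d at hwr'
  have hdet : a * d - b * c ≠ 0 := by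
    intro h0
    apply hwr
    rw [Submodule.mem_span_singleton]
    refine ⟨d / b, ?_⟩
    rw [hwr', ← hab]
    have hc' : c = a * d / b := by
      field_simp
      linear_combination -h0
    rw [hc']
    have : (d / b) • (a • v + b • wv) = (a * d / b) • v + d • wv := by
      rw [smul_add, smul_smul, smul_smul]
      congr 2
      · ring
      · field_simp
    exact this
  apply hnot
  rw [Submodule.mem_span_pair]
  refine ⟨d / (a * d - b * c), -b / (a * d - b * c), ?_⟩
  rw [hwr', ← hab]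
  have : (d / (a * d - b * c)) • (a • v + b • wv) + (-b / (a * d - b * c)) • (c • v + d • wv)
      = ((a * d - b * c) / (a * d - b * c)) • v := by
    module
  rw [this, div_self hdet, one_smul]

/-- (a): `r ∈ λ(v) ∖ F v` implies `λ(v) ≤ λ(r)` -/
theorem lam_le (H : Subgroup (SpecialLinearGroup (Fin n) F)) {v wv r wr : Fin n → F}
    (hv : v ≠ 0) (hr : r ≠ 0) (hAv : A v ⊓ H = A2 v wv) (hAr : A r ⊓ H = A2 r wr)
    (hwr : wr ∉ F ∙ r) (hrv : r ∈ Submodule.span F {v, wv}) (hrFv : r ∉ F ∙ v) :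
    Submodule.span F {v, wv} ≤ Submodule.span F {r, wr} := by
  have hvr := mem_lam_symm H hv hr hAv hAr hwr hrv hrFv
  rw [Submodule.span_le]
  intro s hs
  rcases hs with rfl | hs
  · exact hvr
  · rw [Set.mem_singleton_iff] at hs
    subst hs
    -- r = a v + b s with b ≠ 0, so s = (r - a v)/b
    rw [Submodule.mem_span_pair] at hrv
    obtain ⟨a, b, hab⟩ := hrv
    have hb : b ≠ 0 := by
      rintro rfl
      apply hrFv
      rw [Submodule.mem_span_singleton]
      exact ⟨a, by rw [← hab, zero_smul, add_zero]⟩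
    have hs : s = b⁻¹ • r - (b⁻¹ * a) • v := by
      rw [← hab, smul_add, smul_smul, smul_smul, inv_mul_cancel₀ hb, one_smul]
      abel
    rw [hs]
    exact Submodule.sub_mem _ (Submodule.smul_mem _ _ (Submodule.subset_span (by simp)))
      (Submodule.smul_mem _ _ hvr)

end CaseII

variable {F : Type*} [Field F] [Fintype F] {n : ℕ}

/-! ### F5: case (ii) is impossible -/

open CaseII in
theorem caseII_false (hn : 3 ≤ n) (H : Subgroup (SpecialLinearGroup (Fin n) F))
    (h : ∀ v : Fin n → F, v ≠ 0 → ∃ w : Fin n → F, w ∉ F ∙ v ∧ A v ⊓ H = A2 v w) : False := by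
  classical
  -- a non-zero vector
  have hpos : 0 < n := by omega
  let v : Fin n → F := Pi.single ⟨0, hpos⟩ 1
  have hv : v ≠ 0 := Pi.single_ne_zero_iff.2 one_ne_zero
  obtain ⟨wv, hwv, hAv⟩ := h v hv
  -- a vector outside the plane
  have hex : ∃ u : Fin n → F, u ∉ Submodule.span F {v, wv} := by
    by_contra hall
    push Not at hall
    have htop : Submodule.span F {v, wv} = ⊤ := by
      rw [eq_top_iff]; intro x _; exact hall x
    have h1 : Module.finrank F (Submodule.span F ({v, wv} : Set (Fin n → F))) ≤ 2 := by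
      have := finrank_span_le_card (R := F) ({v, wv} : Set (Fin n → F))
      refine this.trans ?_
      rw [Set.toFinset_insert, Set.toFinset_singleton]
      exact Finset.card_insert_le _ _ |>.trans (by simp)
    rw [htop, finrank_top, Module.finrank_fin_fun] at h1
    omega
  obtain ⟨u, hu⟩ := hex
  have hu0 : u ≠ 0 := by
    rintro rfl
    exact hu (Submodule.zero_mem _)
  obtain ⟨wu, hwu, hAu⟩ := h u hu0
  -- `v ∉ λ(u)`
  have hvu : v ∉ Submodule.span F {u, wu} := by
    intro hmem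
    have hvFu : v ∉ F ∙ u := by
      intro hm
      rw [Submodule.mem_span_singleton] at hm
      obtain ⟨c, hc⟩ := hm
      have hc0 : c ≠ 0 := by
        rintro rfl
        rw [zero_smul] at hc
        exact hv hc.symm
      apply hu
      have : u = c⁻¹ • v := by rw [← hc, smul_smul, inv_mul_cancel₀ hc0, one_smul]
      rw [this]
      exact Submodule.smul_mem _ _ (Submodule.subset_span (by simp))
    have hle := lam_le H hu0 hv hAu hAv hwv hmem hvFu
    exact hu (hle (Submodule.subset_span (by simp)))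
  -- `wu ∈ span {v, wv, u}`
  have h1 := w_mem_span H hv hu0 hAv hAu hvu
  rw [Submodule.mem_span_triple] at h1
  obtain ⟨a, b, c, habc⟩ := h1
  -- the common vector
  set r : Fin n → F := a • v + b • wv with hr
  have hr' : r = wu - c • u := eq_sub_of_add_eq habc
  have hr0 : r ≠ 0 := by
    intro h0
    apply hwu
    rw [Submodule.mem_span_singleton]
    refine ⟨c, ?_⟩
    rw [h0] at hr'
    rw [eq_comm, sub_eq_zero] at hr'
    exact hr'.symm
  have hrv : r ∈ Submodule.span F {v, wv} := Submodule.mem_span_pair.2 ⟨a, b, rfl⟩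
  have hru : r ∈ Submodule.span F {u, wu} := by
    rw [hr']
    exact Submodule.sub_mem _ (Submodule.subset_span (by simp))
      (Submodule.smul_mem _ _ (Submodule.subset_span (by simp)))
  have hrFv : r ∉ F ∙ v := by
    intro hm
    rw [Submodule.mem_span_singleton] at hm
    obtain ⟨t, ht⟩ := hm
    have ht0 : t ≠ 0 := by
      rintro rfl
      rw [zero_smul] at ht
      exact hr0 ht.symm
    apply hvu
    have : v = t⁻¹ • r := by rw [← ht, smul_smul, inv_mul_cancel₀ ht0, one_smul]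
    rw [this]
    exact Submodule.smul_mem _ _ hru
  have hrFu : r ∉ F ∙ u := by
    intro hm
    rw [Submodule.mem_span_singleton] at hm
    obtain ⟨t, ht⟩ := hm
    have ht0 : t ≠ 0 := by
      rintro rfl
      rw [zero_smul] at ht
      exact hr0 ht.symm
    apply hu
    have : u = t⁻¹ • r := by rw [← ht, smul_smul, inv_mul_cancel₀ ht0, one_smul]
    rw [this]
    exact Submodule.smul_mem _ _ hrv
  obtain ⟨wr, hwr, hAr⟩ := h r hr0
  -- `λ(u) ≤ λ(r)` and `λ(r) ≤ λ(v)`
  have h2 : Submodule.span F {u, wu} ≤ Submodule.span F {r, wr} :=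
    lam_le H hu0 hr0 hAu hAr hwr hru hrFu
  -- `v ∈ λ(r) ∖ F r`, hence `λ(r) ≤ λ(v)`
  have hvr : v ∈ Submodule.span F {r, wr} := mem_lam_symm H hv hr0 hAv hAr hwr hrv hrFv
  have hvFr : v ∉ F ∙ r := by
    intro hm
    rw [Submodule.mem_span_singleton] at hm
    obtain ⟨t, ht⟩ := hm
    apply hvu
    rw [← ht]
    exact Submodule.smul_mem _ _ hru
  have h3 : Submodule.span F {r, wr} ≤ Submodule.span F {v, wv} :=
    lam_le H hr0 hv hAr hAv hwv hvr hvFr
  exact hu (h3 (h2 (Submodule.subset_span (by simp))))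

end Cfsg.Agent.Lib.Helper11.MinDeg
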