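import Mathlib
import Cfsg.Prelude.Def_Characters
import Cfsg.Agent.Lib.Helper25.Ortho2
import Cfsg.Agent.Lib.Helper2.Invariants
import Cfsg.Agent.Lib.Helper7.InvolPairs

/-!
# Pointwise form of the class-algebra constant for `J^G * J^G`, and monotonicity of the
multiplicity of the trivial character under restriction
-/

set_option autoImplicit false
open scoped ComplexConjugate
open Cfsg
open Cfsg.Agent.Lib.Helper25

namespace Cfsg.Agent.Lib.Helper7

section

variable {G : Type*} [Group G] [Fintype G] [DecidableEq G]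

/-- pointwise expansion of `pairCount` -/
theorem pairCount_eq_sum_irr [Fintype (Cfsg.IrrCharacter G)] (J w : G) :
    pairCount J w = (Nat.card G : ℂ) * ∑ χ : Cfsg.IrrCharacter G,
      conj ((χ : G → ℂ) J * (χ : G → ℂ) J / (χ : G → ℂ) 1) * (χ : G → ℂ) w := by
  rw [classFunction_expansion (pairCount J) (pairCount_isClassFunction J) w, Finset.mul_sum]
  apply Finset.sum_congr rfl
  intro χ _
  rw [classInner_pairCount J χ.2, mul_assoc (Nat.card G : ℂ), mul_div_assoc, map_mul,
    Complex.conj_natCast]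
  ring

/-- `pairCount` as a count of pairs of conjugates -/
theorem pairCount_eq_card (J w : G) :
    pairCount J w = (Nat.card (Subgroup.centralizer ({J} : Set G)) : ℂ) ^ 2
      * (Nat.card {p : G × G // IsConj J p.1 ∧ IsConj J p.2 ∧ p.1 * p.2 = w} : ℂ) := by
  classical
  unfold pairCount
  rw [sum_sum_conj_eq (fun x y => if x * y = w then (1 : ℂ) else 0) J]
  congr 1
  rw [Nat.card_eq_fintype_card, Fintype.card_subtype, ← Finset.sum_product',
    Finset.card_filter, Nat.cast_sum]
  apply Finset.sum_congr rfl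
  intro p _
  by_cases h1 : IsConj J p.1 ∧ IsConj J p.2
  · rw [if_pos h1]
    by_cases h2 : p.1 * p.2 = w
    · rw [if_pos h2, if_pos ⟨h1.1, h1.2, h2⟩]; simp
    · rw [if_neg h2, if_neg (fun h => h2 h.2.2)]; simp
  · rw [if_neg h1, if_neg (fun h => h1 ⟨h.1, h.2.1⟩)]; simp

/-- **Class-algebra constant, count form**:
`|C(J)|² · #{(x,y) ∈ J^G × J^G : x y = w} = |G| ∑_χ conj(χ(J)²/χ(1)) χ(w)`. -/
theorem card_centralizer_sq_mul_card_pairs [Fintype (Cfsg.IrrCharacter G)] (J w : G) :
    (Nat.card (Subgroup.centralizer ({J} : Set G)) : ℂ) ^ 2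
      * (Nat.card {p : G × G // IsConj J p.1 ∧ IsConj J p.2 ∧ p.1 * p.2 = w} : ℂ)
      = (Nat.card G : ℂ) * ∑ χ : Cfsg.IrrCharacter G,
        conj ((χ : G → ℂ) J * (χ : G → ℂ) J / (χ : G → ℂ) 1) * (χ : G → ℂ) w := by
  rw [← pairCount_eq_card, pairCount_eq_sum_irr]

end

section

variable {G : Type*} [Group G]

/-- the multiplicity of the trivial character in the restriction of a character to a subgroup
is a natural number, and it decreases when the subgroup grows -/
theorem classInner_restrict_one_mono {χ : G → ℂ} (hχ : Cfsg.IsCharacter G χ)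
    (H K : Subgroup G) [Fintype H] [Fintype K] (hHK : H ≤ K) :
    ∃ a b : ℕ, Cfsg.classInner (fun x : K => χ x) (fun _ => 1) = (a : ℂ)
      ∧ Cfsg.classInner (fun x : H => χ x) (fun _ => 1) = (b : ℂ) ∧ a ≤ b := by
  obtain ⟨n, ρ, rfl⟩ := hχ
  refine ⟨_, _, Cfsg.Agent.Lib.Helper2.classInner_restrict_one_eq_finrank ρ K,
    Cfsg.Agent.Lib.Helper2.classInner_restrict_one_eq_finrank ρ H, ?_⟩
  apply Submodule.finrank_mono
  intro v hv g
  exact hv ⟨g, hHK g.2⟩

end

end Cfsg.Agent.Lib.Helper7
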