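import Mathlib
import Cfsg.Prelude.Def_Characters
import Cfsg.Agent.Lib.Helper25.Ortho2
import Cfsg.Agent.Lib.Helper7.InvolPairs

/-!
# The class-algebra constant for two classes `J₁^G * J₂^G`, pointwise via characters
-/

set_option autoImplicit false
open scoped ComplexConjugate
open Cfsg
open Cfsg.Agent.Lib.Helper25

namespace Cfsg.Agent.Lib.Helper7

section

variable {G : Type*} [Group G] [Fintype G] [DecidableEq G]

/-- the number of pairs `(h₁, h₂)` with `h₁ J₁ h₁⁻¹ * h₂ J₂ h₂⁻¹ = w` -/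
noncomputable def pairCount2 (J₁ J₂ : G) (w : G) : ℂ :=
  ∑ h₁ : G, ∑ h₂ : G, if h₁ * J₁ * h₁⁻¹ * (h₂ * J₂ * h₂⁻¹) = w then (1 : ℂ) else 0

theorem pairCount2_isClassFunction (J₁ J₂ : G) : Cfsg.IsClassFunction G (pairCount2 J₁ J₂) := by
  intro w g
  unfold pairCount2
  rw [← Equiv.sum_comp (Equiv.mulLeft g)]
  apply Finset.sum_congr rfl
  intro h₁ _
  rw [← Equiv.sum_comp (Equiv.mulLeft g)]
  apply Finset.sum_congr rfl
  intro h₂ _
  have e : (Equiv.mulLeft g) h₁ * J₁ * ((Equiv.mulLeft g) h₁)⁻¹ *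
      ((Equiv.mulLeft g) h₂ * J₂ * ((Equiv.mulLeft g) h₂)⁻¹)
      = g * (h₁ * J₁ * h₁⁻¹ * (h₂ * J₂ * h₂⁻¹)) * g⁻¹ := by
    simp only [Equiv.coe_mulLeft]; group
  rw [e]
  by_cases h : h₁ * J₁ * h₁⁻¹ * (h₂ * J₂ * h₂⁻¹) = w
  · rw [if_pos h, if_pos (by rw [h])]
  · rw [if_neg h, if_neg]
    intro h'
    apply h
    exact mul_left_cancel (mul_right_cancel h')

theorem sum_pairCount2_mul (J₁ J₂ : G) (f : G → ℂ) :
    ∑ w : G, pairCount2 J₁ J₂ w * f w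
      = ∑ h₁ : G, ∑ h₂ : G, f (h₁ * J₁ * h₁⁻¹ * (h₂ * J₂ * h₂⁻¹)) := by
  unfold pairCount2
  simp_rw [Finset.sum_mul]
  rw [Finset.sum_comm]
  apply Finset.sum_congr rfl
  intro h₁ _
  rw [Finset.sum_comm]
  apply Finset.sum_congr rfl
  intro h₂ _
  simp_rw [ite_mul, one_mul, zero_mul]
  rw [Finset.sum_ite_eq]
  simp

theorem classInner_pairCount2 (J₁ J₂ : G) {χ : G → ℂ} (hχ : Cfsg.IsIrrCharacter G χ) :
    Cfsg.classInner (pairCount2 J₁ J₂) χ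
      = conj ((Nat.card G : ℂ) * χ J₁ * χ J₂ / χ 1) := by
  unfold Cfsg.classInner
  have h1 : ∑ w : G, pairCount2 J₁ J₂ w * conj (χ w)
      = ∑ h₁ : G, ∑ h₂ : G, conj (χ (h₁ * J₁ * h₁⁻¹ * (h₂ * J₂ * h₂⁻¹))) :=
    sum_pairCount2_mul J₁ J₂ (fun w => conj (χ w))
  rw [h1]
  have hcf := isClassFunction_of_char (isCharacter_of_irr hχ)
  have h2 : ∀ h₁ : G, ∑ h₂ : G, conj (χ (h₁ * J₁ * h₁⁻¹ * (h₂ * J₂ * h₂⁻¹)))
      = conj ((Nat.card G : ℂ) * χ J₁ * χ J₂ / χ 1) := by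
    intro h₁
    rw [← map_sum, sum_char_mul_conj hχ, hcf J₁ h₁]
  rw [Finset.sum_congr rfl (fun h₁ _ => h2 h₁), Finset.sum_const, Finset.card_univ,
    nsmul_eq_mul, ← Nat.card_eq_fintype_card, ← mul_assoc, inv_mul_cancel₀, one_mul]
  exact_mod_cast Nat.card_pos.ne'

/-- pointwise expansion of `pairCount2` -/
theorem pairCount2_eq_sum_irr [Fintype (Cfsg.IrrCharacter G)] (J₁ J₂ w : G) :
    pairCount2 J₁ J₂ w = (Nat.card G : ℂ) * ∑ χ : Cfsg.IrrCharacter G,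
      conj ((χ : G → ℂ) J₁ * (χ : G → ℂ) J₂ / (χ : G → ℂ) 1) * (χ : G → ℂ) w := by
  rw [classFunction_expansion (pairCount2 J₁ J₂) (pairCount2_isClassFunction J₁ J₂) w,
    Finset.mul_sum]
  apply Finset.sum_congr rfl
  intro χ _
  rw [classInner_pairCount2 J₁ J₂ χ.2, mul_assoc (Nat.card G : ℂ), mul_div_assoc, map_mul,
    Complex.conj_natCast]
  ring

/-- a double sum over conjugates of `J₁` and of `J₂` -/
theorem sum_sum_conj_eq2 (F : G → G → ℂ) (J₁ J₂ : G) [DecidablePred (IsConj J₁)]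
    [DecidablePred (IsConj J₂)] :
    ∑ h₁ : G, ∑ h₂ : G, F (h₁ * J₁ * h₁⁻¹) (h₂ * J₂ * h₂⁻¹)
      = (Nat.card (Subgroup.centralizer ({J₁} : Set G)) : ℂ)
        * (Nat.card (Subgroup.centralizer ({J₂} : Set G)) : ℂ)
        * ∑ x : G, ∑ y : G, if IsConj J₁ x ∧ IsConj J₂ y then F x y else 0 := by
  have h1 : ∀ h₁ : G, ∑ h₂ : G, F (h₁ * J₁ * h₁⁻¹) (h₂ * J₂ * h₂⁻¹)
      = (Nat.card (Subgroup.centralizer ({J₂} : Set G)) : ℂ)
        * ∑ y : G, if IsConj J₂ y then F (h₁ * J₁ * h₁⁻¹) y else 0 :=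
    fun h₁ => sum_conj_eq' (fun y => F (h₁ * J₁ * h₁⁻¹) y) J₂
  rw [Finset.sum_congr rfl (fun h₁ _ => h1 h₁), ← Finset.mul_sum,
    sum_conj_eq' (fun x => ∑ y : G, if IsConj J₂ y then F x y else 0) J₁]
  rw [mul_comm (Nat.card (Subgroup.centralizer ({J₁} : Set G)) : ℂ)
    (Nat.card (Subgroup.centralizer ({J₂} : Set G)) : ℂ), mul_assoc]
  congr 2
  apply Finset.sum_congr rfl
  intro x _
  by_cases hx : IsConj J₁ x
  · rw [if_pos hx]
    apply Finset.sum_congr rfl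
    intro y _
    by_cases hy : IsConj J₂ y
    · rw [if_pos hy, if_pos ⟨hx, hy⟩]
    · rw [if_neg hy, if_neg (fun h => hy h.2)]
  · rw [if_neg hx]
    symm
    apply Finset.sum_eq_zero
    intro y _
    rw [if_neg (fun h => hx h.1)]

/-- `pairCount2` as a count of pairs of conjugates -/
theorem pairCount2_eq_card (J₁ J₂ w : G) :
    pairCount2 J₁ J₂ w = (Nat.card (Subgroup.centralizer ({J₁} : Set G)) : ℂ)
      * (Nat.card (Subgroup.centralizer ({J₂} : Set G)) : ℂ)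
      * (Nat.card {p : G × G // IsConj J₁ p.1 ∧ IsConj J₂ p.2 ∧ p.1 * p.2 = w} : ℂ) := by
  classical
  unfold pairCount2
  rw [sum_sum_conj_eq2 (fun x y => if x * y = w then (1 : ℂ) else 0) J₁ J₂]
  congr 1
  rw [Nat.card_eq_fintype_card, Fintype.card_subtype, ← Finset.sum_product',
    Finset.card_filter, Nat.cast_sum]
  apply Finset.sum_congr rfl
  intro p _
  by_cases h1 : IsConj J₁ p.1 ∧ IsConj J₂ p.2
  · rw [if_pos h1]
    by_cases h2 : p.1 * p.2 = w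
    · rw [if_pos h2, if_pos ⟨h1.1, h1.2, h2⟩]; simp
    · rw [if_neg h2, if_neg (fun h => h2 h.2.2)]; simp
  · rw [if_neg h1, if_neg (fun h => h1 ⟨h.1, h.2.1⟩)]; simp

/-- **Class-algebra constant for two classes, count form**:
`|C(J₁)| |C(J₂)| · #{(x,y) ∈ J₁^G × J₂^G : x y = w} = |G| ∑_χ conj(χ(J₁) χ(J₂)/χ(1)) χ(w)`. -/
theorem card_centralizer_mul_card_pairs2 [Fintype (Cfsg.IrrCharacter G)] (J₁ J₂ w : G) :
    (Nat.card (Subgroup.centralizer ({J₁} : Set G)) : ℂ)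
      * (Nat.card (Subgroup.centralizer ({J₂} : Set G)) : ℂ)
      * (Nat.card {p : G × G // IsConj J₁ p.1 ∧ IsConj J₂ p.2 ∧ p.1 * p.2 = w} : ℂ)
      = (Nat.card G : ℂ) * ∑ χ : Cfsg.IrrCharacter G,
        conj ((χ : G → ℂ) J₁ * (χ : G → ℂ) J₂ / (χ : G → ℂ) 1) * (χ : G → ℂ) w := by
  rw [← pairCount2_eq_card, pairCount2_eq_sum_irr]

end

end Cfsg.Agent.Lib.Helper7
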