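import Mathlib
import Cfsg.Prelude.Def_GeometricClasses
import Cfsg.Agent.Lib.Helper2.FormRedU
import Cfsg.Agent.Lib.Helper11.U4Defs

/-!
# S5663, block U4, piece U4T-H: hermitian normalisation of the two factors of a tensor form (helper7)

`exists_unitary_factors`: exact signature of `notes/S5663U4Skel_helper11.lean.txt`.
-/

set_option autoImplicit false

namespace Cfsg.Agent.Lib.Helper7.S5663U4TH

open Matrix Cfsg Cfsg.Geo Cfsg.Agent.Lib.Helper2.FormRedU Cfsg.Agent.Lib.Helper11.U4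
open scoped MatrixGroups Kronecker

variable {F : Type*} [Field F] [Fintype F] {n q : ℕ}

theorem q_ne_zero (hF : Fintype.card F = q ^ 2) : q ≠ 0 := by
  have := two_le_q hF
  omega

omit [Fintype F] in
/-- value of `formOfGram (· ^ q) G` on two standard basis vectors -/
theorem fog_single {κ : Type} [Fintype κ] [DecidableEq κ] (hq0 : q ≠ 0) (G : Matrix κ κ F) (a b : κ) :
    formOfGram (fun x : F => x ^ q) G (Pi.single a 1) (Pi.single b 1) = G a b := by
  unfold formOfGram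
  rw [Finset.sum_eq_single a]
  · rw [Finset.sum_eq_single b]
    · simp
    · intro b' _ hb'
      simp [hb', hq0]
    · intro h; exact absurd (Finset.mem_univ b) h
  · intro a' _ ha'
    simp [Pi.single_apply, ha']
  · intro h; exact absurd (Finset.mem_univ a) h

omit [Fintype F] in
theorem fog_eq_dot {κ : Type} [Fintype κ] (τ : F → F) (G : Matrix κ κ F) (x y : κ → F) :
    formOfGram τ G x y = x ⬝ᵥ (G *ᵥ (τ ∘ y)) := by
  unfold formOfGram
  simp only [dotProduct, Matrix.mulVec, Function.comp]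
  refine Finset.sum_congr rfl fun a _ => ?_
  rw [Finset.mul_sum]
  refine Finset.sum_congr rfl fun b _ => ?_
  ring

omit [Fintype F] in
theorem gramMatrix_fog {κ : Type} [Fintype κ] [DecidableEq κ] (hq0 : q ≠ 0) (G : Matrix κ κ F) :
    gramMatrix (formOfGram (fun x : F => x ^ q) G) = G := by
  ext a b
  exact fog_single hq0 G a b

/-- the form with a hermitian invertible Gram matrix is a unitary form -/
theorem isUnitaryFormPow_fog (hF : Fintype.card F = q ^ 2) {d : ℕ} (A : Matrix (Fin d) (Fin d) F)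
    (hA : ∀ i k, (A k i) ^ q = A i k) (hdet : IsUnit A.det) :
    IsUnitaryFormPow q (formOfGram (fun a : F => a ^ q) A) := by
  have hq0 := q_ne_zero hF
  have hherm : ∀ v w : Fin d → F, formOfGram (fun a : F => a ^ q) A v w =
      (formOfGram (fun a : F => a ^ q) A w v) ^ q := by
    intro v w
    unfold formOfGram
    rw [sum_pow_q hF]
    simp_rw [sum_pow_q hF, mul_pow, pow_card_sq hF, hA]
    rw [Finset.sum_comm]
    refine Finset.sum_congr rfl fun a _ => Finset.sum_congr rfl fun b _ => ?_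
    ring
  have hleft : ∀ v : Fin d → F, v ≠ 0 → ∃ x, formOfGram (fun a : F => a ^ q) A x v ≠ 0 := by
    intro v hv
    have h1 : ((fun a : F => a ^ q) ∘ v) ≠ 0 := by
      intro h
      apply hv
      ext i
      have := congrFun h i
      simp only [Function.comp_apply, Pi.zero_apply] at this
      exact pow_eq_zero_iff hq0 |>.mp this
    have h2 : A *ᵥ ((fun a : F => a ^ q) ∘ v) ≠ 0 := by
      intro h
      exact h1 (Matrix.eq_zero_of_mulVec_eq_zero (isUnit_iff_ne_zero.mp hdet) h)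
    obtain ⟨i, hi⟩ := Function.ne_iff.mp h2
    refine ⟨Pi.single i 1, ?_⟩
    rw [fog_eq_dot, single_one_dotProduct]
    exact hi
  refine ⟨?_, ?_, hherm, ?_⟩
  · intro x y v
    unfold formOfGram
    simp only [Pi.add_apply, add_mul, Finset.sum_add_distrib]
  · intro c x v
    unfold formOfGram
    simp only [Pi.smul_apply, smul_eq_mul, Finset.mul_sum, mul_assoc]
  · intro v hv
    obtain ⟨x, hx⟩ := hleft v hv
    refine ⟨⟨x, hx⟩, ⟨x, ?_⟩⟩
    rw [hherm]
    exact pow_ne_zero q hx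

omit [Fintype F] in
theorem exists_ne_zero_entry {d : ℕ} (hd : 1 ≤ d) (G : Matrix (Fin d) (Fin d) F) (h : IsUnit G.det) :
    ∃ i k, G i k ≠ 0 := by
  by_contra hcon
  push Not at hcon
  have h0 : G = 0 := by
    ext i k
    exact hcon i k
  have hne : Nonempty (Fin d) := ⟨⟨0, by omega⟩⟩
  rw [h0, Matrix.det_zero] at h
  exact not_isUnit_zero h

/-- **U4T-H** -/
theorem exists_unitary_factors (hF : Fintype.card F = q ^ 2) {d s : ℕ} (hd : 1 ≤ d) (hs : 1 ≤ s)
    (G₁ : Matrix (Fin d) (Fin d) F) (G₂ : Matrix (Fin s) (Fin s) F) (h1 : IsUnit G₁.det) (h2 : IsUnit G₂.det)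
    (hherm : ∀ x y : Fin d × Fin s → F, formOfGram (fun a : F => a ^ q) (G₁ ⊗ₖ G₂) x y =
      (formOfGram (fun a : F => a ^ q) (G₁ ⊗ₖ G₂) y x) ^ q) :
    ∃ (f₁ : (Fin d → F) → (Fin d → F) → F) (f₂ : (Fin s → F) → (Fin s → F) → F),
      IsUnitaryFormPow q f₁ ∧ IsUnitaryFormPow q f₂ ∧ gramMatrix f₁ ⊗ₖ gramMatrix f₂ = G₁ ⊗ₖ G₂ := by
  have hq0 := q_ne_zero hF
  -- entrywise hermitian identity
  have hent : ∀ i k j l, G₁ i k * G₂ j l = (G₁ k i) ^ q * (G₂ l j) ^ q := by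
    intro i k j l
    have := hherm (Pi.single (i, j) 1) (Pi.single (k, l) 1)
    rw [fog_single hq0, fog_single hq0] at this
    simpa [Matrix.kroneckerMap_apply, mul_pow] using this
  obtain ⟨i₀, k₀, h10⟩ := exists_ne_zero_entry hd G₁ h1
  obtain ⟨j₀, l₀, h20⟩ := exists_ne_zero_entry hs G₂ h2
  have h3 : (G₁ k₀ i₀) ^ q * (G₂ l₀ j₀) ^ q ≠ 0 := by
    rw [← hent]
    exact mul_ne_zero h10 h20
  have h30 : (G₂ l₀ j₀) ^ q ≠ 0 := right_ne_zero_of_mul h3
  have h31 : (G₁ k₀ i₀) ^ q ≠ 0 := left_ne_zero_of_mul h3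
  set lam : F := G₂ j₀ l₀ / (G₂ l₀ j₀) ^ q with hlam
  have hlam0 : lam ≠ 0 := div_ne_zero h20 h30
  have hG1 : ∀ i k, (G₁ k i) ^ q = lam * G₁ i k := by
    intro i k
    have := hent i k j₀ l₀
    rw [hlam]
    field_simp
    rw [← this]
    ring
  have hG2 : ∀ j l, (G₂ l j) ^ q = lam⁻¹ * G₂ j l := by
    intro j l
    have := hent i₀ k₀ j l
    rw [hG1 i₀ k₀] at this
    have h4 : lam * G₁ i₀ k₀ ≠ 0 := mul_ne_zero hlam0 h10
    field_simp
    have h5 : lam * G₁ i₀ k₀ * (G₂ l j) ^ q = G₁ i₀ k₀ * G₂ j l := this.symm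
    have h6 : G₁ i₀ k₀ * ((G₂ l j) ^ q * lam) = G₁ i₀ k₀ * G₂ j l := by
      rw [← h5]; ring
    exact mul_left_cancel₀ h10 h6
  have hnorm : lam * lam ^ q = 1 := by
    have h4 : ((G₁ i₀ k₀) ^ q) ^ q = G₁ i₀ k₀ := pow_card_sq hF _
    rw [hG1 k₀ i₀, mul_pow, hG1 i₀ k₀] at h4
    have h5 : (lam * lam ^ q) * G₁ i₀ k₀ = 1 * G₁ i₀ k₀ := by
      rw [one_mul]
      calc lam * lam ^ q * G₁ i₀ k₀ = lam ^ q * (lam * G₁ i₀ k₀) := by ring
        _ = G₁ i₀ k₀ := h4
    exact mul_right_cancel₀ h10 h5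
  -- Hilbert 90
  obtain ⟨μ, hμ0, hμ⟩ : ∃ μ : F, μ ≠ 0 ∧ lam * μ ^ q = μ := by
    by_contra hcon
    push Not at hcon
    have hall : ∀ c : F, c + lam * c ^ q = 0 := by
      intro c
      by_contra hc
      apply hcon _ hc
      rw [add_pow_q hF, mul_pow, pow_card_sq hF, mul_add, ← mul_assoc, hnorm, one_mul, add_comm]
    have hl1 : lam = -1 := by
      have := hall 1
      rw [one_pow, mul_one] at this
      exact (eq_neg_of_add_eq_zero_right this)
    apply frobE_ne_refl hF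
    ext c
    have := hall c
    rw [hl1] at this
    simp only [frobE_apply, RingEquiv.refl_apply]
    have h6 : c - c ^ q = 0 := by rw [← this]; ring
    exact (sub_eq_zero.mp h6).symm
  have hμq0 : μ ^ q ≠ 0 := pow_ne_zero q hμ0
  refine ⟨formOfGram (fun a : F => a ^ q) (μ • G₁), formOfGram (fun a : F => a ^ q) (μ⁻¹ • G₂),
    isUnitaryFormPow_fog hF _ ?_ ?_, isUnitaryFormPow_fog hF _ ?_ ?_, ?_⟩
  · intro i k
    simp only [Matrix.smul_apply, smul_eq_mul, mul_pow, hG1 i k]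
    calc μ ^ q * (lam * G₁ i k) = (lam * μ ^ q) * G₁ i k := by ring
      _ = μ * G₁ i k := by rw [hμ]
  · rw [Matrix.det_smul]
    exact (IsUnit.pow _ (isUnit_iff_ne_zero.mpr hμ0)).mul h1
  · intro j l
    simp only [Matrix.smul_apply, smul_eq_mul, mul_pow, hG2 j l, inv_pow]
    have : (μ ^ q)⁻¹ * lam⁻¹ = μ⁻¹ := by
      rw [← mul_inv, mul_comm, hμ]
    calc (μ ^ q)⁻¹ * (lam⁻¹ * G₂ j l) = ((μ ^ q)⁻¹ * lam⁻¹) * G₂ j l := by ring
      _ = μ⁻¹ * G₂ j l := by rw [this]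
  · rw [Matrix.det_smul]
    exact (IsUnit.pow _ (isUnit_iff_ne_zero.mpr (inv_ne_zero hμ0))).mul h2
  · rw [gramMatrix_fog hq0, gramMatrix_fog hq0, Matrix.smul_kronecker, Matrix.kronecker_smul, smul_smul,
      mul_inv_cancel₀ hμ0, one_smul]

end Cfsg.Agent.Lib.Helper7.S5663U4TH
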