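import Mathlib
import Cfsg.Agent.Lib.Helper12.S2933Defs

/-!
# S2933 FO-C2 (for helper12): the abelian case with all involutions in `V`

`T` abelian, every involution in `V`  ⟹  `T = ⟨x⟩ × ⟨σ x⟩` for `x` of maximal order.
-/

set_option autoImplicit false

namespace Cfsg.Agent.Lib.Helper7.S2933

open Subgroup Cfsg.Agent.Lib.Helper12.S2933

variable {T : Type*} [Group T] {V : Subgroup T} {τ σ : MulAut T}

/-- the unique involution of a cyclic group of order `2^n` -/
theorem invol_unique [Finite T] (y : T) (n : ℕ) (hn : 1 ≤ n) (hy : orderOf y = 2 ^ n)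
    (i : T) (hi : i ∈ zpowers y) (hi2 : i * i = 1) (hi1 : i ≠ 1) : i = y ^ (2 ^ (n - 1)) := by
  have hi' : i ∈ Submonoid.powers y := mem_powers_iff_mem_zpowers.mpr hi
  obtain ⟨k, hk⟩ := hi'
  have hk' : y ^ k = i := hk
  subst hk'
  have h1 : y ^ (2 * k) = 1 := by
    rw [two_mul, pow_add]; exact hi2
  have h2 : 2 ^ n ∣ 2 * k := by
    rw [← hy]; exact orderOf_dvd_of_pow_eq_one h1
  obtain ⟨n', rfl⟩ : ∃ n', n = n' + 1 := ⟨n - 1, by omega⟩
  have h3 : 2 ^ n' ∣ k := by
    rw [pow_succ, mul_comm] at h2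
    exact Nat.dvd_of_mul_dvd_mul_left (by norm_num) h2
  obtain ⟨m, rfl⟩ := h3
  have h0 : (y ^ (2 ^ n')) ^ 2 = 1 := by
    rw [← pow_mul, ← pow_succ, ← hy]; exact pow_orderOf_eq_one y
  simp only [Nat.add_sub_cancel]
  rcases Nat.even_or_odd' m with ⟨m', hm | hm⟩
  · exfalso
    apply hi1
    rw [pow_mul, hm, pow_mul, h0, one_pow]
  · rw [pow_mul, hm, pow_succ, pow_mul, h0, one_pow, one_mul]

/-- counting: elements killed by `2^n` -/
theorem card_pow_le [Fintype T] [DecidableEq T] (H : Hyp V τ σ) (hc : ∀ a b : T, a * b = b * a)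
    (hinv : ∀ e : T, e * e = 1 → e ∈ V) (n : ℕ) :
    (Finset.univ.filter (fun b : T => b ^ (2 ^ n) = 1)).card ≤ 4 ^ n := by
  classical
  induction n with
  | zero =>
    simp only [pow_zero, pow_one]
    rw [Finset.card_le_one]
    intro a ha b hb
    rw [Finset.mem_filter] at ha hb
    rw [ha.2, hb.2]
  | succ n ih =>
    have himg : (Finset.univ.filter (fun b : T => b ^ (2 ^ (n + 1)) = 1)).image (fun b => b * b) ⊆
        Finset.univ.filter (fun b : T => b ^ (2 ^ n) = 1) := by
      intro c hcm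
      rw [Finset.mem_image] at hcm
      obtain ⟨b, hb, rfl⟩ := hcm
      rw [Finset.mem_filter] at hb ⊢
      refine ⟨Finset.mem_univ _, ?_⟩
      rw [← pow_two, ← pow_mul, ← pow_succ']
      exact hb.2
    have hfib : ∀ c ∈ (Finset.univ.filter (fun b : T => b ^ (2 ^ (n + 1)) = 1)).image
        (fun b => b * b),
        ((Finset.univ.filter (fun b : T => b ^ (2 ^ (n + 1)) = 1)).filter
          (fun b => b * b = c)).card ≤ 4 := by
      intro c hcm
      rw [Finset.mem_image] at hcm
      obtain ⟨b₀, _, rfl⟩ := hcm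
      haveI : Fintype V := Fintype.ofFinite V
      have hV4 : Fintype.card V = 4 := by
        rw [← Nat.card_eq_fintype_card]; exact H.Vcard
      have hsub : (Finset.univ.filter (fun b : T => b ^ (2 ^ (n + 1)) = 1)).filter
          (fun b => b * b = b₀ * b₀) ⊆
          (Finset.univ : Finset V).image (fun v : V => (v : T) * b₀) := by
        intro b hb
        rw [Finset.mem_filter] at hb
        rw [Finset.mem_image]
        have hv : b * b₀⁻¹ ∈ V := by
          apply hinv
          calc b * b₀⁻¹ * (b * b₀⁻¹) = (b * b) * (b₀⁻¹ * b₀⁻¹) := by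
                rw [mul_assoc, ← mul_assoc b₀⁻¹ b, hc b₀⁻¹ b]; group
            _ = 1 := by rw [hb.2]; group
        exact ⟨⟨b * b₀⁻¹, hv⟩, Finset.mem_univ _, by simp⟩
      calc _ ≤ ((Finset.univ : Finset V).image (fun v : V => (v : T) * b₀)).card :=
            Finset.card_le_card hsub
        _ ≤ (Finset.univ : Finset V).card := Finset.card_image_le
        _ = 4 := by rw [Finset.card_univ, hV4]
    have h1 := Finset.card_le_mul_card_image_of_maps_to
      (s := Finset.univ.filter (fun b : T => b ^ (2 ^ (n + 1)) = 1))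
      (t := (Finset.univ.filter (fun b : T => b ^ (2 ^ (n + 1)) = 1)).image (fun b => b * b))
      (f := fun b => b * b) (fun b hb => Finset.mem_image_of_mem _ hb) 4 hfib
    calc _ ≤ 4 * ((Finset.univ.filter (fun b : T => b ^ (2 ^ (n + 1)) = 1)).image
          (fun b => b * b)).card := h1
      _ ≤ 4 * (Finset.univ.filter (fun b : T => b ^ (2 ^ n) = 1)).card :=
          Nat.mul_le_mul_left _ (Finset.card_le_card himg)
      _ ≤ 4 * 4 ^ n := Nat.mul_le_mul_left _ ih
      _ = 4 ^ (n + 1) := by rw [pow_succ]; ring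

/-- **FO-C2** -/
theorem exists_gen (H : Hyp V τ σ) (hc : ∀ a b : T, a * b = b * a)
    (hinv : ∀ e : T, e * e = 1 → e ∈ V) :
    ∃ (x : T) (n : ℕ), 1 ≤ n ∧ orderOf x = 2 ^ n ∧ zpowers x ⊓ zpowers (σ x) = ⊥ ∧
      zpowers x ⊔ zpowers (σ x) = ⊤ := by
  classical
  have := H.fin
  haveI : Fintype T := Fintype.ofFinite T
  -- orders are powers of 2
  have hord : ∀ g : T, ∃ j : ℕ, orderOf g = 2 ^ j := by
    intro g
    obtain ⟨k, hk⟩ := H.pg g
    exact (Nat.dvd_prime_pow Nat.prime_two).mp (orderOf_dvd_of_pow_eq_one hk) |>.imp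
      (fun j hj => hj.2)
  obtain ⟨x, hx⟩ := Finite.exists_max (fun g : T => orderOf g)
  obtain ⟨n, hn⟩ := hord x
  -- V has a nontrivial element, so n ≥ 1
  have hn1 : 1 ≤ n := by
    have hV1 : 1 < Nat.card V := by rw [H.Vcard]; norm_num
    obtain ⟨v, hv⟩ : ∃ v : V, v ≠ 1 := by
      by_contra hne
      push Not at hne
      have : Nat.card V ≤ 1 := by
        rw [Nat.card_eq_fintype_card] 
        exact Fintype.card_le_one_iff.mpr (fun a b => by rw [hne a, hne b])
      omega
    have hv1 : (v : T) ≠ 1 := fun h => hv (Subtype.ext h)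
    have h2 : orderOf (v : T) = 2 := by
      apply orderOf_eq_prime
      · rw [pow_two]; exact H.Vsq v v.2
      · exact hv1
    have h3 := hx (v : T)
    simp only [h2, hn] at h3
    by_contra h0
    have : n = 0 := by omega
    rw [this] at h3
    norm_num at h3
  have hall : ∀ b : T, b ^ (2 ^ n) = 1 := by
    intro b
    obtain ⟨j, hj⟩ := hord b
    have h1 := hx b
    simp only [hj, hn] at h1
    have hjn : j ≤ n := (Nat.pow_le_pow_iff_right (by norm_num)).mp h1
    have : orderOf b ∣ 2 ^ n := by rw [hj]; exact pow_dvd_pow 2 hjn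
    exact orderOf_dvd_iff_pow_eq_one.mp this
  have hσord : orderOf (σ x) = 2 ^ n := by rw [MulEquiv.orderOf_eq, hn]
  -- trivial intersection
  have hinf : zpowers x ⊓ zpowers (σ x) = ⊥ := by
    rw [eq_bot_iff]
    intro z hz
    rw [Subgroup.mem_bot]
    by_contra hz1
    obtain ⟨j, hj⟩ := hord z
    have hj1 : 1 ≤ j := by
      by_contra h0
      have : j = 0 := by omega
      rw [this, pow_zero, orderOf_eq_one_iff] at hj
      exact hz1 hj
    obtain ⟨j', rfl⟩ : ∃ j', j = j' + 1 := ⟨j - 1, by omega⟩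
    set i := z ^ (2 ^ j') with hi
    have hi2 : i * i = 1 := by
      rw [hi, ← pow_two, ← pow_mul, ← pow_succ, ← hj]; exact pow_orderOf_eq_one z
    have hi1 : i ≠ 1 := by
      intro h1
      have := orderOf_dvd_of_pow_eq_one h1
      rw [hj, pow_succ] at this
      have h2 : 2 ^ j' * 2 ≤ 2 ^ j' := Nat.le_of_dvd (by positivity) this
      have : 0 < 2 ^ j' := by positivity
      omega
    have hix : i ∈ zpowers x := (zpowers x).pow_mem hz.1 _
    have hiσ : i ∈ zpowers (σ x) := (zpowers (σ x)).pow_mem hz.2 _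
    have e1 := invol_unique x n hn1 hn i hix hi2 hi1
    have e2 := invol_unique (σ x) n hn1 hσord i hiσ hi2 hi1
    rw [← map_pow, ← e1] at e2
    have hiV : i ∈ V := hinv i hi2
    exact hi1 (H.σVfpf i hiV e2.symm)
  refine ⟨x, n, hn1, hn, hinf, ?_⟩
  -- counting
  have hT : Nat.card T ≤ 4 ^ n := by
    rw [Nat.card_eq_fintype_card, ← Finset.card_univ]
    have := card_pow_le H hc hinv n
    have e : Finset.univ.filter (fun b : T => b ^ (2 ^ n) = 1) = Finset.univ := by
      ext b
      simp [hall b]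
    rwa [e] at this
  have hinj : Function.Injective (fun p : zpowers x × zpowers (σ x) =>
      (⟨(p.1 : T) * (p.2 : T), Subgroup.mul_mem_sup p.1.2 p.2.2⟩ :
        ↥(zpowers x ⊔ zpowers (σ x)))) := by
    rintro ⟨a, b⟩ ⟨a', b'⟩ hab
    have hab' : (a : T) * (b : T) = (a' : T) * (b' : T) := congrArg Subtype.val hab
    have h1 : (a' : T)⁻¹ * (a : T) = (b' : T) * (b : T)⁻¹ := by
      calc (a' : T)⁻¹ * (a : T) = (a' : T)⁻¹ * ((a : T) * (b : T)) * (b : T)⁻¹ := by group
        _ = (b' : T) * (b : T)⁻¹ := by rw [hab']; group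
    have h2 : (a' : T)⁻¹ * (a : T) ∈ zpowers x ⊓ zpowers (σ x) :=
      ⟨(zpowers x).mul_mem ((zpowers x).inv_mem a'.2) a.2,
        by rw [h1]; exact (zpowers (σ x)).mul_mem b'.2 ((zpowers (σ x)).inv_mem b.2)⟩
    rw [hinf, Subgroup.mem_bot] at h2
    have h3 : (a : T) = (a' : T) := by
      have := congrArg (fun t => (a' : T) * t) h2
      simpa using this
    have h4 : (b : T) = (b' : T) := by
      rw [h3] at hab'
      exact mul_left_cancel hab'
    exact Prod.ext (Subtype.ext h3) (Subtype.ext h4)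
  have hge : 4 ^ n ≤ Nat.card ↥(zpowers x ⊔ zpowers (σ x)) := by
    have h1 := Nat.card_le_card_of_injective _ hinj
    rw [Nat.card_prod, Nat.card_zpowers, Nat.card_zpowers, hn, hσord] at h1
    calc 4 ^ n = 2 ^ n * 2 ^ n := by rw [← mul_pow]; norm_num
      _ ≤ _ := h1
  have hle : Nat.card ↥(zpowers x ⊔ zpowers (σ x)) ≤ Nat.card T := Subgroup.card_le_card_group _
  exact (Subgroup.card_eq_iff_eq_top _).mp (le_antisymm hle (hT.trans hge))

end Cfsg.Agent.Lib.Helper7.S2933
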