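import Mathlib
import Cfsg.Prelude.Def_GeometricClasses
import Cfsg.Agent.Lib.Helper7.AschDefs
import Cfsg.Agent.Lib.Helper7.AschCore
import Cfsg.Agent.Lib.Helper22.AschC7Defs

/-!
# S5630 block I7, the D block: G1 `exists_conj_enum`, G2 `absIrr_iSup_cj`, G3 `exists_factor`, G4a `conj_range_perm`,
G4b `commute_ranges`, G4c `adjoin_ranges_eq_top`  (helper7)

Exact signatures of the stubs of `Lib/Helper22/AschC7Core.lean`.
-/

set_option autoImplicit false

namespace Cfsg.Agent.Lib.Helper7.S5630I7D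

open Matrix Cfsg.Geo Cfsg.Agent.Lib.Helper7.Asch Cfsg.Agent.Lib.Helper22.AschC7

variable {F : Type*} [Field F] {n m t : ℕ}

/-- **G3** `N = L · C_N(L)` -/
theorem exists_factor (L : Subgroup (GL (Fin n) F)) (hs : Fin t → GL (Fin n) F) (i₀ : Fin t)
    (hi₀ : cj (hs i₀) L = L)
    (hcomm : ∀ i j, i ≠ j → ∀ x ∈ cj (hs i) L, ∀ y ∈ cj (hs j) L, x * y = y * x) :
    ∀ g ∈ (⨆ i, cj (hs i) L), ∃ x ∈ L, ∃ c ∈ (⨆ i, cj (hs i) L), g = x * c ∧ ∀ y ∈ L, c * y = y * c := by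
  intro g hg
  refine Subgroup.iSup_induction (fun i => cj (hs i) L)
    (C := fun g => ∃ x ∈ L, ∃ c ∈ (⨆ i, cj (hs i) L), g = x * c ∧ ∀ y ∈ L, c * y = y * c) hg ?_ ?_ ?_
  · intro i g hg
    by_cases hi : i = i₀
    · subst hi
      rw [hi₀] at hg
      exact ⟨g, hg, 1, one_mem _, (mul_one g).symm, fun y _ => by rw [one_mul, mul_one]⟩
    · refine ⟨1, one_mem _, g, Subgroup.mem_iSup_of_mem i hg, (one_mul g).symm, fun y hy => ?_⟩
      rw [← hi₀] at hy
      exact hcomm i i₀ hi g hg y hy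
  · exact ⟨1, one_mem _, 1, one_mem _, (mul_one 1).symm, fun y _ => by rw [one_mul, mul_one]⟩
  · rintro g g' ⟨x, hx, c, hc, rfl, hcx⟩ ⟨x', hx', c', hc', rfl, hcx'⟩
    refine ⟨x * x', mul_mem hx hx', c * c', mul_mem hc hc', ?_, fun y hy => ?_⟩
    · rw [mul_assoc x c, ← mul_assoc c x', hcx x' hx']
      simp only [mul_assoc]
    · rw [mul_assoc, hcx' y hy, ← mul_assoc, hcx y hy, mul_assoc]

/-- **G2** the product of the conjugates is absolutely irreducible -/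
theorem absIrr_iSup_cj [Fintype F] (H L : Subgroup (GL (Fin n) F)) (hQP : QP H) (hLH : L ≤ H)
    (hLs : ¬ L ≤ scalars (Fin n) F) (hs : Fin t → GL (Fin n) F) (hsH : ∀ i, hs i ∈ H)
    (hi₀ : ∃ i₀, cj (hs i₀) L = L)
    (hperm : ∀ h ∈ H, ∃ σ : Equiv.Perm (Fin t), ∀ i, cj h (cj (hs i) L) = cj (hs (σ i)) L) :
    AbsIrr (⨆ i, cj (hs i) L) := by
  have hNH : (⨆ i, cj (hs i) L) ≤ H := by
    refine iSup_le fun i => ?_
    intro y hy
    obtain ⟨x, hx, rfl⟩ := mem_cj.1 hy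
    exact mul_mem (mul_mem (hsH i) (hLH hx)) (inv_mem (hsH i))
  have hnorm : NormBy H (⨆ i, cj (hs i) L) := by
    intro h hh x hx
    obtain ⟨σ, hσ⟩ := hperm h hh
    refine Subgroup.iSup_induction (fun i => cj (hs i) L)
      (C := fun x => h * x * h⁻¹ ∈ (⨆ i, cj (hs i) L)) hx ?_ ?_ ?_
    · intro i x hx
      have : h * x * h⁻¹ ∈ cj h (cj (hs i) L) := conj_mem_cj hx
      rw [hσ i] at this
      exact Subgroup.mem_iSup_of_mem (σ i) this
    · rw [mul_one, mul_inv_cancel]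
      exact one_mem _
    · intro x y hx hy
      have : h * (x * y) * h⁻¹ = (h * x * h⁻¹) * (h * y * h⁻¹) := by group
      rw [this]
      exact mul_mem hx hy
  refine (hQP _ hNH hnorm).resolve_left fun hsc => hLs ?_
  obtain ⟨i₀, hi₀⟩ := hi₀
  intro x hx
  have hx' : x ∈ cj (hs i₀) L := by rw [hi₀]; exact hx
  exact hsc (Subgroup.mem_iSup_of_mem i₀ hx')

theorem coe_conj (a x : GL (Fin n) F) :
    ((a * x * a⁻¹ : GL (Fin n) F) : Matrix (Fin n) (Fin n) F) = conjAlg a (x : Matrix (Fin n) (Fin n) F) := by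
  rw [conjAlg_apply, Units.val_mul, Units.val_mul]

/-- **G4a** conjugation moves the algebra of one conjugate onto the algebra of another -/
theorem conj_range_perm (L : Subgroup (GL (Fin n) F)) (φ : Matrix (Fin m) (Fin m) F →ₐ[F] Matrix (Fin n) (Fin n) F)
    (h1 : ∀ a, φ a ∈ Submodule.span F (matrixSet L))
    (h2 : ∀ x ∈ L, ∃ a, φ a = ((x : GL (Fin n) F) : Matrix (Fin n) (Fin n) F))
    (h a b : GL (Fin n) F) (hab : cj h (cj a L) = cj b L) (A : Matrix (Fin m) (Fin m) F) :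
    ∃ B : Matrix (Fin m) (Fin m) F, conjAlg h (conjAlg a (φ A)) = conjAlg b (φ B) := by
  refine Submodule.span_induction (p := fun M _ => ∃ B : Matrix (Fin m) (Fin m) F,
    conjAlg h (conjAlg a M) = conjAlg b (φ B)) ?_ ?_ ?_ ?_ (h1 A)
  · rintro _ ⟨x, hx, rfl⟩
    have hmem : h * (a * x * a⁻¹) * h⁻¹ ∈ cj b L := by
      rw [← hab]
      exact conj_mem_cj (conj_mem_cj hx)
    obtain ⟨y, hy, hyx⟩ := mem_cj.1 hmem
    obtain ⟨B, hB⟩ := h2 y hy
    refine ⟨B, ?_⟩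
    show conjAlg h (conjAlg a (x : Matrix (Fin n) (Fin n) F)) = conjAlg b (φ B)
    rw [hB, ← coe_conj, ← coe_conj, ← coe_conj, hyx]
  · exact ⟨0, by simp⟩
  · rintro M M' _ _ ⟨B, hB⟩ ⟨B', hB'⟩
    exact ⟨B + B', by simp [hB, hB']⟩
  · rintro c M _ ⟨B, hB⟩
    exact ⟨c • B, by simp [hB]⟩

/-- **G4b** commuting conjugates have commuting algebras -/
theorem commute_ranges (L : Subgroup (GL (Fin n) F)) (φ : Matrix (Fin m) (Fin m) F →ₐ[F] Matrix (Fin n) (Fin n) F)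
    (h1 : ∀ a, φ a ∈ Submodule.span F (matrixSet L)) (a b : GL (Fin n) F)
    (hab : ∀ x ∈ cj a L, ∀ y ∈ cj b L, x * y = y * x) (A B : Matrix (Fin m) (Fin m) F) :
    conjAlg a (φ A) * conjAlg b (φ B) = conjAlg b (φ B) * conjAlg a (φ A) := by
  have key : ∀ M ∈ Submodule.span F (matrixSet L), ∀ M' ∈ Submodule.span F (matrixSet L),
      conjAlg a M * conjAlg b M' = conjAlg b M' * conjAlg a M := by
    intro M hM
    refine Submodule.span_induction (p := fun M _ => ∀ M' ∈ Submodule.span F (matrixSet L),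
      conjAlg a M * conjAlg b M' = conjAlg b M' * conjAlg a M) ?_ ?_ ?_ ?_ hM
    · rintro _ ⟨x, hx, rfl⟩ M' hM'
      refine Submodule.span_induction (p := fun M' _ =>
        conjAlg a (x : Matrix (Fin n) (Fin n) F) * conjAlg b M' = conjAlg b M' * conjAlg a (x : Matrix (Fin n) (Fin n) F))
        ?_ ?_ ?_ ?_ hM'
      · rintro _ ⟨y, hy, rfl⟩
        show conjAlg a (x : Matrix (Fin n) (Fin n) F) * conjAlg b (y : Matrix (Fin n) (Fin n) F)
          = conjAlg b (y : Matrix (Fin n) (Fin n) F) * conjAlg a (x : Matrix (Fin n) (Fin n) F)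
        rw [← coe_conj, ← coe_conj, ← Units.val_mul, ← Units.val_mul,
          hab _ (conj_mem_cj hx) _ (conj_mem_cj hy)]
      · simp
      · intro M1 M2 _ _ e1 e2
        rw [map_add, mul_add, add_mul, e1, e2]
      · intro c M1 _ e1
        rw [map_smul, Matrix.mul_smul, Matrix.smul_mul, e1]
    · intro M' _
      simp
    · intro M1 M2 _ _ e1 e2 M' hM'
      rw [map_add, mul_add, add_mul, e1 M' hM', e2 M' hM']
    · intro c M1 _ e1 M' hM'
      rw [map_smul, Matrix.mul_smul, Matrix.smul_mul, e1 M' hM']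
  exact key _ (h1 A) _ (h1 B)

/-- **G4c** the algebras of the conjugates generate the matrix algebra -/
theorem adjoin_ranges_eq_top (L : Subgroup (GL (Fin n) F)) (φ : Matrix (Fin m) (Fin m) F →ₐ[F] Matrix (Fin n) (Fin n) F)
    (h2 : ∀ x ∈ L, ∃ a, φ a = ((x : GL (Fin n) F) : Matrix (Fin n) (Fin n) F))
    (hs : Fin t → GL (Fin n) F) (hN : AbsIrr (⨆ i, cj (hs i) L)) :
    Algebra.adjoin F (⋃ i, Set.range ((conjAlg (hs i)).comp φ)) = ⊤ := by
  set 𝒜 := Algebra.adjoin F (⋃ i, Set.range ((conjAlg (hs i)).comp φ)) with h𝒜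
  have hsub : matrixSet (⨆ i, cj (hs i) L) ⊆ (𝒜 : Set (Matrix (Fin n) (Fin n) F)) := by
    rintro _ ⟨g, hg, rfl⟩
    refine Subgroup.iSup_induction (fun i => cj (hs i) L)
      (C := fun g => ((g : GL (Fin n) F) : Matrix (Fin n) (Fin n) F) ∈ 𝒜) hg ?_ ?_ ?_
    · intro i y hy
      obtain ⟨x, hx, rfl⟩ := mem_cj.1 hy
      obtain ⟨a, ha⟩ := h2 x hx
      refine Algebra.subset_adjoin (Set.mem_iUnion.2 ⟨i, a, ?_⟩)
      rw [AlgHom.comp_apply, ha, coe_conj]
    · rw [Units.val_one]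
      exact one_mem _
    · intro x y hx hy
      rw [Units.val_mul]
      exact mul_mem hx hy
  have hspan : Submodule.span F (matrixSet (⨆ i, cj (hs i) L)) = ⊤ := by
    refine span_eq_top_of_absIrr _ ⟨1, one_mem _, rfl⟩ ?_ hN
    rintro _ ⟨x, hx, rfl⟩ _ ⟨y, hy, rfl⟩
    exact ⟨x * y, mul_mem hx hy, Units.val_mul x y⟩
  rw [eq_top_iff]
  intro M _
  have hM : M ∈ Submodule.span F (matrixSet (⨆ i, cj (hs i) L)) := by rw [hspan]; trivial
  have hle : Submodule.span F (matrixSet (⨆ i, cj (hs i) L)) ≤ Subalgebra.toSubmodule 𝒜 :=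
    Submodule.span_le.2 hsub
  exact hle hM

theorem cj_cj (a b : GL (Fin n) F) (L : Subgroup (GL (Fin n) F)) : cj a (cj b L) = cj (a * b) L := by
  ext y
  constructor
  · intro hy
    obtain ⟨x, hx, rfl⟩ := mem_cj.1 hy
    obtain ⟨z, hz, rfl⟩ := mem_cj.1 hx
    refine mem_cj.2 ⟨z, hz, by group⟩
  · intro hy
    obtain ⟨z, hz, rfl⟩ := mem_cj.1 hy
    refine mem_cj.2 ⟨b * z * b⁻¹, conj_mem_cj hz, by group⟩

theorem cj_one (L : Subgroup (GL (Fin n) F)) : cj 1 L = L := by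
  ext y
  constructor
  · intro hy
    obtain ⟨x, hx, rfl⟩ := mem_cj.1 hy
    simpa using hx
  · intro hy
    exact mem_cj.2 ⟨y, hy, by simp⟩

theorem cj_injective (h : GL (Fin n) F) : Function.Injective (cj (F := F) (n := n) h) := by
  intro K K' hKK
  have := congrArg (cj h⁻¹) hKK
  rwa [cj_cj, cj_cj, inv_mul_cancel, cj_one, cj_one] at this

/-- in a finite group, conjugation mapping `L` into `L` maps `L` onto `L` -/
theorem cj_eq_of_le [Fintype F] (h : GL (Fin n) F) (L : Subgroup (GL (Fin n) F))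
    (hL : ∀ x ∈ L, h * x * h⁻¹ ∈ L) : cj h L = L := by
  have hle : cj h L ≤ L := by
    intro y hy
    obtain ⟨x, hx, rfl⟩ := mem_cj.1 hy
    exact hL x hx
  have hpow : ∀ k : ℕ, ∀ x ∈ L, h ^ k * x * (h ^ k)⁻¹ ∈ L := by
    intro k
    induction k with
    | zero => intro x hx; simpa using hx
    | succ k ih =>
      intro x hx
      have : h ^ (k + 1) * x * (h ^ (k + 1))⁻¹ = h * (h ^ k * x * (h ^ k)⁻¹) * h⁻¹ := by
        rw [pow_succ']
        group
      rw [this]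
      exact hL _ (ih x hx)
  refine le_antisymm hle ?_
  intro y hy
  have hfin : IsOfFinOrder h := isOfFinOrder_of_finite h
  obtain ⟨k, hk⟩ : ∃ k : ℕ, h ^ k = h⁻¹ := by
    refine ⟨orderOf h - 1, ?_⟩
    have hpos : 0 < orderOf h := hfin.orderOf_pos
    have : h ^ (orderOf h - 1) * h = 1 := by
      rw [← pow_succ, Nat.sub_add_cancel hpos, pow_orderOf_eq_one]
    exact eq_inv_of_mul_eq_one_left this
  have hy' : h⁻¹ * y * h ∈ L := by
    have := hpow k y hy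
    rwa [hk, inv_inv] at this
  exact mem_cj.2 ⟨h⁻¹ * y * h, hy', by group⟩

/-- **G1** enumeration of the `H`-conjugates of `L`; distinct conjugates commute; `H` permutes them -/
theorem exists_conj_enum [Fintype F] (H L : Subgroup (GL (Fin n) F)) (hLH : L ≤ H)
    (hconj : ∀ h ∈ H, (∀ x ∈ L, h * x * h⁻¹ ∈ L) ∨
      (∀ x ∈ L, ∀ y ∈ L, (h * x * h⁻¹) * y = y * (h * x * h⁻¹)))
    (hnn : ¬ NormBy H L) :
    ∃ (t : ℕ) (hs : Fin t → GL (Fin n) F), 2 ≤ t ∧ (∀ i, hs i ∈ H) ∧ (∃ i₀, cj (hs i₀) L = L) ∧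
      (∀ i j, i ≠ j → ∀ x ∈ cj (hs i) L, ∀ y ∈ cj (hs j) L, x * y = y * x) ∧
      (∀ h ∈ H, ∃ σ : Equiv.Perm (Fin t), ∀ i, cj h (cj (hs i) L) = cj (hs (σ i)) L) := by
  classical
  -- the finite set of conjugates
  let C : Set (Subgroup (GL (Fin n) F)) := Set.range (fun h : H => cj (h : GL (Fin n) F) L)
  have hCfin : Finite C := Set.toFinite C |>.to_subtype
  let c : Fin (Nat.card C) ≃ C := (Finite.equivFin C).symm
  have hex : ∀ i : Fin (Nat.card C), ∃ h : GL (Fin n) F, h ∈ H ∧ cj h L = ((c i : C) : Subgroup (GL (Fin n) F)) := by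
    intro i
    obtain ⟨h, hh⟩ := (c i).2
    exact ⟨h, h.2, hh⟩
  choose hs hsH hsc using hex
  have hLC : L ∈ C := ⟨1, by simpa using cj_one L⟩
  have hmemC : ∀ h ∈ H, ∀ K ∈ C, cj h K ∈ C := by
    rintro h hh _ ⟨a, rfl⟩
    exact ⟨⟨h * a, mul_mem hh a.2⟩, by simp only [cj_cj]⟩
  refine ⟨Nat.card C, hs, ?_, hsH, ?_, ?_, ?_⟩
  · -- at least two conjugates
    unfold NormBy at hnn
    push Not at hnn
    obtain ⟨h, hh, x, hx, hxL⟩ := hnn
    have hne : cj h L ≠ L := by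
      intro he
      apply hxL
      rw [← he]
      exact conj_mem_cj hx
    have : Nontrivial C := ⟨⟨⟨cj h L, hmemC h hh L hLC⟩, ⟨L, hLC⟩, fun he => hne (congrArg Subtype.val he)⟩⟩
    exact Finite.one_lt_card
  · refine ⟨c.symm ⟨L, hLC⟩, ?_⟩
    rw [hsc, Equiv.apply_symm_apply]
  · intro i j hij x hx y hy
    have hne : cj (hs i) L ≠ cj (hs j) L := by
      rw [hsc, hsc]
      intro he
      exact hij (c.injective (Subtype.ext he))
    have hh : (hs j)⁻¹ * hs i ∈ H := mul_mem (inv_mem (hsH j)) (hsH i)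
    rcases hconj _ hh with h1 | h1
    · exfalso
      apply hne
      have := cj_eq_of_le _ L h1
      have h2 := congrArg (cj (hs j)) this
      rwa [cj_cj, mul_inv_cancel_left] at h2
    · obtain ⟨x0, hx0, rfl⟩ := mem_cj.1 hx
      obtain ⟨y0, hy0, rfl⟩ := mem_cj.1 hy
      have e := h1 x0 hx0 y0 hy0
      have e1 : hs i * x0 * (hs i)⁻¹ * (hs j * y0 * (hs j)⁻¹)
          = hs j * (((hs j)⁻¹ * hs i) * x0 * ((hs j)⁻¹ * hs i)⁻¹ * y0) * (hs j)⁻¹ := by group
      have e2 : hs j * y0 * (hs j)⁻¹ * (hs i * x0 * (hs i)⁻¹)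
          = hs j * (y0 * (((hs j)⁻¹ * hs i) * x0 * ((hs j)⁻¹ * hs i)⁻¹)) * (hs j)⁻¹ := by group
      rw [e1, e2, e]
  · intro h hh
    let f : C → C := fun K => ⟨cj h K.1, hmemC h hh K.1 K.2⟩
    have hfinj : Function.Injective f := by
      intro K K' hKK
      exact Subtype.ext (cj_injective h (congrArg Subtype.val hKK))
    have hfbij : Function.Bijective f := Finite.injective_iff_bijective.1 hfinj
    let σ' : C ≃ C := Equiv.ofBijective f hfbij
    refine ⟨(c.trans σ').trans c.symm, fun i => ?_⟩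
    rw [hsc, hsc]
    simp only [Equiv.trans_apply, Equiv.apply_symm_apply]
    rfl

end Cfsg.Agent.Lib.Helper7.S5630I7D
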