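import Cfsg.Agent.Lib.Helper7.U34Defs
import Cfsg.Agent.Lib.Helper7.U34Levels

/-!
# S3663 (helper7): kernel certificates for the data of `Γ`
-/

set_option autoImplicit false

namespace Cfsg.Agent.Lib.Helper7.U34

open Cfsg.Agent.Lib.Helper28.BSGS

theorem wf_ok : (wfB rP && wfB rPi && wfB rT && wfB rTi && wfB rD && wfB rDi) = true := by decide +kernel

theorem inv_ok : (mmL rP rPi == idL && mmL rPi rP == idL && mmL rT rTi == idL && mmL rTi rT == idL &&
    mmL rD rDi == idL && mmL rDi rD == idL) = true := by decide +kernel

theorem orb_len : orbL.length = 832 := by decide +kernel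

theorem orb_wf : (orbL.all fun v => v.length == 12) = true := by decide +kernel

theorem actP_ok : actOK rP tP = true := by decide +kernel
theorem actT_ok : actOK rT tT = true := by decide +kernel
theorem actD_ok : actOK rD tD = true := by decide +kernel

theorem gens_ok : gensOK 832 10 gens = true := by decide +kernel

theorem size_ok : codeSize levels = 62400 := by decide +kernel

end Cfsg.Agent.Lib.Helper7.U34
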