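import Mathlib
import Cfsg.Agent.Lib.Helper28.BSGSPerm
import Cfsg.Agent.Lib.Helper7.U34Data

/-!
# S3663 (architect helper7): vocabulary for `Γ ≅ U₃(4) ≤ GL₁₂(𝔽₅)`

Matrices and vectors over `ZMod 5` are lists of natural numbers; `toMat`, `vecOf` interpret them, `mvL`, `mmL`,
`addL` compute with them.  `gP`, `gT`, `gD` are the three generators, `Gam` the group they generate, `gens` the tables
of their action on the orbit `orbL` of 832 vectors (helper28's `BSGSPerm` format, 10 bits per entry).
-/

set_option autoImplicit false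

namespace Cfsg.Agent.Lib.Helper7.U34

open Matrix Cfsg.Agent.Lib.Helper28.BSGS

/-- vectors of `𝔽₅¹²` -/
abbrev V12 := Fin 12 → ZMod 5

/-- list → vector -/
def vecOf (l : List ℕ) : V12 := fun j => ((l.getD j.val 0 : ℕ) : ZMod 5)

/-- list of rows → matrix -/
def toMat (A : List (List ℕ)) : Matrix (Fin 12) (Fin 12) (ZMod 5) :=
  fun i j => (((A.getD i.val []).getD j.val 0 : ℕ) : ZMod 5)

/-- dot product mod 5 -/
def dotL (r v : List ℕ) : ℕ := (List.zipWith (· * ·) r v).sum % 5

/-- matrix times vector on lists -/
def mvL (A : List (List ℕ)) (v : List ℕ) : List ℕ := A.map fun r => dotL r v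

/-- column -/
def colL (B : List (List ℕ)) (j : ℕ) : List ℕ := B.map fun r => r.getD j 0

/-- matrix product on lists -/
def mmL (A B : List (List ℕ)) : List (List ℕ) :=
  A.map fun r => (List.range 12).map fun j => dotL r (colL B j)

/-- identity -/
def idL : List (List ℕ) :=
  (List.range 12).map fun i => (List.range 12).map fun j => if i = j then 1 else 0

/-- zero -/
def zeroL : List (List ℕ) := List.replicate 12 (List.replicate 12 0)

/-- entrywise sum mod 5 -/
def addL (A B : List (List ℕ)) : List (List ℕ) :=
  List.zipWith (fun r s => List.zipWith (fun a b => (a + b) % 5) r s) A B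

/-- well-formed 12 × 12 -/
def wfB (A : List (List ℕ)) : Bool := (A.length == 12) && A.all fun r => r.length == 12

/-- the unit with matrix `toMat A` (inverse `toMat B`) -/
noncomputable def unitOf (A B : List (List ℕ)) : GL (Fin 12) (ZMod 5) :=
  if h : toMat A * toMat B = 1 ∧ toMat B * toMat A = 1 then ⟨toMat A, toMat B, h.1, h.2⟩ else 1

/-- generator of order 3 -/
noncomputable def gP : GL (Fin 12) (ZMod 5) := unitOf rP rPi
/-- generator of order 2 -/
noncomputable def gT : GL (Fin 12) (ZMod 5) := unitOf rT rTi
/-- generator of order 5 -/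
noncomputable def gD : GL (Fin 12) (ZMod 5) := unitOf rD rDi

/-- the group `Γ ≅ U₃(4)` -/
noncomputable def Gam : Subgroup (GL (Fin 12) (ZMod 5)) := Subgroup.closure {gP, gT, gD}

/-- an element of order 13 -/
noncomputable def x13 : GL (Fin 12) (ZMod 5) := gP * gT * gD

/-- generator tables on the orbit -/
def gens : List (ℕ × ℕ) := [(tP, tPi), (tT, tTi), (tD, tDi)]

/-- indices of 12 orbit vectors forming a basis of `𝔽₅¹²` -/
def basisIdx : List ℕ := [0, 1, 2, 3, 4, 5, 6, 12, 13, 14, 27, 53]

/-- the generator with rows `A` acts on the orbit as the table `t` -/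
def actOK (A : List (List ℕ)) (t : ℕ) : Bool :=
  (List.range 832).all fun j => mvL A (orbL.getD j []) == orbL.getD (look 10 t j) []

end Cfsg.Agent.Lib.Helper7.U34
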