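import Mathlib
import Cfsg.Prelude.Def_GeometricClasses
import Cfsg.Agent.Lib.Helper7.OETypeA
import Cfsg.Agent.Lib.Helper7.OETypeB
import Cfsg.Agent.Lib.Helper6.Lagrangian

/-!
# Even-dimensional orthogonal rows: TYPE CALCULUS, part C (helper7): cancellation (all `q`) and the type of an odd number of blocks

* **TC8** `isPlusTypeOn_of_isCompl_cancel` : `V = X ⊥ Y`, `X` of plus type, `V` of plus type ⇒ `Y` of plus type;
* **R3**  `isPlusTypeOn_top_iff_block`     : `t` odd, `k` even: `IsPlusTypeOn Q ⊤ ↔ IsPlusTypeOn Q (D i)`.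
(exact signatures of `notes/OETypeSkel_helper7.lean.txt`)
-/

set_option autoImplicit false

namespace Cfsg.Agent.Lib.Helper7.OEType

open Matrix Cfsg Cfsg.Geo QuadraticMap Module Cfsg.Agent.Lib.Helper6

variable {F : Type*} [Field F] [Fintype F] {ι : Type} [Fintype ι] [DecidableEq ι] {Q : (ι → F) → F}

omit [Fintype F] [Fintype ι] [DecidableEq ι] in
theorem polar_eq_zero_of_ts {S : Submodule F (ι → F)} (hS : IsTotallySingularQuad Q S) {a b : ι → F} (ha : a ∈ S)
    (hb : b ∈ S) : polar Q a b = 0 := by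
  unfold polar
  rw [hS _ (S.add_mem ha hb), hS a ha, hS b hb]
  ring

/-- **TC8** cancellation of a plus-type orthogonal summand -/
theorem isPlusTypeOn_of_isCompl_cancel (hQ : IsNondegenerateQuadraticForm Q) (X Y : Submodule F (ι → F)) (hXY : IsCompl X Y)
    (horth : AreOrthogonalFor (polar Q) X Y) (hX : IsPlusTypeOn Q X) (hV : IsPlusTypeOn Q ⊤) : IsPlusTypeOn Q Y := by
  classical
  have hBn := polarBF_nondegenerate hQ
  obtain ⟨T, hTX, hTts, hTdim⟩ := hX
  obtain ⟨U, -, hUts, hUdim⟩ := hV
  rw [finrank_top] at hUdim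
  have hXYdim : finrank F X + finrank F Y = finrank F (ι → F) := Submodule.finrank_add_eq_of_isCompl hXY
  have hTY : T ⊓ Y = ⊥ := by
    rw [eq_bot_iff]
    exact (inf_le_inf_right Y hTX).trans (le_of_eq hXY.inf_eq_bot)
  -- `U^⊥ = U`
  have hUperp : (polarBF hQ).orthogonal U = U := by
    symm
    apply Submodule.eq_of_le_of_finrank_eq
    · intro u hu
      rw [LinearMap.BilinForm.mem_orthogonal_iff]
      intro w hw
      rw [polarBF_apply]
      exact polar_eq_zero_of_ts hUts hw hu
    · rw [LinearMap.BilinForm.finrank_orthogonal hBn]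
      omega
  -- `T^⊥ = T ⊔ Y`
  have hTYdim : finrank F (T ⊔ Y : Submodule F (ι → F)) = finrank F T + finrank F Y := by
    have := Submodule.finrank_sup_add_finrank_inf_eq T Y
    rw [hTY, finrank_bot, add_zero] at this
    exact this
  have hTperp : (polarBF hQ).orthogonal T = T ⊔ Y := by
    symm
    apply Submodule.eq_of_le_of_finrank_eq
    · apply sup_le
      · intro u hu
        rw [LinearMap.BilinForm.mem_orthogonal_iff]
        intro w hw
        rw [polarBF_apply]
        exact polar_eq_zero_of_ts hTts hw hu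
      · intro y hy
        rw [LinearMap.BilinForm.mem_orthogonal_iff]
        intro w hw
        rw [polarBF_apply]
        exact horth w (hTX hw) y hy
    · rw [LinearMap.BilinForm.finrank_orthogonal hBn, hTYdim]
      omega
  -- `U₀ = U ⊓ T^⊥ = (U ⊔ T)^⊥`
  set U₀ : Submodule F (ι → F) := U ⊓ (T ⊔ Y) with hU₀
  have hZ : (polarBF hQ).orthogonal (U ⊔ T) = U₀ := by
    ext v
    rw [hU₀, Submodule.mem_inf, ← hTperp]
    nth_rewrite 2 [← hUperp]
    simp only [LinearMap.BilinForm.mem_orthogonal_iff]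
    constructor
    · intro h
      exact ⟨fun w hw => h w (Submodule.mem_sup_left hw), fun w hw => h w (Submodule.mem_sup_right hw)⟩
    · rintro ⟨h1, h2⟩ w hw
      obtain ⟨a, ha, b, hb, rfl⟩ := Submodule.mem_sup.mp hw
      rw [map_add, LinearMap.add_apply, h1 a ha, h2 b hb, add_zero]
  have hdimU₀ : finrank F U₀ = finrank F (ι → F) - finrank F (U ⊔ T : Submodule F (ι → F)) := by
    rw [← hZ, LinearMap.BilinForm.finrank_orthogonal hBn]
  have hsupUT := Submodule.finrank_sup_add_finrank_inf_eq U T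
  have hleUT : finrank F (U ⊔ T : Submodule F (ι → F)) ≤ finrank F (ι → F) := Submodule.finrank_le _
  -- `A = U₀ ⊔ T`, `R = Y ⊓ A`
  set A : Submodule F (ι → F) := U₀ ⊔ T with hA
  have hTA : T ≤ A := le_sup_right
  have hATY : A ≤ T ⊔ Y := sup_le inf_le_right le_sup_left
  have hmod : A = T ⊔ Y ⊓ A := by
    rw [← sup_inf_assoc_of_le Y hTA]
    exact (inf_eq_right.mpr hATY).symm
  have hU₀T : U₀ ⊓ T = U ⊓ T := by
    rw [hU₀, inf_assoc, inf_eq_right.mpr (le_sup_left : T ≤ T ⊔ Y)]
  have hdimA := Submodule.finrank_sup_add_finrank_inf_eq U₀ T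
  rw [hU₀T, ← hA] at hdimA
  have hdimA' := Submodule.finrank_sup_add_finrank_inf_eq T (Y ⊓ A)
  have hTR : T ⊓ (Y ⊓ A) = ⊥ := by
    rw [← inf_assoc, hTY, bot_inf_eq]
  rw [hTR, finrank_bot, add_zero, ← hmod] at hdimA'
  refine ⟨Y ⊓ A, inf_le_left, ?_, ?_⟩
  · intro r hr
    obtain ⟨u, hu, t', ht', rfl⟩ := Submodule.mem_sup.mp hr.2
    have hu' : u ∈ (polarBF hQ).orthogonal T := by
      rw [hTperp]
      exact hu.2
    have h1 : polar Q u t' = 0 := by
      have := hu' t' ht'
      rw [polarBF_apply, polar_comm] at this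
      exact this
    rw [Q_add Q, hUts u hu.1, hTts t' ht', h1]
    ring
  · omega

/-! ### two isometric orthogonal halves of even dimension, `q` odd -/

/-- **pair, `k` even, `q` odd** (discriminant criterion on the abstract product `W × W`) -/
theorem isPlusTypeOn_sup_of_isometric_of_even (hQ : IsNondegenerateQuadraticForm Q) (h2 : (2 : F) ≠ 0)
    (W W' : Submodule F (ι → F)) (horth : AreOrthogonalFor (polar Q) W W') (hdisj : Disjoint W W')
    (hiso : AreIsometricFor Q W W') (hW : IsNondegenerateOn (polar Q) W) (hev : Even (finrank F W)) :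
    IsPlusTypeOn Q (W ⊔ W') := by
  classical
  obtain ⟨e, he⟩ := hiso
  let BW : LinearMap.BilinForm F W := (polarBF hQ).restrict W
  have hBW : ∀ x y : W, BW x y = polar Q (x : ι → F) (y : ι → F) := fun x y => rfl
  have hBWs : BW.IsSymm := ⟨fun x y => by rw [hBW, hBW]; exact polar_comm _ _ _⟩
  have hBWn : BW.Nondegenerate := by
    constructor
    · intro x hx
      by_contra hne
      have hne' : (x : ι → F) ≠ 0 := fun h => hne (Subtype.ext h)
      obtain ⟨y, hy, hxy⟩ := (hW x x.2 hne').2
      exact hxy (hx ⟨y, hy⟩)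
    · intro y hy
      by_contra hne
      have hne' : (y : ι → F) ≠ 0 := fun h => hne (Subtype.ext h)
      obtain ⟨x, hx, hxy⟩ := (hW y y.2 hne').1
      exact hxy (hy ⟨x, hx⟩)
  let B₂ : LinearMap.BilinForm F (W × W) :=
    BW.comp (LinearMap.fst F W W) (LinearMap.fst F W W) + BW.comp (LinearMap.snd F W W) (LinearMap.snd F W W)
  have hB₂ : ∀ p q : W × W, B₂ p q = BW p.1 q.1 + BW p.2 q.2 := fun p q => rfl
  have hB₂s : B₂.IsSymm := ⟨fun p q => by
    rw [hB₂, hB₂, hBW, hBW, hBW, hBW, polar_comm Q (p.1 : ι → F), polar_comm Q (p.2 : ι → F)]⟩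
  let b : Basis (Fin (finrank F W)) F W := finBasis F W
  let b₂ : Basis (Fin (finrank F W) ⊕ Fin (finrank F W)) F (W × W) := b.prod b
  have hG : LinearMap.BilinForm.toMatrix b₂ B₂ =
      Matrix.fromBlocks (LinearMap.BilinForm.toMatrix b BW) 0 0 (LinearMap.BilinForm.toMatrix b BW) := by
    ext i j
    rw [LinearMap.BilinForm.toMatrix_apply, hB₂]
    rcases i with i | i <;> rcases j with j | j <;>
      simp [b₂, LinearMap.BilinForm.toMatrix_apply]
  have hdet : (LinearMap.BilinForm.toMatrix b₂ B₂).det =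
      (LinearMap.BilinForm.toMatrix b BW).det * (LinearMap.BilinForm.toMatrix b BW).det := by
    rw [hG, Matrix.det_fromBlocks_zero₁₂]
  have hdet0 : (LinearMap.BilinForm.toMatrix b BW).det ≠ 0 :=
    (LinearMap.BilinForm.nondegenerate_iff_det_ne_zero b).mp hBWn
  have hB₂n : B₂.Nondegenerate :=
    (LinearMap.BilinForm.nondegenerate_iff_det_ne_zero b₂).mpr (by rw [hdet]; exact mul_ne_zero hdet0 hdet0)
  have hTI : HasTI B₂ (finrank F W) := by
    rw [hasTI_iff_isSquare h2 B₂ hB₂s hB₂n (finrank F W) (by rw [Module.finrank_prod]; ring) b₂, hdet,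
      hev.neg_one_pow, one_mul]
    exact ⟨_, rfl⟩
  obtain ⟨X, hXk, hX⟩ := hTI
  let L : W × W →ₗ[F] (ι → F) :=
    W.subtype ∘ₗ LinearMap.fst F W W + W'.subtype ∘ₗ e.toLinearMap ∘ₗ LinearMap.snd F W W
  have hL : ∀ p : W × W, L p = (p.1 : ι → F) + ((e p.2 : W') : ι → F) := fun p => rfl
  have hinj : Function.Injective L := by
    rw [← LinearMap.ker_eq_bot, LinearMap.ker_eq_bot']
    intro p hp
    rw [hL] at hp
    have h1 : (p.1 : ι → F) = -((e p.2 : W') : ι → F) := eq_neg_of_add_eq_zero_left hp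
    have h3 : (p.1 : ι → F) ∈ W' := by
      rw [h1]
      exact W'.neg_mem (e p.2).2
    have h4 : (p.1 : ι → F) = 0 := (Submodule.disjoint_def.mp hdisj) _ p.1.2 h3
    have h5 : ((e p.2 : W') : ι → F) = 0 := by
      rw [h4, zero_add] at hp
      exact hp
    have h6 : p.2 = 0 := by
      have : e p.2 = 0 := Subtype.ext h5
      exact e.map_eq_zero_iff.mp this
    exact Prod.ext (Subtype.ext h4) h6
  have hLpol : ∀ p q : W × W, polar Q (L p) (L q) = B₂ p q := by
    intro p q
    rw [hL, hL, hQ.polar_bilinear.add_left, hQ.polar_bilinear.add_right, hQ.polar_bilinear.add_right,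
      horth _ p.1.2 _ (e q.2).2, polar_comm Q ((e p.2 : W') : ι → F) (q.1 : ι → F),
      horth _ q.1.2 _ (e p.2).2, polar_isometry e he, hB₂, hBW, hBW]
    ring
  refine ⟨X.map L, ?_, ?_, ?_⟩
  · rintro _ ⟨p, -, rfl⟩
    rw [hL]
    exact Submodule.add_mem_sup p.1.2 (e p.2).2
  · rintro _ ⟨p, hp, rfl⟩
    have h1 : polar Q (L p) (L p) = 0 := by rw [hLpol]; exact hX p hp p hp
    rw [polar_self_eq hQ] at h1
    exact (mul_eq_zero.mp h1).resolve_left h2
  · rw [(Submodule.equivMapOfInjective L hinj X).finrank_eq.symm, hXk]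
    have e2 := Submodule.finrank_sup_add_finrank_inf_eq W W'
    rw [disjoint_iff.mp hdisj, finrank_bot, add_zero] at e2
    have e3 : finrank F W = finrank F W' := e.finrank_eq
    omega

/-! ### sub-sums of an isometric orthogonal decomposition, and R3 -/

omit [Fintype F] [Fintype ι] [DecidableEq ι] in
theorem areOrthogonalFor_symm {A B : Submodule F (ι → F)} (h : AreOrthogonalFor (polar Q) A B) :
    AreOrthogonalFor (polar Q) B A := by
  intro u hu v hv
  rw [polar_comm]
  exact h v hv u hu

omit [Fintype F] [DecidableEq ι] in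
/-- plus type is transported by isometries -/
theorem isPlusTypeOn_of_isometric {W W' : Submodule F (ι → F)} (hiso : AreIsometricFor Q W W')
    (hW : IsPlusTypeOn Q W) : IsPlusTypeOn Q W' := by
  obtain ⟨e, he⟩ := hiso
  obtain ⟨U, hUW, hts, hdim⟩ := hW
  let L : W →ₗ[F] (ι → F) := W'.subtype ∘ₗ e.toLinearMap
  have hLinj : Function.Injective L := by
    intro x y hxy
    exact e.injective (Subtype.ext hxy)
  let U' : Submodule F W := U.comap W.subtype
  have hU' : finrank F U' = finrank F U := by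
    have : U'.map W.subtype = U := by
      rw [Submodule.map_comap_eq, Submodule.range_subtype]
      exact inf_eq_right.mpr hUW
    rw [← this]
    exact ((Submodule.equivMapOfInjective W.subtype W.injective_subtype U').finrank_eq)
  refine ⟨U'.map L, ?_, ?_, ?_⟩
  · rintro _ ⟨x, -, rfl⟩
    exact (e x).2
  · rintro _ ⟨x, hx, rfl⟩
    have h1 : L x = ((e x : W') : ι → F) := rfl
    rw [h1, he]
    exact hts _ hx
  · rw [← (Submodule.equivMapOfInjective L hLinj U').finrank_eq, hU', hdim]
    exact e.finrank_eq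

/-- **sub-sums** of an isometric orthogonal decomposition over an even number of indices are of plus type
(when `k` is even or `|F| % 4 ≠ 3`) -/
theorem isPlusTypeOn_biSup_of_decomposition (hQ : IsNondegenerateQuadraticForm Q) {t k : ℕ}
    (D : Fin t → Submodule F (ι → F)) (hD : IsOrthogonalMDecomposition Q k D)
    (h : Even k ∨ Fintype.card F % 4 ≠ 3) (s : Finset (Fin t)) (hs : Even s.card) :
    IsPlusTypeOn Q (⨆ i ∈ s, D i) := by
  obtain ⟨m, hm⟩ := hs
  refine isPlusTypeOn_biSup_of_even_card D hD.decomp.decomp.indep hQ.polar_bilinear (Q_zero hQ) hD.decomp.orthogonal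
    ?_ m s (by rw [hm]; ring)
  intro i j hij
  by_cases hq : Fintype.card F % 4 ≠ 3
  · exact isPlusTypeOn_sup_of_isometric_of_card hQ.smul hq (D i) (D j) (hD.decomp.orthogonal i j hij)
      (hD.decomp.decomp.indep.pairwiseDisjoint hij) (hD.isometric i j)
  · push Not at hq
    have hk : Even k := h.resolve_right (fun h' => h' hq)
    refine isPlusTypeOn_sup_of_isometric_of_even hQ (two_ne_zero_of_card hq) (D i) (D j) (hD.decomp.orthogonal i j hij)
      (hD.decomp.decomp.indep.pairwiseDisjoint hij) (hD.isometric i j) (hD.decomp.nondegenerate i) ?_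
    rw [hD.decomp.decomp.finrank_eq i]
    exact hk

/-- **R3** `t` odd, `k` even: the space has the type of its blocks -/
theorem isPlusTypeOn_top_iff_block (hQ : IsNondegenerateQuadraticForm Q) {t k : ℕ}
    (D : Fin t → Submodule F (ι → F)) (hD : IsOrthogonalMDecomposition Q k D) (ht : Odd t) (hk : Even k) (i : Fin t) :
    IsPlusTypeOn Q ⊤ ↔ IsPlusTypeOn Q (D i) := by
  classical
  constructor
  · intro hV
    set s : Finset (Fin t) := Finset.univ.erase i with hs
    have hcard : Even s.card := by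
      rw [hs, Finset.card_erase_of_mem (Finset.mem_univ i), Finset.card_univ, Fintype.card_fin]
      obtain ⟨c, hc⟩ := ht
      exact ⟨c, by omega⟩
    have hX := isPlusTypeOn_biSup_of_decomposition hQ D hD (Or.inl hk) s hcard
    have hdisj : Disjoint (⨆ j ∈ s, D j) (D i) := by
      have := hD.decomp.decomp.indep.disjoint_biSup (x := i) (y := (s : Set (Fin t))) (by simp [hs])
      exact this.symm
    have hsup : (⨆ j ∈ s, D j) ⊔ D i = ⊤ := by
      rw [← biSup_univ_eq_top D hD.decomp, sup_comm, ← Finset.iSup_insert, hs,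
        Finset.insert_erase (Finset.mem_univ i)]
    have hcompl : IsCompl (⨆ j ∈ s, D j) (D i) := ⟨hdisj, codisjoint_iff.mpr hsup⟩
    have horth : AreOrthogonalFor (polar Q) (⨆ j ∈ s, D j) (D i) :=
      areOrthogonalFor_symm (areOrthogonalFor_biSup_right hQ.polar_bilinear D (D i) s fun j hj =>
        hD.decomp.orthogonal i j (by
          rintro rfl
          simp [hs] at hj))
    exact isPlusTypeOn_of_isCompl_cancel hQ _ _ hcompl horth hX hV
  · intro hi
    exact isPlusTypeOn_top_of_decomposition_plus hQ D hD.decomp fun j =>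
      isPlusTypeOn_of_isometric (hD.isometric i j) hi

end Cfsg.Agent.Lib.Helper7.OEType
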