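import Mathlib

/-!
# S2436 P2 (helper7): normalizers of conjugate subgroups / Sylow subgroups.
-/

set_option autoImplicit false

namespace Cfsg.Agent.Lib.Helper7.S2436P2

/-- FO-G5: conjugate subgroups have isomorphic normalizers. -/
theorem nonempty_normalizer_equiv {G : Type*} [Group G] (H H' : Subgroup G) (g : G)
    (h : H' = H.map (MulAut.conj g).toMonoidHom) :
    Nonempty (Subgroup.normalizer (H : Set G) ≃* Subgroup.normalizer (H' : Set G)) := by
  subst h
  have key : Subgroup.normalizer ((H.map (MulAut.conj g).toMonoidHom : Subgroup G) : Set G) =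
      (Subgroup.normalizer (H : Set G)).map (MulAut.conj g).toMonoidHom := by
    have := Subgroup.map_equiv_normalizer_eq H (MulAut.conj g)
    simpa using this.symm
  rw [key]
  exact ⟨(MulAut.conj g).subgroupMap (Subgroup.normalizer (H : Set G))⟩

/-- FO-G6: the normalizers of two Sylow `ℓ`-subgroups are isomorphic. -/
theorem nonempty_normalizer_equiv_sylow {G : Type*} [Group G] [Finite G] (ℓ : ℕ) [Fact ℓ.Prime]
    (P Q : Sylow ℓ G) :
    Nonempty (Subgroup.normalizer ((P : Subgroup G) : Set G) ≃*
      Subgroup.normalizer ((Q : Subgroup G) : Set G)) := by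
  obtain ⟨g, hg⟩ := MulAction.exists_smul_eq G P Q
  apply nonempty_normalizer_equiv (P : Subgroup G) (Q : Subgroup G) g
  rw [← hg]
  rfl

/-- SL-G: a Sylow subgroup for a prime not dividing the group order is trivial. -/
theorem normalizer_sylow_eq_top_of_not_dvd {K : Type*} [Group K] [Finite K] (ℓ : ℕ) [Fact ℓ.Prime]
    (P : Sylow ℓ K) (h : ¬ ℓ ∣ Nat.card K) :
    Subgroup.normalizer ((P : Subgroup K) : Set K) = ⊤ := by
  have hP : (P : Subgroup K) = ⊥ := by
    have hc := P.card_eq_multiplicity
    have h0 : (Nat.card K).factorization ℓ = 0 := Nat.factorization_eq_zero_of_not_dvd h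
    rw [h0, pow_zero] at hc
    exact Subgroup.card_eq_one.1 hc
  rw [hP]
  haveI : (⊥ : Subgroup K).Normal := inferInstance
  exact Subgroup.normalizer_eq_top (H := (⊥ : Subgroup K))

end Cfsg.Agent.Lib.Helper7.S2436P2
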