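import Mathlib
import Cfsg.Agent.Lib.Helper2.S2436P1
import Cfsg.Agent.Lib.Helper7.S2436P2
import Cfsg.Agent.Lib.Helper16.SL2Borel
import Cfsg.Agent.Lib.Helper14.SL2Ind
import Cfsg.Agent.S2437

/-!
# S2436 P5 (helper7): SL-C — the normalizer of a Sylow `p`-subgroup of `SL₂(q)` in the defining
characteristic has `q + 3` irreducible characters of `p'`-degree.
-/

set_option autoImplicit false

namespace Cfsg.Agent.Lib.Helper7.S2436P5

open Matrix Cfsg.Agent.Lib.Helper16 Cfsg.Agent.Lib.Helper2.McKayP1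

variable {F : Type*} [Field F]

theorem borelSL2_eq :
    borelSL2 F = (Cfsg.upperTriangularGL 2 F).comap SpecialLinearGroup.toGL := by
  ext x
  rw [mem_borelSL2, Cfsg.Agent.Lib.Helper14.mem_borelSL_iff]

theorem unip_comm {a b : SpecialLinearGroup (Fin 2) F} (ha : a ∈ unipSL2 F) (hb : b ∈ unipSL2 F) :
    a * b = b * a := by
  rw [eq_upperSL2_of_mem ha, eq_upperSL2_of_mem hb, ← upperSL2_add, ← upperSL2_add, add_comm]

instance unipSub_normal : ((unipSL2 F).subgroupOf (borelSL2 F)).Normal := by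
  constructor
  intro u hu g
  rw [Subgroup.mem_subgroupOf] at hu ⊢
  have := conj_mem_unipSL2 g.2 hu
  simpa using this

variable [Fintype F]

theorem mk_borelSL2 (hodd : Odd (Fintype.card F)) (p : ℕ) [Fact p.Prime] [CharP F p] :
    mk p (borelSL2 F) = Fintype.card F + 3 := by
  have hab : ∀ a ∈ (unipSL2 F).subgroupOf (borelSL2 F),
      ∀ b ∈ (unipSL2 F).subgroupOf (borelSL2 F), a * b = b * a := by
    intro a ha b hb
    rw [Subgroup.mem_subgroupOf] at ha hb
    apply Subtype.ext
    simpa using unip_comm ha hb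
  have hidx : ¬ p ∣ ((unipSL2 F).subgroupOf (borelSL2 F)).index := by
    intro h
    apply not_dvd_index_unipSL2 (F := F) p
    have h1 : (unipSL2 F).relIndex (borelSL2 F) ∣ (unipSL2 F).index :=
      Subgroup.relIndex_dvd_index_of_le unipSL2_le_borelSL2
    exact dvd_trans h h1
  rw [mk_of_abelian_normal p _ hab hidx]
  have h := Cfsg.Agent.S2437.result (F := F) hodd
  rw [← borelSL2_eq] at h
  exact h

/-- SL-C: the normalizer of a Sylow `p`-subgroup is a Borel subgroup `U ⋊ T`. -/
theorem mk_normalizer_sylow_char (hodd : Odd (Fintype.card F)) (p : ℕ) [Fact p.Prime] [CharP F p]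
    (P : Sylow p (SpecialLinearGroup (Fin 2) F)) :
    mk p (Subgroup.normalizer ((P : Subgroup (SpecialLinearGroup (Fin 2) F)) :
      Set (SpecialLinearGroup (Fin 2) F))) = Fintype.card F + 3 := by
  let P₀ : Sylow p (SpecialLinearGroup (Fin 2) F) :=
    (unipSL2_isPGroup p).toSylow (not_dvd_index_unipSL2 p)
  obtain ⟨e⟩ := Cfsg.Agent.Lib.Helper7.S2436P2.nonempty_normalizer_equiv_sylow p P P₀
  have hN : Subgroup.normalizer ((P₀ : Subgroup (SpecialLinearGroup (Fin 2) F)) :
      Set (SpecialLinearGroup (Fin 2) F)) = borelSL2 F := normalizer_unipSL2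
  rw [mk_congr p (e.trans (MulEquiv.subgroupCongr hN))]
  exact mk_borelSL2 hodd p

end Cfsg.Agent.Lib.Helper7.S2436P5
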