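import Mathlib
import Cfsg.Agent.Lib.Helper8.ChevPar7
import Cfsg.Agent.Lib.Helper8.ChevSyl1
import Cfsg.Agent.Lib.Helper8.ChevOrdH2
import Cfsg.Agent.Lib.Helper14.BNSt12

/-!
# S2314 farm-out FO-C (architect helper14): the longest element of `W_J` in a Chevalley group
-/

set_option autoImplicit false
set_option linter.unusedSectionVars false

namespace Cfsg.Agent.Lib.Helper7.S2314FOC

open Cfsg.Lie Matrix Cfsg.Agent.Lib.Helper8.Chev
open Cfsg.Agent.Lib.Helper3 Cfsg.Agent.Lib.Helper8.Weyl Cfsg.Agent.Lib.Helper8.BNCox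
open Cfsg.Agent.Lib.Helper14.BNSt

variable {D : ChevalleyDatum} {F : Type*} [Field F]

/-- the subgroup generated by the root subgroups of the positive roots of `Φ_J` -/
def posJ (D : ChevalleyDatum) (F : Type*) [Field F] (J : Set ℕ) : Subgroup (GL D.Idx F) :=
  Subgroup.closure {g | ∃ (r : ℕ) (t : F), D.IsPosRoot r ∧ D.InRootSub J r ∧
    (g : Matrix D.Idx D.Idx F) = D.x F r t}

theorem radical_le_pos (J : Set ℕ) : D.unipotentRadical F J ≤ D.posUnipotent F := by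
  unfold ChevalleyDatum.unipotentRadical ChevalleyDatum.posUnipotent
  apply Subgroup.closure_mono
  rintro g ⟨r, t, hr, _, hg⟩
  exact ⟨r, t, hr, hg⟩

theorem posJ_le_parabolic (hD : D ∈ [chevG2, chevB2, chevD4, chevF4, chevE6, chevE7, chevE8])
    (J : Set ℕ) : posJ D F J ≤ D.parabolicSubgroup F J := by
  unfold posJ
  rw [Subgroup.closure_le]
  rintro g ⟨r, t, _, hrJ, hg⟩
  exact x_mem_parabolic hD J hrJ t g hg

/-- `U = U_J · ⟨X_r : r ∈ Φ_J⁺⟩` -/
theorem pos_decomp (hD : D ∈ [chevG2, chevB2, chevD4, chevF4, chevE6, chevE7, chevE8])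
    (J : Set ℕ) {u : GL D.Idx F} (hu : u ∈ D.posUnipotent F) :
    ∃ v ∈ D.unipotentRadical F J, ∃ y ∈ posJ D F J, u = v * y := by
  have hN := parabolic_le_normalizer (F := F) hD J
  have hconj : ∀ y ∈ posJ D F J, ∀ v ∈ D.unipotentRadical F J,
      y * v * y⁻¹ ∈ D.unipotentRadical F J := by
    intro y hy v hv
    exact (Subgroup.mem_normalizer_iff.1 (hN (posJ_le_parabolic hD J hy)) v).1 hv
  unfold ChevalleyDatum.posUnipotent at hu
  induction hu using Subgroup.closure_induction with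
  | mem g hg =>
    obtain ⟨r, t, hr, hgm⟩ := hg
    by_cases hrJ : D.InRootSub J r
    · exact ⟨1, one_mem _, g, Subgroup.subset_closure ⟨r, t, hr, hrJ, hgm⟩, by rw [one_mul]⟩
    · exact ⟨g, Subgroup.subset_closure ⟨r, t, hr, hrJ, hgm⟩, 1, one_mem _, by rw [mul_one]⟩
  | one => exact ⟨1, one_mem _, 1, one_mem _, by rw [mul_one]⟩
  | mul a b _ _ iha ihb =>
    obtain ⟨v1, hv1, y1, hy1, rfl⟩ := iha
    obtain ⟨v2, hv2, y2, hy2, rfl⟩ := ihb
    refine ⟨v1 * (y1 * v2 * y1⁻¹), mul_mem hv1 (hconj y1 hy1 v2 hv2), y1 * y2, mul_mem hy1 hy2, ?_⟩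
    group
  | inv a _ iha =>
    obtain ⟨v1, hv1, y1, hy1, rfl⟩ := iha
    refine ⟨y1⁻¹ * v1⁻¹ * y1⁻¹⁻¹, hconj y1⁻¹ (inv_mem hy1) v1⁻¹ (inv_mem hv1), y1⁻¹, inv_mem hy1, ?_⟩
    group

theorem chev_levi_data (hD : D ∈ [chevG2, chevB2, chevD4, chevF4, chevE6, chevE7, chevE8])
    (J : Set ℕ) :
    ∃ n ∈ D.monomialSubgroup F, n ∈ D.parabolicSubgroup F J ∧
      (∀ i ∈ J, i < D.rank → ∃ a ∈ D.borelSubgroup F, ∃ b1 ∈ D.borelSubgroup F,
          ∃ b2 ∈ D.borelSubgroup F, nG D F i * (a * n) = b1 * n * b2) ∧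
      (∀ u ∈ D.posUnipotent F, n⁻¹ * u * n ∈ D.borelSubgroup F → u ∈ D.unipotentRadical F J) := by
  have V := valid0_of_mem hD
  have V1 := valid1_of_mem hD
  have J' := validJ_of_mem hD
  have H := validH_of_mem hD
  have P := posP_of_mem hD
  have Tr := triP_of_mem hD
  have hX := chevWD_ok_mem hD
  obtain ⟨v, hv, hlong⟩ := WData.exists_longest hX (JF D J)
  obtain ⟨l, hl, el⟩ := exists_word_of_mem_WJ hD J hv
  have hl' : ∀ i ∈ l, i < D.rank := fun i hi => (hl i hi).1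
  have hPN := rootPermN_nP (F := F) J' V1 H.nS l hl'
  have hσ := hPN.rootPerm
  -- the word maps the positive roots of `Φ_J` to negative roots
  have hneg : ∀ r, D.IsPosRoot r → D.InRootSub J r →
      reflWord D l r < D.nroots ∧ D.IsNegRoot (reflWord D l r) := by
    intro r hr hrJ
    have hlt := (hσ r hr.1).1
    refine ⟨hlt, (P _ hlt).2.mpr ?_⟩
    have hpos : (chevWD D (validJ_of_mem hD) (validH_of_mem hD) (checkInv_of_mem hD)).pos
        ⟨r, hr.1⟩ := (P r hr.1).1.mp hr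
    have h1 := hlong ⟨r, hr.1⟩ hpos ((inRootSub_iff hD J ⟨r, hr.1⟩).mp hrJ)
    have h2 := el ⟨r, hr.1⟩
    have h3 : ¬ (D.nroots / 2 ≤ (v ⟨r, hr.1⟩).val) := h1
    have h4 : reflWord D l r = (v ⟨r, hr.1⟩).val := h2.symm
    exact lt_of_eq_of_lt h4 (not_le.mp h3)
  obtain ⟨m, hmdef⟩ : ∃ m : GL D.Idx F, m = nP D F l := ⟨_, rfl⟩
  have hmN : m ∈ D.monomialSubgroup F := by rw [hmdef]; exact nP_mem_monomial hD hl'
  have hmP : m ∈ D.parabolicSubgroup F J := by
    rw [hmdef]; exact nGens_le_parabolic (F := F) J (nP_mem_nGens hD J hl)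
  rw [← hmdef] at hσ hPN
  refine ⟨m⁻¹, inv_mem hmN, inv_mem hmP, ?_, ?_⟩
  · intro i hiJ hi
    have hp := (J'.S i hi).1
    have hppos := isPosRoot_simple hD hi
    have hpJ := inRootSub_simple hD J hi hiJ
    have hnp := V.neg_lt hp
    obtain ⟨a1, h1⟩ := exists_unit_x V V1 hp (1 : F)
    obtain ⟨a2, h2⟩ := exists_unit_x V V1 hnp (-(1 : F)⁻¹)
    have e : nG D F i = a1 * a2 * a1 := by
      apply Units.ext
      rw [coe_nG J' V1 hi, nMat_eq_wN, Units.val_mul, Units.val_mul, h1, h2, x_eq_xN, x_eq_xN]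
      simp [ChevalleyDatum.nWord, wN_cons, Matrix.mul_assoc]
    have ha1U : a1 ∈ D.posUnipotent F := Subgroup.subset_closure ⟨_, _, hppos, h1⟩
    -- `m a2 m⁻¹ ∈ U`
    obtain ⟨ε, he⟩ := rootPerm_conj hσ hnp _ a2 h2
    obtain ⟨hlt, hnegσ⟩ := hneg _ hppos hpJ
    have hσneg : reflWord D l (D.neg (D.simple i)) = D.neg (reflWord D l (D.simple i)) :=
      (hPN _ hp).2.1
    have hpos2 : D.IsPosRoot (reflWord D l (D.neg (D.simple i))) := by
      rw [hσneg]
      have hlt2 := V.neg_lt hlt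
      refine (P _ hlt2).1.mpr ?_
      have h5 := (P _ hlt).2.mp hnegσ
      rw [V.neg_eq _ hlt]
      have := V.even
      omega
    have hb2 : m * a2 * m⁻¹ ∈ D.posUnipotent F :=
      Subgroup.subset_closure ⟨_, _, hpos2, he⟩
    refine ⟨a1⁻¹, inv_mem (pos_le_borel ha1U), a1, pos_le_borel ha1U, m * a2 * m⁻¹,
      pos_le_borel hb2, ?_⟩
    rw [e]
    group
  · intro u hu hB
    rw [inv_inv] at hB
    obtain ⟨v', hv', y, hy, rfl⟩ := pos_decomp hD J hu
    have hN := parabolic_le_normalizer (F := F) hD J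
    have h1 : m * v' * m⁻¹ ∈ D.unipotentRadical F J :=
      (Subgroup.mem_normalizer_iff.1 (hN hmP) v').1 hv'
    have h2 : m * y * m⁻¹ ∈ D.borelSubgroup F := by
      have : m * y * m⁻¹ = (m * v' * m⁻¹)⁻¹ * (m * (v' * y) * m⁻¹) := by group
      rw [this]
      exact mul_mem (inv_mem (pos_le_borel (radical_le_pos J h1))) hB
    have h3 : m * y * m⁻¹ ∈ D.negUnipotent F := by
      have hle : (posJ D F J).map (MulAut.conj m).toMonoidHom ≤ D.negUnipotent F := by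
        unfold posJ
        rw [MonoidHom.map_closure, Subgroup.closure_le]
        rintro _ ⟨g, ⟨r, t, hr, hrJ, hg⟩, rfl⟩
        obtain ⟨ε, he⟩ := rootPerm_conj hσ hr.1 t g hg
        exact Subgroup.subset_closure ⟨_, _, (hneg r hr hrJ).2, he⟩
      exact hle ⟨y, hy, rfl⟩
    have h4 : m * y * m⁻¹ ∈ D.borelSubgroup F ⊓ D.negUnipotent F := ⟨h2, h3⟩
    rw [borel_inf_neg J' V1 H Tr P, Subgroup.mem_bot] at h4
    have hy1 : y = 1 := by
      have : y = m⁻¹ * (m * y * m⁻¹) * m := by group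
      rw [this, h4]; group
    rw [hy1, mul_one]
    exact hv'

end Cfsg.Agent.Lib.Helper7.S2314FOC
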