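import Mathlib
import Cfsg.Prelude.Def_Characters
import Cfsg.Prelude.Def_Transfer
import Cfsg.Agent.Lib.Helper2.Linear
import Cfsg.Agent.Lib.Helper25.Complete
import Cfsg.Agent.Lib.Helper25.Irred

set_option autoImplicit false

namespace Cfsg.Agent.Lib.Helper7

open Cfsg.Agent.Lib.Helper2
open scoped ComplexConjugate commutatorElement

section General

variable {G : Type*} [Group G] {V : Type*} [AddCommGroup V] [Module ℂ V] [FiniteDimensional ℂ V]

/-- Central elements act as scalars in an irreducible representation. -/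
theorem central_scalar (ρ : Representation ℂ G V) (h : ρ.IsIrreducible) (z : G)
    (hz : z ∈ Subgroup.center G) : ∃ c : ℂ, ρ z = c • LinearMap.id := by
  apply Cfsg.Agent.Lib.Helper25.schur_scalar ρ h
  intro g
  have : z * g = g * z := (Subgroup.mem_center_iff.mp hz g).symm
  have h2 := congrArg ρ this
  rw [map_mul, map_mul] at h2
  exact h2

omit [FiniteDimensional ℂ V] in
/-- If `ρ z = c • id` then `χ (x * z) = c * χ x`. -/
theorem char_mul_scalar (ρ : Representation ℂ G V) (x z : G) (c : ℂ)
    (hc : ρ z = c • LinearMap.id) : ρ.character (x * z) = c * ρ.character x := by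
  unfold Representation.character
  rw [map_mul, hc]
  have : ρ x * c • (LinearMap.id : V →ₗ[ℂ] V) = c • ρ x := by
    ext v
    simp
  rw [this, map_smul, smul_eq_mul]

omit [FiniteDimensional ℂ V] in
/-- If the commutator `x⁻¹ g⁻¹ x g` acts as a scalar `c ≠ 1`, then `χ x = 0`. -/
theorem char_eq_zero_of_commutator_scalar (ρ : Representation ℂ G V) (x g : G) (c : ℂ)
    (hc : ρ (x⁻¹ * g⁻¹ * x * g) = c • LinearMap.id) (hc1 : c ≠ 1) : ρ.character x = 0 := by
  have h1 : ρ.character (x * (x⁻¹ * g⁻¹ * x * g)) = c * ρ.character x := char_mul_scalar ρ x _ c hc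
  have h2 : x * (x⁻¹ * g⁻¹ * x * g) = g⁻¹ * x * g := by group
  have h3 : ρ.character (g⁻¹ * x * g) = ρ.character x := by
    have := Representation.char_conj ρ x g⁻¹
    rwa [inv_inv] at this
  rw [h2, h3] at h1
  have h4 : (1 - c) * ρ.character x = 0 := by rw [sub_mul, one_mul, ← h1, sub_self]
  rcases mul_eq_zero.mp h4 with h | h
  · exact absurd (sub_eq_zero.mp h).symm hc1
  · exact h

/-- If all `ρ g` commute and `ρ` is irreducible then `dim V = 1`. -/
theorem finrank_eq_one_of_commuting (ρ : Representation ℂ G V) (h : ρ.IsIrreducible)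
    (hcomm : ∀ g k : G, ρ g ∘ₗ ρ k = ρ k ∘ₗ ρ g) : Module.finrank ℂ V = 1 := by
  obtain ⟨hnt, hW⟩ := (Cfsg.Agent.Lib.Helper25.isIrreducible_iff ρ).mp h
  obtain ⟨v, hv⟩ := exists_ne (0 : V)
  have hsc : ∀ g : G, ∃ c : ℂ, ρ g = c • LinearMap.id := fun g =>
    Cfsg.Agent.Lib.Helper25.schur_scalar ρ h (ρ g) (fun k => hcomm g k)
  have hinv : ∀ g : G, ∀ w ∈ Submodule.span ℂ ({v} : Set V), ρ g w ∈ Submodule.span ℂ ({v} : Set V) := by
    intro g w hw
    obtain ⟨c, hc⟩ := hsc g
    rw [hc]
    simp only [LinearMap.smul_apply, LinearMap.id_coe, id_eq]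
    exact Submodule.smul_mem _ c hw
  rcases hW _ hinv with h1 | h1
  · exfalso
    apply hv
    have : v ∈ Submodule.span ℂ ({v} : Set V) := Submodule.mem_span_singleton_self v
    rw [h1, Submodule.mem_bot] at this
    exact this
  · rw [← finrank_top ℂ V, ← h1]
    exact finrank_span_singleton hv

end General

section Extraspecial

variable {P : Type*} [Group P] [Fintype P] {p : ℕ} [Fact p.Prime]
  {V : Type*} [AddCommGroup V] [Module ℂ V] [FiniteDimensional ℂ V]

/-- In a group whose centre has prime order, any nontrivial central element generates the centre. -/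
theorem mem_zpowers_of_center_prime (hZ : Nat.card (Subgroup.center P) = p) {z z₀ : P}
    (hz : z ∈ Subgroup.center P) (hz1 : z ≠ 1) (hz₀ : z₀ ∈ Subgroup.center P) :
    z₀ ∈ Subgroup.zpowers z := by
  have hp : p.Prime := Fact.out
  have hle : Subgroup.zpowers z ≤ Subgroup.center P := by
    rw [Subgroup.zpowers_le]; exact hz
  have heq : Subgroup.zpowers z = Subgroup.center P := by
    apply Subgroup.eq_of_le_of_card_ge hle
    rw [hZ, Nat.card_zpowers]
    have hd : orderOf z ∣ p := by
      have := Subgroup.card_dvd_of_le hle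
      rwa [Nat.card_zpowers, hZ] at this
    rcases (Nat.dvd_prime hp).mp hd with h | h
    · exact absurd (orderOf_eq_one_iff.mp h) hz1
    · exact h.ge
  rw [heq]; exact hz₀

/-- Main dichotomy for irreducible representations of an extraspecial group (only uses
`commutator P = center P` of prime order): either the degree is one, or the character vanishes off
the centre and `d ^ 2 * p = |P|`. -/
theorem extraspecial_irr_dichotomy (hcomm : commutator P = Subgroup.center P)
    (hZ : Nat.card (Subgroup.center P) = p) (ρ : Representation ℂ P V) (h : ρ.IsIrreducible) :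
    Module.finrank ℂ V = 1 ∨
      ((∀ x : P, x ∉ Subgroup.center P → ρ.character x = 0) ∧
        (Module.finrank ℂ V) ^ 2 * p = Nat.card P) := by
  classical
  have hp : p.Prime := Fact.out
  by_cases hcase : ∀ z ∈ Subgroup.center P, ρ z = LinearMap.id
  · left
    apply finrank_eq_one_of_commuting ρ h
    intro g k
    have h1 : g * k = k * g * (g⁻¹ * k⁻¹ * g * k) := by group
    have h2 : g⁻¹ * k⁻¹ * g * k ∈ Subgroup.center P := by
      rw [← hcomm]
      have : g⁻¹ * k⁻¹ * g * k = ⁅g⁻¹, k⁻¹⁆ := by
        rw [commutatorElement_def]; group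
      rw [this]
      exact Subgroup.commutator_mem_commutator (Subgroup.mem_top _) (Subgroup.mem_top _)
    have h3 := congrArg ρ h1
    rw [map_mul, map_mul, map_mul, hcase _ h2] at h3
    exact h3
  · right
    push Not at hcase
    obtain ⟨z₀, hz₀, hz₀ne⟩ := hcase
    have hvanish : ∀ x : P, x ∉ Subgroup.center P → ρ.character x = 0 := by
      intro x hx
      have hex : ∃ g : P, x⁻¹ * g⁻¹ * x * g ≠ 1 := by
        by_contra hall
        push Not at hall
        apply hx
        rw [Subgroup.mem_center_iff]
        intro g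
        have := hall g
        have h2 : g * x = x * g * (x⁻¹ * g⁻¹ * x * g)⁻¹ := by group
        rw [h2, this, inv_one, mul_one]
      obtain ⟨g, hg⟩ := hex
      have hzc : x⁻¹ * g⁻¹ * x * g ∈ Subgroup.center P := by
        rw [← hcomm]
        have : x⁻¹ * g⁻¹ * x * g = ⁅x⁻¹, g⁻¹⁆ := by
          rw [commutatorElement_def]; group
        rw [this]
        exact Subgroup.commutator_mem_commutator (Subgroup.mem_top _) (Subgroup.mem_top _)
      obtain ⟨c, hc⟩ := central_scalar ρ h _ hzc
      apply char_eq_zero_of_commutator_scalar ρ x g c hc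
      rintro rfl
      apply hz₀ne
      have hmem := mem_zpowers_of_center_prime hZ hzc hg hz₀
      rw [← mem_powers_iff_mem_zpowers] at hmem
      obtain ⟨k, hk⟩ := Submonoid.mem_powers_iff _ _ |>.mp hmem
      rw [← hk, map_pow, hc, one_smul]
      exact one_pow k
    refine ⟨hvanish, ?_⟩
    have := h
    have hnorm := classInner_irr_self ρ
    rw [classInner_def] at hnorm
    have hGne : (Nat.card P : ℂ) ≠ 0 := card_ne_zero_complex
    have hsum : ∑ x : P, ρ.character x * conj (ρ.character x) = (Nat.card P : ℂ) := by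
      field_simp at hnorm
      rw [hnorm]
    have hsplit : ∑ x : P, ρ.character x * conj (ρ.character x) =
        ∑ x ∈ Finset.univ.filter (fun x : P => x ∈ Subgroup.center P),
          ((Module.finrank ℂ V : ℂ)) ^ 2 := by
      rw [Finset.sum_filter]
      apply Finset.sum_congr rfl
      intro x _
      by_cases hx : x ∈ Subgroup.center P
      · rw [if_pos hx]
        obtain ⟨c, hc⟩ := central_scalar ρ h x hx
        have hn := (norm_char_eq_finrank_iff ρ x).mpr ⟨c, hc⟩
        rw [Complex.mul_conj, Complex.normSq_eq_norm_sq, hn]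
        push_cast
        rfl
      · rw [if_neg hx, hvanish x hx, zero_mul]
    rw [hsplit, Finset.sum_const, nsmul_eq_mul] at hsum
    have hcardZ : (Finset.univ.filter (fun x : P => x ∈ Subgroup.center P)).card = p := by
      rw [← hZ, Nat.card_eq_fintype_card, Fintype.card_subtype]
    rw [hcardZ] at hsum
    have : ((Module.finrank ℂ V ^ 2 * p : ℕ) : ℂ) = (Nat.card P : ℂ) := by
      push_cast
      rw [← hsum]; ring
    exact_mod_cast this

end Extraspecial

end Cfsg.Agent.Lib.Helper7
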