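import Mathlib

/-!
# S3590 farm-out FO-D (architect helper15): a nonderogatory endomorphism has eigenspaces of
dimension at most one.  Mathlib only.
-/

set_option autoImplicit false

namespace Cfsg.Agent.Lib.Helper7.S3590D

open Module Polynomial

/-- evaluation of a polynomial at a restricted endomorphism -/
theorem aeval_restrict_apply {K V : Type*} [Field K] [AddCommGroup V] [Module K V]
    (f : Module.End K V) (R : Submodule K V) (hfR : ∀ x ∈ R, f x ∈ R) (p : K[X]) (x : R) :
    (aeval f p) (x : V) = ((aeval (f.restrict hfR) p) x : V) := by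
  induction p using Polynomial.induction_on' with
  | add p q hp hq =>
    rw [map_add, map_add, LinearMap.add_apply, LinearMap.add_apply, Submodule.coe_add, hp, hq]
  | monomial n a =>
    rw [aeval_monomial, aeval_monomial, Module.End.pow_restrict n hfR]
    simp [Module.algebraMap_end_apply]

theorem finrank_ker_le_one_of_natDegree_minpoly {K V : Type*} [Field K] [AddCommGroup V] [Module K V]
    [FiniteDimensional K V] (f : Module.End K V) (h : (minpoly K f).natDegree = finrank K V) (c : K) :
    finrank K (LinearMap.ker (f - algebraMap K (Module.End K V) c)) ≤ 1 := by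
  obtain ⟨g, hg⟩ : ∃ g : Module.End K V, g = f - algebraMap K (Module.End K V) c := ⟨_, rfl⟩
  rw [← hg]
  have hfR : ∀ x ∈ LinearMap.range g, f x ∈ LinearMap.range g := by
    rintro _ ⟨y, rfl⟩
    refine ⟨f y, ?_⟩
    rw [hg]
    simp [Module.algebraMap_end_apply]
  have hσdeg : ((f.restrict hfR).charpoly).natDegree = finrank K (LinearMap.range g) :=
    LinearMap.charpoly_natDegree _
  have hσ0 : aeval (f.restrict hfR) (f.restrict hfR).charpoly = 0 :=
    LinearMap.aeval_self_charpoly _
  have hcomp : (aeval f (f.restrict hfR).charpoly) * g = 0 := by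
    ext x
    have := aeval_restrict_apply f (LinearMap.range g) hfR (f.restrict hfR).charpoly
      ⟨g x, ⟨x, rfl⟩⟩
    rw [hσ0] at this
    simpa using this
  have h2 : aeval f ((f.restrict hfR).charpoly * (X - C c)) = 0 := by
    rw [map_mul, map_sub, aeval_X, aeval_C, ← hg]; exact hcomp
  have hdvd : minpoly K f ∣ (f.restrict hfR).charpoly * (X - C c) := minpoly.dvd K f h2
  have hmonic : ((f.restrict hfR).charpoly).Monic := LinearMap.charpoly_monic _
  have hne : (f.restrict hfR).charpoly * (X - C c) ≠ 0 :=
    mul_ne_zero hmonic.ne_zero (X_sub_C_ne_zero c)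
  have hdeg := Polynomial.natDegree_le_of_dvd hdvd hne
  rw [natDegree_mul hmonic.ne_zero (X_sub_C_ne_zero c), natDegree_X_sub_C, hσdeg, h] at hdeg
  have hrn := LinearMap.finrank_range_add_finrank_ker g
  omega

end Cfsg.Agent.Lib.Helper7.S3590D
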