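import Mathlib
import Cfsg.Agent.Lib.Helper6.Unitary

/-!
# Unitary matrices from finite-dimensional commutative algebras carrying a Hermitian form
-/

set_option autoImplicit false

namespace Cfsg.Agent.Lib.Helper7.UnitaryBlock

open Matrix Polynomial Cfsg Cfsg.Agent.Lib.Helper6

variable {F : Type*} [Field F] [Fintype F] {q : ℕ}

theorem scalar_eq_algebraMap' {d : ℕ} (ν : F) :
    Matrix.scalar (Fin d) ν = algebraMap F (Matrix (Fin d) (Fin d) F) ν := by
  rw [Matrix.scalar_apply, Matrix.algebraMap_eq_diagonal]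
  rfl

/-- The regular representation of a finite-dimensional commutative `F`-algebra carrying a
nondegenerate Hermitian form, in matrix form with respect to an orthonormal basis: an element
acting isometrically gives a matrix preserving the standard Hermitian form. -/
theorem exists_unitary_matrix_of_algebra (hF : Fintype.card F = q ^ 2)
    {𝒜 : Type*} [CommRing 𝒜] [Algebra F 𝒜] [Module.Finite F 𝒜]
    {d : ℕ} (hd : Module.finrank F 𝒜 = d)
    (B : 𝒜 →ₛₗ[conjQ hF] 𝒜 →ₗ[F] F) (hS : B.IsSymm)
    (hN : ∀ u, (∀ v, B u v = 0) → u = 0) (a : 𝒜)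
    (ha : ∀ u v, B (a * u) (a * v) = B u v) :
    ∃ M : Matrix (Fin d) (Fin d) F,
      (∀ x y, hermForm d F q (M *ᵥ x) (M *ᵥ y) = hermForm d F q x y) ∧
      M.det = Algebra.norm F a ∧
      (∀ (j : ℕ) (ν : F), M ^ j = Matrix.scalar (Fin d) ν ↔ a ^ j = algebraMap F 𝒜 ν) := by
  classical
  obtain ⟨φ, hφ⟩ := exists_std_herm hF B hS hN d hd
  let b : Module.Basis (Fin d) F 𝒜 := Module.Basis.ofEquivFun φ
  have hinj : Function.Injective (Algebra.leftMulMatrix b) := Algebra.leftMulMatrix_injective b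
  have hrepr : ∀ u : 𝒜, (b.repr u : Fin d → F) = φ u := by
    intro u
    funext i
    exact Module.Basis.ofEquivFun_repr_apply φ u i
  refine ⟨Algebra.leftMulMatrix b a, ?_, (Algebra.norm_eq_matrix_det b a).symm, ?_⟩
  · intro x y
    have hx : x = (b.repr (φ.symm x) : Fin d → F) := by rw [hrepr, LinearEquiv.apply_symm_apply]
    have hy : y = (b.repr (φ.symm y) : Fin d → F) := by rw [hrepr, LinearEquiv.apply_symm_apply]
    conv_lhs => rw [hx, hy]
    rw [Algebra.leftMulMatrix_mulVec_repr, Algebra.leftMulMatrix_mulVec_repr, hrepr, hrepr, hφ, ha,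
      ← hφ, LinearEquiv.apply_symm_apply, LinearEquiv.apply_symm_apply]
  · intro j ν
    rw [scalar_eq_algebraMap', ← map_pow, ← AlgHom.commutes (Algebra.leftMulMatrix b) ν]
    exact hinj.eq_iff

end Cfsg.Agent.Lib.Helper7.UnitaryBlock
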