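import Mathlib
import Cfsg.Agent.Lib.Helper6.Unitary
import Cfsg.Agent.Lib.Helper7.UnitaryAlg

/-!
# The truncated polynomial ring `F[t]/(t^l)` with the involution `1 + t ↦ (1 + t)⁻¹`
-/

set_option autoImplicit false

namespace Cfsg.Agent.Lib.Helper7.UnitaryBlock

open Matrix Polynomial Cfsg Cfsg.Agent.Lib.Helper6

section ring

variable {F : Type*} [Field F] (l : ℕ)

/-- `t ^ j = 0 ↔ l ≤ j` in `F[t]/(t^l)` -/
theorem root_pow_eq_zero_iff (j : ℕ) :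
    (AdjoinRoot.root (X ^ l : F[X])) ^ j = 0 ↔ l ≤ j := by
  rw [← AdjoinRoot.mk_X, ← map_pow, AdjoinRoot.mk_eq_zero]
  exact pow_dvd_pow_iff X_ne_zero not_isUnit_X

/-- the inverse of `1 + t` -/
noncomputable def xinv : AdjoinRoot (X ^ l : F[X]) :=
  ∑ i ∈ Finset.range l, (-(AdjoinRoot.root (X ^ l : F[X]))) ^ i

theorem one_add_root_mul_xinv :
    (1 + AdjoinRoot.root (X ^ l : F[X])) * xinv l = 1 := by
  have h := mul_neg_geom_sum (-(AdjoinRoot.root (X ^ l : F[X]))) l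
  rw [sub_neg_eq_add] at h
  unfold xinv
  rw [h, neg_pow, (root_pow_eq_zero_iff l l).mpr le_rfl, mul_zero, sub_zero]

theorem xinv_sub_one :
    xinv l - 1 = -(AdjoinRoot.root (X ^ l : F[X])) * xinv l := by
  have h := one_add_root_mul_xinv (F := F) l
  calc xinv l - 1 = xinv l - (1 + AdjoinRoot.root (X ^ l : F[X])) * xinv l := by rw [h]
    _ = -(AdjoinRoot.root (X ^ l : F[X])) * xinv l := by ring

theorem xinv_sub_one_pow : (xinv (F := F) l - 1) ^ l = 0 := by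
  rw [xinv_sub_one, mul_pow, neg_pow, (root_pow_eq_zero_iff l l).mpr le_rfl, mul_zero, zero_mul]

/-- every nonzero element of `F[t]/(t^l)` divides `t^(l-1)` -/
theorem exists_mul_eq_root_pow (w : AdjoinRoot (X ^ l : F[X])) (hw : w ≠ 0) :
    ∃ v, w * v = (AdjoinRoot.root (X ^ l : F[X])) ^ (l - 1) := by
  obtain ⟨g, rfl⟩ := AdjoinRoot.mk_surjective w
  have hnd : ¬ (X ^ l : F[X]) ∣ g := fun h => hw (AdjoinRoot.mk_eq_zero.mpr h)
  have hg0 : g ≠ 0 := by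
    rintro rfl
    exact hnd (dvd_zero _)
  obtain ⟨g', hg', hnd'⟩ := exists_eq_pow_rootMultiplicity_mul_and_not_dvd g hg0 0
  rw [C_0, sub_zero] at hg' hnd'
  set i := g.rootMultiplicity 0 with hi
  have hil : i < l := by
    by_contra h
    push Not at h
    apply hnd
    rw [hg']
    exact Dvd.dvd.mul_right (pow_dvd_pow X h) g'
  have he : g'.coeff 0 ≠ 0 := fun h => hnd' (X_dvd_iff.mpr h)
  have hdec : g' = g'.divX * X + C (g'.coeff 0) := (divX_mul_X_add g').symm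
  obtain ⟨e, he', hee⟩ : ∃ e : F, e ≠ 0 ∧ e = g'.coeff 0 := ⟨_, he, rfl⟩
  obtain ⟨d, hdd⟩ : ∃ d : F[X], d = g'.divX := ⟨_, rfl⟩
  rw [← hee, ← hdd] at hdec
  refine ⟨AdjoinRoot.mk (X ^ l : F[X]) (C e⁻¹ * X ^ (l - 1 - i)), ?_⟩
  rw [← map_mul, ← AdjoinRoot.mk_X, ← map_pow, AdjoinRoot.mk_eq_mk]
  have hpow : (X : F[X]) ^ i * X ^ (l - 1 - i) = X ^ (l - 1) := by
    rw [← pow_add]; congr 1; omega
  have hpow2 : (X : F[X]) ^ (l - 1) * X = X ^ l := by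
    rw [← pow_succ]; congr 1; omega
  have hC : (C e⁻¹ : F[X]) * C e = 1 := by
    rw [← C_mul, inv_mul_cancel₀ he', C_1]
  refine ⟨C e⁻¹ * d, ?_⟩
  have e1 : g * (C e⁻¹ * X ^ (l - 1 - i))
      = C e⁻¹ * (X ^ i * X ^ (l - 1 - i)) * g' := by
    conv_lhs => rw [hg']
    ring
  rw [e1, hpow, hdec]
  calc C e⁻¹ * X ^ (l - 1) * (d * X + C e) - X ^ (l - 1)
      = C e⁻¹ * d * (X ^ (l - 1) * X)
        + (C e⁻¹ * C e) * X ^ (l - 1) - X ^ (l - 1) := by ring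
    _ = X ^ l * (C e⁻¹ * d) := by rw [hpow2, hC]; ring

end ring

end Cfsg.Agent.Lib.Helper7.UnitaryBlock
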