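import Mathlib
import Cfsg.Agent.Lib.Helper6.Unitary
import Cfsg.Agent.Lib.Helper7.UnitaryAlg
import Cfsg.Agent.Lib.Helper7.UnitaryUnip1

/-!
# The unitary unipotent block
-/

set_option autoImplicit false

namespace Cfsg.Agent.Lib.Helper7.UnitaryBlock

open Matrix Polynomial Cfsg Cfsg.Agent.Lib.Helper6

section invol

variable {F : Type*} [Field F] [Fintype F] {q : ℕ} (hF : Fintype.card F = q ^ 2) (l : ℕ)

/-- the semilinear involution of `F[t]/(t^l)` with `1 + t ↦ (1 + t)⁻¹` -/
noncomputable def sig : AdjoinRoot (X ^ l : F[X]) →+* AdjoinRoot (X ^ l : F[X]) :=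
  AdjoinRoot.lift ((algebraMap F (AdjoinRoot (X ^ l : F[X]))).comp (conjQ hF)) (xinv l - 1)
    (by rw [eval₂_X_pow]; exact xinv_sub_one_pow l)

theorem sig_root : sig hF l (AdjoinRoot.root (X ^ l : F[X])) = xinv l - 1 := by
  unfold sig
  rw [AdjoinRoot.lift_root]

theorem sig_algebraMap (c : F) :
    sig hF l (algebraMap F (AdjoinRoot (X ^ l : F[X])) c)
      = algebraMap F (AdjoinRoot (X ^ l : F[X])) (conjQ hF c) := by
  unfold sig
  have h : algebraMap F (AdjoinRoot (X ^ l : F[X])) c = AdjoinRoot.of (X ^ l : F[X]) c := by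
    rw [AdjoinRoot.algebraMap_eq]
  conv_lhs => rw [h]
  rw [AdjoinRoot.lift_of]
  rfl

theorem sig_one_add_root :
    sig hF l (1 + AdjoinRoot.root (X ^ l : F[X])) = xinv l := by
  rw [map_add, map_one, sig_root]; ring

theorem sig_xinv : sig hF l (xinv l) = 1 + AdjoinRoot.root (X ^ l : F[X]) := by
  have h1 : sig hF l (xinv l) * xinv l = 1 := by
    calc sig hF l (xinv l) * xinv l
        = sig hF l (xinv l) * sig hF l (1 + AdjoinRoot.root (X ^ l : F[X])) := by
          rw [sig_one_add_root]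
      _ = sig hF l ((1 + AdjoinRoot.root (X ^ l : F[X])) * xinv l) := by
          rw [(sig hF l).map_mul, mul_comm]
      _ = 1 := by rw [one_add_root_mul_xinv, map_one]
  calc sig hF l (xinv l)
      = sig hF l (xinv l) * ((1 + AdjoinRoot.root (X ^ l : F[X])) * xinv l) := by
        rw [one_add_root_mul_xinv, mul_one]
    _ = (sig hF l (xinv l) * xinv l) * (1 + AdjoinRoot.root (X ^ l : F[X])) := by ring
    _ = 1 + AdjoinRoot.root (X ^ l : F[X]) := by rw [h1, one_mul]

theorem sig_sig (u : AdjoinRoot (X ^ l : F[X])) : sig hF l (sig hF l u) = u := by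
  let f : AdjoinRoot (X ^ l : F[X]) →ₐ[F] AdjoinRoot (X ^ l : F[X]) :=
    { (sig hF l).comp (sig hF l) with
      commutes' := by
        intro c
        change sig hF l (sig hF l (algebraMap F _ c)) = algebraMap F _ c
        rw [sig_algebraMap, sig_algebraMap, conjQ_conjQ] }
  have hf : f = AlgHom.id F _ := by
    apply AdjoinRoot.algHom_ext
    change sig hF l (sig hF l (AdjoinRoot.root _)) = AdjoinRoot.root _
    rw [sig_root, map_sub, map_one, sig_xinv]
    ring
  have := congrArg (fun g : AdjoinRoot (X ^ l : F[X]) →ₐ[F] AdjoinRoot (X ^ l : F[X]) => g u) hf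
  exact this

theorem sig_smul (c : F) (u : AdjoinRoot (X ^ l : F[X])) :
    sig hF l (c • u) = conjQ hF c • sig hF l u := by
  rw [Algebra.smul_def, Algebra.smul_def, map_mul, sig_algebraMap]

/-- the symmetrised functional -/
noncomputable def lam (l0 : AdjoinRoot (X ^ l : F[X]) →ₗ[F] F) :
    AdjoinRoot (X ^ l : F[X]) →ₗ[F] F where
  toFun u := l0 u + conjQ hF (l0 (sig hF l u))
  map_add' u v := by
    simp only [map_add]
    ring
  map_smul' c u := by
    simp only [RingHom.id_apply, sig_smul, map_smul, smul_eq_mul, map_mul, conjQ_conjQ]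
    ring

theorem lam_apply (l0 : AdjoinRoot (X ^ l : F[X]) →ₗ[F] F) (u : AdjoinRoot (X ^ l : F[X])) :
    lam hF l l0 u = l0 u + conjQ hF (l0 (sig hF l u)) := rfl

theorem lam_sig (l0 : AdjoinRoot (X ^ l : F[X]) →ₗ[F] F) (u : AdjoinRoot (X ^ l : F[X])) :
    lam hF l l0 (sig hF l u) = conjQ hF (lam hF l l0 u) := by
  rw [lam_apply, lam_apply, sig_sig, map_add, conjQ_conjQ, add_comm]

/-- the Hermitian form `(u, v) ↦ λ(σ(u) v)` -/
noncomputable def formB (l0 : AdjoinRoot (X ^ l : F[X]) →ₗ[F] F) :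
    AdjoinRoot (X ^ l : F[X]) →ₛₗ[conjQ hF] AdjoinRoot (X ^ l : F[X]) →ₗ[F] F :=
  LinearMap.mk₂'ₛₗ (conjQ hF) (RingHom.id F) (fun u v => lam hF l l0 (sig hF l u * v))
    (fun u v w => by rw [map_add, add_mul, map_add])
    (fun c u v => by rw [sig_smul, smul_mul_assoc, map_smul])
    (fun u v w => by rw [mul_add, map_add])
    (fun c u v => by rw [mul_smul_comm, map_smul]; rfl)

theorem formB_apply (l0 : AdjoinRoot (X ^ l : F[X]) →ₗ[F] F) (u v : AdjoinRoot (X ^ l : F[X])) :
    formB hF l l0 u v = lam hF l l0 (sig hF l u * v) := rfl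

theorem formB_isSymm (l0 : AdjoinRoot (X ^ l : F[X]) →ₗ[F] F) : (formB hF l l0).IsSymm :=
  ⟨fun u v => by
    change conjQ hF (formB hF l l0 u v) = formB hF l l0 v u
    rw [formB_apply, formB_apply, ← lam_sig, map_mul, sig_sig, mul_comm]⟩

theorem formB_isometry (l0 : AdjoinRoot (X ^ l : F[X]) →ₗ[F] F) (u v : AdjoinRoot (X ^ l : F[X])) :
    formB hF l l0 ((1 + AdjoinRoot.root (X ^ l : F[X])) * u)
      ((1 + AdjoinRoot.root (X ^ l : F[X])) * v) = formB hF l l0 u v := by
  rw [formB_apply, formB_apply]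
  congr 1
  rw [(sig hF l).map_mul, sig_one_add_root]
  calc xinv l * sig hF l u * ((1 + AdjoinRoot.root (X ^ l : F[X])) * v)
      = ((1 + AdjoinRoot.root (X ^ l : F[X])) * xinv l) * (sig hF l u * v) := by ring
    _ = sig hF l u * v := by rw [one_add_root_mul_xinv, one_mul]

theorem formB_nondeg (l0 : AdjoinRoot (X ^ l : F[X]) →ₗ[F] F)
    (h0 : lam hF l l0 ((AdjoinRoot.root (X ^ l : F[X])) ^ (l - 1)) ≠ 0)
    (u : AdjoinRoot (X ^ l : F[X])) (hu : ∀ v, formB hF l l0 u v = 0) : u = 0 := by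
  by_contra hne
  have hsu : sig hF l u ≠ 0 := by
    intro h
    apply hne
    rw [← sig_sig hF l u, h, map_zero]
  obtain ⟨v, hv⟩ := exists_mul_eq_root_pow l (sig hF l u) hsu
  apply h0
  rw [← hv, ← formB_apply]
  exact hu v

end invol

end Cfsg.Agent.Lib.Helper7.UnitaryBlock
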