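import Mathlib
import Cfsg.Agent.Lib.Helper6.Unitary
import Cfsg.Agent.Lib.Helper7.UnitaryAlg
import Cfsg.Agent.Lib.Helper7.UnitaryUnip1
import Cfsg.Agent.Lib.Helper7.UnitaryUnip2

/-!
# The unitary unipotent block: main statement
-/

set_option autoImplicit false

namespace Cfsg.Agent.Lib.Helper7.UnitaryBlock

open Matrix Polynomial Cfsg Cfsg.Agent.Lib.Helper6

/-- there is `c` with `c + e c^q ≠ 0` -/
theorem exists_twisted_trace_ne_zero {F : Type*} [Field F] [Fintype F] {q : ℕ}
    (hF : Fintype.card F = q ^ 2) (e : F) : ∃ c : F, c + e * c ^ q ≠ 0 := by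
  classical
  have hq := two_le_q hF
  by_contra hall
  push Not at hall
  have hP : (X + C e * X ^ q : F[X]) = 0 := by
    apply eq_zero_of_natDegree_lt_card_of_eval_eq_zero' _ Finset.univ
    · intro c _
      rw [eval_add, eval_X, eval_mul, eval_C, eval_pow, eval_X]
      exact hall c
    · rw [Finset.card_univ, hF]
      have h1 : (X + C e * X ^ q : F[X]).natDegree ≤ q := by
        apply natDegree_add_le_of_degree_le
        · rw [natDegree_X]; omega
        · exact natDegree_C_mul_X_pow_le e q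
      nlinarith
  have h2 := congrArg (fun P : F[X] => P.coeff 1) hP
  simp only [coeff_add, coeff_X_one, coeff_C_mul, coeff_X_pow, coeff_zero] at h2
  rw [if_neg (by omega), mul_zero, add_zero] at h2
  exact one_ne_zero h2

/-- **The unitary unipotent block** of size `l` in characteristic `p`. -/
theorem exists_unitary_unipotent_block {F : Type*} [Field F] [Fintype F] {q : ℕ}
    (hF : Fintype.card F = q ^ 2) (p : ℕ) [Fact p.Prime] [CharP F p] (l : ℕ) (hl : 0 < l) :
    ∃ B : Matrix (Fin l) (Fin l) F,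
      (∀ x y, Cfsg.hermForm l F q (B *ᵥ x) (B *ᵥ y) = Cfsg.hermForm l F q x y) ∧ B.det = 1 ∧
      ∀ (j : ℕ) (ν : F), B ^ j = Matrix.scalar (Fin l) ν → ν = 1 ∧ ∃ s, l ≤ p ^ s ∧ p ^ s ∣ j := by
  classical
  have hp := (Fact.out : p.Prime)
  have hgm : (X ^ l : F[X]).Monic := monic_X_pow l
  have hgd : (X ^ l : F[X]).natDegree = l := natDegree_X_pow l
  let pb := AdjoinRoot.powerBasis hgm.ne_zero
  have : Module.Finite F (AdjoinRoot (X ^ l : F[X])) := pb.finite
  have hfr : Module.finrank F (AdjoinRoot (X ^ l : F[X])) = l := by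
    rw [pb.finrank, AdjoinRoot.powerBasis_dim, hgd]
  have : Nontrivial (AdjoinRoot (X ^ l : F[X])) :=
    AdjoinRoot.nontrivial _ (by rw [degree_X_pow]; exact_mod_cast hl.ne')
  have hinj : Function.Injective (algebraMap F (AdjoinRoot (X ^ l : F[X]))) :=
    (algebraMap F (AdjoinRoot (X ^ l : F[X]))).injective
  have : CharP (AdjoinRoot (X ^ l : F[X])) p := charP_of_injective_algebraMap hinj p
  have hx0 := root_pow_eq_zero_iff (F := F) l
  have hu : ∀ s, (1 + AdjoinRoot.root (X ^ l : F[X])) ^ p ^ s = 1 ↔ l ≤ p ^ s := by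
    intro s
    rw [add_pow_char_pow, one_pow, add_eq_left, hx0]
  let ε : AdjoinRoot (X ^ l : F[X]) →+* F :=
    AdjoinRoot.lift (RingHom.id F) 0 (by rw [eval₂_X_pow, zero_pow hl.ne'])
  -- the coefficient functional
  let cf : AdjoinRoot (X ^ l : F[X]) →ₗ[F] F :=
    (lcoeff F (l - 1)).comp (AdjoinRoot.modByMonicHom hgm)
  have hcf1 : cf ((AdjoinRoot.root (X ^ l : F[X])) ^ (l - 1)) = 1 := by
    change lcoeff F (l - 1) (AdjoinRoot.modByMonicHom hgm _) = 1
    rw [← AdjoinRoot.mk_X, ← map_pow, AdjoinRoot.modByMonicHom_mk,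
      (modByMonic_eq_self_iff hgm).mpr (by
        rw [degree_X_pow, degree_X_pow]; exact_mod_cast Nat.sub_lt hl Nat.one_pos),
      lcoeff_apply, coeff_X_pow, if_pos rfl]
  obtain ⟨c, hc⟩ := exists_twisted_trace_ne_zero hF
    ((cf (sig hF l ((AdjoinRoot.root (X ^ l : F[X])) ^ (l - 1)))) ^ q)
  have h0 : lam hF l (c • cf) ((AdjoinRoot.root (X ^ l : F[X])) ^ (l - 1)) ≠ 0 := by
    rw [lam_apply, LinearMap.smul_apply, LinearMap.smul_apply, hcf1, smul_eq_mul, mul_one,
      smul_eq_mul, map_mul, conjQ_apply, conjQ_apply, mul_comm (c ^ q)]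
    exact hc
  obtain ⟨B, hpres, hdet, hpow⟩ := exists_unitary_matrix_of_algebra hF hfr
    (formB hF l (c • cf)) (formB_isSymm hF l _) (formB_nondeg hF l _ h0)
    (1 + AdjoinRoot.root (X ^ l : F[X])) (formB_isometry hF l _)
  have hs0 : l ≤ p ^ l := (Nat.lt_pow_self hp.one_lt).le
  refine ⟨B, hpres, ?_, ?_⟩
  · have h1 : B ^ (p ^ l) = Matrix.scalar (Fin l) 1 := by
      rw [hpow, map_one]
      exact (hu l).mpr hs0
    have h2 := congrArg Matrix.det h1
    rw [Matrix.det_pow, map_one, Matrix.det_one] at h2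
    have h3 : (B.det - 1) ^ p ^ l = 0 := by rw [sub_pow_char_pow, h2, one_pow, sub_self]
    exact sub_eq_zero.mp ((pow_eq_zero_iff (pow_pos hp.pos _).ne').mp h3)
  · intro j ν hj
    rw [hpow] at hj
    have hν : ν = 1 := by
      have := congrArg ε hj
      rw [map_pow, map_add, map_one, AdjoinRoot.lift_root, add_zero, one_pow,
        AdjoinRoot.algebraMap_eq, AdjoinRoot.lift_of] at this
      exact this.symm
    refine ⟨hν, ?_⟩
    rw [hν, map_one] at hj
    have hord : orderOf (1 + AdjoinRoot.root (X ^ l : F[X])) ∣ p ^ l :=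
      orderOf_dvd_of_pow_eq_one ((hu l).mpr hs0)
    obtain ⟨s, -, hs⟩ := (Nat.dvd_prime_pow hp).mp hord
    refine ⟨s, ?_, ?_⟩
    · rw [← hu, ← hs]
      exact pow_orderOf_eq_one _
    · rw [← hs]
      exact orderOf_dvd_of_pow_eq_one hj

end Cfsg.Agent.Lib.Helper7.UnitaryBlock
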