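import Mathlib
import Cfsg.Prelude.Def_GeometricClasses
import Cfsg.Agent.Lib.Helper7.AschDefs
import Cfsg.Agent.Lib.Helper7.AschCore
import Cfsg.Agent.Lib.Helper16.AschC6ADefs

/-!
# S5630 block I6, half A: pieces A0 (`toSG`), A1 (`sg_not_comm`), A6 (`omega_absIrr`), A7 (`isPGroup_omega`)  (helper7)

Exact signatures of `notes/S5630I6ASkel_helper16.lean.txt`.
-/

set_option autoImplicit false

namespace Cfsg.Agent.Lib.Helper7.S5630I6A

open Matrix Cfsg.Geo Cfsg.Agent.Lib.Helper7.Asch Cfsg.Agent.Lib.Helper16.AschC6A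
open scoped commutatorElement

variable {F : Type*} [Field F] {n : ℕ} {H N G R : Subgroup (GL (Fin n) F)} {r : ℕ}

/-- scalars are central -/
theorem scalar_comm (s : GL (Fin n) F) (hs : s ∈ scalars (Fin n) F) (g : GL (Fin n) F) : g * s = s * g := by
  obtain ⟨c, hc⟩ := (mem_scalars_iff s).1 hs
  apply Units.ext
  simp only [Units.val_mul, hc, Matrix.mul_smul, Matrix.smul_mul, Matrix.mul_one, Matrix.one_mul]

instance scalars_normal : (scalars (Fin n) F).Normal :=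
  ⟨fun s hs g => by rw [scalar_comm s hs g, mul_inv_cancel_right]; exact hs⟩

/-- elements of `A ⊔ S` are products -/
theorem exists_mul_of_mem_sup (A : Subgroup (GL (Fin n) F)) (x : GL (Fin n) F) (hx : x ∈ A ⊔ scalars (Fin n) F) :
    ∃ a ∈ A, ∃ s ∈ scalars (Fin n) F, x = a * s := by
  have h := Subgroup.mul_normal A (scalars (Fin n) F)
  have hx' : x ∈ ((A ⊔ scalars (Fin n) F : Subgroup (GL (Fin n) F)) : Set (GL (Fin n) F)) := hx
  rw [h] at hx'
  obtain ⟨a, ha, s, hs, rfl⟩ := Set.mem_mul.1 hx'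
  exact ⟨a, ha, s, hs, rfl⟩

theorem absIrr_mono {A B : Subgroup (GL (Fin n) F)} (hAB : A ≤ B) (hA : AbsIrr A) : AbsIrr B := by
  have hsub : matrixSet A ⊆ matrixSet B := by
    rintro _ ⟨g, hg, rfl⟩
    exact ⟨g, hAB hg, rfl⟩
  refine ⟨fun W hW => hA.1 W fun s hs => hW s (hsub hs), fun M hM => hA.2 M fun s hs => hM s (hsub hs)⟩

theorem conj_mul_scalar (h a s : GL (Fin n) F) (hs : s ∈ scalars (Fin n) F) :
    h * (a * s) * h⁻¹ = (h * a * h⁻¹) * s := by
  rw [mul_assoc h (a * s), mul_assoc a s, ← scalar_comm s hs h⁻¹]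
  simp only [mul_assoc]

theorem normBy_sup_scalars {K : Subgroup (GL (Fin n) F)} (hK : NormBy H K) :
    NormBy H (K ⊔ scalars (Fin n) F) := by
  intro h hh x hx
  obtain ⟨a, ha, s, hs, rfl⟩ := exists_mul_of_mem_sup K x hx
  rw [conj_mul_scalar h a s hs]
  exact mul_mem (Subgroup.mem_sup_left (hK h hh a ha)) (Subgroup.mem_sup_right hs)

theorem mul_scalar_pow (a s : GL (Fin n) F) (hs : s ∈ scalars (Fin n) F) (m : ℕ) :
    (a * s) ^ m = a ^ m * s ^ m :=
  (show Commute a s from scalar_comm s hs a).mul_pow m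

/-- `⁅a s, y⁆ = ⁅a, y⁆` for central `s` -/
theorem comm_mul_scalar_left (a s y : GL (Fin n) F) (hs : s ∈ scalars (Fin n) F) : ⁅a * s, y⁆ = ⁅a, y⁆ := by
  rw [commutatorElement_def, commutatorElement_def, _root_.mul_inv_rev]
  have h1 : a * s * y * (s⁻¹ * a⁻¹) = a * (s * y * s⁻¹) * a⁻¹ := by simp only [mul_assoc]
  rw [h1, ← scalar_comm s hs y, mul_inv_cancel_right]

/-- `⁅x, b t⁆ = ⁅x, b⁆` for central `t` -/
theorem comm_mul_scalar_right (x b t : GL (Fin n) F) (ht : t ∈ scalars (Fin n) F) : ⁅x, b * t⁆ = ⁅x, b⁆ := by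
  rw [commutatorElement_def, commutatorElement_def, _root_.mul_inv_rev]
  have h1 : x * (b * t) * x⁻¹ * (t⁻¹ * b⁻¹) = x * b * (t * x⁻¹ * t⁻¹) * b⁻¹ := by simp only [mul_assoc]
  rw [h1, ← scalar_comm t ht x⁻¹, mul_inv_cancel_right]

/-- **A0** transport to `G = N ⊔ S` -/
theorem toSG (hQP : QP H) (hNH : N ≤ H) (hnorm : NormBy H N) (hNs : ¬ N ≤ scalars (Fin n) F)
    (hmin : ∀ K : Subgroup (GL (Fin n) F), K ≤ N → NormBy H K → K ≤ scalars (Fin n) F ∨ K = N) (hr : r.Prime)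
    (hpow : ∀ x ∈ N, x ^ r ∈ scalars (Fin n) F) (hcomm : ∀ x ∈ N, ∀ y ∈ N, ⁅x, y⁆ ∈ scalars (Fin n) F) :
    SG H (N ⊔ scalars (Fin n) F) r := by
  have hNabs : AbsIrr N := (hQP N hNH hnorm).resolve_left hNs
  refine ⟨hr, le_sup_right, normBy_sup_scalars hnorm, absIrr_mono le_sup_left hNabs, ?_, ?_, ?_⟩
  · intro x hx
    obtain ⟨a, ha, s, hs, rfl⟩ := exists_mul_of_mem_sup N x hx
    rw [mul_scalar_pow a s hs]
    exact mul_mem (hpow a ha) (pow_mem hs r)
  · intro x hx y hy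
    obtain ⟨a, ha, s, hs, rfl⟩ := exists_mul_of_mem_sup N x hx
    obtain ⟨b, hb, t, ht, rfl⟩ := exists_mul_of_mem_sup N y hy
    rw [comm_mul_scalar_left a s _ hs, comm_mul_scalar_right a b t ht]
    exact hcomm a ha b hb
  · intro K hKG hK
    have hK' : NormBy H ((K ⊔ scalars (Fin n) F) ⊓ N) := by
      intro h hh x hx
      exact ⟨normBy_sup_scalars hK h hh x hx.1, hnorm h hh x hx.2⟩
    rcases hmin _ inf_le_right hK' with h1 | h1
    · left
      intro x hx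
      obtain ⟨a, ha, s, hs, rfl⟩ := exists_mul_of_mem_sup N x (hKG hx)
      have ha' : a ∈ (K ⊔ scalars (Fin n) F) ⊓ N := by
        refine ⟨?_, ha⟩
        have : a = (a * s) * s⁻¹ := by rw [mul_inv_cancel_right]
        rw [this]
        exact mul_mem (Subgroup.mem_sup_left hx) (Subgroup.mem_sup_right (inv_mem hs))
      exact mul_mem (h1 ha') hs
    · right
      have hN : N ≤ K ⊔ scalars (Fin n) F := by
        intro x hx
        have : x ∈ (K ⊔ scalars (Fin n) F) ⊓ N := by rw [h1]; exact hx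
        exact this.1
      exact sup_le hN le_sup_right

/-- **A1** `G` is not commutative -/
theorem sg_not_comm (hn : 2 ≤ n) (hG : SG H G r) : ∃ x ∈ G, ∃ y ∈ G, x * y ≠ y * x := by
  by_contra hcon
  push Not at hcon
  exact not_absIrr_of_comm hn G hcon hG.absIrr

/-- general form of A6 -/
theorem absIrr_of_le_sup_scalars {A B : Subgroup (GL (Fin n) F)} (hA : AbsIrr A)
    (hsup : A ≤ B ⊔ scalars (Fin n) F) : AbsIrr B := by
  refine ⟨fun W hW => hA.1 W ?_, fun M hM => hA.2 M ?_⟩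
  · rintro _ ⟨g, hg, rfl⟩
    obtain ⟨x, hx, s, hs, rfl⟩ := exists_mul_of_mem_sup B g (hsup hg)
    obtain ⟨c, hc⟩ := (mem_scalars_iff s).1 hs
    rintro _ ⟨w, hw, rfl⟩
    have hxw : Matrix.toLin' (x : Matrix (Fin n) (Fin n) F) w ∈ W :=
      hW _ ⟨x, hx, rfl⟩ ⟨w, hw, rfl⟩
    have : Matrix.toLin' ((x * s : GL (Fin n) F) : Matrix (Fin n) (Fin n) F) w
        = (c : F) • Matrix.toLin' (x : Matrix (Fin n) (Fin n) F) w := by
      rw [Units.val_mul, hc, Matrix.mul_smul, Matrix.mul_one, map_smul, LinearMap.smul_apply]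
    rw [this]
    exact W.smul_mem _ hxw
  · rintro _ ⟨g, hg, rfl⟩
    obtain ⟨x, hx, s, hs, rfl⟩ := exists_mul_of_mem_sup B g (hsup hg)
    obtain ⟨c, hc⟩ := (mem_scalars_iff s).1 hs
    have hMx : M * (x : Matrix (Fin n) (Fin n) F) = (x : Matrix (Fin n) (Fin n) F) * M := hM _ ⟨x, hx, rfl⟩
    show M * ((x * s : GL (Fin n) F) : Matrix (Fin n) (Fin n) F) = ((x * s : GL (Fin n) F) : Matrix (Fin n) (Fin n) F) * M
    rw [Units.val_mul, hc, Matrix.mul_smul, Matrix.mul_one, Matrix.mul_smul, Matrix.smul_mul, hMx]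

/-- **A6** `R` is absolutely irreducible -/
theorem omega_absIrr (hG : SG H G r) (_hR : IsOmega G R r) (hsup : G ≤ R ⊔ scalars (Fin n) F) : AbsIrr R :=
  absIrr_of_le_sup_scalars hG.absIrr hsup

theorem kk_eq (hr : r.Prime) : kk r = r ^ 1 ∨ kk r = r ^ 2 := by
  rcases hr.eq_two_or_odd' with h2 | hodd
  · right
    subst h2
    rfl
  · left
    have : Nat.gcd 2 r = 1 := Nat.coprime_two_left.2 hodd
    simp [kk, this]

/-- **A7** `R` is an `r`-group -/
theorem isPGroup_omega (hG : SG H G r) (hR : IsOmega G R r) : IsPGroup r R := by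
  intro x
  have hx : (x : GL (Fin n) F) ^ kk r = 1 := ((hR x).1 x.2).2
  rcases kk_eq hG.prime with h | h
  · exact ⟨1, by rw [← h]; exact Subtype.ext (by simpa using hx)⟩
  · exact ⟨2, by rw [← h]; exact Subtype.ext (by simpa using hx)⟩

end Cfsg.Agent.Lib.Helper7.S5630I6A
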