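import Mathlib
import Cfsg.Prelude.Def_GeometricClasses
import Cfsg.Agent.Lib.Helper7.AschDefs
import Cfsg.Agent.Lib.Helper22.AschC7Defs
import Cfsg.Agent.Lib.Helper22.AschC7Core
import Cfsg.Agent.Lib.Helper22.AschC7Top

/-!
# S5662 (and S5663 / S5673) piece C7-DATA `c7_data`: helper22's `c7_case` re-run, keeping the data  (helper7)

Exact signature of `Lib/Helper16/SpAC7Skel.lean`.
-/

set_option autoImplicit false

namespace Cfsg.Agent.Lib.Helper7.S5662C7DATA

open Matrix Cfsg.Geo Cfsg.Agent.Lib.Helper7.Asch Cfsg.Agent.Lib.Helper22.AschC7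
open scoped commutatorElement

variable {F : Type*} [Field F] {n : ℕ}

/-- `tensor_recognition` of `AschC7Top` for a GIVEN tensor structure `e`, `P` -/
theorem tensor_recognition_of (m t : ℕ) (ht : 0 < t)
    (φ : Fin t → (Matrix (Fin m) (Fin m) F →ₐ[F] Matrix (Fin n) (Fin n) F))
    (e : Fin n ≃ (Fin t → Fin m)) (P : GL (Fin n) F)
    (hP' : ∀ i a, φ i a = (P : Matrix (Fin n) (Fin n) F) * Matrix.reindex e.symm e.symm (pos i a) *
        ((P⁻¹ : GL (Fin n) F) : Matrix (Fin n) (Fin n) F))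
    (h : GL (Fin n) F) (hh : ∃ σ : Equiv.Perm (Fin t), ∀ i a, ∃ b, conjAlg h (φ i a) = φ (σ i) b) :
    h ∈ tensorWreathSubgroup m t e P := by
  have hPP : ((P⁻¹ : GL (Fin n) F) : Matrix (Fin n) (Fin n) F) * (P : Matrix (Fin n) (Fin n) F) = 1 := by
    rw [← Units.val_mul, inv_mul_cancel, Units.val_one]
  have hPP' : (P : Matrix (Fin n) (Fin n) F) * ((P⁻¹ : GL (Fin n) F) : Matrix (Fin n) (Fin n) F) = 1 := by
    rw [← Units.val_mul, mul_inv_cancel, Units.val_one]
  obtain ⟨Φ, hP⟩ : ∃ Φ : Matrix (Fin t → Fin m) (Fin t → Fin m) F → Matrix (Fin n) (Fin n) F, ∀ A, Φ A =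
      (P : Matrix (Fin n) (Fin n) F) * Matrix.reindex e.symm e.symm A * ((P⁻¹ : GL (Fin n) F) : Matrix (Fin n) (Fin n) F) :=
    ⟨_, fun _ => rfl⟩
  have hΦ : ∀ i a, Φ (pos i a) = φ i a := fun i a => by rw [hP, hP' i a]
  have hΦinj : Function.Injective Φ := by
    intro A B hAB
    rw [hP, hP] at hAB
    have h1 : Matrix.reindex e.symm e.symm A = Matrix.reindex e.symm e.symm B := by
      have := congrArg (fun M => ((P⁻¹ : GL (Fin n) F) : Matrix (Fin n) (Fin n) F) * M * (P : Matrix (Fin n) (Fin n) F)) hAB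
      beta_reduce at this
      rw [← mul_assoc, ← mul_assoc, hPP, one_mul, mul_assoc, hPP, mul_one] at this
      rw [← mul_assoc, ← mul_assoc, hPP, one_mul, mul_assoc, hPP, mul_one] at this
      exact this
    exact (Matrix.reindex e.symm e.symm).injective h1
  obtain ⟨σ, hσ⟩ := hh
  obtain ⟨g, hg⟩ : ∃ g : GL (Fin t → Fin m) F, g = (glReindex e.symm).symm (P⁻¹ * h * P) := ⟨_, rfl⟩
  have hgr : glReindex e.symm g = P⁻¹ * h * P := by rw [hg, MulEquiv.apply_symm_apply]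
  have hgh : h = P * (glReindex e.symm g) * P⁻¹ := by rw [hgr]; group
  have hcoe : ∀ k : GL (Fin t → Fin m) F, ((glReindex e.symm k : GL (Fin n) F) : Matrix (Fin n) (Fin n) F) =
      Matrix.reindex e.symm e.symm (k : Matrix (Fin t → Fin m) (Fin t → Fin m) F) := fun k => rfl
  have hre_mul : ∀ A B : Matrix (Fin t → Fin m) (Fin t → Fin m) F,
      Matrix.reindex e.symm e.symm (A * B) = Matrix.reindex e.symm e.symm A * Matrix.reindex e.symm e.symm B := by
    intro A B
    exact map_mul (Matrix.reindexAlgEquiv F F e.symm) A B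
  have key : ∀ A, Φ ((g : Matrix (Fin t → Fin m) (Fin t → Fin m) F) * A *
      ((g⁻¹ : GL (Fin t → Fin m) F) : Matrix (Fin t → Fin m) (Fin t → Fin m) F)) = conjAlg h (Φ A) := by
    intro A
    rw [hP, hP, conjAlg_apply, hre_mul, hre_mul, ← hcoe g, ← hcoe g⁻¹, map_inv]
    have e1 : (h : Matrix (Fin n) (Fin n) F) = (P : Matrix (Fin n) (Fin n) F) *
        ((glReindex e.symm g : GL (Fin n) F) : Matrix (Fin n) (Fin n) F) * ((P⁻¹ : GL (Fin n) F) : Matrix (Fin n) (Fin n) F) := by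
      conv_lhs => rw [hgh]
      rw [Units.val_mul, Units.val_mul]
    have e2 : ((h⁻¹ : GL (Fin n) F) : Matrix (Fin n) (Fin n) F) = (P : Matrix (Fin n) (Fin n) F) *
        (((glReindex e.symm g)⁻¹ : GL (Fin n) F) : Matrix (Fin n) (Fin n) F) * ((P⁻¹ : GL (Fin n) F) : Matrix (Fin n) (Fin n) F) := by
      conv_lhs => rw [hgh]
      rw [_root_.mul_inv_rev, _root_.mul_inv_rev, inv_inv, Units.val_mul, Units.val_mul, mul_assoc]
    rw [e1, e2]
    simp only [mul_assoc]
    rw [← mul_assoc ((P⁻¹ : GL (Fin n) F) : Matrix (Fin n) (Fin n) F) (P : Matrix (Fin n) (Fin n) F), hPP, one_mul]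
    rw [← mul_assoc ((P⁻¹ : GL (Fin n) F) : Matrix (Fin n) (Fin n) F) (P : Matrix (Fin n) (Fin n) F), hPP, one_mul]
  have hmem : g ∈ tensorWreathStandard m t F := by
    apply mem_tensorWreathStandard ht g σ
    intro i a
    obtain ⟨b, hb⟩ := hσ i a
    refine ⟨b, hΦinj ?_⟩
    rw [key, hΦ, hΦ, hb]
  rw [hgh]
  exact Subgroup.mem_map.mpr ⟨glReindex e.symm g, Subgroup.mem_map.mpr ⟨g, hmem, rfl⟩, rfl⟩

/-- a group of matrices spanning the whole matrix algebra is absolutely irreducible -/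
theorem absIrr_of_span_eq_top {m : ℕ} (Y : Subgroup (GL (Fin m) F))
    (hspan : Submodule.span F (matrixSet Y) = ⊤) : AbsIrr Y := by
  have hall : ∀ (p : Matrix (Fin m) (Fin m) F → Prop), (∀ s ∈ matrixSet Y, p s) → p 0 →
      (∀ a b, p a → p b → p (a + b)) → (∀ (c : F) a, p a → p (c • a)) → ∀ M, p M := by
    intro p hgen h0 hadd hsmul M
    have hM : M ∈ Submodule.span F (matrixSet Y) := by rw [hspan]; trivial
    exact Submodule.span_induction (p := fun M _ => p M) (fun s hs => hgen s hs) h0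
      (fun a b _ _ ha hb => hadd a b ha hb) (fun c a _ ha => hsmul c a ha) hM
  refine ⟨fun W hW => ?_, fun M hM => ?_⟩
  · -- every matrix maps `W` into `W`
    have hWall : ∀ M : Matrix (Fin m) (Fin m) F, ∀ w ∈ W, M *ᵥ w ∈ W := by
      refine hall (fun M => ∀ w ∈ W, M *ᵥ w ∈ W) ?_ ?_ ?_ ?_
      · intro s hs w hw
        have := hW s hs ⟨w, hw, rfl⟩
        rwa [Matrix.toLin'_apply] at this
      · intro w _
        rw [Matrix.zero_mulVec]
        exact W.zero_mem
      · intro a b ha hb w hw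
        rw [Matrix.add_mulVec]
        exact W.add_mem (ha w hw) (hb w hw)
      · intro c a ha w hw
        rw [Matrix.smul_mulVec]
        exact W.smul_mem c (ha w hw)
    by_cases hbot : W = ⊥
    · exact Or.inl hbot
    right
    obtain ⟨w, hw, hw0⟩ := (Submodule.ne_bot_iff W).1 hbot
    obtain ⟨i, hi⟩ : ∃ i, w i ≠ 0 := by
      by_contra hcon
      push Not at hcon
      exact hw0 (funext hcon)
    rw [eq_top_iff]
    intro v _
    have := hWall (Matrix.vecMulVec v (Pi.single i (w i)⁻¹)) w hw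
    have hv : Matrix.vecMulVec v (Pi.single i (w i)⁻¹) *ᵥ w = v := by
      rw [Matrix.vecMulVec_mulVec]
      simp [hi]
    rwa [hv] at this
  · have hMall : ∀ A : Matrix (Fin m) (Fin m) F, M * A = A * M := by
      refine hall (fun A => M * A = A * M) (fun s hs => hM s hs) ?_ ?_ ?_
      · rw [mul_zero, zero_mul]
      · intro a b ha hb
        rw [mul_add, add_mul, ha, hb]
      · intro c a ha
        rw [Matrix.mul_smul, Matrix.smul_mul, ha]
    have hmem : M ∈ Set.range (Matrix.scalar (Fin m)) := by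
      apply Matrix.mem_range_scalar_of_commute_single
      intro i j _
      exact (hMall _).symm
    obtain ⟨c, hc⟩ := hmem
    exact ⟨c, by rw [← hc, Matrix.smul_one_eq_diagonal]; rfl⟩

/-- **C7-DATA** -/
theorem c7_data [Fintype F] (hn : 3 ≤ n) (H L : Subgroup (GL (Fin n) F)) (hH : AbsIrr H) (hQP : QP H)
    (hLH : L ≤ H) (hLs : ¬ L ≤ scalars (Fin n) F) (hperf : ⁅L, L⁆ = L) (hqs : SimpleModScal L)
    (hconj : ∀ h ∈ H, (∀ x ∈ L, h * x * h⁻¹ ∈ L) ∨
      (∀ x ∈ L, ∀ y ∈ L, (h * x * h⁻¹) * y = y * (h * x * h⁻¹)))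
    (hnn : ¬ NormBy H L) :
    ∃ (m t : ℕ) (e : Fin n ≃ (Fin t → Fin m)) (P : GL (Fin n) F) (Y : Subgroup (GL (Fin m) F)),
      2 ≤ m ∧ 2 ≤ t ∧ H ≤ tensorWreathSubgroup m t e P ∧ AbsIrr Y ∧ Submodule.span F (matrixSet Y) = ⊤ ∧
      ⁅Y, Y⁆ = Y ∧ ¬ Y ≤ scalars (Fin m) F ∧
      ∀ i : Fin t, ∀ a ∈ Y, ∃ g ∈ H, (g : Matrix (Fin n) (Fin n) F) = (P : Matrix (Fin n) (Fin n) F) *
        Matrix.reindex e.symm e.symm (pos i (a : Matrix (Fin m) (Fin m) F)) *
        ((P⁻¹ : GL (Fin n) F) : Matrix (Fin n) (Fin n) F) := by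
  obtain ⟨t, hs, ht, hsH, ⟨i₀, hi₀⟩, hcomm, hperm⟩ := exists_conj_enum H L hLH hconj hnn
  have hN : AbsIrr (⨆ i, cj (hs i) L) := absIrr_iSup_cj H L hQP hLH hLs hs hsH ⟨i₀, hi₀⟩ hperm
  have hLN : L ≤ ⨆ i, cj (hs i) L := by
    have := le_iSup (fun i => cj (hs i) L) i₀
    rwa [hi₀] at this
  obtain ⟨m, φ, h1, h2⟩ := exists_algHom_span (by omega) _ L hN hLN (exists_factor L hs i₀ hi₀ hcomm)
  have hc : ∀ i j, i ≠ j → ∀ a b, ((conjAlg (hs i)).comp φ) a * ((conjAlg (hs j)).comp φ) b =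
      ((conjAlg (hs j)).comp φ) b * ((conjAlg (hs i)).comp φ) a :=
    fun i j hij a b => commute_ranges L φ h1 (hs i) (hs j) (hcomm i j hij) a b
  have hgen := adjoin_ranges_eq_top L φ h2 hs hN
  obtain ⟨e, P, hP'⟩ := exists_tens (by omega) m t (fun i => (conjAlg (hs i)).comp φ) hc hgen
  have hHle : H ≤ tensorWreathSubgroup m t e P := by
    intro h hh
    apply tensor_recognition_of m t (by omega) (fun i => (conjAlg (hs i)).comp φ) e P hP' h
    obtain ⟨σ, hσ⟩ := hperm h hh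
    exact ⟨σ, fun i a => conj_range_perm L φ h1 h2 h (hs i) (hs (σ i)) (hσ i) a⟩
  have hm : 2 ≤ m := two_le_of_algHom (by omega) L hLs m φ h2
  -- `φ` is injective
  have hne : Nonempty (Fin m) := ⟨⟨0, by omega⟩⟩
  have hnen : Nonempty (Fin n) := ⟨⟨0, by omega⟩⟩
  have hφinj : Function.Injective φ := φ.toRingHom.injective
  -- the monoid hom on units
  let ψ : GL (Fin m) F →* GL (Fin n) F := Units.map (φ : Matrix (Fin m) (Fin m) F →* Matrix (Fin n) (Fin n) F)
  have hψval : ∀ a : GL (Fin m) F, ((ψ a : GL (Fin n) F) : Matrix (Fin n) (Fin n) F) = φ (a : Matrix (Fin m) (Fin m) F) :=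
    fun a => rfl
  have hψinj : Function.Injective ψ := by
    intro a b hab
    apply Units.ext
    apply hφinj
    rw [← hψval, ← hψval, hab]
  -- every element of `L` comes from a unit
  have hLψ : ∀ x ∈ L, ∃ a : GL (Fin m) F, ψ a = x := by
    intro x hx
    obtain ⟨a, ha⟩ := h2 x hx
    obtain ⟨a', ha'⟩ := h2 x⁻¹ (inv_mem hx)
    have e1 : a * a' = 1 := by
      apply hφinj
      rw [map_mul, ha, ha', ← Units.val_mul, mul_inv_cancel, Units.val_one, map_one]
    have e2 : a' * a = 1 := by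
      apply hφinj
      rw [map_mul, ha, ha', ← Units.val_mul, inv_mul_cancel, Units.val_one, map_one]
    refine ⟨⟨a, a', e1, e2⟩, ?_⟩
    apply Units.ext
    rw [hψval]
    exact ha
  let Y : Subgroup (GL (Fin m) F) := L.comap ψ
  have hYmap : Y.map ψ = L := by
    ext x
    constructor
    · rintro ⟨a, ha, rfl⟩
      exact ha
    · intro hx
      obtain ⟨a, rfl⟩ := hLψ x hx
      exact ⟨a, hx, rfl⟩
  have hspan : Submodule.span F (matrixSet Y) = ⊤ := by
    rw [eq_top_iff]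
    intro A _
    -- `φ A ∈ span (matrixSet L) = φ (span (matrixSet Y))`
    have hsub : matrixSet L ⊆ (φ.toLinearMap '' (matrixSet Y)) := by
      rintro _ ⟨x, hx, rfl⟩
      obtain ⟨a, rfl⟩ := hLψ x hx
      exact ⟨(a : Matrix (Fin m) (Fin m) F), ⟨a, hx, rfl⟩, rfl⟩
    have h3 : φ A ∈ Submodule.span F (φ.toLinearMap '' (matrixSet Y)) := Submodule.span_mono hsub (h1 A)
    rw [← Submodule.map_span] at h3
    obtain ⟨B, hB, hBA⟩ := h3
    have : B = A := hφinj hBA
    rw [← this]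
    exact hB
  refine ⟨m, t, e, P, Y, hm, ht, hHle, absIrr_of_span_eq_top Y hspan, hspan, ?_, ?_, ?_⟩
  · -- perfect
    apply Subgroup.map_injective hψinj
    rw [Subgroup.map_commutator, hYmap, hperf]
  · -- not scalar
    intro hYs
    apply hLs
    intro x hx
    obtain ⟨a, rfl⟩ := hLψ x hx
    obtain ⟨c, hc⟩ := (mem_scalars_iff a).1 (hYs hx)
    rw [mem_scalars_iff]
    refine ⟨c, ?_⟩
    rw [hψval, hc, map_smul, map_one]
  · intro i a ha
    refine ⟨hs i * ψ a * (hs i)⁻¹, ?_, ?_⟩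
    · exact mul_mem (mul_mem (hsH i) (hLH ha)) (inv_mem (hsH i))
    · have := hP' i (a : Matrix (Fin m) (Fin m) F)
      rw [← this, AlgHom.comp_apply, conjAlg_apply, Units.val_mul, Units.val_mul, hψval]

end Cfsg.Agent.Lib.Helper7.S5662C7DATA
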