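import Mathlib
import Cfsg.Agent.Lib.Helper27.SpOBDefs

/-!
# S5681 / S5709 (architect helper28): the `W`-support of a subspace of `V = U ⊗ W`  (helper7)

`V = (Fin a × Fin b → F)`.

* `slice i v = (j ↦ v (i, j))` : the `i`-th slice of a tensor;
* `tensW W' = U ⊗ W' = {v | every slice of v lies in W'}`;
* `supp L` : the span of all slices of all elements of `L`, the smallest `W'` with `L ≤ U ⊗ W'`
  (`le_tensW_supp`, `supp_le_iff`);
* `finrank_tensW : dim (U ⊗ W') = a · dim W'`; `tensW_le_iff : U ⊗ A ≤ U ⊗ B ↔ A ≤ B` (`a > 0`);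
  `tensW_sup`, `tensW_span_singleton = Lk k`, `tensW_span_pair = Lk k ⊔ Lk k'`;
* `ts_of_tensW_ts` : if `U ⊗ W'` is totally singular for `bf (J1 ⊗ₖ J2)` and `U` has an anisotropic vector then `W'` is
  totally singular for `bf J2`.
-/

set_option autoImplicit false
set_option linter.unusedSectionVars false
set_option linter.unusedVariables false

namespace Cfsg.Agent.Lib.Helper7.OTSupp

open Matrix Module
open scoped Kronecker
open Cfsg.Agent.Lib.Helper16.Tens
open Cfsg.Agent.Lib.Helper3.SpT
open Cfsg.Agent.Lib.Helper27.SpOB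

variable {F : Type*} [Field F] {a b : ℕ}

/-- the `i`-th slice of a tensor -/
def slice (i : Fin a) : (Fin a × Fin b → F) →ₗ[F] (Fin b → F) where
  toFun v := fun j => v (i, j)
  map_add' _ _ := rfl
  map_smul' _ _ := rfl

@[simp] theorem slice_apply (i : Fin a) (v : Fin a × Fin b → F) (j : Fin b) : slice i v j = v (i, j) := rfl

theorem slice_pur (i : Fin a) (u : Fin a → F) (w : Fin b → F) : slice i (pur u w) = u i • w := by
  ext j
  simp [pur]

theorem ext_slice {v v' : Fin a × Fin b → F} (h : ∀ i, slice i v = slice i v') : v = v' := by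
  ext ⟨i, j⟩
  exact congrFun (h i) j

/-- `U ⊗ W'` -/
def tensW (W' : Submodule F (Fin b → F)) : Submodule F (Fin a × Fin b → F) :=
  ⨅ i : Fin a, W'.comap (slice i)

theorem mem_tensW_iff (W' : Submodule F (Fin b → F)) (v : Fin a × Fin b → F) :
    v ∈ tensW (a := a) W' ↔ ∀ i, slice i v ∈ W' := by
  unfold tensW
  simp [Submodule.mem_iInf]

theorem tensW_mono {A B : Submodule F (Fin b → F)} (h : A ≤ B) : tensW (a := a) A ≤ tensW B := by
  intro v hv
  rw [mem_tensW_iff] at hv ⊢
  exact fun i => h (hv i)

theorem pur_mem_tensW {W' : Submodule F (Fin b → F)} (u : Fin a → F) {w : Fin b → F} (hw : w ∈ W') :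
    pur u w ∈ tensW (a := a) W' := by
  rw [mem_tensW_iff]
  intro i
  rw [slice_pur]
  exact W'.smul_mem _ hw

theorem tensW_le_iff (ha : 0 < a) {A B : Submodule F (Fin b → F)} :
    tensW (a := a) A ≤ tensW B ↔ A ≤ B := by
  constructor
  · intro h w hw
    have h1 := h (pur_mem_tensW (Pi.single (⟨0, ha⟩ : Fin a) (1 : F)) hw)
    rw [mem_tensW_iff] at h1
    have h2 := h1 ⟨0, ha⟩
    rw [slice_pur, Pi.single_eq_same, one_smul] at h2
    exact h2
  · exact tensW_mono

/-- the `W`-support of a subspace: the span of all its slices -/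
def supp (L : Submodule F (Fin a × Fin b → F)) : Submodule F (Fin b → F) :=
  ⨆ i : Fin a, L.map (slice i)

theorem slice_mem_supp {L : Submodule F (Fin a × Fin b → F)} {v : Fin a × Fin b → F} (hv : v ∈ L)
    (i : Fin a) : slice i v ∈ supp L :=
  Submodule.mem_iSup_of_mem i (Submodule.mem_map_of_mem hv)

theorem le_tensW_supp (L : Submodule F (Fin a × Fin b → F)) : L ≤ tensW (supp L) := by
  intro v hv
  rw [mem_tensW_iff]
  exact fun i => slice_mem_supp hv i

theorem supp_le_iff (L : Submodule F (Fin a × Fin b → F)) (W' : Submodule F (Fin b → F)) :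
    supp L ≤ W' ↔ L ≤ tensW W' := by
  constructor
  · intro h
    exact (le_tensW_supp L).trans (tensW_mono h)
  · intro h
    unfold supp
    rw [iSup_le_iff]
    intro i
    rw [Submodule.map_le_iff_le_comap]
    intro v hv
    have := h hv
    rw [mem_tensW_iff] at this
    exact this i

theorem supp_mono {L L' : Submodule F (Fin a × Fin b → F)} (h : L ≤ L') : supp L ≤ supp L' := by
  rw [supp_le_iff]
  exact h.trans (le_tensW_supp L')

theorem supp_tensW_le (W' : Submodule F (Fin b → F)) : supp (tensW (a := a) W') ≤ W' := by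
  rw [supp_le_iff]

/-- `U ⊗ W' ≃ (Fin a → W')` -/
def tensWEquiv (W' : Submodule F (Fin b → F)) : ↥(tensW (a := a) W') ≃ₗ[F] (Fin a → ↥W') where
  toFun v := fun i => ⟨slice i v.1, (mem_tensW_iff W' v.1).mp v.2 i⟩
  map_add' _ _ := rfl
  map_smul' _ _ := rfl
  invFun f := ⟨fun p => (f p.1 : Fin b → F) p.2, by
    rw [mem_tensW_iff]
    intro i
    have : slice i (fun p : Fin a × Fin b => (f p.1 : Fin b → F) p.2) = (f i : Fin b → F) := by
      ext j; rfl
    rw [this]
    exact (f i).2⟩
  left_inv v := by
    apply Subtype.ext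
    ext ⟨i, j⟩
    rfl
  right_inv f := by
    ext i j
    rfl

theorem finrank_tensW (W' : Submodule F (Fin b → F)) :
    finrank F ↥(tensW (a := a) W') = a * finrank F ↥W' := by
  rw [LinearEquiv.finrank_eq (tensWEquiv W'), Module.finrank_pi_fintype]
  simp

theorem tensW_sup (A B : Submodule F (Fin b → F)) :
    tensW (a := a) (A ⊔ B) = tensW A ⊔ tensW B := by
  apply le_antisymm
  · intro v hv
    rw [mem_tensW_iff] at hv
    -- split every slice
    have hch : ∀ i, ∃ x ∈ A, ∃ y ∈ B, x + y = slice i v := fun i => Submodule.mem_sup.mp (hv i)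
    choose x hx y hy hxy using hch
    have hv' : v = (fun p : Fin a × Fin b => x p.1 p.2) + (fun p : Fin a × Fin b => y p.1 p.2) := by
      apply ext_slice
      intro i
      rw [← hxy i]
      ext j
      rfl
    rw [hv']
    refine Submodule.add_mem_sup ?_ ?_
    · rw [mem_tensW_iff]
      intro i
      have : slice i (fun p : Fin a × Fin b => x p.1 p.2) = x i := by ext j; rfl
      rw [this]; exact hx i
    · rw [mem_tensW_iff]
      intro i
      have : slice i (fun p : Fin a × Fin b => y p.1 p.2) = y i := by ext j; rfl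
      rw [this]; exact hy i
  · exact sup_le (tensW_mono le_sup_left) (tensW_mono le_sup_right)

theorem tensW_span_singleton (k : Fin b → F) :
    tensW (a := a) (Submodule.span F ({k} : Set (Fin b → F))) = Lk k := by
  apply le_antisymm
  · intro v hv
    rw [mem_tensW_iff] at hv
    have hch : ∀ i, ∃ c : F, c • k = slice i v := fun i => Submodule.mem_span_singleton.mp (hv i)
    choose c hc using hch
    unfold Lk
    rw [LinearMap.mem_range]
    refine ⟨c, ?_⟩
    apply ext_slice
    intro i
    show slice i (pur c k) = slice i v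
    rw [slice_pur, hc i]
  · unfold Lk
    rintro v ⟨u, rfl⟩
    exact pur_mem_tensW u (Submodule.subset_span (Set.mem_singleton k))

theorem tensW_span_pair (k k' : Fin b → F) :
    tensW (a := a) (Submodule.span F ({k, k'} : Set (Fin b → F))) = Lk k ⊔ Lk k' := by
  have : Submodule.span F ({k, k'} : Set (Fin b → F)) =
      Submodule.span F ({k} : Set (Fin b → F)) ⊔ Submodule.span F ({k'} : Set (Fin b → F)) := by
    rw [← Submodule.span_union]
    congr 1
  rw [this, tensW_sup, tensW_span_singleton, tensW_span_singleton]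

theorem tensW_bot : tensW (a := a) (⊥ : Submodule F (Fin b → F)) = ⊥ := by
  rw [eq_bot_iff]
  intro v hv
  rw [mem_tensW_iff] at hv
  rw [Submodule.mem_bot]
  apply ext_slice
  intro i
  have := hv i
  rw [Submodule.mem_bot] at this
  rw [this]
  rfl

/-- a subspace of the right dimension inside `U ⊗ (supp)` is everything -/
theorem eq_tensW_supp_of_finrank {L : Submodule F (Fin a × Fin b → F)}
    (h : a * finrank F ↥(supp L) ≤ finrank F ↥L) : L = tensW (supp L) :=
  Submodule.eq_of_le_of_finrank_le (le_tensW_supp L) (by rw [finrank_tensW]; exact h)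

/-- if `U ⊗ W'` is totally singular and `U` has an anisotropic vector then `W'` is totally singular -/
theorem ts_of_tensW_ts {J1 : Matrix (Fin a) (Fin a) F} {J2 : Matrix (Fin b) (Fin b) F}
    {W' : Submodule F (Fin b → F)} {u : Fin a → F} (hu : bf J1 u u ≠ 0)
    (h : ∀ x ∈ tensW (a := a) W', ∀ y ∈ tensW (a := a) W', bf (J1 ⊗ₖ J2) x y = 0) :
    ∀ w ∈ W', ∀ w' ∈ W', bf J2 w w' = 0 := by
  intro w hw w' hw'
  have h1 := h _ (pur_mem_tensW u hw) _ (pur_mem_tensW u hw')
  rw [bf_kron_pur] at h1
  exact (mul_eq_zero.mp h1).resolve_left hu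

end Cfsg.Agent.Lib.Helper7.OTSupp
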