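import Mathlib
import Cfsg.Agent.Lib.Helper28.OTDefs
import Cfsg.Agent.Lib.Helper7.OTSupp

/-!
# S5681 / S5709: `tW W' = tensW W'` (span of pure tensors = slice description) and its corollaries  (helper7)

helper28's `tW W'` is the span of the pure tensors `pur u w`, `w ∈ W'`; `Helper7.OTSupp.tensW W'` is the set of tensors all of whose
slices lie in `W'`.  They coincide, which gives `finrank_tW`, `tW_le_tW_iff`, `tW_inf`, `tW_sup`, `exists_supp`, `ts_of_tW_ts`
in helper28's vocabulary (spare copies of ROOT-A / END-TS of `notes/S5681Skel_helper28.lean.txt`).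
-/

set_option autoImplicit false
set_option linter.unusedSectionVars false
set_option linter.unusedVariables false

namespace Cfsg.Agent.Lib.Helper7.OTSuppBridge

open Matrix Module
open Cfsg.Agent.Lib.Helper16.Tens Cfsg.Agent.Lib.Helper10.TensFund
open Cfsg.Agent.Lib.Helper3.SpT (bf E adj uni Over)
open Cfsg.Agent.Lib.Helper13.TensSO (OrthG IsoG)
open Cfsg.Agent.Lib.Helper28.OT
open Cfsg.Agent.Lib.Helper7.OTSupp
open scoped Kronecker

variable {F : Type*} [Field F] {a b : ℕ}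
variable {J1 : Matrix (Fin a) (Fin a) F} {J2 : Matrix (Fin b) (Fin b) F}

/-- every tensor is the sum of the pure tensors `e_i ⊗ (slice i v)` -/
theorem eq_sum_pur_slice (v : Fin a × Fin b → F) :
    v = ∑ i : Fin a, pur (Pi.single i (1 : F)) (slice i v) := by
  ext ⟨i, j⟩
  rw [Finset.sum_apply]
  simp only [pur, slice_apply]
  rw [Finset.sum_eq_single i]
  · simp
  · intro i' _ hne
    simp [Pi.single_eq_of_ne (Ne.symm hne)]
  · intro h; exact absurd (Finset.mem_univ i) h

theorem tW_eq_tensW (W' : Submodule F (Fin b → F)) : tW (a := a) W' = tensW (a := a) W' := by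
  apply le_antisymm
  · unfold tW
    rw [Submodule.span_le]
    rintro v ⟨u, w, hw, rfl⟩
    exact pur_mem_tensW u hw
  · intro v hv
    rw [mem_tensW_iff] at hv
    rw [eq_sum_pur_slice v]
    exact Submodule.sum_mem _ (fun i _ => pur_mem_tW _ (hv i))

theorem mem_tW_iff (W' : Submodule F (Fin b → F)) (v : Fin a × Fin b → F) :
    v ∈ tW (a := a) W' ↔ ∀ i, slice i v ∈ W' := by
  rw [tW_eq_tensW, mem_tensW_iff]

/-- ROOT (a) -/
theorem finrank_tW (W' : Submodule F (Fin b → F)) : finrank F (tW (a := a) W') = a * finrank F W' := by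
  rw [tW_eq_tensW, finrank_tensW]

/-- ROOT (b) -/
theorem tW_le_tW_iff (ha : 1 ≤ a) (W1 W2 : Submodule F (Fin b → F)) :
    tW (a := a) W1 ≤ tW (a := a) W2 ↔ W1 ≤ W2 := by
  rw [tW_eq_tensW, tW_eq_tensW]
  exact tensW_le_iff (by omega)

/-- ROOT (c) -/
theorem tW_inf (W1 W2 : Submodule F (Fin b → F)) :
    tW (a := a) W1 ⊓ tW (a := a) W2 = tW (a := a) (W1 ⊓ W2) := by
  ext v
  rw [Submodule.mem_inf, mem_tW_iff, mem_tW_iff, mem_tW_iff]
  constructor
  · rintro ⟨h1, h2⟩ i
    exact ⟨h1 i, h2 i⟩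
  · intro h
    exact ⟨fun i => (h i).1, fun i => (h i).2⟩

theorem tW_sup (W1 W2 : Submodule F (Fin b → F)) :
    tW (a := a) (W1 ⊔ W2) = tW (a := a) W1 ⊔ tW (a := a) W2 := by
  rw [tW_eq_tensW, tW_eq_tensW, tW_eq_tensW, tensW_sup]

/-- ROOT (d) : every subspace `L'` of `V` has a `W`-support: a least `W'` with `L' ≤ U ⊗ W'` -/
theorem exists_supp (L' : Submodule F (Fin a × Fin b → F)) :
    ∃ W' : Submodule F (Fin b → F), L' ≤ tW (a := a) W' ∧
      ∀ W'' : Submodule F (Fin b → F), L' ≤ tW (a := a) W'' → W' ≤ W'' := by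
  refine ⟨supp L', ?_, ?_⟩
  · rw [tW_eq_tensW]; exact le_tensW_supp L'
  · intro W'' h
    rw [tW_eq_tensW] at h
    exact (supp_le_iff L' W'').mpr h

/-- a non-degenerate symmetric form in characteristic `≠ 2` on a non-zero space has an anisotropic vector -/
theorem exists_anisotropic (hJ1 : OrthG J1) (h2 : (2 : F) ≠ 0) (ha : 1 ≤ a) :
    ∃ u : Fin a → F, bf J1 u u ≠ 0 := by
  by_contra hcon
  push Not at hcon
  have hall : ∀ x y : Fin a → F, bf J1 x y = 0 := by
    intro x y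
    have h := hcon (x + y)
    rw [Cfsg.Agent.Lib.Helper3.SpT.bf_add_left, Cfsg.Agent.Lib.Helper3.SpT.bf_add_right,
      Cfsg.Agent.Lib.Helper3.SpT.bf_add_right, hcon x, hcon y, hJ1.symm y x] at h
    have h' : 2 * bf J1 x y = 0 := by linear_combination h
    exact (mul_eq_zero.mp h').resolve_left h2
  have h0 : (Pi.single (⟨0, by omega⟩ : Fin a) (1 : F) : Fin a → F) = 0 :=
    hJ1.nondeg _ (fun y => hall _ y)
  have := congrFun h0 ⟨0, by omega⟩
  rw [Pi.single_eq_same] at this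
  exact one_ne_zero this

/-- END-TS: `U ⊗ W'` totally singular ⇒ `W'` totally singular (`U` has an anisotropic vector) -/
theorem ts_of_tW_ts (hJ1 : OrthG J1) (h2 : (2 : F) ≠ 0) (ha : 1 ≤ a) (W' : Submodule F (Fin b → F))
    (hts : ∀ x ∈ tW (a := a) W', ∀ y ∈ tW (a := a) W', bf (J1 ⊗ₖ J2) x y = 0) :
    ∀ x ∈ W', ∀ y ∈ W', bf J2 x y = 0 := by
  obtain ⟨u, hu⟩ := exists_anisotropic hJ1 h2 ha
  rw [tW_eq_tensW] at hts
  exact ts_of_tensW_ts hu hts

end Cfsg.Agent.Lib.Helper7.OTSuppBridge
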