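import Cfsg.Agent.Lib.Helper4.TC.Strict

set_option autoImplicit false
set_option linter.unusedVariables false

/-! Gluing two adjacent range checks of helper4's coset-table checker into one, so that a long range
can be checked by several small `decide +kernel` declarations (the kernel's memory for one
declaration grows with the length of the range it evaluates). -/

namespace Cfsg.Agent.Lib.Helper7.TCSplit

open Cfsg.Agent.Helper4.TC

theorem rangeL_glue (P : ℕ → Bool) (a b k : ℕ)
    (h1 : rangeL P a k = true) (h2 : rangeL P b (k + a) = true) : rangeL P (a + b) k = true := by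
  induction a generalizing k with
  | zero => simpa using h2
  | succ a ih =>
    have e : a + 1 + b = (a + b) + 1 := by omega
    rw [e, rangeL_succ]
    rw [rangeL_succ] at h1
    cases hP : P k with
    | false => rw [hP] at h1; exact absurd h1 (by simp)
    | true =>
      rw [hP] at h1
      show rangeL P (a + b) (Nat.succ k) = true
      apply ih
      · exact h1
      · have e2 : Nat.succ k + a = k + (a + 1) := by omega
        rw [e2]; exact h2

theorem edgeRange_glue (d : Data) (c a b f k k' : ℕ) (hf : a + b = f) (hk : k + a = k')
    (h1 : edgeRange d c a k = true) (h2 : edgeRange d c b k' = true) :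
    edgeRange d c f k = true := by
  subst hf; subst hk
  rw [edgeRange_eq] at h1 h2 ⊢
  exact rangeL_glue _ a b k h1 h2

theorem mergeRange_glue (d : Data) (a b f k k' : ℕ) (hf : a + b = f) (hk : k + a = k')
    (h1 : mergeRange d a k = true) (h2 : mergeRange d b k' = true) :
    mergeRange d f k = true := by
  subst hf; subst hk
  rw [mergeRange_eq] at h1 h2 ⊢
  exact rangeL_glue _ a b k h1 h2

theorem rowsRange_glue (d : Data) (M a b f k k' : ℕ) (hf : a + b = f) (hk : k + a = k')
    (h1 : rowsRange d M a k = true) (h2 : rowsRange d M b k' = true) :
    rowsRange d M f k = true := by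
  subst hf; subst hk
  rw [rowsRange_eq] at h1 h2 ⊢
  exact rangeL_glue _ a b k h1 h2

theorem countFinal_glue (d : Data) (f1 f2 f k k2 a b c : ℕ) (hf : f1 + f2 = f) (hk : k + f1 = k2)
    (hc : a + b = c) (h1 : countFinal d f1 k 0 = a) (h2 : countFinal d f2 k2 0 = b) :
    countFinal d f k 0 = c := by
  subst hf; subst hk; subst hc
  exact countFinal_split d f1 f2 k (k + f1) a b rfl h1 h2

end Cfsg.Agent.Lib.Helper7.TCSplit
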