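import Mathlib

/-!
Counting `p`-singular elements of a finite group whose Sylow `p`-subgroups have prime order `p`:
`#{x | p ∣ o(x)} * p = n_p * (|C(P)| * (p - 1))`.
-/

set_option autoImplicit false

namespace Cfsg.Agent.Lib.Helper7.PSing

open Subgroup

variable {G : Type*} [Group G]

/-- If a Sylow `p`-subgroup `Q` of the finite group `G` is central, then the `p`-regular elements
number `|G| / |Q|`. -/
theorem card_pRegular_mul_card_of_le_center [Finite G] {p : ℕ} [Fact p.Prime] (Q : Sylow p G)
    (hQ : (Q : Subgroup G) ≤ Subgroup.center G) :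
    Nat.card {x : G // ¬ p ∣ orderOf x} * Nat.card (Q : Subgroup G) = Nat.card G := by
  have hp : p.Prime := Fact.out
  have hN : Subgroup.normalizer ((Q : Subgroup G) : Set G) ≤
      Subgroup.centralizer ((Q : Subgroup G) : Set G) := by
    intro x _
    rw [Subgroup.mem_centralizer_iff]
    intro q hq
    exact ((Subgroup.mem_center_iff.mp (hQ hq)) x).symm
  have hK := MonoidHom.ker_transferSylow_isComplement' Q hN
  have hcard : Nat.card (MonoidHom.transferSylow Q hN).ker * Nat.card (Q : Subgroup G) =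
      Nat.card G := hK.card_mul_card
  have hLp : ¬ p ∣ Nat.card (MonoidHom.transferSylow Q hN).ker := by
    rw [← hK.index_eq_card]
    exact Q.not_dvd_index
  have hset : Nat.card {x : G // ¬ p ∣ orderOf x} =
      Nat.card (MonoidHom.transferSylow Q hN).ker := by
    apply Nat.card_congr
    refine Equiv.subtypeEquivRight ?_
    intro x
    constructor
    · intro hx
      rw [MonoidHom.mem_ker]
      have h1 : orderOf (MonoidHom.transferSylow Q hN x) ∣ orderOf x := orderOf_map_dvd _ x
      obtain ⟨k, hk⟩ := (IsPGroup.iff_orderOf.mp Q.isPGroup') (MonoidHom.transferSylow Q hN x)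
      rcases Nat.eq_zero_or_pos k with h0 | h0
      · rw [h0, pow_zero] at hk
        exact orderOf_eq_one_iff.mp hk
      · exfalso
        apply hx
        have : p ∣ p ^ k := dvd_pow_self p (by omega)
        rw [← hk] at this
        exact this.trans h1
    · intro hx hpx
      exact hLp (hpx.trans (Subgroup.orderOf_dvd_natCard _ hx))
  rw [hset, hcard]

/-- If a Sylow `p`-subgroup `Q` of prime order is central, then the `p`-singular elements
number `|G| (p-1) / p`. -/
theorem card_pSingular_mul_of_le_center [Finite G] {p : ℕ} [Fact p.Prime] (Q : Sylow p G)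
    (hQ : (Q : Subgroup G) ≤ Subgroup.center G) (hcard : Nat.card (Q : Subgroup G) = p) :
    Nat.card {x : G // p ∣ orderOf x} * p = Nat.card G * (p - 1) := by
  classical
  have hp : p.Prime := Fact.out
  have h1 := card_pRegular_mul_card_of_le_center Q hQ
  rw [hcard] at h1
  have : Fintype G := Fintype.ofFinite G
  have h2 : Nat.card {x : G // p ∣ orderOf x} + Nat.card {x : G // ¬ p ∣ orderOf x} =
      Nat.card G := by
    rw [Nat.card_eq_fintype_card, Nat.card_eq_fintype_card, Nat.card_eq_fintype_card]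
    exact Fintype.card_subtype_compl (fun x : G => p ∣ orderOf x) ▸ (by
      have := Fintype.card_subtype_le (fun x : G => p ∣ orderOf x)
      omega)
  have hp1 : 1 ≤ p := hp.one_lt.le
  obtain ⟨m, hm⟩ : ∃ m, p = m + 1 := ⟨p - 1, by omega⟩
  have hm' : p - 1 = m := by omega
  rw [hm']
  have h3 : Nat.card {x : G // p ∣ orderOf x} * p + Nat.card {x : G // ¬ p ∣ orderOf x} * p =
      Nat.card G * p := by rw [← add_mul, h2]
  rw [h1] at h3
  have h4 : Nat.card G * p = Nat.card G * m + Nat.card G := by rw [hm]; ring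
  omega

/-- a subgroup of prime order is contained in its centralizer -/
theorem le_centralizer_of_card_prime {p : ℕ} [Fact p.Prime] (H : Subgroup G)
    (hH : Nat.card H = p) : H ≤ Subgroup.centralizer (H : Set G) := by
  have hcyc : IsCyclic H := isCyclic_of_prime_card hH
  rw [Subgroup.le_centralizer_iff_isMulCommutative]
  exact ⟨⟨fun a b => (IsCyclic.commGroup (α := H)).mul_comm a b⟩⟩

/-- centralizers of Sylow subgroups all have the same order -/
theorem card_centralizer_sylow_eq [Finite G] {p : ℕ} [Fact p.Prime] (P Q : Sylow p G) :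
    Nat.card (Subgroup.centralizer ((Q : Subgroup G) : Set G)) =
      Nat.card (Subgroup.centralizer ((P : Subgroup G) : Set G)) := by
  obtain ⟨g, rfl⟩ := MulAction.exists_smul_eq G P Q
  have hmem : ∀ q : G, q ∈ ((g • P : Sylow p G) : Subgroup G) ↔ g⁻¹ * q * g ∈ (P : Subgroup G) := by
    intro q
    rw [Sylow.smul_def, Sylow.pointwise_smul_def, Subgroup.mem_pointwise_smul_iff_inv_smul_mem,
      MulAut.smul_def, ← map_inv, MulAut.conj_apply, inv_inv]
  apply Nat.card_congr
  refine ⟨fun x => ⟨g⁻¹ * x.1 * g, ?_⟩, fun y => ⟨g * y.1 * g⁻¹, ?_⟩, ?_, ?_⟩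
  · rw [Subgroup.mem_centralizer_iff]
    intro q hq
    have hq0 : q ∈ (P : Subgroup G) := hq
    have hq' : g * q * g⁻¹ ∈ ((g • P : Sylow p G) : Subgroup G) := by
      rw [hmem]
      have : g⁻¹ * (g * q * g⁻¹) * g = q := by group
      rw [this]; exact hq0
    have h := (Subgroup.mem_centralizer_iff.mp x.2) _ hq'
    calc q * (g⁻¹ * x.1 * g) = g⁻¹ * ((g * q * g⁻¹) * x.1) * g := by group
      _ = g⁻¹ * (x.1 * (g * q * g⁻¹)) * g := by rw [h]
      _ = g⁻¹ * x.1 * g * q := by group
  · rw [Subgroup.mem_centralizer_iff]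
    intro q hq
    have hq' : g⁻¹ * q * g ∈ (P : Subgroup G) := (hmem q).mp hq
    have h := (Subgroup.mem_centralizer_iff.mp y.2) _ hq'
    calc q * (g * y.1 * g⁻¹) = g * ((g⁻¹ * q * g) * y.1) * g⁻¹ := by group
      _ = g * (y.1 * (g⁻¹ * q * g)) * g⁻¹ := by rw [h]
      _ = g * y.1 * g⁻¹ * q := by group
  · intro x; apply Subtype.ext; simp [mul_assoc]
  · intro y; apply Subtype.ext; simp [mul_assoc]

/-- a subgroup of order `p` centralized by a Sylow `p`-subgroup of order `p` equals it -/
theorem eq_of_card_prime_of_le_centralizer [Finite G] {p : ℕ} [Fact p.Prime] (Q : Sylow p G)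
    (hQ : Nat.card (Q : Subgroup G) = p) (H : Subgroup G) (hH : Nat.card H = p)
    (hHQ : H ≤ Subgroup.centralizer ((Q : Subgroup G) : Set G)) : H = (Q : Subgroup G) := by
  have hp : p.Prime := Fact.out
  have hHp : IsPGroup p H := IsPGroup.of_card (n := 1) (by rw [hH, pow_one])
  have hn : H ≤ Subgroup.normalizer ((Q : Subgroup G) : Set G) :=
    hHQ.trans (Subgroup.centralizer_le_normalizer _)
  have hsup : IsPGroup p ↥(H ⊔ (Q : Subgroup G)) :=
    IsPGroup.to_sup_of_normal_right' hHp Q.isPGroup' hn
  obtain ⟨R, hR⟩ := hsup.exists_le_sylow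
  have hRcard : Nat.card (R : Subgroup G) = p := by
    rw [Sylow.card_eq_multiplicity R, ← Sylow.card_eq_multiplicity Q, hQ]
  have hQR : (Q : Subgroup G) = (R : Subgroup G) :=
    Subgroup.eq_of_le_of_card_ge (le_sup_right.trans hR) (by rw [hRcard, hQ])
  have hHR : H = (R : Subgroup G) :=
    Subgroup.eq_of_le_of_card_ge (le_sup_left.trans hR) (by rw [hRcard, hH])
  rw [hHR, hQR]

/-- the `p`-singular elements of the centralizer of a Sylow `p`-subgroup of order `p` -/
theorem card_pSingular_centralizer_mul [Finite G] {p : ℕ} [Fact p.Prime] (Q : Sylow p G)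
    (hQ : Nat.card (Q : Subgroup G) = p) :
    Nat.card {k : Subgroup.centralizer ((Q : Subgroup G) : Set G) // p ∣ orderOf k} * p =
      Nat.card (Subgroup.centralizer ((Q : Subgroup G) : Set G)) * (p - 1) := by
  have hQK : (Q : Subgroup G) ≤ Subgroup.centralizer ((Q : Subgroup G) : Set G) :=
    le_centralizer_of_card_prime _ hQ
  let Q' : Sylow p ↥(Subgroup.centralizer ((Q : Subgroup G) : Set G)) := Q.subtype hQK
  have hQ'coe : (Q' : Subgroup ↥(Subgroup.centralizer ((Q : Subgroup G) : Set G))) =
      (Q : Subgroup G).subgroupOf (Subgroup.centralizer ((Q : Subgroup G) : Set G)) := rfl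
  have hcen : (Q' : Subgroup ↥(Subgroup.centralizer ((Q : Subgroup G) : Set G))) ≤
      Subgroup.center ↥(Subgroup.centralizer ((Q : Subgroup G) : Set G)) := by
    intro k hk
    rw [Subgroup.mem_center_iff]
    intro k'
    apply Subtype.ext
    have hkQ : (k : G) ∈ (Q : Subgroup G) := by
      rw [hQ'coe, Subgroup.mem_subgroupOf] at hk
      exact hk
    have := (Subgroup.mem_centralizer_iff.mp k'.2) _ hkQ
    simpa using this.symm
  have hcs : Nat.card (Q' : Subgroup ↥(Subgroup.centralizer ((Q : Subgroup G) : Set G))) = p := by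
    rw [hQ'coe, Nat.card_congr (Subgroup.subgroupOfEquivOfLe hQK).toEquiv, hQ]
  exact card_pSingular_mul_of_le_center Q' hcen hcs

/-- the `p`-regular elements of the centralizer of a Sylow `p`-subgroup of order `p`, as a set -/
theorem ncard_pRegular_centralizer_mul [Finite G] {p : ℕ} [Fact p.Prime] (Q : Sylow p G)
    (hQ : Nat.card (Q : Subgroup G) = p) :
    {x : G | x ∈ Subgroup.centralizer ((Q : Subgroup G) : Set G) ∧ ¬ p ∣ orderOf x}.ncard * p =
      Nat.card (Subgroup.centralizer ((Q : Subgroup G) : Set G)) := by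
  have hQK : (Q : Subgroup G) ≤ Subgroup.centralizer ((Q : Subgroup G) : Set G) :=
    le_centralizer_of_card_prime _ hQ
  let Q' : Sylow p ↥(Subgroup.centralizer ((Q : Subgroup G) : Set G)) := Q.subtype hQK
  have hQ'coe : (Q' : Subgroup ↥(Subgroup.centralizer ((Q : Subgroup G) : Set G))) =
      (Q : Subgroup G).subgroupOf (Subgroup.centralizer ((Q : Subgroup G) : Set G)) := rfl
  have hcen : (Q' : Subgroup ↥(Subgroup.centralizer ((Q : Subgroup G) : Set G))) ≤
      Subgroup.center ↥(Subgroup.centralizer ((Q : Subgroup G) : Set G)) := by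
    intro k hk
    rw [Subgroup.mem_center_iff]
    intro k'
    apply Subtype.ext
    have hkQ : (k : G) ∈ (Q : Subgroup G) := by
      rw [hQ'coe, Subgroup.mem_subgroupOf] at hk
      exact hk
    have := (Subgroup.mem_centralizer_iff.mp k'.2) _ hkQ
    simpa using this.symm
  have hcs : Nat.card (Q' : Subgroup ↥(Subgroup.centralizer ((Q : Subgroup G) : Set G))) = p := by
    rw [hQ'coe, Nat.card_congr (Subgroup.subgroupOfEquivOfLe hQK).toEquiv, hQ]
  have h := card_pRegular_mul_card_of_le_center Q' hcen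
  rw [hcs] at h
  rw [← h]
  congr 1
  rw [← Nat.card_coe_set_eq]
  apply Nat.card_congr
  refine ⟨fun x => ⟨⟨x.1, x.2.1⟩, ?_⟩, fun k => ⟨k.1.1, k.1.2, ?_⟩, ?_, ?_⟩
  · show ¬ p ∣ orderOf (⟨x.1, x.2.1⟩ : Subgroup.centralizer ((Q : Subgroup G) : Set G))
    rw [← Subgroup.orderOf_coe]
    exact x.2.2
  · have := k.2
    rw [← Subgroup.orderOf_coe] at this
    exact this
  · intro x; rfl
  · intro k; rfl

/-- **Counting `p`-singular elements** when the Sylow `p`-subgroups have order `p`. -/
theorem card_pSingular_mul [Finite G] {p : ℕ} [Fact p.Prime] (P : Sylow p G)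
    (hP : Nat.card (P : Subgroup G) = p) :
    Nat.card {x : G // p ∣ orderOf x} * p =
      Nat.card (Sylow p G) *
        (Nat.card (Subgroup.centralizer ((P : Subgroup G) : Set G)) * (p - 1)) := by
  classical
  have hp : p.Prime := Fact.out
  have : Fintype (Sylow p G) := Fintype.ofFinite _
  have hmult : p ^ (Nat.card G).factorization p = p := by
    rw [← Sylow.card_eq_multiplicity P, hP]
  have hcardQ : ∀ Q : Sylow p G, Nat.card (Q : Subgroup G) = p := fun Q => by
    rw [Sylow.card_eq_multiplicity Q, hmult]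
  have hy : ∀ x : G, p ∣ orderOf x → orderOf (x ^ (orderOf x / p)) = p := fun x hx =>
    orderOf_pow_orderOf_div (orderOf_pos x).ne' hx
  have hz : ∀ x : {x : G // p ∣ orderOf x},
      Nat.card (Subgroup.zpowers (x.1 ^ (orderOf x.1 / p))) =
        p ^ (Nat.card G).factorization p := by
    intro x; rw [Nat.card_zpowers, hy x.1 x.2, hmult]
  let f : {x : G // p ∣ orderOf x} → Sylow p G := fun x => Sylow.ofCard _ (hz x)
  have hf : ∀ x, ((f x : Sylow p G) : Subgroup G) = Subgroup.zpowers (x.1 ^ (orderOf x.1 / p)) :=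
    fun x => rfl
  have h1 : Nat.card {x : G // p ∣ orderOf x} =
      Nat.card (Σ Q, {x : {x : G // p ∣ orderOf x} // f x = Q}) :=
    (Nat.card_congr (Equiv.sigmaFiberEquiv f)).symm
  have h2 : ∀ Q : Sylow p G, Nat.card {x : {x : G // p ∣ orderOf x} // f x = Q} * p =
      Nat.card (Subgroup.centralizer ((P : Subgroup G) : Set G)) * (p - 1) := by
    intro Q
    rw [← card_centralizer_sylow_eq P Q, ← card_pSingular_centralizer_mul Q (hcardQ Q)]
    congr 1
    apply Nat.card_congr
    refine ⟨fun x => ⟨⟨x.1.1, ?_⟩, ?_⟩, fun k => ⟨⟨k.1.1, ?_⟩, ?_⟩, ?_, ?_⟩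
    · -- x commutes with Q
      rw [Subgroup.mem_centralizer_iff]
      intro q hq
      have hq' : q ∈ Subgroup.zpowers (x.1.1 ^ (orderOf x.1.1 / p)) := by
        rw [← hf x.1, x.2]; exact hq
      obtain ⟨i, rfl⟩ := Subgroup.mem_zpowers_iff.mp hq'
      have hc : Commute (x.1.1 ^ (orderOf x.1.1 / p)) x.1.1 := (Commute.refl x.1.1).pow_left _
      exact (hc.zpow_left i).eq
    · show p ∣ orderOf (⟨x.1.1, _⟩ : Subgroup.centralizer ((Q : Subgroup G) : Set G))
      rw [← Subgroup.orderOf_coe]
      exact x.1.2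
    · have := k.2
      rw [← Subgroup.orderOf_coe] at this
      exact this
    · -- f k = Q
      have hk : p ∣ orderOf (k.1.1 : G) := by
        have := k.2
        rw [← Subgroup.orderOf_coe] at this
        exact this
      apply Sylow.ext
      show Subgroup.zpowers ((k.1.1 : G) ^ (orderOf (k.1.1 : G) / p)) = (Q : Subgroup G)
      apply eq_of_card_prime_of_le_centralizer Q (hcardQ Q)
      · rw [Nat.card_zpowers, hy _ hk]
      · rw [Subgroup.zpowers_le]
        exact Subgroup.pow_mem _ k.1.2 _
    · intro x; rfl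
    · intro k; rfl
  rw [h1, Nat.card_sigma, Finset.sum_mul, Finset.sum_congr rfl (fun Q _ => h2 Q),
    Finset.sum_const, Finset.card_univ, smul_eq_mul, ← Nat.card_eq_fintype_card (α := Sylow p G)]

end Cfsg.Agent.Lib.Helper7.PSing
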