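import Mathlib
import Cfsg.Agent.Lib.Helper7.SylowBasic
import Cfsg.Agent.Lib.Helper7.PSingCount

/-!
Sylow subgroups of prime order in finite (simple) groups: numerical data, centralizers.
-/

set_option autoImplicit false

namespace Cfsg.Agent.Lib.Helper7.SylowPrime

open Subgroup Cfsg.Agent.Lib.Helper7

variable {G : Type*} [Group G] [Finite G]

/-- numerical data for a Sylow subgroup of prime order in a simple group -/
theorem sylow_prime_data [IsSimpleGroup G] {p : ℕ} [Fact p.Prime] (P : Sylow p G)
    (hP : Nat.card (P : Subgroup G) = p) (hG : Nat.card G ≠ p) :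
    ∃ m : ℕ, m ∣ p - 1 ∧ m ≠ 1 ∧
      Nat.card (Sylow p G) *
        (m * Nat.card (Subgroup.centralizer ((P : Subgroup G) : Set G))) = Nat.card G ∧
      p ∣ Nat.card (Subgroup.centralizer ((P : Subgroup G) : Set G)) ∧
      Nat.card (Sylow p G) % p = 1 := by
  have hp : p.Prime := Fact.out
  have hcyc : IsCyclic (P : Subgroup G) := isCyclic_of_prime_card hP
  have hPC : (P : Subgroup G) ≤ Subgroup.centralizer ((P : Subgroup G) : Set G) :=
    PSing.le_centralizer_of_card_prime _ hP
  have hCN : Subgroup.centralizer ((P : Subgroup G) : Set G) ≤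
      Subgroup.normalizer ((P : Subgroup G) : Set G) := Subgroup.centralizer_le_normalizer _
  refine ⟨(Subgroup.centralizer ((P : Subgroup G) : Set G)).relIndex
      (Subgroup.normalizer ((P : Subgroup G) : Set G)), ?_, ?_, ?_, ?_, ?_⟩
  · have h2 := relIndex_centralizer_normalizer_dvd (P : Subgroup G)
    rwa [hcyc.card_mulAut, hP, Nat.totient_prime hp] at h2
  · intro h1
    rw [Subgroup.relIndex_eq_one] at h1
    have hdvd : p ∣ Nat.card G := by
      rw [← hP]; exact Subgroup.card_subgroup_dvd_card _
    exact hG (card_eq_prime_of_simple_of_normalizer_le_centralizer P hdvd h1)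
  · have h1 := card_mul_relIndex hCN
    have h2 : Nat.card (Sylow p G) = (Subgroup.normalizer ((P : Subgroup G) : Set G)).index :=
      Sylow.card_eq_index_normalizer P
    rw [mul_comm (Subgroup.relIndex _ _), h1, h2, mul_comm, Subgroup.card_mul_index]
  · have := Subgroup.card_dvd_of_le hPC
    rwa [hP] at this
  · have := card_sylow_modEq_one p G
    have h1 : 1 % p = 1 := Nat.mod_eq_of_lt hp.one_lt
    rw [← h1]
    exact this

/-- an element commuting with an element of order `p` has order dividing `|C(P)|` -/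
theorem orderOf_dvd_card_centralizer {p : ℕ} [Fact p.Prime] (P : Sylow p G)
    (hP : Nat.card (P : Subgroup G) = p) {w t : G} (hw : orderOf w = p) (ht : Commute t w) :
    orderOf t ∣ Nat.card (Subgroup.centralizer ((P : Subgroup G) : Set G)) := by
  have hmult : p ^ (Nat.card G).factorization p = p := by
    rw [← Sylow.card_eq_multiplicity P, hP]
  have hz : Nat.card (Subgroup.zpowers w) = p ^ (Nat.card G).factorization p := by
    rw [Nat.card_zpowers, hw, hmult]
  have hmem : t ∈ Subgroup.centralizer (((Sylow.ofCard _ hz : Sylow p G) : Subgroup G) : Set G) := by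
    rw [Subgroup.mem_centralizer_iff]
    intro q hq
    have hq' : q ∈ Subgroup.zpowers w := hq
    obtain ⟨i, rfl⟩ := Subgroup.mem_zpowers_iff.mp hq'
    exact ((ht.zpow_right i).eq).symm
  rw [← PSing.card_centralizer_sylow_eq P (Sylow.ofCard _ hz)]
  exact Subgroup.orderOf_dvd_natCard _ hmem

/-- if `p` and `q` both divide the order of `x`, then `q` divides `|C(P)|` -/
theorem dvd_card_centralizer_of_mixed {p q : ℕ} [Fact p.Prime] (P : Sylow p G)
    (hP : Nat.card (P : Subgroup G) = p) {x : G} (hp : p ∣ orderOf x) (hq : q ∣ orderOf x) :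
    q ∣ Nat.card (Subgroup.centralizer ((P : Subgroup G) : Set G)) := by
  have hw : orderOf (x ^ (orderOf x / p)) = p :=
    orderOf_pow_orderOf_div (orderOf_pos x).ne' hp
  have ht : orderOf (x ^ (orderOf x / q)) = q :=
    orderOf_pow_orderOf_div (orderOf_pos x).ne' hq
  have hc : Commute (x ^ (orderOf x / q)) (x ^ (orderOf x / p)) :=
    ((Commute.refl x).pow_left _).pow_right _
  have := orderOf_dvd_card_centralizer P hP hw hc
  rwa [ht] at this

/-- symmetric divisibility for centralizers of Sylow subgroups of prime orders -/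
theorem dvd_card_centralizer_symm {p q : ℕ} [Fact p.Prime] [Fact q.Prime] (P : Sylow p G)
    (hP : Nat.card (P : Subgroup G) = p) (Q : Sylow q G) (hQ : Nat.card (Q : Subgroup G) = q)
    (h : q ∣ Nat.card (Subgroup.centralizer ((P : Subgroup G) : Set G))) :
    p ∣ Nat.card (Subgroup.centralizer ((Q : Subgroup G) : Set G)) := by
  obtain ⟨w, hw⟩ := exists_prime_orderOf_dvd_card' q h
  have hpP : p ∣ Nat.card (P : Subgroup G) := by rw [hP]
  obtain ⟨u, hu⟩ := exists_prime_orderOf_dvd_card' p hpP
  have hw' : orderOf (w : G) = q := by rw [Subgroup.orderOf_coe]; exact hw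
  have hu' : orderOf ((u : (P : Subgroup G)) : G) = p := by rw [Subgroup.orderOf_coe]; exact hu
  have hcomm : Commute ((u : (P : Subgroup G)) : G) (w : G) :=
    (Subgroup.mem_centralizer_iff.mp w.2) _ u.2
  have := orderOf_dvd_card_centralizer Q hQ hw' hcomm
  rwa [hu'] at this

/-- an element normalizing `H` whose order is prime to `|Aut H|` centralizes `H` -/
theorem mem_centralizer_of_mem_normalizer_of_coprime (H : Subgroup G) {g : G}
    (hg : g ∈ Subgroup.normalizer (H : Set G))
    (hcop : Nat.Coprime (orderOf g) (Nat.card (MulAut H))) :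
    g ∈ Subgroup.centralizer (H : Set G) := by
  have h1 : orderOf (H.normalizerMonoidHom ⟨g, hg⟩) ∣ orderOf g := by
    have := orderOf_map_dvd H.normalizerMonoidHom (⟨g, hg⟩ : Subgroup.normalizer (H : Set G))
    rwa [← Subgroup.orderOf_coe] at this
  have h2 : orderOf (H.normalizerMonoidHom ⟨g, hg⟩) ∣ Nat.card (MulAut H) := orderOf_dvd_natCard _
  have h3 : orderOf (H.normalizerMonoidHom ⟨g, hg⟩) = 1 :=
    Nat.eq_one_of_dvd_coprimes hcop h1 h2
  have h4 : (⟨g, hg⟩ : Subgroup.normalizer (H : Set G)) ∈ H.normalizerMonoidHom.ker := by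
    rw [MonoidHom.mem_ker]
    exact orderOf_eq_one_iff.mp h3
  rw [Subgroup.normalizerMonoidHom_ker, Subgroup.mem_subgroupOf] at h4
  exact h4

/-- the number of `p`-singular elements, as a filter cardinality -/
theorem card_filter_pSingular_mul [Fintype G] {p : ℕ} [Fact p.Prime] (P : Sylow p G)
    (hP : Nat.card (P : Subgroup G) = p) :
    (Finset.univ.filter (fun x : G => p ∣ orderOf x)).card * p =
      Nat.card (Sylow p G) *
        (Nat.card (Subgroup.centralizer ((P : Subgroup G) : Set G)) * (p - 1)) := by
  rw [← PSing.card_pSingular_mul P hP, Nat.card_eq_fintype_card, Fintype.card_subtype]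

end Cfsg.Agent.Lib.Helper7.SylowPrime
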