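import Mathlib
import Cfsg.Agent.Lib.Helper12.Hall4A

/-!
# Commuting-transitive (CA) groups, basics (helper7)

`CT G`: commuting is transitive on non-identity elements.  Basic facts on centralizers,
involutions, and the single class of involutions in a simple non-abelian CT-group.
-/

set_option autoImplicit false

namespace Cfsg.Agent.Lib.Helper7.CA

variable {G : Type*} [Group G]

/-- Commuting is a transitive relation on the non-identity elements. -/
def CT (G : Type*) [Group G] : Prop :=
  ∀ a b c : G, a ≠ 1 → b ≠ 1 → c ≠ 1 → Commute a b → Commute b c → Commute a c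

/-- Centralizer of an element. -/
abbrev Cen (x : G) : Subgroup G := Subgroup.centralizer ({x} : Set G)

theorem mem_Cen {x g : G} : g ∈ Cen x ↔ Commute g x := by
  rw [Subgroup.mem_centralizer_singleton_iff]
  exact Iff.rfl

theorem self_mem_Cen (x : G) : x ∈ Cen x := mem_Cen.mpr (Commute.refl x)

theorem Cen_eq (h : CT G) {x y : G} (hx : x ≠ 1) (hy : y ≠ 1) (hxy : Commute x y) :
    Cen x = Cen y := by
  ext g
  rw [mem_Cen, mem_Cen]
  by_cases hg : g = 1
  · subst hg
    exact ⟨fun _ => Commute.one_left y, fun _ => Commute.one_left x⟩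
  · exact ⟨fun hgx => h g x y hg hx hy hgx hxy, fun hgy => h g y x hg hy hx hgy hxy.symm⟩

theorem Cen_comm (h : CT G) {x a b : G} (hx : x ≠ 1) (ha : a ∈ Cen x) (hb : b ∈ Cen x) :
    Commute a b := by
  rw [mem_Cen] at ha hb
  by_cases ha1 : a = 1
  · subst ha1; exact Commute.one_left b
  by_cases hb1 : b = 1
  · subst hb1; exact Commute.one_right a
  exact h a x b ha1 hx hb1 ha hb.symm

theorem Cen_conj (g x : G) (y : G) : y ∈ Cen (g * x * g⁻¹) ↔ g⁻¹ * y * g ∈ Cen x := by
  rw [mem_Cen, mem_Cen]
  constructor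
  · intro hc
    have := hc.eq
    show g⁻¹ * y * g * x = x * (g⁻¹ * y * g)
    calc g⁻¹ * y * g * x = g⁻¹ * (y * (g * x * g⁻¹)) * g := by group
      _ = g⁻¹ * ((g * x * g⁻¹) * y) * g := by rw [this]
      _ = x * (g⁻¹ * y * g) := by group
  · intro hc
    have := hc.eq
    show y * (g * x * g⁻¹) = g * x * g⁻¹ * y
    calc y * (g * x * g⁻¹) = g * (g⁻¹ * y * g * x) * g⁻¹ := by group
      _ = g * (x * (g⁻¹ * y * g)) * g⁻¹ := by rw [this]
      _ = g * x * g⁻¹ * y := by group

theorem orderOf_conj_eq (g x : G) : orderOf (g * x * g⁻¹) = orderOf x := by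
  have := orderOf_injective (MulAut.conj g).toMonoidHom (MulAut.conj g).injective x
  simpa using this

theorem inv_sq {v : G} (hv : orderOf v = 2) : v * v = 1 := by
  have := pow_orderOf_eq_one v
  rw [hv, pow_two] at this
  exact this

theorem inv_ne_one {v : G} (hv : orderOf v = 2) : v ≠ 1 := by
  intro h
  rw [h, orderOf_one] at hv
  omega

theorem inv_inv' {v : G} (hv : orderOf v = 2) : v⁻¹ = v :=
  inv_eq_of_mul_eq_one_left (inv_sq hv)

theorem orderOf_eq_two_of {v : G} (h1 : v ≠ 1) (h2 : v * v = 1) : orderOf v = 2 := by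
  have : v ^ 2 = 1 := by rw [pow_two]; exact h2
  exact orderOf_eq_prime this h1

/-- Two non-commuting involutions in a finite CT-group have a product of odd order. -/
theorem odd_orderOf_mul [Finite G] (h : CT G) {u v : G} (hu : orderOf u = 2) (hv : orderOf v = 2)
    (hnc : ¬ Commute u v) : Odd (orderOf (v * u)) := by
  by_contra hodd
  rw [Nat.not_odd_iff_even] at hodd
  obtain ⟨k, hk⟩ := hodd
  have hu1 := inv_ne_one hu
  have hv1 := inv_ne_one hv
  have huu := inv_sq hu
  have hvv := inv_sq hv
  have hui := inv_inv' hu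
  have hvi := inv_inv' hv
  have hpos : 0 < orderOf (v * u) := orderOf_pos (v * u)
  have hkpos : 0 < k := by omega
  -- z = (v u)^k is an involution commuting with u and v
  have hz1 : (v * u) ^ k ≠ 1 := by
    intro h1
    have := orderOf_dvd_of_pow_eq_one h1
    have := Nat.le_of_dvd hkpos this
    omega
  have hzz : (v * u) ^ k * (v * u) ^ k = 1 := by
    rw [← pow_add, ← hk, pow_orderOf_eq_one]
  have hzi : ((v * u) ^ k)⁻¹ = (v * u) ^ k := inv_eq_of_mul_eq_one_left hzz
  have hconj_u : u * (v * u) * u⁻¹ = (v * u)⁻¹ := by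
    rw [mul_inv_rev, hui, hvi]
    simp only [mul_assoc]
    rw [huu, mul_one]
  have hconj_v : v * (v * u) * v⁻¹ = (v * u)⁻¹ := by
    rw [mul_inv_rev, hui, hvi]
    simp only [← mul_assoc]
    rw [hvv, one_mul]
  have hcu : Commute u ((v * u) ^ k) := by
    have h1 : u * (v * u) ^ k * u⁻¹ = (v * u) ^ k := by
      rw [← conj_pow, hconj_u, inv_pow, hzi]
    show u * (v * u) ^ k = (v * u) ^ k * u
    calc u * (v * u) ^ k = u * (v * u) ^ k * u⁻¹ * u := by group
      _ = (v * u) ^ k * u := by rw [h1]
  have hcv : Commute ((v * u) ^ k) v := by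
    have h1 : v * (v * u) ^ k * v⁻¹ = (v * u) ^ k := by
      rw [← conj_pow, hconj_v, inv_pow, hzi]
    show (v * u) ^ k * v = v * (v * u) ^ k
    calc (v * u) ^ k * v = v * (v * u) ^ k * v⁻¹ * v := by rw [h1]
      _ = v * (v * u) ^ k := by group
  exact hnc (h u _ v hu1 hz1 hv1 hcu hcv)

/-- Non-commuting involutions of a finite CT-group are conjugate. -/
theorem conj_of_not_commute [Finite G] (h : CT G) {u v : G} (hu : orderOf u = 2)
    (hv : orderOf v = 2) (hnc : ¬ Commute u v) : ∃ g : G, g * u * g⁻¹ = v := by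
  obtain ⟨g, -, hg⟩ := Cfsg.Agent.Lib.Helper12.Hall4.conj_of_odd (inv_sq hu) (inv_sq hv)
    (odd_orderOf_mul h hu hv hnc)
  exact ⟨g, hg.symm⟩

/-- In a simple non-abelian CT-group, every involution fails to commute with some involution. -/
theorem exists_not_commute [IsSimpleGroup G] (hG : ¬ IsMulCommutative G) (h : CT G)
    {u : G} (hu : orderOf u = 2) : ∃ w : G, orderOf w = 2 ∧ ¬ Commute w u := by
  by_contra hno
  push Not at hno
  have hu1 := inv_ne_one hu
  have hnorm : (Cen u).Normal := by
    constructor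
    intro n hn g
    have hgu : orderOf (g * u * g⁻¹) = 2 := by rw [orderOf_conj_eq]; exact hu
    have hcomm : Commute (g * u * g⁻¹) u := hno _ hgu
    have heq : Cen (g * u * g⁻¹) = Cen u := Cen_eq h (inv_ne_one hgu) hu1 hcomm
    rw [← heq, Cen_conj]
    have : g⁻¹ * (g * n * g⁻¹) * g = n := by group
    rw [this]
    exact hn
  rcases hnorm.eq_bot_or_eq_top with hb | ht
  · have := self_mem_Cen u
    rw [hb, Subgroup.mem_bot] at this
    exact hu1 this
  · apply hG
    refine ⟨⟨fun x y => ?_⟩⟩
    have hx : x ∈ Cen u := by rw [ht]; exact Subgroup.mem_top x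
    have hy : y ∈ Cen u := by rw [ht]; exact Subgroup.mem_top y
    exact (Cen_comm h hu1 hx hy).eq

/-- In a finite simple non-abelian CT-group, all involutions are conjugate. -/
theorem conj_involutions [Finite G] [IsSimpleGroup G] (hG : ¬ IsMulCommutative G) (h : CT G)
    {u v : G} (hu : orderOf u = 2) (hv : orderOf v = 2) : ∃ g : G, g * u * g⁻¹ = v := by
  by_cases hc : Commute u v
  · -- find an involution not commuting with u
    have hex : ∃ w : G, orderOf w = 2 ∧ ¬ Commute w u := exists_not_commute hG h hu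
    obtain ⟨w, hw, hwu⟩ := hex
    have hwv : ¬ Commute w v := by
      intro hwv
      exact hwu (h w v u (inv_ne_one hw) (inv_ne_one hv) (inv_ne_one hu) hwv hc.symm)
    obtain ⟨g1, hg1⟩ := conj_of_not_commute h hu hw (fun hh => hwu hh.symm)
    obtain ⟨g2, hg2⟩ := conj_of_not_commute h hw hv hwv
    refine ⟨g2 * g1, ?_⟩
    rw [← hg2, ← hg1]
    group
  · exact conj_of_not_commute h hu hv hc

end Cfsg.Agent.Lib.Helper7.CA
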