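import Mathlib
import Cfsg.Agent.Lib.Helper21.SuzA
import Cfsg.Agent.Lib.Helper9.StronglyEmbedded
import Cfsg.Agent.Lib.Helper7.CA1

/-!
# Suzuki's theorem on groups with abelian involution centralizers: the "beta case" (helper7)

Points are the Sylow 2-subgroups `P`, with `A P = C_G(P)`.  Basic facts.
-/

set_option autoImplicit false
set_option linter.style.haveILetI false

namespace Cfsg.Agent.Lib.Helper7.Beta

open Cfsg.Agent.Lib.Helper21.Suz Cfsg.Agent.Lib.Helper7.CA MulAction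

variable {G : Type*} [Group G]

set_option linter.unusedSectionVars false

/-- The hypotheses of the beta case. -/
structure Hyp (G : Type*) [Group G] : Prop where
  ica : ICA G
  hb : ∀ (P : Sylow 2 G) (c : G), c ≠ 1 → Odd (orderOf c) → (∀ x ∈ P, c * x = x * c) →
    Subgroup.centralizer ({c} : Set G) ≤ Subgroup.normalizer ((P : Subgroup G) : Set G)
  nn : ∀ P : Sylow 2 G, ¬ (P : Subgroup G).Normal
  nc : ∀ P : Sylow 2 G, ¬ IsCyclic (P : Subgroup G)

/-- `A P = C_G(P)`. -/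
abbrev A (P : Sylow 2 G) : Subgroup G := Subgroup.centralizer ((P : Subgroup G) : Set G)

theorem mem_A {P : Sylow 2 G} {a : G} : a ∈ A P ↔ ∀ x ∈ P, a * x = x * a := by
  rw [Subgroup.mem_centralizer_iff]
  constructor
  · intro h x hx
    exact (h x hx).symm
  · intro h x hx
    exact (h x hx).symm

section Fin

variable [Finite G]

theorem conj_mem_of_smul_eq {g : G} {P : Sylow 2 G} (hg : g • P = P) {y : G} (hy : y ∈ P) :
    g * y * g⁻¹ ∈ P := by
  have := smul_mem_smul_sylow (g := g) hy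
  rwa [hg] at this

theorem mem_A_smul {g : G} {P : Sylow 2 G} {y : G} : y ∈ A (g • P) ↔ g⁻¹ * y * g ∈ A P := by
  rw [mem_A, mem_A]
  constructor
  · intro h x hx
    have h1 := h (g * x * g⁻¹) (smul_mem_smul_sylow hx)
    calc g⁻¹ * y * g * x = g⁻¹ * (y * (g * x * g⁻¹)) * g := by group
      _ = g⁻¹ * ((g * x * g⁻¹) * y) * g := by rw [h1]
      _ = x * (g⁻¹ * y * g) := by group
  · intro h x hx
    have h1 := h (g⁻¹ * x * g) (mem_smul_sylow.mp hx)
    calc y * x = g * (g⁻¹ * y * g * (g⁻¹ * x * g)) * g⁻¹ := by group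
      _ = g * ((g⁻¹ * x * g) * (g⁻¹ * y * g)) * g⁻¹ := by rw [h1]
      _ = x * y := by group

theorem conj_mem_A_smul (g : G) {P : Sylow 2 G} {y : G} (hy : y ∈ A P) :
    g * y * g⁻¹ ∈ A (g • P) := by
  rw [mem_A_smul]
  have : g⁻¹ * (g * y * g⁻¹) * g = y := by group
  rw [this]; exact hy

theorem conj_mem_A_of_smul_eq {g : G} {P : Sylow 2 G} (hg : g • P = P) {y : G} (hy : y ∈ A P) :
    g * y * g⁻¹ ∈ A P := by
  have := conj_mem_A_smul g hy
  rwa [hg] at this

theorem smul_eq_self_of_mem_A {P : Sylow 2 G} {a : G} (ha : a ∈ A P) : a • P = P :=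
  Sylow.smul_eq_iff_mem_normalizer.mpr ((Subgroup.centralizer_le_normalizer _) ha)

theorem mem_of_invol_smul_eq {u : G} (hu : orderOf u = 2) {P : Sylow 2 G} (hP : u • P = P) :
    u ∈ P :=
  invol_mem_sylow_of_normalizer P (Sylow.smul_eq_iff_mem_normalizer.mp hP) hu

variable (hB : Hyp G)
include hB

theorem exists_invol (P : Sylow 2 G) : ∃ t ∈ P, orderOf t = 2 :=
  exists_invol_of_pgroup (P : Subgroup G) P.isPGroup' (sylow_ne_bot_of_not_normal P (hB.nn P))

theorem A_comm {P : Sylow 2 G} {a b : G} (ha : a ∈ A P) (hb : b ∈ A P) : Commute a b := by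
  obtain ⟨t, htP, ht⟩ := exists_invol hB P
  exact hB.ica t ht a b (mem_A.mp ha t htP).symm (mem_A.mp hb t htP).symm

theorem le_A (P : Sylow 2 G) : (P : Subgroup G) ≤ A P := by
  intro x hx
  rw [mem_A]
  intro y hy
  exact sylow_comm hB.ica P x hx y hy

theorem mem_A_of_commute {P : Sylow 2 G} {t : G} (ht : orderOf t = 2) (htP : t ∈ P) {c : G}
    (hc : t * c = c * t) : c ∈ A P :=
  mem_A.mpr (cent_invol hB.ica P ht htP hc)

theorem eq_of_mem {P Q : Sylow 2 G} {x : G} (hx1 : x ≠ 1) (hP : x ∈ P) (hQ : x ∈ Q) : P = Q :=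
  sylow_TI hB.ica P Q hx1 hP hQ

theorem exists_ne (P : Sylow 2 G) : ∃ Q : Sylow 2 G, Q ≠ P := by
  by_contra hno
  push Not at hno
  apply hB.nn P
  rw [← Subgroup.normalizer_eq_top_iff, eq_top_iff]
  intro g _
  exact Sylow.smul_eq_iff_mem_normalizer.mp (hno (g • P))

/-- An element of `A P` fixing another point has odd order. -/
theorem odd_of_mem_A_of_fix {P Q : Sylow 2 G} (hne : P ≠ Q) {d : G} (hdA : d ∈ A P)
    (hdQ : d • Q = Q) : Odd (orderOf d) := by
  by_contra hodd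
  rw [Nat.not_odd_iff_even] at hodd
  obtain ⟨k, hk⟩ := hodd
  have hpos : 0 < orderOf d := orderOf_pos d
  have hkpos : 0 < k := by omega
  have ht1 : d ^ k ≠ 1 := by
    intro h1
    have := Nat.le_of_dvd hkpos (orderOf_dvd_of_pow_eq_one h1)
    omega
  have htt : d ^ k * d ^ k = 1 := by
    rw [← pow_add, ← hk, pow_orderOf_eq_one]
  have ht : orderOf (d ^ k) = 2 := orderOf_eq_two_of ht1 htt
  have htA : d ^ k ∈ A P := Subgroup.pow_mem _ hdA k
  have htQ : d ^ k • Q = Q := by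
    have : d ^ k ∈ stabilizer G Q := Subgroup.pow_mem _ (mem_stabilizer_iff.mpr hdQ) k
    exact mem_stabilizer_iff.mp this
  have h1 : d ^ k ∈ P := mem_of_invol_smul_eq ht (smul_eq_self_of_mem_A htA)
  have h2 : d ^ k ∈ Q := mem_of_invol_smul_eq ht htQ
  exact hne (eq_of_mem hB ht1 h1 h2)

/-- `A P ∩ A Q = 1` for `P ≠ Q`. -/
theorem A_inf {P Q : Sylow 2 G} (hne : P ≠ Q) {a : G} (haP : a ∈ A P) (haQ : a ∈ A Q) :
    a = 1 := by
  by_contra ha1
  have hodd := odd_of_mem_A_of_fix hB hne haP (smul_eq_self_of_mem_A haQ)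
  have hle := hB.hb P a ha1 hodd (mem_A.mp haP)
  obtain ⟨t, htQ, ht⟩ := exists_invol hB Q
  have htC : t ∈ Subgroup.centralizer ({a} : Set G) := by
    rw [Subgroup.mem_centralizer_singleton_iff]
    exact (mem_A.mp haQ t htQ).symm
  have htP : t ∈ P := invol_mem_sylow_of_normalizer P (hle htC) ht
  exact hne (eq_of_mem hB (inv_ne_one ht) htP htQ)

/-- All involutions are conjugate. -/
theorem conj_involutions {u v : G} (hu : orderOf u = 2) (hv : orderOf v = 2) :
    ∃ g : G, g * u * g⁻¹ = v := by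
  obtain ⟨P, huP⟩ := exists_sylow_of_invol hu
  obtain ⟨Q, hQ⟩ := exists_ne hB P
  obtain ⟨w, hwQ, hw⟩ := exists_invol hB Q
  have hSE := se_normalizer hB.ica P (hB.nn P)
  have hwN : w ∉ Subgroup.normalizer ((P : Subgroup G) : Set G) := by
    intro hmem
    have := invol_mem_sylow_of_normalizer P hmem hw
    exact hQ (eq_of_mem hB (inv_ne_one hw) hwQ this)
  have := Cfsg.Agent.Lib.Helper9.se_all_involutions_conj hSE hw hwN hu hv
  exact isConj_iff.mp this

end Fin

end Cfsg.Agent.Lib.Helper7.Beta
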