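import Mathlib
import Cfsg.Agent.Lib.Helper7.Beta1

/-!
# Beta case of Suzuki's theorem: the stabilizer of a point and the averaging argument (helper7)
-/

set_option autoImplicit false
set_option linter.style.haveILetI false
set_option linter.unusedSectionVars false

namespace Cfsg.Agent.Lib.Helper7.Beta

open Cfsg.Agent.Lib.Helper21.Suz Cfsg.Agent.Lib.Helper7.CA MulAction

variable {G : Type*} [Group G] [Finite G]

/-- Two-point stabilizer. -/
abbrev D (X Y : Sylow 2 G) : Subgroup G := stabilizer G X ⊓ stabilizer G Y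

theorem mem_D {X Y : Sylow 2 G} {d : G} : d ∈ D X Y ↔ d • X = X ∧ d • Y = Y := by
  rw [Subgroup.mem_inf, mem_stabilizer_iff, mem_stabilizer_iff]

theorem swap_of_inv {u : G} (hu : orderOf u = 2) {X Y : Sylow 2 G} (hXY : u • X = Y) :
    u • Y = X := by
  rw [← hXY, ← mul_smul, inv_sq hu, one_smul]

theorem card_A_smul (g : G) (X : Sylow 2 G) : Nat.card (A (g • X)) = Nat.card (A X) := by
  refine Nat.card_congr ?_
  refine ⟨fun v => ⟨g⁻¹ * v.1 * g, mem_A_smul.mp v.2⟩,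
    fun v => ⟨g * v.1 * g⁻¹, conj_mem_A_smul g v.2⟩, ?_, ?_⟩
  · intro v; apply Subtype.ext; show g * (g⁻¹ * v.1 * g) * g⁻¹ = v.1; group
  · intro v; apply Subtype.ext; show g⁻¹ * (g * v.1 * g⁻¹) * g = v.1; group

theorem card_invs_smul (g : G) (X : Sylow 2 G) :
    Nat.card {v : G // v ∈ g • X ∧ orderOf v = 2} =
      Nat.card {v : G // v ∈ X ∧ orderOf v = 2} := by
  refine Nat.card_congr ?_
  refine ⟨fun v => ⟨g⁻¹ * v.1 * g, mem_smul_sylow.mp v.2.1, ?_⟩,
    fun v => ⟨g * v.1 * g⁻¹, smul_mem_smul_sylow v.2.1, ?_⟩, ?_, ?_⟩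
  · have := orderOf_conj_eq g⁻¹ v.1
    rw [inv_inv] at this
    rw [this]; exact v.2.2
  · rw [orderOf_conj_eq]; exact v.2.2
  · intro v; apply Subtype.ext; show g * (g⁻¹ * v.1 * g) * g⁻¹ = v.1; group
  · intro v; apply Subtype.ext; show g⁻¹ * (g * v.1 * g⁻¹) * g = v.1; group

theorem card_A_eq (X Y : Sylow 2 G) : Nat.card (A X) = Nat.card (A Y) := by
  obtain ⟨g, hg⟩ := MulAction.exists_smul_eq G X Y
  rw [← hg, card_A_smul]

theorem card_invs_eq (X Y : Sylow 2 G) :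
    Nat.card {v : G // v ∈ X ∧ orderOf v = 2} = Nat.card {v : G // v ∈ Y ∧ orderOf v = 2} := by
  obtain ⟨g, hg⟩ := MulAction.exists_smul_eq G X Y
  rw [← hg, card_invs_smul]

variable (hB : Hyp G)
include hB

theorem card_invs_pos (X : Sylow 2 G) : 0 < Nat.card {v : G // v ∈ X ∧ orderOf v = 2} := by
  obtain ⟨v, hvX, hv⟩ := exists_invol hB X
  haveI : Nonempty {v : G // v ∈ X ∧ orderOf v = 2} := ⟨⟨v, hvX, hv⟩⟩
  exact Nat.card_pos

/-- `|N(X)| = |A X| · #involutions(X)`. -/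
theorem card_stabilizer (X : Sylow 2 G) :
    Nat.card (stabilizer G X) =
      Nat.card {v : G // v ∈ X ∧ orderOf v = 2} * Nat.card (A X) := by
  classical
  obtain ⟨v₀, hv₀X, hv₀⟩ := exists_invol hB X
  -- conjugators
  have hex : ∀ v : {v : G // v ∈ X ∧ orderOf v = 2}, ∃ g : G, g * v₀ * g⁻¹ = v.1 :=
    fun v => conj_involutions hB hv₀ v.2.2
  choose c hc using hex
  have hcS : ∀ v, c v • X = X := by
    intro v
    have h1 : v.1 ∈ c v • X := by
      rw [← hc v]; exact smul_mem_smul_sylow hv₀X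
    exact eq_of_mem hB (inv_ne_one v.2.2) h1 v.2.1
  have hmemS : ∀ (v : {v : G // v ∈ X ∧ orderOf v = 2}) (y : A X),
      c v * y.1 ∈ stabilizer G X := by
    intro v y
    rw [mem_stabilizer_iff, mul_smul, smul_eq_self_of_mem_A y.2, hcS v]
  have hconj : ∀ (v : {v : G // v ∈ X ∧ orderOf v = 2}) (y : A X),
      (c v * y.1) * v₀ * (c v * y.1)⁻¹ = v.1 := by
    intro v y
    have hy : y.1 * v₀ = v₀ * y.1 := mem_A.mp y.2 v₀ hv₀X
    have : (c v * y.1) * v₀ * (c v * y.1)⁻¹ = c v * (y.1 * v₀ * y.1⁻¹) * (c v)⁻¹ := by group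
    rw [this, hy]
    have : c v * (v₀ * y.1 * y.1⁻¹) * (c v)⁻¹ = c v * v₀ * (c v)⁻¹ := by group
    rw [this, hc v]
  let f : {v : G // v ∈ X ∧ orderOf v = 2} × A X → stabilizer G X :=
    fun p => ⟨c p.1 * p.2.1, hmemS p.1 p.2⟩
  have hf : Function.Bijective f := by
    constructor
    · rintro ⟨v, y⟩ ⟨v', y'⟩ hvv
      have hval : c v * y.1 = c v' * y'.1 := congrArg Subtype.val hvv
      have h1 := hconj v y
      have h2 := hconj v' y'
      rw [hval, h2] at h1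
      have hveq : v = v' := (Subtype.ext h1).symm
      subst hveq
      have : y.1 = y'.1 := mul_left_cancel hval
      rw [Subtype.ext this]
    · rintro ⟨s, hs⟩
      rw [mem_stabilizer_iff] at hs
      have hvX : s * v₀ * s⁻¹ ∈ X := conj_mem_of_smul_eq hs hv₀X
      have hvo : orderOf (s * v₀ * s⁻¹) = 2 := by rw [orderOf_conj_eq]; exact hv₀
      let v : {v : G // v ∈ X ∧ orderOf v = 2} := ⟨s * v₀ * s⁻¹, hvX, hvo⟩
      have hy : (c v)⁻¹ * s ∈ A X := by
        apply mem_A_of_commute hB hv₀ hv₀X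
        have h3 : c v * v₀ * (c v)⁻¹ = s * v₀ * s⁻¹ := hc v
        have h4 : v₀ = (c v)⁻¹ * (s * v₀ * s⁻¹) * c v := by rw [← h3]; group
        calc v₀ * ((c v)⁻¹ * s) = ((c v)⁻¹ * (s * v₀ * s⁻¹) * c v) * ((c v)⁻¹ * s) := by rw [← h4]
          _ = (c v)⁻¹ * s * v₀ := by group
      refine ⟨(v, ⟨(c v)⁻¹ * s, hy⟩), ?_⟩
      apply Subtype.ext
      show c v * ((c v)⁻¹ * s) = s
      group
  rw [← Nat.card_eq_of_bijective f hf, Nat.card_prod]

/-- `D ∩ A X = 1` when an involution swaps `X` and `Y`. -/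
theorem D_inter_trivial {u : G} (hu : orderOf u = 2) {X Y : Sylow 2 G} (hne : X ≠ Y)
    (hXY : u • X = Y) {d : G} (hd : d ∈ D X Y) (hdX : d ∈ A X) : d = 1 := by
  by_contra hd1
  have hYX := swap_of_inv hu hXY
  have hui := inv_inv' hu
  have huu := inv_sq hu
  rw [mem_D] at hd
  have hdodd : Odd (orderOf d) := odd_of_mem_A_of_fix hB hne hdX hd.2
  -- d' = u d u⁻¹
  have hd'Y : u * d * u⁻¹ ∈ A Y := by
    have := conj_mem_A_smul u hdX
    rwa [hXY] at this
  have hd'X_stab : (u * d * u⁻¹) • X = X := by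
    rw [mul_smul, mul_smul, hui, hXY, hd.2, hYX]
  have hd'1 : u * d * u⁻¹ ≠ 1 := by
    intro h1
    apply hd1
    have : d = u⁻¹ * (u * d * u⁻¹) * u := by group
    rw [this, h1]; group
  -- commutator in A X ∩ A Y
  have hcX : (u * d * u⁻¹) * d * (u * d * u⁻¹)⁻¹ * d⁻¹ ∈ A X :=
    (A X).mul_mem (conj_mem_A_of_smul_eq hd'X_stab hdX) ((A X).inv_mem hdX)
  have hcY : (u * d * u⁻¹) * d * (u * d * u⁻¹)⁻¹ * d⁻¹ ∈ A Y := by
    have h1 : d * (u * d * u⁻¹)⁻¹ * d⁻¹ ∈ A Y :=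
      conj_mem_A_of_smul_eq hd.2 ((A Y).inv_mem hd'Y)
    have h2 := (A Y).mul_mem hd'Y h1
    have : (u * d * u⁻¹) * d * (u * d * u⁻¹)⁻¹ * d⁻¹ =
        (u * d * u⁻¹) * (d * (u * d * u⁻¹)⁻¹ * d⁻¹) := by
      group
    rw [this]; exact h2
  have hc1 : (u * d * u⁻¹) * d * (u * d * u⁻¹)⁻¹ * d⁻¹ = 1 := A_inf hB hne hcX hcY
  have hcomm : Commute (u * d * u⁻¹) d := by
    show (u * d * u⁻¹) * d = d * (u * d * u⁻¹)
    have : (u * d * u⁻¹) * d = ((u * d * u⁻¹) * d * (u * d * u⁻¹)⁻¹ * d⁻¹) * (d * (u * d * u⁻¹)) := by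
      group
    rw [this, hc1, one_mul]
  have hd'odd : Odd (orderOf (u * d * u⁻¹)) := by rw [orderOf_conj_eq]; exact hdodd
  -- c3 = d * d'
  have hc3u : u * (d * (u * d * u⁻¹)) = (d * (u * d * u⁻¹)) * u := by
    have e1 : u * (d * (u * d * u⁻¹)) = (u * d * u⁻¹) * (u * u) * d * u⁻¹ := by group
    rw [e1, huu, mul_one, hcomm.eq, hui]
  have hoddprod : ∀ x y : G, Commute x y → Odd (orderOf x) → Odd (orderOf y) →
      Odd (orderOf (x * y)) := by
    intro x y hxy hx hy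
    have h1 : (x * y) ^ (orderOf x * orderOf y) = 1 := by
      rw [hxy.mul_pow, pow_mul, pow_orderOf_eq_one, one_pow, mul_comm (orderOf x), pow_mul,
        pow_orderOf_eq_one, one_pow, one_mul]
    exact Odd.of_dvd_nat (hx.mul hy) (orderOf_dvd_of_pow_eq_one h1)
  have hc3odd : Odd (orderOf (d * (u * d * u⁻¹))) := hoddprod _ _ hcomm.symm hdodd hd'odd
  obtain ⟨R, huR⟩ := exists_sylow_of_invol hu
  have hc3R : d * (u * d * u⁻¹) ∈ A R := mem_A_of_commute hB hu huR hc3u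
  by_cases hc3 : d * (u * d * u⁻¹) = 1
  · -- d' = d⁻¹ ∈ A X ∩ A Y
    have : u * d * u⁻¹ = d⁻¹ := (eq_inv_of_mul_eq_one_right hc3)
    have hmem : u * d * u⁻¹ ∈ A X := by rw [this]; exact (A X).inv_mem hdX
    exact hd'1 (A_inf hB hne hmem hd'Y)
  · have hle := hB.hb R _ hc3 hc3odd (mem_A.mp hc3R)
    have hdC : d ∈ Subgroup.centralizer ({d * (u * d * u⁻¹)} : Set G) := by
      rw [Subgroup.mem_centralizer_singleton_iff]
      have e1 : d * (d * (u * d * u⁻¹)) = d * ((u * d * u⁻¹) * d) := by rw [hcomm.eq]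
      first
        | (rw [e1]; simp only [mul_assoc])
        | (rw [mul_assoc (d), e1]; done)
        | (symm; rw [e1]; simp only [mul_assoc])
    have hdR : d ∈ Subgroup.normalizer ((R : Subgroup G) : Set G) := hle hdC
    have hdRs : d⁻¹ • R = R := by
      rw [Sylow.smul_eq_iff_mem_normalizer]
      exact Subgroup.inv_mem _ hdR
    have h1 : d⁻¹ * u * d ∈ R := by
      have := conj_mem_of_smul_eq hdRs huR
      rwa [inv_inv] at this
    have h2 : d⁻¹ * (u * d * u⁻¹) ∈ R := by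
      have : d⁻¹ * (u * d * u⁻¹) = (d⁻¹ * u * d) * u := by rw [hui]; group
      rw [this]
      exact Subgroup.mul_mem _ h1 huR
    have h3 : Odd (orderOf (d⁻¹ * (u * d * u⁻¹))) := by
      apply hoddprod _ _ hcomm.symm.inv_left
      · rw [orderOf_inv]; exact hdodd
      · exact hd'odd
    have h4 : d⁻¹ * (u * d * u⁻¹) = 1 := by
      obtain ⟨k, hk⟩ := R.isPGroup' ⟨_, h2⟩
      have hk' : (d⁻¹ * (u * d * u⁻¹)) ^ 2 ^ k = 1 := by
        have := congrArg Subtype.val hk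
        simpa using this
      have hdvd := orderOf_dvd_of_pow_eq_one hk'
      obtain ⟨j, -, hj⟩ := (Nat.dvd_prime_pow Nat.prime_two).mp hdvd
      rw [hj] at h3
      have : j = 0 := by
        by_contra hj0
        obtain ⟨m, rfl⟩ := Nat.exists_eq_succ_of_ne_zero hj0
        rw [pow_succ] at h3
        exact (Nat.not_odd_iff_even.mpr (even_two.mul_left _)) h3
      rw [this, pow_zero] at hj
      exact orderOf_eq_one_iff.mp hj
    have h5 : u * d * u⁻¹ = d := by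
      have : u * d * u⁻¹ = d * (d⁻¹ * (u * d * u⁻¹)) := by group
      rw [this, h4, mul_one]
    have hmem : u * d * u⁻¹ ∈ A X := by rw [h5]; exact hdX
    exact hd'1 (A_inf hB hne hmem hd'Y)

theorem card_D_le {u : G} (hu : orderOf u = 2) {X Y : Sylow 2 G} (hne : X ≠ Y)
    (hXY : u • X = Y) :
    Nat.card (D X Y) ≤ Nat.card {v : G // v ∈ X ∧ orderOf v = 2} := by
  have hS := card_stabilizer hB X
  let f : D X Y × A X → stabilizer G X := fun p =>
    ⟨p.1.1 * p.2.1, (stabilizer G X).mul_mem p.1.2.1 (by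
      rw [mem_stabilizer_iff]; exact smul_eq_self_of_mem_A p.2.2)⟩
  have hf : Function.Injective f := by
    rintro ⟨d, y⟩ ⟨d', y'⟩ hh
    have hval : d.1 * y.1 = d'.1 * y'.1 := congrArg Subtype.val hh
    have h1 : d'.1⁻¹ * d.1 = y'.1 * y.1⁻¹ := by
      have : d'.1⁻¹ * d.1 = d'.1⁻¹ * (d.1 * y.1) * y.1⁻¹ := by group
      rw [this, hval]; group
    have h2 : d'.1⁻¹ * d.1 ∈ D X Y := (D X Y).mul_mem ((D X Y).inv_mem d'.2) d.2
    have h3 : d'.1⁻¹ * d.1 ∈ A X := by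
      rw [h1]; exact (A X).mul_mem y'.2 ((A X).inv_mem y.2)
    have h4 := D_inter_trivial hB hu hne hXY h2 h3
    have hdd : d.1 = d'.1 := by
      have : d.1 = d'.1 * (d'.1⁻¹ * d.1) := by group
      rw [this, h4, mul_one]
    have hyy : y.1 = y'.1 := by
      rw [hdd] at hval
      exact mul_left_cancel hval
    rw [Prod.mk.injEq]
    exact ⟨Subtype.ext hdd, Subtype.ext hyy⟩
  have hle := Nat.card_le_card_of_injective f hf
  rw [Nat.card_prod, hS] at hle
  have hpos : 0 < Nat.card (A X) := Nat.card_pos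
  exact Nat.le_of_mul_le_mul_right hle hpos

/-- The involutions mapping `X` to `Y` inject into `D X Y`. -/
theorem card_M_le {u : G} (hu : orderOf u = 2) {X Y : Sylow 2 G} (hne : X ≠ Y)
    (hXY : u • X = Y) :
    Nat.card {v : G // orderOf v = 2 ∧ v • X = Y} ≤
      Nat.card {v : G // v ∈ X ∧ orderOf v = 2} := by
  refine le_trans ?_ (card_D_le hB hu hne hXY)
  have hYX := swap_of_inv hu hXY
  let f : {v : G // orderOf v = 2 ∧ v • X = Y} → D X Y := fun v =>
    ⟨u * v.1, by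
      rw [mem_D, mul_smul, mul_smul, v.2.2, hYX, swap_of_inv v.2.1 v.2.2, hXY]
      exact ⟨rfl, rfl⟩⟩
  have hf : Function.Injective f := by
    intro v v' hh
    have hval : u * v.1 = u * v'.1 := congrArg Subtype.val hh
    exact Subtype.ext (mul_left_cancel hval)
  exact Nat.card_le_card_of_injective f hf

end Cfsg.Agent.Lib.Helper7.Beta
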