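import Mathlib
import Cfsg.Agent.Lib.Helper7.Beta2

/-!
# Beta case of Suzuki's theorem: the involution-averaging argument (helper7)
-/

set_option autoImplicit false
set_option linter.style.haveILetI false
set_option linter.unusedSectionVars false

namespace Cfsg.Agent.Lib.Helper7.Beta

open Cfsg.Agent.Lib.Helper21.Suz Cfsg.Agent.Lib.Helper7.CA MulAction

variable {G : Type*} [Group G] [Finite G]

/-- The Sylow 2-subgroup containing an involution. -/
noncomputable def ofInv (v : G) (hv : orderOf v = 2) : Sylow 2 G :=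
  Classical.choose (exists_sylow_of_invol hv)

theorem mem_ofInv (v : G) (hv : orderOf v = 2) : v ∈ ofInv v hv :=
  Classical.choose_spec (exists_sylow_of_invol hv)

variable (hB : Hyp G)
include hB

theorem ofInv_eq_iff (v : G) (hv : orderOf v = 2) (X : Sylow 2 G) : ofInv v hv = X ↔ v ∈ X := by
  constructor
  · intro hh
    rw [← hh]
    exact mem_ofInv v hv
  · intro hvX
    exact eq_of_mem hB (inv_ne_one hv) (mem_ofInv v hv) hvX

/-- The averaging argument: for every `Y ≠ X`, exactly `i` involutions map `X` to `Y`. -/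
theorem averaging (X : Sylow 2 G) (Y : Sylow 2 G) (hY : Y ≠ X) :
    Nat.card {v : G // orderOf v = 2 ∧ v • X = Y} =
      Nat.card {v : G // v ∈ X ∧ orderOf v = 2} := by
  classical
  haveI : Fintype G := Fintype.ofFinite G
  haveI : Fintype (Sylow 2 G) := Fintype.ofFinite _
  set i := Nat.card {v : G // v ∈ X ∧ orderOf v = 2} with hi
  let J : Finset G := Finset.univ.filter (fun v => orderOf v = 2 ∧ v ∉ X)
  let f₁ : G → Sylow 2 G := fun v => v • X
  let f₂ : G → Sylow 2 G := fun v => if hv : orderOf v = 2 then ofInv v hv else X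
  have hJ : ∀ v, v ∈ J ↔ orderOf v = 2 ∧ v ∉ X := by
    intro v; simp [J]
  have h1 : ∀ v ∈ J, f₁ v ∈ Finset.univ.erase X := by
    intro v hv
    rw [hJ] at hv
    rw [Finset.mem_erase]
    refine ⟨fun hh => hv.2 (mem_of_invol_smul_eq hv.1 hh), Finset.mem_univ _⟩
  have h2 : ∀ v ∈ J, f₂ v ∈ Finset.univ.erase X := by
    intro v hv
    rw [hJ] at hv
    rw [Finset.mem_erase]
    refine ⟨fun hh => hv.2 ?_, Finset.mem_univ _⟩
    have : f₂ v = ofInv v hv.1 := dif_pos hv.1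
    rw [this, ofInv_eq_iff hB] at hh
    exact hh
  have e1 := Finset.card_eq_sum_card_fiberwise h1
  have e2 := Finset.card_eq_sum_card_fiberwise h2
  have hfib2 : ∀ Z ∈ Finset.univ.erase X, (J.filter (fun v => f₂ v = Z)).card = i := by
    intro Z hZ
    rw [Finset.mem_erase] at hZ
    have hset : J.filter (fun v => f₂ v = Z) =
        Finset.univ.filter (fun v : G => v ∈ Z ∧ orderOf v = 2) := by
      ext v
      simp only [Finset.mem_filter, Finset.mem_univ, true_and]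
      rw [hJ]
      constructor
      · rintro ⟨⟨hv, -⟩, hfv⟩
        have : f₂ v = ofInv v hv := dif_pos hv
        rw [this, ofInv_eq_iff hB] at hfv
        exact ⟨hfv, hv⟩
      · rintro ⟨hvZ, hv⟩
        refine ⟨⟨hv, fun hvX => hZ.1 (eq_of_mem hB (inv_ne_one hv) hvZ hvX)⟩, ?_⟩
        have : f₂ v = ofInv v hv := dif_pos hv
        rw [this, ofInv_eq_iff hB]
        exact hvZ
    rw [hset, ← Fintype.card_subtype, ← Nat.card_eq_fintype_card, hi]
    exact card_invs_eq Z X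
  have hcardM : ∀ Y' : Sylow 2 G, Y' ≠ X → (J.filter (fun v => f₁ v = Y')).card =
      Nat.card {v : G // orderOf v = 2 ∧ v • X = Y'} := by
    intro Y' hY'
    have hset : J.filter (fun v => f₁ v = Y') =
        Finset.univ.filter (fun v : G => orderOf v = 2 ∧ v • X = Y') := by
      ext v
      simp only [Finset.mem_filter, Finset.mem_univ, true_and]
      rw [hJ]
      constructor
      · rintro ⟨⟨hv, -⟩, hfv⟩
        exact ⟨hv, hfv⟩
      · rintro ⟨hv, hvX⟩
        refine ⟨⟨hv, fun hmem => hY' ?_⟩, hvX⟩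
        rw [← hvX, smul_eq_self_of_mem_A (le_A hB X hmem)]
    rw [hset, ← Fintype.card_subtype, ← Nat.card_eq_fintype_card]
  have hfib1 : ∀ Y' ∈ Finset.univ.erase X, (J.filter (fun v => f₁ v = Y')).card ≤ i := by
    intro Y' hY'
    rw [Finset.mem_erase] at hY'
    rcases Finset.eq_empty_or_nonempty (J.filter (fun v => f₁ v = Y')) with he | ⟨u, hu⟩
    · rw [he, Finset.card_empty]; exact Nat.zero_le _
    · rw [Finset.mem_filter, hJ] at hu
      rw [hcardM Y' hY'.1]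
      exact card_M_le hB hu.1.1 (Ne.symm hY'.1) hu.2
  have hsum : ∑ Y' ∈ Finset.univ.erase X, (J.filter (fun v => f₁ v = Y')).card =
      ∑ _Y' ∈ Finset.univ.erase X, i := by
    rw [← e1, e2]
    exact Finset.sum_congr rfl hfib2
  have hall := (Finset.sum_eq_sum_iff_of_le hfib1).mp hsum
  have hYm := hall Y (by rw [Finset.mem_erase]; exact ⟨hY, Finset.mem_univ _⟩)
  rw [hcardM Y hY] at hYm
  exact hYm

theorem exists_swap {X Y : Sylow 2 G} (hne : X ≠ Y) : ∃ u : G, orderOf u = 2 ∧ u • X = Y := by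
  have h1 := averaging hB X Y (Ne.symm hne)
  have h2 := card_invs_pos hB X
  rw [← h1] at h2
  obtain ⟨v⟩ := (Nat.card_pos_iff.mp h2).1
  exact ⟨v.1, v.2.1, v.2.2⟩

theorem D_inter {X Y : Sylow 2 G} (hne : X ≠ Y) {d : G} (hd : d ∈ D X Y) (hdX : d ∈ A X) :
    d = 1 := by
  obtain ⟨u, hu, hXY⟩ := exists_swap hB hne
  exact D_inter_trivial hB hu hne hXY hd hdX

/-- The map `v ↦ u v` from swapping involutions to `D X Y` is a bijection. -/
theorem swap_bijective {u : G} (hu : orderOf u = 2) {X Y : Sylow 2 G} (hne : X ≠ Y)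
    (hXY : u • X = Y) :
    Nat.card (D X Y) = Nat.card {v : G // v ∈ X ∧ orderOf v = 2} ∧
      ∀ d ∈ D X Y, orderOf (u * d) = 2 ∧ (u * d) • X = Y := by
  have hYX := swap_of_inv hu hXY
  let f : {v : G // orderOf v = 2 ∧ v • X = Y} → D X Y := fun v =>
    ⟨u * v.1, by
      rw [mem_D, mul_smul, mul_smul, v.2.2, hYX, swap_of_inv v.2.1 v.2.2, hXY]
      exact ⟨rfl, rfl⟩⟩
  have hf : Function.Injective f := by
    intro v v' hh
    have hval : u * v.1 = u * v'.1 := congrArg Subtype.val hh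
    exact Subtype.ext (mul_left_cancel hval)
  have hle : Nat.card (D X Y) ≤ Nat.card {v : G // orderOf v = 2 ∧ v • X = Y} := by
    rw [averaging hB X Y (Ne.symm hne)]
    exact card_D_le hB hu hne hXY
  have hbij := hf.bijective_of_nat_card_le hle
  refine ⟨?_, ?_⟩
  · rw [← averaging hB X Y (Ne.symm hne)]
    exact (Nat.card_eq_of_bijective f hbij).symm
  · intro d hd
    obtain ⟨v, hv⟩ := hbij.2 ⟨d, hd⟩
    have hval : u * v.1 = d := congrArg Subtype.val hv
    have : u * d = v.1 := by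
      rw [← hval, ← mul_assoc, inv_sq hu, one_mul]
    rw [this]
    exact v.2

theorem card_D {X Y : Sylow 2 G} (hne : X ≠ Y) :
    Nat.card (D X Y) = Nat.card {v : G // v ∈ X ∧ orderOf v = 2} := by
  obtain ⟨u, hu, hXY⟩ := exists_swap hB hne
  exact (swap_bijective hB hu hne hXY).1

/-- Every involution swapping `X` and `Y` inverts `D X Y`. -/
theorem inverts {u : G} (hu : orderOf u = 2) {X Y : Sylow 2 G} (hne : X ≠ Y)
    (hXY : u • X = Y) {d : G} (hd : d ∈ D X Y) : u * d * u⁻¹ = d⁻¹ := by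
  have h1 := ((swap_bijective hB hu hne hXY).2 d hd).1
  have h2 := inv_sq h1
  have hui := inv_inv' hu
  have : u * d * u = d⁻¹ := by
    have h3 : u * d * (u * d) = 1 := h2
    have : u * d * u = (u * d * (u * d)) * d⁻¹ := by group
    rw [this, h3, one_mul]
  rw [hui]; exact this

theorem D_comm {X Y : Sylow 2 G} (hne : X ≠ Y) {d₁ d₂ : G} (h1 : d₁ ∈ D X Y) (h2 : d₂ ∈ D X Y) :
    Commute d₁ d₂ := by
  obtain ⟨u, hu, hXY⟩ := exists_swap hB hne
  have e1 := inverts hB hu hne hXY h1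
  have e2 := inverts hB hu hne hXY h2
  have e3 := inverts hB hu hne hXY ((D X Y).mul_mem h1 h2)
  have e4 : u * (d₁ * d₂) * u⁻¹ = (u * d₁ * u⁻¹) * (u * d₂ * u⁻¹) := by group
  rw [e4, e1, e2, mul_inv_rev] at e3
  show d₁ * d₂ = d₂ * d₁
  have : (d₁ * d₂)⁻¹ = (d₂ * d₁)⁻¹ := by
    rw [mul_inv_rev, mul_inv_rev]; exact e3.symm
  exact inv_injective this

/-- `N(X) = D(X,Y) · A X`. -/
theorem decomp {X Y : Sylow 2 G} (hne : X ≠ Y) {x : G} (hx : x • X = X) :
    ∃ d ∈ D X Y, ∃ y ∈ A X, x = d * y := by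
  have hS := card_stabilizer hB X
  have hD := card_D hB hne
  let f : D X Y × A X → stabilizer G X := fun p =>
    ⟨p.1.1 * p.2.1, (stabilizer G X).mul_mem p.1.2.1 (by
      rw [mem_stabilizer_iff]; exact smul_eq_self_of_mem_A p.2.2)⟩
  have hf : Function.Injective f := by
    rintro ⟨d, y⟩ ⟨d', y'⟩ hh
    have hval : d.1 * y.1 = d'.1 * y'.1 := congrArg Subtype.val hh
    have h1 : d'.1⁻¹ * d.1 = y'.1 * y.1⁻¹ := by
      have : d'.1⁻¹ * d.1 = d'.1⁻¹ * (d.1 * y.1) * y.1⁻¹ := by group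
      rw [this, hval]; group
    have h2 : d'.1⁻¹ * d.1 ∈ D X Y := (D X Y).mul_mem ((D X Y).inv_mem d'.2) d.2
    have h3 : d'.1⁻¹ * d.1 ∈ A X := by
      rw [h1]; exact (A X).mul_mem y'.2 ((A X).inv_mem y.2)
    have h4 := D_inter hB hne h2 h3
    have hdd : d.1 = d'.1 := by
      have : d.1 = d'.1 * (d'.1⁻¹ * d.1) := by group
      rw [this, h4, mul_one]
    have hyy : y.1 = y'.1 := by
      rw [hdd] at hval
      exact mul_left_cancel hval
    rw [Prod.mk.injEq]
    exact ⟨Subtype.ext hdd, Subtype.ext hyy⟩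
  have hle : Nat.card (stabilizer G X) ≤ Nat.card (D X Y × A X) := by
    rw [Nat.card_prod, hS, hD]
  have hbij := hf.bijective_of_nat_card_le hle
  obtain ⟨⟨d, y⟩, hdy⟩ := hbij.2 ⟨x, mem_stabilizer_iff.mpr hx⟩
  exact ⟨d.1, d.2, y.1, y.2, (congrArg Subtype.val hdy).symm⟩

/-- No non-identity element fixes three distinct points. -/
theorem eq_one_of_fix_three {W W' W'' : Sylow 2 G} (h1 : W ≠ W') (h2 : W' ≠ W'') (h3 : W ≠ W'')
    {g : G} (hg : g • W = W) (hg' : g • W' = W') (hg'' : g • W'' = W'') : g = 1 := by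
  by_contra hg1
  obtain ⟨v', hv', hWW'⟩ := exists_swap hB h1
  obtain ⟨v''', hv''', hW'W''⟩ := exists_swap hB h2
  obtain ⟨v'', hv'', hWW''⟩ := exists_swap hB h3
  have hgD : g ∈ D W W' := mem_D.mpr ⟨hg, hg'⟩
  have i1 := inverts hB hv' h1 hWW' hgD
  have i2 := inverts hB hv''' h2 hW'W'' (mem_D.mpr ⟨hg', hg''⟩)
  have i3 := inverts hB hv'' h3 hWW'' (mem_D.mpr ⟨hg, hg''⟩)
  -- x = v'' v''' v'
  have hxW : (v'' * (v''' * v')) • W = W := by
    rw [mul_smul, mul_smul, hWW', hW'W'', swap_of_inv hv'' hWW'']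
  have hxg : (v'' * (v''' * v')) * g * (v'' * (v''' * v'))⁻¹ = g⁻¹ := by
    have e : (v'' * (v''' * v')) * g * (v'' * (v''' * v'))⁻¹ =
        v'' * (v''' * (v' * g * v'⁻¹) * v'''⁻¹) * v''⁻¹ := by group
    rw [e, i1]
    have e2 : v''' * g⁻¹ * v'''⁻¹ = (v''' * g * v'''⁻¹)⁻¹ := by group
    rw [e2, i2, inv_inv, i3]
  obtain ⟨d, hd, y, hy, hxdy⟩ := decomp hB h1 hxW
  rw [hxdy] at hxg
  have hdg : Commute d g := D_comm hB h1 hd hgD
  -- y g y⁻¹ = g⁻¹
  have hyg : y * g * y⁻¹ = g⁻¹ := by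
    have e : y * g * y⁻¹ = d⁻¹ * (d * y * g * (d * y)⁻¹) * d := by group
    rw [e, hxg]
    have : d⁻¹ * g⁻¹ * d = (d⁻¹ * g * d)⁻¹ := by group
    rw [this]
    have : d⁻¹ * g * d = g := by
      rw [mul_assoc, ← hdg.eq]; group
    rw [this]
  -- g⁻¹ g⁻¹ ∈ A W ∩ D
  have hmemW : g⁻¹ * g⁻¹ ∈ A W := by
    have e : g⁻¹ * g⁻¹ = y * (g * y⁻¹ * g⁻¹) := by
      rw [← hyg]; group
    rw [e]
    exact (A W).mul_mem hy (conj_mem_A_of_smul_eq hg ((A W).inv_mem hy))
  have hmemD : g⁻¹ * g⁻¹ ∈ D W W' := (D W W').mul_mem ((D W W').inv_mem hgD) ((D W W').inv_mem hgD)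
  have hsq := D_inter hB h1 hmemD hmemW
  have hgg : g * g = 1 := by
    have : (g * g)⁻¹ = 1 := by rw [mul_inv_rev]; exact hsq
    exact inv_eq_one.mp this
  have hgo : orderOf g = 2 := orderOf_eq_two_of hg1 hgg
  have hgW : g ∈ A W := le_A hB W (mem_of_invol_smul_eq hgo hg)
  exact hg1 (D_inter hB h1 hgD hgW)

end Cfsg.Agent.Lib.Helper7.Beta
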