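import Mathlib
import Cfsg.Agent.Lib.Helper7.Beta3
import Cfsg.Agent.Lib.Helper25.S2202R

/-!
# Beta case of Suzuki's theorem: number of involutions and regularity of `A X` (helper7)
-/

set_option autoImplicit false
set_option linter.style.haveILetI false
set_option linter.unusedSectionVars false

namespace Cfsg.Agent.Lib.Helper7.Beta

open Cfsg.Agent.Lib.Helper21.Suz Cfsg.Agent.Lib.Helper7.CA MulAction

variable {G : Type*} [Group G] [Finite G]

variable (hB : Hyp G)
include hB

/-- The number of involutions in a Sylow 2-subgroup is odd. -/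
theorem odd_card_invs (X : Sylow 2 G) :
    Odd (Nat.card {v : G // v ∈ X ∧ orderOf v = 2}) := by
  classical
  obtain ⟨v, hvX, hv⟩ := exists_invol hB X
  let Ω : Subgroup G :=
    { carrier := {y | y ∈ X ∧ y * y = 1}
      mul_mem' := by
        rintro a b ⟨ha, ha2⟩ ⟨hb, hb2⟩
        refine ⟨Subgroup.mul_mem _ ha hb, ?_⟩
        have hc : a * b = b * a := sylow_comm hB.ica X a ha b hb
        calc a * b * (a * b) = a * (b * a) * b := by group
          _ = a * (a * b) * b := by rw [hc]
          _ = (a * a) * (b * b) := by group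
          _ = 1 := by rw [ha2, hb2, one_mul]
      one_mem' := ⟨Subgroup.one_mem _, one_mul 1⟩
      inv_mem' := by
        rintro a ⟨ha, ha2⟩
        refine ⟨Subgroup.inv_mem _ ha, ?_⟩
        rw [← mul_inv_rev, ha2, inv_one] }
  have hmemΩ : ∀ y, y ∈ Ω ↔ y ∈ X ∧ y * y = 1 := fun y => Iff.rfl
  have hp : IsPGroup 2 Ω := by
    intro g
    refine ⟨1, ?_⟩
    apply Subtype.ext
    rw [pow_one, pow_two]
    exact g.2.2
  obtain ⟨n, hn⟩ := hp.exists_card_eq
  have hvΩ : v ∈ Ω := ⟨hvX, inv_sq hv⟩
  have hn0 : n ≠ 0 := by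
    rintro rfl
    rw [pow_zero] at hn
    have hbot : Ω = ⊥ := Subgroup.card_eq_one.mp hn
    rw [hbot, Subgroup.mem_bot] at hvΩ
    exact inv_ne_one hv hvΩ
  have hset : (Ω : Set G) = insert 1 {y : G | y ∈ X ∧ orderOf y = 2} := by
    ext y
    simp only [SetLike.mem_coe, Set.mem_insert_iff, Set.mem_ofPred_eq]
    rw [hmemΩ]
    constructor
    · rintro ⟨hy, hy2⟩
      by_cases hy1 : y = 1
      · left; exact hy1
      · right; exact ⟨hy, orderOf_eq_two_of hy1 hy2⟩
    · rintro (rfl | ⟨hy, hy2⟩)
      · exact ⟨Subgroup.one_mem _, one_mul 1⟩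
      · exact ⟨hy, inv_sq hy2⟩
  have h1 : Nat.card Ω = (Ω : Set G).ncard := Nat.card_coe_set_eq (Ω : Set G)
  have h2 : Nat.card {v : G // v ∈ X ∧ orderOf v = 2} =
      {y : G | y ∈ X ∧ orderOf y = 2}.ncard :=
    Nat.card_coe_set_eq {y : G | y ∈ X ∧ orderOf y = 2}
  have h3 : (insert 1 {y : G | y ∈ X ∧ orderOf y = 2}).ncard =
      {y : G | y ∈ X ∧ orderOf y = 2}.ncard + 1 := by
    apply Set.ncard_insert_of_notMem
    · simp only [Set.mem_ofPred_eq, orderOf_one]
      omega
    · exact Set.toFinite _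
  rw [h2]
  rw [hset, h3] at h1
  rw [hn] at h1
  obtain ⟨m, rfl⟩ := Nat.exists_eq_succ_of_ne_zero hn0
  rw [pow_succ] at h1
  exact ⟨2 ^ m - 1, by have : 0 < 2 ^ m := Nat.two_pow_pos m; omega⟩

/-- A Sylow 2-subgroup has at least three involutions. -/
theorem three_le_card_invs (X : Sylow 2 G) :
    3 ≤ Nat.card {v : G // v ∈ X ∧ orderOf v = 2} := by
  classical
  letI : CommGroup (X : Subgroup G) :=
    { (inferInstance : Group (X : Subgroup G)) with
      mul_comm := fun a b => Subtype.ext (sylow_comm hB.ica X a.1 a.2 b.1 b.2) }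
  have h4 := Cfsg.Agent.Lib.Helper25.S2202R.four_le_card_sq_eq_one
    (S := (X : Subgroup G)) X.isPGroup' (hB.nc X)
  -- inject `{s // s^2 = 1}` into `Option invs`
  have hle : Nat.card {s : (X : Subgroup G) // s ^ 2 = 1} ≤
      Nat.card (Option {v : G // v ∈ X ∧ orderOf v = 2}) := by
    apply Nat.card_le_card_of_injective
      (fun s => if hs : (s.1 : G) = 1 then none else
        some ⟨s.1.1, s.1.2, orderOf_eq_two_of hs (by
          have := congrArg Subtype.val s.2
          rw [pow_two] at this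
          exact this)⟩)
    intro s s' hss
    by_cases hs : (s.1 : G) = 1
    · by_cases hs' : (s'.1 : G) = 1
      · exact Subtype.ext (Subtype.ext (hs.trans hs'.symm))
      · simp only [dif_pos hs, dif_neg hs'] at hss
        exact absurd hss (by simp)
    · by_cases hs' : (s'.1 : G) = 1
      · simp only [dif_neg hs, dif_pos hs'] at hss
        exact absurd hss (by simp)
      · simp only [dif_neg hs, dif_neg hs', Option.some.injEq, Subtype.mk.injEq] at hss
        exact Subtype.ext (Subtype.ext hss)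
  have hopt : Nat.card (Option {v : G // v ∈ X ∧ orderOf v = 2}) =
      Nat.card {v : G // v ∈ X ∧ orderOf v = 2} + 1 := by
    haveI : Fintype {v : G // v ∈ X ∧ orderOf v = 2} := Fintype.ofFinite _
    rw [Nat.card_eq_fintype_card, Fintype.card_option, Nat.card_eq_fintype_card]
  rw [hopt] at hle
  omega

/-- `A X` acts semiregularly off `X`. -/
theorem eq_one_of_mem_of_fix {X Y : Sylow 2 G} (hne : X ≠ Y) {y : G} (hy : y ∈ A X)
    (hyY : y • Y = Y) : y = 1 :=
  D_inter hB hne (mem_D.mpr ⟨smul_eq_self_of_mem_A hy, hyY⟩) hy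

/-- `|Syl| = |A X| + 1`, and `A X` is transitive on the other points. -/
theorem card_pt_and_regular (X : Sylow 2 G) :
    Nat.card (Sylow 2 G) = Nat.card (A X) + 1 ∧
      ∀ Y Y' : Sylow 2 G, Y ≠ X → Y' ≠ X → ∃ y ∈ A X, y • Y = Y' := by
  classical
  haveI : Fintype G := Fintype.ofFinite G
  haveI : Fintype (Sylow 2 G) := Fintype.ofFinite _
  set i := Nat.card {v : G // v ∈ X ∧ orderOf v = 2} with hi
  set a := Nat.card (A X) with ha
  have hi1 : 1 < i := lt_of_lt_of_le (by norm_num) (three_le_card_invs hB X)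
  have hN : Nat.card (Sylow 2 G) = (Finset.univ : Finset (Sylow 2 G)).card := by
    rw [Finset.card_univ, Nat.card_eq_fintype_card]
  have hNe : (Finset.univ.erase X).card = Nat.card (Sylow 2 G) - 1 := by
    rw [Finset.card_erase_of_mem (Finset.mem_univ X), hN]
  let A' : Finset G := Finset.univ.filter (fun y => y ∈ A X)
  have hA : A'.card = a := by
    rw [ha, Nat.card_eq_fintype_card, Fintype.card_subtype]
  obtain ⟨Y₀, hY₀⟩ := exists_ne hB X
  -- (R1) injection A → erase X
  have hinj : Set.InjOn (fun y : G => y • Y₀) (A' : Set G) := by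
    intro y hy y' hy' hyy
    simp only [A', Finset.coe_filter, Finset.mem_univ, true_and, Set.mem_ofPred_eq] at hy hy'
    have hyy' : y • Y₀ = y' • Y₀ := hyy
    have hfix : (y'⁻¹ * y) • Y₀ = Y₀ := by
      rw [mul_smul, hyy', ← mul_smul, inv_mul_cancel, one_smul]
    have h1 := eq_one_of_mem_of_fix hB (Ne.symm hY₀) ((A X).mul_mem ((A X).inv_mem hy') hy) hfix
    have : y = y' * (y'⁻¹ * y) := by group
    rw [this, h1, mul_one]
  have hmaps : ∀ y ∈ A', (fun y : G => y • Y₀) y ∈ Finset.univ.erase X := by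
    intro y hy
    simp only [A', Finset.mem_filter, Finset.mem_univ, true_and] at hy
    rw [Finset.mem_erase]
    refine ⟨fun hh => hY₀ ?_, Finset.mem_univ _⟩
    have h1 : y • X = X := smul_eq_self_of_mem_A hy
    have h2 : y • Y₀ = y • X := hh.trans h1.symm
    exact MulAction.injective y h2
  have hR1 : a ≤ Nat.card (Sylow 2 G) - 1 := by
    rw [← hA, ← hNe]
    exact Finset.card_le_card_of_injOn _ hmaps hinj
  -- (R2) counting in the stabilizer
  let S : Finset G := Finset.univ.filter (fun g => g • X = X)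
  have hS : S.card = i * a := by
    have hst : Nat.card (stabilizer G X) = S.card := by
      rw [Nat.card_eq_fintype_card, Fintype.card_subtype]
      congr 1
    rw [← hst]
    exact card_stabilizer hB X
  have hAS : A' ⊆ S := by
    intro y hy
    simp only [A', S, Finset.mem_filter, Finset.mem_univ, true_and] at hy ⊢
    exact smul_eq_self_of_mem_A hy
  let B : Sylow 2 G → Finset G := fun Y => (Finset.univ.filter (fun d => d ∈ D X Y)).erase 1
  have hBcard : ∀ Y ∈ Finset.univ.erase X, (B Y).card = i - 1 := by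
    intro Y hY
    rw [Finset.mem_erase] at hY
    have h1 : (1 : G) ∈ Finset.univ.filter (fun d => d ∈ D X Y) := by
      simp only [Finset.mem_filter, Finset.mem_univ, true_and]
      exact (D X Y).one_mem
    rw [Finset.card_erase_of_mem h1]
    have := card_D hB (Ne.symm hY.1)
    rw [Nat.card_eq_fintype_card, Fintype.card_subtype] at this
    rw [this]
  have hBsub : (Finset.univ.erase X).biUnion B ⊆ S \ A' := by
    intro d hd
    rw [Finset.mem_biUnion] at hd
    obtain ⟨Y, hY, hdB⟩ := hd
    rw [Finset.mem_erase] at hY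
    simp only [B, Finset.mem_erase, Finset.mem_filter, Finset.mem_univ, true_and] at hdB
    rw [Finset.mem_sdiff]
    constructor
    · simp only [S, Finset.mem_filter, Finset.mem_univ, true_and]
      exact (mem_D.mp hdB.2).1
    · intro hdA
      simp only [A', Finset.mem_filter, Finset.mem_univ, true_and] at hdA
      exact hdB.1 (D_inter hB (Ne.symm hY.1) hdB.2 hdA)
  have hBdisj : ∀ Y ∈ Finset.univ.erase X, ∀ Y' ∈ Finset.univ.erase X, Y ≠ Y' →
      Disjoint (B Y) (B Y') := by
    intro Y hY Y' hY' hne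
    rw [Finset.mem_erase] at hY hY'
    rw [Finset.disjoint_left]
    intro d hd hd'
    simp only [B, Finset.mem_erase, Finset.mem_filter, Finset.mem_univ, true_and] at hd hd'
    have e1 := mem_D.mp hd.2
    have e2 := mem_D.mp hd'.2
    exact hd.1 (eq_one_of_fix_three hB (Ne.symm hY.1) hne (Ne.symm hY'.1) e1.1 e1.2 e2.2)
  have hcount : (Nat.card (Sylow 2 G) - 1) * (i - 1) ≤ a * (i - 1) := by
    have h1 := Finset.card_le_card hBsub
    rw [Finset.card_biUnion hBdisj, Finset.sum_congr rfl hBcard, Finset.sum_const,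
      smul_eq_mul, hNe, Finset.card_sdiff_of_subset hAS, hS, hA] at h1
    have : i * a - a = a * (i - 1) := by
      rw [Nat.mul_sub, mul_one, mul_comm]
    rw [this] at h1
    exact h1
  have hR2 : Nat.card (Sylow 2 G) - 1 ≤ a := Nat.le_of_mul_le_mul_right hcount (by omega)
  have hpos : 0 < Nat.card (Sylow 2 G) := Nat.card_pos_iff.mpr ⟨⟨X⟩, inferInstance⟩
  have hcard : Nat.card (Sylow 2 G) = a + 1 := by omega
  refine ⟨hcard, ?_⟩
  -- regularity
  intro Y Y' hY hY'
  have hinjY : Set.InjOn (fun y : G => y • Y) (A' : Set G) := by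
    intro y hy y' hy' hyy
    simp only [A', Finset.coe_filter, Finset.mem_univ, true_and, Set.mem_ofPred_eq] at hy hy'
    have hyy' : y • Y = y' • Y := hyy
    have hfix : (y'⁻¹ * y) • Y = Y := by
      rw [mul_smul, hyy', ← mul_smul, inv_mul_cancel, one_smul]
    have h1 := eq_one_of_mem_of_fix hB (Ne.symm hY) ((A X).mul_mem ((A X).inv_mem hy') hy) hfix
    have : y = y' * (y'⁻¹ * y) := by group
    rw [this, h1, mul_one]
  have himg : A'.image (fun y : G => y • Y) = Finset.univ.erase X := by
    apply Finset.eq_of_subset_of_card_le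
    · intro Z hZ
      rw [Finset.mem_image] at hZ
      obtain ⟨y, hy, rfl⟩ := hZ
      simp only [A', Finset.mem_filter, Finset.mem_univ, true_and] at hy
      rw [Finset.mem_erase]
      refine ⟨fun hh => hY ?_, Finset.mem_univ _⟩
      have h1 : y • X = X := smul_eq_self_of_mem_A hy
      have h2 : y • Y = y • X := hh.trans h1.symm
      exact MulAction.injective y h2
    · rw [Finset.card_image_of_injOn hinjY, hNe, hA]
      omega
  have hY'mem : Y' ∈ A'.image (fun y : G => y • Y) := by
    rw [himg, Finset.mem_erase]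
    exact ⟨hY', Finset.mem_univ _⟩
  rw [Finset.mem_image] at hY'mem
  obtain ⟨y, hy, hyY⟩ := hY'mem
  simp only [A', Finset.mem_filter, Finset.mem_univ, true_and] at hy
  exact ⟨y, hy, hyY⟩

end Cfsg.Agent.Lib.Helper7.Beta
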