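import Mathlib
import Cfsg.Agent.Lib.Helper7.Beta4
import Cfsg.Agent.Lib.Helper11.ZassFeitC

/-!
# Beta case of Suzuki's theorem: the Zassenhaus structure and Feit's bound (helper7)

`beta_case`: in a finite group whose involution centralizers are abelian, with non-cyclic,
non-normal Sylow 2-subgroups, and such that `C(c) ≤ N(P)` for every non-identity odd-order `c`
centralizing a Sylow 2-subgroup `P`, all involution centralizers are elementary abelian 2-groups.
-/

set_option autoImplicit false
set_option linter.style.haveILetI false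
set_option linter.unusedSectionVars false

namespace Cfsg.Agent.Lib.Helper7.Beta

open Cfsg.Agent.Lib.Helper21.Suz Cfsg.Agent.Lib.Helper7.CA MulAction

variable {G : Type*} [Group G] [Finite G]

variable (hB : Hyp G)
include hB

theorem isZassenhaus (X : Sylow 2 G) : Cfsg.IsZassenhausGroup G (Sylow 2 G) := by
  classical
  obtain ⟨Y, hY⟩ := exists_ne hB X
  obtain ⟨v, hvX, hv⟩ := exists_invol hB X
  have hv1 := inv_ne_one hv
  have hvA : v ∈ A X := le_A hB X hvX
  -- a third point
  have hZY : v • Y ≠ Y := fun hh => hv1 (eq_one_of_mem_of_fix hB (Ne.symm hY) hvA hh)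
  have hZX : v • Y ≠ X := by
    intro hh
    have h1 : v • X = X := smul_eq_self_of_mem_A hvA
    exact hY (MulAction.injective v (hh.trans h1.symm))
  have hfix3 : ∀ g : G, ∀ a b c : Sylow 2 G, a ≠ b → b ≠ c → a ≠ c → g • a = a → g • b = b →
      g • c = c → g = 1 := fun g a b c hab hbc hac ha hb hc =>
    eq_one_of_fix_three hB hab hbc hac ha hb hc
  refine ⟨⟨?_⟩, ?_, hfix3, ?_, ?_⟩
  · -- faithful
    intro g g' hgg
    have hk : ∀ W : Sylow 2 G, (g'⁻¹ * g) • W = W := by
      intro W
      rw [mul_smul, hgg W, ← mul_smul, inv_mul_cancel, one_smul]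
    have := hfix3 (g'⁻¹ * g) X Y (v • Y) (Ne.symm hY) (Ne.symm hZY) (Ne.symm hZX) (hk _) (hk _) (hk _)
    calc g = g' * (g'⁻¹ * g) := by group
      _ = g' := by rw [this, mul_one]
  · -- 2-transitive
    rw [MulAction.is_two_pretransitive_iff]
    intro a b c d hab hcd
    obtain ⟨g₁, hg₁⟩ := MulAction.exists_smul_eq G a c
    have hbc : g₁ • b ≠ c := by
      intro hh
      exact hab (MulAction.injective g₁ (hg₁.trans hh.symm))
    obtain ⟨y, hy, hyd⟩ := (card_pt_and_regular hB c).2 (g₁ • b) d hbc (Ne.symm hcd)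
    refine ⟨y * g₁, ?_, ?_⟩
    · rw [mul_smul, hg₁, smul_eq_self_of_mem_A hy]
    · rw [mul_smul, hyd]
  · -- some non-identity element fixes two points
    have hD := card_D hB (Ne.symm hY)
    have hi : 1 < Nat.card {v : G // v ∈ X ∧ orderOf v = 2} :=
      lt_of_lt_of_le (by norm_num) (three_le_card_invs hB X)
    rw [← hD] at hi
    have hne : D X Y ≠ ⊥ := (Subgroup.one_lt_card_iff_ne_bot _).mp hi
    obtain ⟨d, hd, hd1⟩ : ∃ d ∈ D X Y, d ≠ 1 := by
      by_contra hno
      push Not at hno
      apply hne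
      rw [eq_bot_iff]
      intro d hd
      rw [Subgroup.mem_bot]
      exact hno d hd
    exact ⟨d, hd1, X, Y, Ne.symm hY, (mem_D.mp hd).1, (mem_D.mp hd).2⟩
  · -- no regular normal subgroup
    intro N hN hpre
    by_contra hall
    push Not at hall
    -- every element of `N` fixing a point is trivial
    have hreg : ∀ z ∈ N, ∀ W : Sylow 2 G, z • W = W → z = 1 := by
      intro z hz W hzW
      have hmem : (⟨z, hz⟩ : N) ∈ stabilizer N W := by
        rw [mem_stabilizer_iff]
        exact hzW
      rw [hall W, Subgroup.mem_bot] at hmem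
      exact congrArg Subtype.val hmem
    -- every involution of `X` inverts `N`
    have hinv : ∀ s ∈ X, orderOf s = 2 → ∀ z ∈ N, s * z * s⁻¹ = z⁻¹ := by
      intro s hsX hs z hz
      have hsi := inv_inv' hs
      have hss := inv_sq hs
      let f : N → N := fun x => ⟨x.1⁻¹ * (s * x.1 * s⁻¹),
        N.mul_mem (N.inv_mem x.2) (hN.conj_mem x.1 x.2 s)⟩
      have hf : Function.Injective f := by
        intro x y hxy
        have hval : x.1⁻¹ * (s * x.1 * s⁻¹) = y.1⁻¹ * (s * y.1 * s⁻¹) := congrArg Subtype.val hxy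
        -- y x⁻¹ commutes with s
        have hcomm : s * (y.1 * x.1⁻¹) = (y.1 * x.1⁻¹) * s := by
          have e1 : y.1 * x.1⁻¹ = (s * y.1 * s⁻¹) * (s * x.1 * s⁻¹)⁻¹ := by
            have : (s * y.1 * s⁻¹) = y.1 * (x.1⁻¹ * (s * x.1 * s⁻¹)) := by
              rw [hval]; group
            rw [this]; group
          have e2 : (s * y.1 * s⁻¹) * (s * x.1 * s⁻¹)⁻¹ = s * (y.1 * x.1⁻¹) * s⁻¹ := by group
          have e3 : y.1 * x.1⁻¹ = s * (y.1 * x.1⁻¹) * s⁻¹ := e1.trans e2
          calc s * (y.1 * x.1⁻¹) = s * (y.1 * x.1⁻¹) * s⁻¹ * s := by group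
            _ = (y.1 * x.1⁻¹) * s := by rw [← e3]
        have hA : y.1 * x.1⁻¹ ∈ A X := mem_A_of_commute hB hs hsX hcomm
        have h1 := hreg _ (N.mul_mem y.2 (N.inv_mem x.2)) X (smul_eq_self_of_mem_A hA)
        apply Subtype.ext
        have : y.1 = (y.1 * x.1⁻¹) * x.1 := by group
        rw [this, h1, one_mul]
      have hsurj : Function.Surjective f := Finite.surjective_of_injective hf
      obtain ⟨x, hx⟩ := hsurj ⟨z, hz⟩
      have hxz : x.1⁻¹ * (s * x.1 * s⁻¹) = z := congrArg Subtype.val hx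
      rw [← hxz, hsi]
      have e1 : s * (x.1⁻¹ * (s * x.1 * s)) * s = s * x.1⁻¹ * s * x.1 * (s * s) := by group
      have e2 : (x.1⁻¹ * (s * x.1 * s))⁻¹ = s⁻¹ * x.1⁻¹ * s⁻¹ * x.1 := by group
      rw [e1, e2, hss, mul_one, hsi]
    -- two distinct involutions of `X`
    have h3 := three_le_card_invs hB X
    have hex : ∃ s ∈ X, orderOf s = 2 ∧ s ≠ v := by
      by_contra hno
      push Not at hno
      have : Nat.card {v : G // v ∈ X ∧ orderOf v = 2} ≤ 1 := by
        apply Finite.card_le_one_iff_subsingleton.mpr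
        constructor
        intro a b
        apply Subtype.ext
        rw [hno a.1 a.2.1 a.2.2, hno b.1 b.2.1 b.2.2]
      omega
    obtain ⟨s, hsX, hs, hsv⟩ := hex
    -- t = s v is an involution of X centralizing N
    have hcomm : s * v = v * s := sylow_comm hB.ica X s hsX v hvX
    have ht1 : s * v ≠ 1 := by
      intro h1
      apply hsv
      have : s = v⁻¹ := eq_inv_of_mul_eq_one_left h1
      rw [this, inv_inv' hv]
    have htt : (s * v) * (s * v) = 1 := by
      calc (s * v) * (s * v) = s * (v * s) * v := by group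
        _ = s * (s * v) * v := by rw [hcomm]
        _ = (s * s) * (v * v) := by group
        _ = 1 := by rw [inv_sq hs, inv_sq hv, one_mul]
    have ht : orderOf (s * v) = 2 := orderOf_eq_two_of ht1 htt
    have htX : s * v ∈ X := Subgroup.mul_mem _ hsX hvX
    have hNbot : ∀ z ∈ N, z = 1 := by
      intro z hz
      have e1 := hinv v hvX hv z hz
      have e2 := hinv s hsX hs z⁻¹ (N.inv_mem hz)
      rw [inv_inv] at e2
      have hcz : (s * v) * z = z * (s * v) := by
        have : (s * v) * z * (s * v)⁻¹ = z := by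
          calc (s * v) * z * (s * v)⁻¹ = s * (v * z * v⁻¹) * s⁻¹ := by group
            _ = s * z⁻¹ * s⁻¹ := by rw [e1]
            _ = z := e2
        calc (s * v) * z = (s * v) * z * (s * v)⁻¹ * (s * v) := by group
          _ = z * (s * v) := by rw [this]
      have hA : z ∈ A X := mem_A_of_commute hB ht htX hcz
      exact hreg z hz X (smul_eq_self_of_mem_A hA)
    obtain ⟨g, hg⟩ := hpre.exists_smul_eq X Y
    have hg1 : (g : G) = 1 := hNbot g.1 g.2
    have : (g : G) • X = Y := hg
    rw [hg1, one_smul] at this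
    exact hY this.symm

/-- Feit's theorem applied: `|A X| = #involutions(X) + 1`. -/
theorem card_invs_add_one (X : Sylow 2 G) :
    Nat.card {v : G // v ∈ X ∧ orderOf v = 2} + 1 = Nat.card (A X) := by
  classical
  haveI : Fintype (Sylow 2 G) := Fintype.ofFinite _
  obtain ⟨Y, hY⟩ := exists_ne hB X
  have hZ := isZassenhaus hB X
  have hXY : X ≠ Y := Ne.symm hY
  have hcard := (card_pt_and_regular hB X).1
  have hF : Fintype.card (Sylow 2 G) = Nat.card (A X) + 1 := by
    rw [← Nat.card_eq_fintype_card]; exact hcard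
  have hD := card_D hB hXY
  have hodd := odd_card_invs hB X
  have hXS : A X ≤ stabilizer G X := fun y hy =>
    mem_stabilizer_iff.mpr (smul_eq_self_of_mem_A hy)
  have hfix : ∀ u ∈ A X, u ≠ 1 → ∀ c : Sylow 2 G, u • c = c → c = X := by
    intro u hu hu1 c hc
    by_contra hcX
    exact hu1 (eq_one_of_mem_of_fix hB (Ne.symm hcX) hu hc)
  have hmain := Cfsg.Agent.Lib.Helper11.zf_main (Sylow 2 G) (Nat.card G) G hZ X Y hXY
    (Nat.card (A X)) (Nat.card {v : G // v ∈ X ∧ orderOf v = 2}) hF hD hodd (A X) hXS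
    (by rw [hF]) hfix rfl
  have hdvd := Cfsg.Agent.Lib.Helper11.zc_e_dvd hZ hXY
  rw [hD, hF] at hdvd
  obtain ⟨v, hvX, hv⟩ := exists_invol hB X
  have hvA : v ∈ A X := le_A hB X hvX
  have h2a : 2 ∣ Nat.card (A X) := by
    have := (A X).orderOf_dvd_natCard hvA
    rwa [hv] at this
  have hipos := card_invs_pos hB X
  rcases hmain with hle | ⟨-, ⟨u, w, huw⟩, -⟩
  · obtain ⟨c, hc⟩ := hdvd
    obtain ⟨k, hk⟩ := h2a
    obtain ⟨j, hj⟩ := hodd
    have hapos : 0 < Nat.card (A X) := Nat.card_pos
    have hc2 : c ≤ 2 := by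
      by_contra hc3
      push Not at hc3
      have : 3 * Nat.card {v : G // v ∈ X ∧ orderOf v = 2} ≤
          Nat.card {v : G // v ∈ X ∧ orderOf v = 2} * c := by
        rw [mul_comm]; exact Nat.mul_le_mul_left _ hc3
      omega
    interval_cases c
    · omega
    · omega
    · omega
  · exact absurd (Subtype.ext (A_comm hB u.2 w.2).eq) huw

/-- `A X` has exponent 2. -/
theorem sq_eq_one (X : Sylow 2 G) {c : G} (hc : c ∈ A X) : c * c = 1 := by
  classical
  haveI : Fintype G := Fintype.ofFinite G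
  by_cases hc1 : c = 1
  · rw [hc1, one_mul]
  have hcount := card_invs_add_one hB X
  let A' : Finset G := Finset.univ.filter (fun y => y ∈ A X)
  let Iv : Finset G := Finset.univ.filter (fun y => y ∈ X ∧ orderOf y = 2)
  have hA : A'.card = Nat.card (A X) := by
    rw [Nat.card_eq_fintype_card, Fintype.card_subtype]
  have hIv : Iv.card = Nat.card {v : G // v ∈ X ∧ orderOf v = 2} := by
    rw [Nat.card_eq_fintype_card, Fintype.card_subtype]
  have h1A : (1 : G) ∈ A' := by
    simp only [A', Finset.mem_filter, Finset.mem_univ, true_and]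
    exact (A X).one_mem
  have hsub : Iv ⊆ A'.erase 1 := by
    intro y hy
    simp only [Iv, Finset.mem_filter, Finset.mem_univ, true_and] at hy
    rw [Finset.mem_erase]
    refine ⟨inv_ne_one hy.2, ?_⟩
    simp only [A', Finset.mem_filter, Finset.mem_univ, true_and]
    exact le_A hB X hy.1
  have heq : Iv = A'.erase 1 := by
    apply Finset.eq_of_subset_of_card_le hsub
    rw [Finset.card_erase_of_mem h1A, hA, hIv]
    omega
  have hcm : c ∈ A'.erase 1 := by
    rw [Finset.mem_erase]
    refine ⟨hc1, ?_⟩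
    simp only [A', Finset.mem_filter, Finset.mem_univ, true_and]
    exact hc
  rw [← heq] at hcm
  simp only [Iv, Finset.mem_filter, Finset.mem_univ, true_and] at hcm
  exact inv_sq hcm.2

end Cfsg.Agent.Lib.Helper7.Beta

namespace Cfsg.Agent.Lib.Helper7

open Cfsg.Agent.Lib.Helper21.Suz in
/-- The "beta case" of Suzuki's theorem on groups with abelian involution centralizers.
(`hcore` is not needed.) -/
theorem beta_case {G : Type*} [Group G] [Finite G]
    (h : ∀ t : G, orderOf t = 2 → ∀ a b : G, t * a = a * t → t * b = b * t → a * b = b * a)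
    (P₀ : Sylow 2 G) (hnc : ¬ IsCyclic (P₀ : Subgroup G)) (hnn : ¬ (P₀ : Subgroup G).Normal)
    (hcore : (Subgroup.normalizer ((P₀ : Subgroup G) : Set G)).normalCore = ⊥)
    (hβ : ∀ (P : Sylow 2 G) (c : G), c ≠ 1 → Odd (orderOf c) → (∀ x ∈ P, c * x = x * c) →
      Subgroup.centralizer ({c} : Set G) ≤ Subgroup.normalizer ((P : Subgroup G) : Set G)) :
    ∀ t : G, orderOf t = 2 → ∀ c : G, t * c = c * t → c * c = 1 := by
  have hB : Beta.Hyp G := by
    refine ⟨h, hβ, ?_, ?_⟩
    · intro P hP
      obtain ⟨g, hg⟩ := MulAction.exists_smul_eq G P P₀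
      haveI : (P : Subgroup G).Normal := hP
      have h1 : g • P = P := Sylow.smul_eq_of_normal
      rw [h1] at hg
      subst hg
      exact hnn hP
    · intro P hP
      obtain ⟨g, hg⟩ := MulAction.exists_smul_eq G P P₀
      apply hnc
      have e : (P : Subgroup G) ≃* (P₀ : Subgroup G) := by
        rw [← hg]
        exact Sylow.equivSMul P g
      haveI := hP
      exact isCyclic_of_surjective e e.surjective
  intro t ht c hc
  obtain ⟨P, htP⟩ := exists_sylow_of_invol ht
  exact Beta.sq_eq_one hB P (Beta.mem_A_of_commute hB ht htP hc)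

end Cfsg.Agent.Lib.Helper7
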