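import Mathlib
import Cfsg.Agent.Lib.Helper9.USubDefs
import Cfsg.Agent.Lib.Helper9.SUGenF
import Cfsg.Agent.Lib.Helper13.SubfSU

/-!
# S5658 side B, FO-B5: Heisenberg calculus for the Eichler elements `eich`
-/

set_option autoImplicit false
set_option linter.unusedSectionVars false
set_option linter.unusedVariables false

namespace Cfsg.Agent.Lib.Helper7.S5658B

open Matrix Cfsg.Agent.Lib.Helper6 Cfsg.Agent.S0779 Cfsg.Agent.S0781
open Cfsg.Agent.Lib.Helper6.SUG Cfsg.Agent.Lib.Helper13 Cfsg.Agent.Lib.Helper9.SUGen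
open Cfsg.Agent.Lib.Helper9.USub

variable {F : Type*} [Field F] [Fintype F] {q q₀ n : ℕ}

local notation "hh" => Cfsg.hermForm n F q

theorem eich_congr (hF : Fintype.card F = q ^ 2) {u u' v v' : Fin n → F} {c c' : F}
    (hu : u = u') (hv : v = v') (hcc : c = c') (huu : hh u u = 0) (huv : hh u v = 0)
    (hc : c + c ^ q = hh v v) (huu' : hh u' u' = 0) (huv' : hh u' v' = 0)
    (hc' : c' + c' ^ q = hh v' v') :
    eich hF u v c huu huv hc = eich hF u' v' c' huu' huv' hc' := by
  subst hu hv hcc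
  rfl

theorem eich_mul (hF : Fintype.card F = q ^ 2) (u v v' : Fin n → F) (c c' : F) (huu : hh u u = 0)
    (huv : hh u v = 0) (huv' : hh u v' = 0) (hc : c + c ^ q = hh v v)
    (hc' : c' + c' ^ q = hh v' v') (huvv : hh u (v + v') = 0)
    (hcc : (c + c' + hh v' v) + (c + c' + hh v' v) ^ q = hh (v + v') (v + v')) :
    eich hF u v c huu huv hc * eich hF u v' c' huu huv' hc' =
      eich hF u (v + v') (c + c' + hh v' v) huu huvv hcc := by
  apply ext_av
  intro x
  have hvu : hh v' u = 0 := herm_swap_zero hF huv'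
  rw [av_mul, av_eich, av_eich, av_eich]
  simp only [herm_add_left, herm_sub_left', herm_smul_left, herm_add_right hF, huu, hvu, huv]
  module

theorem eich_inv' (hF : Fintype.card F = q ^ 2) (u v : Fin n → F) (c : F) (huu : hh u u = 0)
    (huv : hh u v = 0) (hc : c + c ^ q = hh v v) (huv' : hh u (-v) = 0)
    (hc' : c ^ q + (c ^ q) ^ q = hh (-v) (-v)) :
    (eich hF u v c huu huv hc)⁻¹ = eich hF u (-v) (c ^ q) huu huv' hc' := by
  apply inv_eq_of_mul_eq_one_right
  apply ext_av
  intro x
  have hvu : hh v u = 0 := herm_swap_zero hF huv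
  have hnv : ∀ y : Fin n → F, hh y (-v) = -hh y v := by
    intro y
    have : (-v) = (-1 : F) • v := by simp
    rw [this, herm_smul_right, neg_pow_q hF, one_pow]
    ring
  have hnv' : ∀ y : Fin n → F, hh (-v) y = -hh v y := by
    intro y
    have : (-v) = (-1 : F) • v := by simp
    rw [this, herm_smul_left]
    ring
  rw [av_mul, av_eich, av_eich, av_one]
  simp only [herm_add_left, herm_sub_left', herm_smul_left, hnv, hnv', huu, hvu, huv]
  have h1 : c ^ q = hh v v - c := by rw [← hc]; ring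
  rw [h1]
  module

theorem conj_eich (hF : Fintype.card F = q ^ 2) (g : ↥(Cfsg.SU n F q)) (u v : Fin n → F) (c : F)
    (huu : hh u u = 0) (huv : hh u v = 0) (hc : c + c ^ q = hh v v)
    (huu' : hh (av g u) (av g u) = 0) (huv' : hh (av g u) (av g v) = 0)
    (hc' : c + c ^ q = hh (av g v) (av g v)) :
    g * eich hF u v c huu huv hc * g⁻¹ = eich hF (av g u) (av g v) c huu' huv' hc' := by
  apply ext_av
  intro x
  have h1 : ∀ y : Fin n → F, hh (av g⁻¹ x) y = hh x (av g y) := by
    intro y
    rw [← herm_av g (av g⁻¹ x) y, av_av_inv]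
  rw [av_mul, av_mul, av_eich, av_eich, av_sub, av_add, av_smul, av_smul, av_sub, av_smul,
    av_av_inv, h1, h1]

theorem tv_eq_eich (hF : Fintype.card F = q ^ 2) (u : Fin n → F) (a : F) (huu : hh u u = 0)
    (ha : a ^ q = -a) (hu0 : hh u 0 = 0) (hc : -a + (-a) ^ q = hh (0 : Fin n → F) 0) :
    tv hF u a huu ha = eich hF u 0 (-a) huu hu0 hc := by
  apply ext_av
  intro x
  rw [av_tv, av_eich, herm_zero_right hF]
  module

/-- an Eichler element with rational data is rational -/
theorem ratSU_eich (hF : Fintype.card F = q ^ 2) (K : Subfield F) (u v : Fin n → K) (c : F)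
    (hcK : c ∈ K) (huu : hh (rvec K u) (rvec K u) = 0) (huv : hh (rvec K u) (rvec K v) = 0)
    (hc : c + c ^ q = hh (rvec K v) (rvec K v)) :
    RatSU K (eich hF (rvec K u) (rvec K v) c huu huv hc) := by
  apply RatSU.of_av
  intro j
  refine ⟨fun i => (Pi.single j (1 : K) : Fin n → K) i + (u j) ^ q * (v i - ⟨c, hcK⟩ * u i) -
    (v j) ^ q * u i, ?_⟩
  rw [av_eich, herm_single_left', herm_single_left']
  funext i
  simp only [rvec, Pi.add_apply, Pi.sub_apply, Pi.smul_apply, smul_eq_mul]
  by_cases hij : i = j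
  · subst hij
    simp
  · simp [hij]

end Cfsg.Agent.Lib.Helper7.S5658B
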