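import Mathlib

/-! # S3663 (helper7): more data for Γ ≅ U₃(4) ≤ GL₁₂(𝔽₅) — AUTO-GENERATED (scratch/u34/gen5.py)

`bM`: the matrix whose columns are the orbit vectors number 0, 1, 2, 3, 4, 5, 6, 12, 13, 14, 27, 53 (a basis); `bMi` its
inverse; `vT`, `vP`: non-zero vectors fixed by `T`, `P`. -/

set_option autoImplicit false

namespace Cfsg.Agent.Lib.Helper7.U34

/-- columns = the twelve basis vectors of the orbit -/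
def bM : List (List ℕ) :=
  [[0, 0, 0, 0, 0, 0, 0, 0, 3, 2, 2, 4], [0, 0, 0, 0, 0, 1, 0, 4, 2, 0, 3, 2], [0, 0, 0, 0, 0, 0, 0, 0, 0, 3, 4, 1], [0, 0, 0, 0, 0, 3, 0, 1, 2, 1, 3, 2], [0, 0, 0, 0, 0, 0, 0, 0, 0, 0, 0, 3], [4, 3, 3, 3, 0, 2, 3, 4, 2, 2, 0, 2], [2, 4, 1, 4, 1, 1, 4, 1, 4, 4, 4, 1], [3, 1, 3, 1, 1, 0, 1, 4, 1, 1, 0, 0], [1, 2, 3, 2, 0, 4, 2, 3, 0, 3, 3, 3], [4, 0, 4, 3, 4, 1, 0, 4, 1, 0, 2, 2], [1, 2, 1, 2, 3, 0, 3, 2, 3, 2, 2, 0], [1, 0, 1, 1, 0, 4, 2, 4, 3, 3, 4, 2]]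

/-- inverse of `bM` -/
def bMi : List (List ℕ) :=
  [[1, 1, 0, 2, 3, 4, 0, 3, 4, 1, 1, 2], [0, 1, 3, 2, 3, 1, 2, 4, 4, 3, 4, 0], [4, 0, 0, 4, 3, 3, 3, 2, 1, 0, 0, 0], [0, 1, 0, 0, 3, 3, 4, 4, 1, 4, 2, 4], [3, 3, 2, 1, 4, 1, 0, 1, 3, 0, 0, 0], [3, 4, 0, 4, 4, 0, 0, 0, 0, 0, 0, 0], [2, 0, 1, 1, 3, 0, 4, 3, 2, 0, 1, 0], [2, 3, 0, 2, 2, 1, 4, 1, 0, 0, 0, 0], [2, 0, 4, 1, 3, 2, 3, 2, 0, 0, 0, 0], [0, 0, 0, 4, 3, 3, 2, 3, 0, 0, 0, 0], [0, 0, 4, 2, 1, 4, 1, 4, 0, 0, 0, 0], [0, 0, 0, 0, 2, 0, 0, 0, 0, 0, 0, 0]]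

/-- a vector fixed by `T` -/
def vT : List ℕ := [4, 2, 3, 2, 1, 0, 0, 0, 0, 0, 0, 0]

/-- a vector fixed by `P` -/
def vP : List ℕ := [2, 4, 3, 3, 0, 4, 4, 0, 1, 0, 0, 0]

end Cfsg.Agent.Lib.Helper7.U34
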