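import Cfsg.Agent.Lib.Helper7.U34Defs
import Cfsg.Agent.Lib.Helper7.U34Data2

/-!
# S3663 (helper7): more kernel certificates for `Γ` (used by the bridge and by the facts on `x13`, `T`, `P`)
-/

set_option autoImplicit false

namespace Cfsg.Agent.Lib.Helper7.U34

/-- powers on lists: `powL A (k+1) = powL A k * A` -/
def powL (A : List (List ℕ)) : ℕ → List (List ℕ)
  | 0 => idL
  | k + 1 => mmL (powL A k) A

/-- `sumPowL A k = ∑ i < k, A ^ i` on lists -/
def sumPowL (A : List (List ℕ)) : ℕ → List (List ℕ)
  | 0 => zeroL
  | k + 1 => addL (sumPowL A k) (powL A k)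

/-- rows of `x13 = P * T * D` -/
def rX : List (List ℕ) := mmL (mmL rP rT) rD

/-- the orbit vectors have entries `< 5` -/
theorem orb_lt : (orbL.all fun v => v.all fun x => decide (x < 5)) = true := by decide +kernel

/-- base-5 key of a vector -/
def keyL (v : List ℕ) : ℕ := v.foldr (fun x acc => x + 5 * acc) 0

/-- linear-time test that the numbers of a list are pairwise different (bit mask) -/
def distinctAux : List ℕ → ℕ → Bool
  | [], _ => true
  | x :: xs, acc => !(acc.testBit x) && distinctAux xs (acc ||| (1 <<< x))

theorem distinctAux_sound : ∀ (l : List ℕ) (acc : ℕ), distinctAux l acc = true →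
    l.Nodup ∧ ∀ x ∈ l, acc.testBit x = false := by
  intro l
  induction l with
  | nil => intro acc _; exact ⟨List.nodup_nil, fun x hx => by simp at hx⟩
  | cons x xs ih =>
    intro acc h
    rw [distinctAux, Bool.and_eq_true] at h
    obtain ⟨h1, h2⟩ := h
    obtain ⟨k1, k2⟩ := ih _ h2
    have h1' : acc.testBit x = false := by simpa using h1
    have hx : x ∉ xs := by
      intro hm
      have := k2 x hm
      rw [Nat.testBit_or, Nat.one_shiftLeft, Nat.testBit_two_pow_self, Bool.or_true] at this
      exact Bool.noConfusion this
    refine ⟨List.nodup_cons.mpr ⟨hx, k1⟩, ?_⟩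
    intro y hy
    rcases List.mem_cons.mp hy with rfl | hy'
    · exact h1'
    · have := k2 y hy'
      rw [Nat.testBit_or, Bool.or_eq_false_iff] at this
      exact this.1

theorem orb_keys : distinctAux (orbL.map fun v => keyL v % 46367) 0 = true := by decide +kernel

/-- the orbit vectors are pairwise different -/
theorem orb_nodup : orbL.Nodup :=
  List.Nodup.of_map _ (distinctAux_sound _ 0 orb_keys).1

theorem bM_ok : (wfB bM && wfB bMi && mmL bM bMi == idL && mmL bMi bM == idL) = true := by decide +kernel

/-- the columns of `bM` are the orbit vectors with the indices `basisIdx` -/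
theorem bM_cols : ((List.range 12).all fun j => colL bM j == orbL.getD (basisIdx.getD j 0) []) = true := by
  decide +kernel

theorem fixT_ok : (mvL rT vT == vT) = true := by decide +kernel

theorem fixP_ok : (mvL rP vP == vP) = true := by decide +kernel

theorem sqT_ok : (mmL rT rT == idL) = true := by decide +kernel

theorem cubeP_ok : (powL rP 3 == idL) = true := by decide +kernel

theorem rX_wf : wfB rX = true := by decide +kernel

theorem rX_ok : (powL rX 13 == idL && sumPowL rX 13 == zeroL) = true := by decide +kernel

theorem rX_ne : (rX == idL) = false := by decide +kernel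

theorem rT_ne : (rT == idL) = false := by decide +kernel

theorem rP_ne : (rP == idL) = false := by decide +kernel

end Cfsg.Agent.Lib.Helper7.U34
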