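import Mathlib
import Cfsg.Prelude.Def_Blocks
import Cfsg.Agent.S0163
import Cfsg.Agent.Lib.Helper11.Frobenius
import Cfsg.Agent.Lib.Helper24.Loc
import Cfsg.Agent.Lib.Helper2.Orthogonality

/-!
# Sums of characters over the `p`-elements (helper7)

For an irreducible (indeed any) character `χ` of a finite group `G`, the number
`|G|⁻¹ ∑_{x a p-element} χ x` lies in the local ring at `M` (`M` over `p`).  This is the statement
that `|G|_{p'}` times the indicator function of the `p`-elements is a generalized character; it is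
proved here from Brauer's induction theorem (S0163).
-/

set_option autoImplicit false

namespace Cfsg.Agent.Lib.Helper7

open scoped ComplexConjugate
open Cfsg.Agent.Lib.Helper24

/-- elementary groups are nilpotent -/
theorem isNilpotent_of_isElementary {E : Type*} [Group E] [Finite E] {q : ℕ} (hq : q.Prime)
    (h : Cfsg.IsElementary q E) : Group.IsNilpotent E := by
  obtain ⟨x, hx, -, k, hk⟩ := h
  haveI : Fact q.Prime := ⟨hq⟩
  have hle : Subgroup.zpowers x ≤ Subgroup.center E := by
    rw [Subgroup.zpowers_le]; exact hx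
  haveI hN : (Subgroup.zpowers x).Normal := by
    refine ⟨fun n hn g => ?_⟩
    have h1 := hle hn
    rw [Subgroup.mem_center_iff] at h1
    rw [h1 g, mul_inv_cancel_right]
    exact hn
  have hcard : Nat.card (E ⧸ Subgroup.zpowers x) = q ^ k := by
    rw [← Subgroup.index_eq_card]; exact hk
  have hpg : IsPGroup q (E ⧸ Subgroup.zpowers x) := IsPGroup.of_card hcard
  haveI hnil : Group.IsNilpotent (E ⧸ Subgroup.zpowers x) := hpg.isNilpotent
  exact Subgroup.isNilpotent_of_ker_le_center (QuotientGroup.mk' (Subgroup.zpowers x))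
    (by rw [QuotientGroup.ker_mk']; exact hle)

/-- with a normal Sylow `p`-subgroup, the elements of `p`-power order are its elements -/
theorem exists_orderOf_eq_pow_iff_mem_sylow {E : Type*} [Group E] [Finite E] {p : ℕ}
    [Fact p.Prime] (P : Sylow p E) (hP : (P : Subgroup E).Normal) (e : E) :
    (∃ k : ℕ, orderOf e = p ^ k) ↔ e ∈ (P : Subgroup E) := by
  constructor
  · rintro ⟨k, hk⟩
    have hpg : IsPGroup p (Subgroup.zpowers e) := by
      apply IsPGroup.of_card (n := k)
      rw [Nat.card_zpowers, hk]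
    obtain ⟨Q, hQ⟩ := hpg.exists_le_sylow
    haveI := Sylow.unique_of_normal P hP
    have hQP : Q = P := Subsingleton.elim _ _
    rw [← hQP]
    exact hQ (Subgroup.mem_zpowers e)
  · intro he
    obtain ⟨k, hk⟩ := (IsPGroup.iff_orderOf.mp P.2) ⟨e, he⟩
    exact ⟨k, by rw [← hk, Subgroup.orderOf_mk]⟩

open Classical in
/-- the sum over the elements of `p`-power order is the sum over a normal Sylow `p`-subgroup -/
theorem sum_pElements_eq_sum_sylow {E : Type*} [Group E] [Fintype E] {p : ℕ} [Fact p.Prime]
    (P : Sylow p E) (hP : (P : Subgroup E).Normal) (f : E → ℂ) :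
    (∑ e : E, if (∃ k : ℕ, orderOf e = p ^ k) then f e else 0)
      = ∑ e : (P : Subgroup E), f e := by
  classical
  have h1 : ∀ e : E, (if (∃ k : ℕ, orderOf e = p ^ k) then f e else 0)
      = if e ∈ (P : Subgroup E) then f e else 0 := by
    intro e
    by_cases h : e ∈ (P : Subgroup E)
    · rw [if_pos h, if_pos ((exists_orderOf_eq_pow_iff_mem_sylow P hP e).mpr h)]
    · rw [if_neg h, if_neg (fun h' => h ((exists_orderOf_eq_pow_iff_mem_sylow P hP e).mp h'))]
  rw [Finset.sum_congr rfl (fun e _ => h1 e), ← Finset.sum_filter]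
  rw [← Finset.sum_subtype (Finset.univ.filter (· ∈ (P : Subgroup E)))
    (p := fun e => e ∈ (P : Subgroup E)) (by simp) f]

/-- the sum of a linear character over a finite group is the group order or zero -/
theorem sum_linear_eq_card_or_zero {H : Type*} [Group H] [Fintype H] (μ : H →* ℂˣ) :
    (∑ h : H, ((μ h : ℂˣ) : ℂ)) = (Nat.card H : ℂ) ∨ (∑ h : H, ((μ h : ℂˣ) : ℂ)) = 0 := by
  by_cases hμ : ∀ h : H, μ h = 1
  · left
    simp [hμ, Nat.card_eq_fintype_card]
  · right
    push Not at hμ
    obtain ⟨h₀, hh₀⟩ := hμ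
    have h1 : (∑ h : H, ((μ h : ℂˣ) : ℂ)) = ((μ h₀ : ℂˣ) : ℂ) * ∑ h : H, ((μ h : ℂˣ) : ℂ) := by
      rw [Finset.mul_sum, ← Equiv.sum_comp (Equiv.mulLeft h₀)]
      apply Finset.sum_congr rfl
      intro h _
      simp [map_mul]
    have h2 : (1 - ((μ h₀ : ℂˣ) : ℂ)) * ∑ h : H, ((μ h : ℂˣ) : ℂ) = 0 := by
      rw [sub_mul, one_mul, ← h1, sub_self]
    rcases mul_eq_zero.mp h2 with h3 | h3
    · exfalso
      apply hh₀
      have : ((μ h₀ : ℂˣ) : ℂ) = 1 := by linear_combination -h3
      exact Units.ext this
    · exact h3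

variable {p : ℕ} {M : Ideal Cfsg.AlgInt}

open Classical in
/-- for a nilpotent group `E` and a linear character `μ`, the number
`|E|⁻¹ ∑_{e a p-element} μ e` is a local integer at `M` -/
theorem linear_sum_pElements_memLocalRing {E : Type*} [Group E] [Fintype E]
    (hnil : Group.IsNilpotent E) (hM : Cfsg.IsPModular p M) (μ : E →* ℂˣ) :
    Cfsg.MemLocalRing M ((Nat.card E : ℂ)⁻¹ *
      ∑ e : E, if (∃ k : ℕ, orderOf e = p ^ k) then ((μ e : ℂˣ) : ℂ) else 0) := by
  classical
  haveI : Fact p.Prime := ⟨hM.1⟩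
  let P : Sylow p E := default
  have hP : (P : Subgroup E).Normal := inferInstance
  rw [sum_pElements_eq_sum_sylow P hP (fun e => ((μ e : ℂˣ) : ℂ))]
  have hidx : ¬ p ∣ (P : Subgroup E).index := P.not_dvd_index
  have hcard : (Nat.card E : ℂ) = (Nat.card (P : Subgroup E) : ℂ) * ((P : Subgroup E).index : ℂ) := by
    rw [← Nat.cast_mul, Subgroup.card_mul_index]
  have hPne : (Nat.card (P : Subgroup E) : ℂ) ≠ 0 := by
    exact_mod_cast Nat.card_pos.ne'
  have hine : (((P : Subgroup E).index : ℕ) : ℂ) ≠ 0 := by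
    intro h
    apply hidx
    have : (P : Subgroup E).index = 0 := by exact_mod_cast h
    rw [this]; exact dvd_zero p
  rcases sum_linear_eq_card_or_zero (μ.comp (P : Subgroup E).subtype) with h | h
  · have h' : ∑ e : (P : Subgroup E), ((μ (e : E) : ℂˣ) : ℂ) = (Nat.card (P : Subgroup E) : ℂ) := h
    rw [h', hcard]
    have : ((Nat.card (P : Subgroup E) : ℂ) * ((P : Subgroup E).index : ℂ))⁻¹
        * (Nat.card (P : Subgroup E) : ℂ) = (((P : Subgroup E).index : ℕ) : ℂ)⁻¹ := by
      field_simp
    rw [this]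
    exact memLocalRing_natCast_inv hM hidx
  · have h' : ∑ e : (P : Subgroup E), ((μ (e : E) : ℂˣ) : ℂ) = 0 := h
    rw [h', mul_zero]
    exact memLocalRing_zero hM

open Classical in
/-- the indicator function of the elements of `p`-power order -/
noncomputable def pElemInd {G : Type*} [Group G] (p : ℕ) : G → ℂ :=
  fun x => if (∃ k : ℕ, orderOf x = p ^ k) then 1 else 0

theorem pElemInd_isClassFunction {G : Type*} [Group G] (p : ℕ) :
    Cfsg.IsClassFunction G (pElemInd (G := G) p) := by
  intro g x
  unfold pElemInd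
  have h : orderOf (x * g * x⁻¹) = orderOf g := by
    have := orderOf_injective (MulAut.conj x).toMonoidHom (MulAut.conj x).injective g
    simpa [MulAut.conj_apply] using this
  rw [h]

theorem conj_pElemInd {G : Type*} [Group G] (p : ℕ) (x : G) :
    conj (pElemInd (G := G) p x) = pElemInd p x := by
  unfold pElemInd
  split_ifs <;> simp

open Classical in
/-- `⟨χ, 1_{G_p}⟩` is a local integer for every character `χ` (from Brauer induction) -/
theorem classInner_pElemInd_memLocalRing {G : Type*} [Group G] [Fintype G]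
    (hM : Cfsg.IsPModular p M) (χ : G → ℂ) (hχ : Cfsg.IsCharacter G χ) :
    Cfsg.MemLocalRing M (Cfsg.classInner χ (pElemInd p)) := by
  obtain ⟨l, hl, rfl⟩ := Cfsg.Agent.S0163.result χ hχ
  clear hχ
  induction l with
  | nil =>
    simp only [List.map_nil, List.sum_nil]
    rw [Cfsg.Agent.Lib.Helper2.classInner_zero_left]
    exact memLocalRing_zero hM
  | cons t l ih =>
    simp only [List.map_cons, List.sum_cons]
    rw [Cfsg.Agent.Lib.Helper2.classInner_add_left]
    apply memLocalRing_add hM
    · rw [Cfsg.Agent.Lib.Helper2.classInner_smul_left]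
      apply memLocalRing_mul hM (memLocalRing_intCast hM _)
      obtain ⟨q, hq, hel⟩ := hl t (List.mem_cons_self)
      have hnil := isNilpotent_of_isElementary hq hel
      rw [Cfsg.Agent.Lib.Helper11.classInner_indFun_left t.1 _ _ (pElemInd_isClassFunction p)]
      rw [Cfsg.Agent.Lib.Helper2.classInner_def]
      have h1 := linear_sum_pElements_memLocalRing hnil hM t.2.1
      convert h1 using 2
      apply Finset.sum_congr rfl
      intro e _
      rw [conj_pElemInd]
      unfold pElemInd
      simp only [Subgroup.orderOf_coe]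
      split_ifs <;> simp
    · exact ih (fun t' ht' => hl t' (List.mem_cons_of_mem _ ht'))

open Classical in
/-- `|G|⁻¹ ∑_{x a p-element} χ x` is a local integer for every character `χ` -/
theorem char_sum_pElements_memLocalRing {G : Type*} [Group G] [Fintype G]
    (hM : Cfsg.IsPModular p M) (χ : G → ℂ) (hχ : Cfsg.IsCharacter G χ) :
    Cfsg.MemLocalRing M ((Nat.card G : ℂ)⁻¹ *
      ∑ x : G, if (∃ k : ℕ, orderOf x = p ^ k) then χ x else 0) := by
  have h := classInner_pElemInd_memLocalRing hM χ hχ
  rw [Cfsg.Agent.Lib.Helper2.classInner_def] at h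
  convert h using 2
  apply Finset.sum_congr rfl
  intro x _
  rw [conj_pElemInd]
  unfold pElemInd
  split_ifs <;> simp

end Cfsg.Agent.Lib.Helper7
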