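import Mathlib
import Cfsg.Prelude.Def_Blocks
import Cfsg.Prelude.Def_BlockRank
import Cfsg.Agent.Lib.Helper7.PElementSum
import Cfsg.Agent.Lib.Helper24.BlockOrtho
import Cfsg.Agent.Lib.Helper24.Principal
import Cfsg.Agent.Lib.Helper24.Osima
import Cfsg.Agent.Lib.Helper25.GenOrtho
import Cfsg.Agent.Lib.Helper25.Ortho2
import Cfsg.Agent.Lib.Helper25.CharBasic

/-!
# Külshammer's formula for the principal block idempotent (helper7)
-/

set_option autoImplicit false

namespace Cfsg.Agent.Lib.Helper7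

open scoped ComplexConjugate
open Cfsg.Agent.Lib.Helper24

variable {G : Type*} [Group G] [Fintype G]

open Classical in
/-- the indicator function of the `p`-regular elements -/
noncomputable def pRegInd (p : ℕ) : G → ℂ :=
  fun y => if ¬ p ∣ orderOf y then 1 else 0

omit [Fintype G] in
theorem orderOf_conj' (x g : G) : orderOf (x * g * x⁻¹) = orderOf g := by
  have := orderOf_injective (MulAut.conj x).toMonoidHom (MulAut.conj x).injective g
  simpa [MulAut.conj_apply] using this

omit [Fintype G] in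
theorem pRegInd_isClassFunction (p : ℕ) : Cfsg.IsClassFunction G (pRegInd (G := G) p) := by
  intro g x
  unfold pRegInd
  rw [orderOf_conj']

omit [Fintype G] in
theorem pRegInd_eq_pRegularPart (p : ℕ) (χ : G → ℂ) (y : G) :
    pRegInd p y * χ y = Cfsg.pRegularPart p χ y := by
  unfold pRegInd Cfsg.pRegularPart Cfsg.IsPRegular
  split_ifs <;> simp

/-- averaging: `∑ y, χ (u y) a y = χ u · ω_χ(a)` for a class function `a` -/
theorem sum_char_mul_classFunction {χ : G → ℂ} (hχ : Cfsg.IsIrrCharacter G χ) (a : G → ℂ)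
    (ha : Cfsg.IsClassFunction G a) (u : G) :
    ∑ y : G, χ (u * y) * a y = χ u * omega χ a := by
  have hG : (Nat.card G : ℂ) ≠ 0 := by exact_mod_cast Nat.card_pos.ne'
  have h1 : ∀ h : G, ∑ y : G, χ (u * y) * a y = ∑ y : G, χ (u * (h * y * h⁻¹)) * a y := by
    intro h
    rw [← Equiv.sum_comp (MulAut.conj h).toEquiv]
    apply Finset.sum_congr rfl
    intro y _
    simp only [MulEquiv.toEquiv_eq_coe, EquivLike.coe_coe, MulAut.conj_apply]
    rw [ha y h]
  have h2 : (Nat.card G : ℂ) * ∑ y : G, χ (u * y) * a y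
      = ∑ h : G, ∑ y : G, χ (u * (h * y * h⁻¹)) * a y := by
    rw [← Finset.sum_congr rfl (fun h _ => h1 h), Finset.sum_const, Finset.card_univ,
      nsmul_eq_mul, Nat.card_eq_fintype_card]
  have h3 : ∑ h : G, ∑ y : G, χ (u * (h * y * h⁻¹)) * a y
      = ∑ y : G, ((Nat.card G : ℂ) * χ u * χ y / χ 1) * a y := by
    rw [Finset.sum_comm]
    apply Finset.sum_congr rfl
    intro y _
    rw [← Finset.sum_mul, Cfsg.Agent.Lib.Helper25.sum_char_mul_conj hχ]
  have h4 : (Nat.card G : ℂ) * ∑ y : G, χ (u * y) * a y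
      = (Nat.card G : ℂ) * (χ u * omega χ a) := by
    rw [h2, h3]
    unfold omega
    rw [Finset.sum_div, Finset.mul_sum, Finset.mul_sum]
    apply Finset.sum_congr rfl
    intro y _
    ring
  exact mul_left_cancel₀ hG h4

variable {p : ℕ} {M : Ideal Cfsg.AlgInt}

theorem irr_value_memLocalRing (hM : Cfsg.IsPModular p M) (χ : Cfsg.IrrCharacter G) (g : G) :
    Cfsg.MemLocalRing M ((χ : G → ℂ) g) := by
  obtain ⟨n, ρ, -, hρ⟩ := χ.2
  rw [← hρ]
  exact memLocalRing_of_isIntegral hM (Cfsg.Agent.Lib.Helper2.char_isIntegral ρ g)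

omit [Fintype G] in
/-- the hypothesis of block orthogonality for a nontrivial `p`-element and a `p`-regular
element -/
theorem blockOrtho_hyp [Fact p.Prime] {x g : G} (hx : ∃ k : ℕ, orderOf x = p ^ k) (hx1 : x ≠ 1)
    (hg : ¬ p ∣ orderOf g) (h : G) (k : ℕ) (hk : x ^ k * h = h * g ^ k) : p ∣ k := by
  have hp : p.Prime := Fact.out
  obtain ⟨j, hj⟩ := hx
  have h1 : x ^ k = h * g ^ k * h⁻¹ := by rw [← hk, mul_inv_cancel_right]
  have h2 : orderOf (x ^ k) = orderOf (g ^ k) := by rw [h1, orderOf_conj']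
  have h3 : orderOf (x ^ k) ∣ p ^ j := hj ▸ orderOf_pow_dvd k
  have h4 : orderOf (x ^ k) ∣ orderOf g := h2 ▸ orderOf_pow_dvd k
  have hcop : Nat.Coprime (p ^ j) (orderOf g) :=
    Nat.Coprime.pow_left j ((Nat.Prime.coprime_iff_not_dvd hp).mpr hg)
  have h5 : orderOf (x ^ k) = 1 := Nat.eq_one_of_dvd_coprimes hcop h3 h4
  rw [orderOf_eq_one_iff] at h5
  have h6 : orderOf x ∣ k := orderOf_dvd_of_pow_eq_one h5
  have hj0 : j ≠ 0 := by
    intro h0
    rw [h0, pow_zero, orderOf_eq_one_iff] at hj
    exact hx1 hj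
  rw [hj] at h6
  exact (dvd_pow_self p hj0).trans h6

/-- **Külshammer's formula**, core congruence: for `p`-regular `g`,
`N(g) ≡ R · e₀(g)` modulo the local ideal. -/
theorem kulshammer_core [Fact p.Prime] (hM : Cfsg.IsPModular p M) (g : G)
    (hg : ¬ p ∣ orderOf g) :
    Cfsg.MemLocalIdeal M ((∑ y : G, pElemInd p (g * y⁻¹) * pRegInd p y)
      - (∑ y : G, pRegInd (G := G) p y) * Cfsg.blockCoeff (Cfsg.principalBlock M G) g) := by
  classical
  haveI : Fintype (Cfsg.IrrCharacter G) := Fintype.ofFinite _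
  have hGne : (Nat.card G : ℂ) ≠ 0 := by exact_mod_cast Nat.card_pos.ne'
  set B := Cfsg.principalBlock M G with hBdef
  have hB : Cfsg.IsPBlock M B := isPBlock_principalBlock
  set d : Cfsg.IrrCharacter G → ℂ := fun χ => Cfsg.classInner (χ : G → ℂ) (pElemInd p) with hd
  have hdloc : ∀ χ : Cfsg.IrrCharacter G, Cfsg.MemLocalRing M (d χ) := fun χ =>
    classInner_pElemInd_memLocalRing hM _ (Cfsg.Agent.Lib.Helper25.isCharacter_of_irr χ.2)
  -- expansion of the indicator of the `p`-elements
  have hexp : ∀ w : G, pElemInd p w = ∑ χ : Cfsg.IrrCharacter G, d χ * conj ((χ : G → ℂ) w) := by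
    intro w
    have h1 := Cfsg.Agent.Lib.Helper25.classFunction_expansion (pElemInd p)
      (pElemInd_isClassFunction (G := G) p) w
    have h2 := congrArg conj h1
    rw [conj_pElemInd, map_sum] at h2
    rw [h2]
    apply Finset.sum_congr rfl
    intro χ _
    rw [map_mul, Cfsg.Agent.Lib.Helper2.classInner_conj_symm]
  -- the counting function
  have hN : ∑ y : G, pElemInd p (g * y⁻¹) * pRegInd p y
      = ∑ χ : Cfsg.IrrCharacter G,
          d χ * (conj ((χ : G → ℂ) g) * omega (χ : G → ℂ) (pRegInd p)) := by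
    have h1 : ∀ y : G, pElemInd p (g * y⁻¹) * pRegInd p y
        = ∑ χ : Cfsg.IrrCharacter G, d χ * ((χ : G → ℂ) (g⁻¹ * y) * pRegInd p y) := by
      intro y
      rw [hexp, Finset.sum_mul]
      apply Finset.sum_congr rfl
      intro χ _
      have hch := Cfsg.Agent.Lib.Helper25.isCharacter_of_irr χ.2
      have hcf := Cfsg.Agent.Lib.Helper25.isClassFunction_of_char hch
      have h2 : conj ((χ : G → ℂ) (g * y⁻¹)) = (χ : G → ℂ) (g⁻¹ * y) := by
        rw [← Cfsg.Agent.Lib.Helper25.char_inv hch, mul_inv_rev, inv_inv]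
        have := hcf (y * g⁻¹) g⁻¹
        rw [← this]
        congr 1
        group
      rw [h2]
      ring
    rw [Finset.sum_congr rfl (fun y _ => h1 y), Finset.sum_comm]
    apply Finset.sum_congr rfl
    intro χ _
    rw [← Finset.mul_sum, sum_char_mul_classFunction χ.2 _ (pRegInd_isClassFunction p) g⁻¹,
      Cfsg.Agent.Lib.Helper25.char_inv (Cfsg.Agent.Lib.Helper25.isCharacter_of_irr χ.2)]
  -- the block idempotent coefficient
  have hbc : Cfsg.blockCoeff B g
      = ∑ χ : Cfsg.IrrCharacter G, if χ ∈ B then d χ * conj ((χ : G → ℂ) g) else 0 := by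
    have h1 : ∀ x : G, pElemInd p x *
        (∑ χ : Cfsg.IrrCharacter G,
          if χ ∈ B then (χ : G → ℂ) x * conj ((χ : G → ℂ) g) else 0)
        = if x = 1 then
          (∑ χ : Cfsg.IrrCharacter G,
            if χ ∈ B then (χ : G → ℂ) 1 * conj ((χ : G → ℂ) g) else 0) else 0 := by
      intro x
      by_cases hx1 : x = 1
      · rw [if_pos hx1, hx1]
        have : pElemInd (G := G) p 1 = 1 := by
          unfold pElemInd
          rw [if_pos ⟨0, by simp⟩]
        rw [this, one_mul]
      · rw [if_neg hx1]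
        by_cases hxp : ∃ k : ℕ, orderOf x = p ^ k
        · have h0 := block_orthogonality hM B hB x g
            (fun h k hk => blockOrtho_hyp hxp hx1 hg h k hk)
          rw [finsum_mem_eq_sum_ite] at h0
          rw [h0, mul_zero]
        · have : pElemInd (G := G) p x = 0 := by
            unfold pElemInd
            rw [if_neg hxp]
          rw [this, zero_mul]
    have h2 : ∑ χ : Cfsg.IrrCharacter G, (if χ ∈ B then d χ * conj ((χ : G → ℂ) g) else 0)
        = (Nat.card G : ℂ)⁻¹ * ∑ x : G, pElemInd p x *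
          (∑ χ : Cfsg.IrrCharacter G,
            if χ ∈ B then (χ : G → ℂ) x * conj ((χ : G → ℂ) g) else 0) := by
      simp only [Finset.mul_sum]
      rw [Finset.sum_comm]
      apply Finset.sum_congr rfl
      intro χ _
      by_cases hχ : χ ∈ B
      · simp only [if_pos hχ, hd, Cfsg.Agent.Lib.Helper2.classInner_def, Finset.mul_sum,
          Finset.sum_mul]
        apply Finset.sum_congr rfl
        intro x _
        rw [conj_pElemInd]
        ring
      · simp only [if_neg hχ, mul_zero, Finset.sum_const_zero]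
    rw [h2, Finset.sum_congr rfl (fun x _ => h1 x), Finset.sum_ite_eq' Finset.univ (1 : G)]
    simp only [Finset.mem_univ, if_true]
    rw [blockCoeff_eq_sum]
  -- vanishing outside the principal block
  have hout : ∀ χ : Cfsg.IrrCharacter G, χ ∉ B → omega (χ : G → ℂ) (pRegInd p) = 0 := by
    intro χ hχ
    unfold omega
    have h0 := sum_pRegularPart_eq_zero hM χ hχ
    rw [Finset.sum_congr rfl (fun y _ => pRegInd_eq_pRegularPart p (χ : G → ℂ) y), h0, zero_div]
  -- the trivial character
  have htriv : omega (trivIrr G : G → ℂ) (pRegInd p) = ∑ y : G, pRegInd (G := G) p y := by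
    unfold omega
    simp only [trivIrr_apply, mul_one, div_one]
  have hin : ∀ χ : Cfsg.IrrCharacter G, χ ∈ B →
      Cfsg.MemLocalIdeal M (omega (χ : G → ℂ) (pRegInd p) - ∑ y : G, pRegInd (G := G) p y) := by
    intro χ hχ
    rw [← htriv]
    have hsame : Cfsg.SameBlock M (trivIrr G : G → ℂ) (χ : G → ℂ) := hχ
    have h1 := omega_sub_memLocalIdeal hM (trivIrr G) χ hsame (pRegInd p)
      (pRegInd_isClassFunction p) (fun y => by
        unfold pRegInd
        split_ifs
        · exact memLocalRing_zero hM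
        · exact memLocalRing_one hM)
    have h2 := memLocalIdeal_neg h1
    rwa [neg_sub] at h2
  -- assemble
  rw [hN, hbc, Finset.mul_sum, ← Finset.sum_sub_distrib]
  apply memLocalIdeal_sum hM
  intro χ _
  by_cases hχ : χ ∈ B
  · rw [if_pos hχ]
    have e : d χ * (conj ((χ : G → ℂ) g) * omega (χ : G → ℂ) (pRegInd p))
        - (∑ y : G, pRegInd (G := G) p y) * (d χ * conj ((χ : G → ℂ) g))
        = (d χ * conj ((χ : G → ℂ) g))
          * (omega (χ : G → ℂ) (pRegInd p) - ∑ y : G, pRegInd (G := G) p y) := by ring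
    rw [e]
    apply memLocalIdeal_mul_left hM _ (hin χ hχ)
    apply memLocalRing_mul hM (hdloc χ)
    rw [← Cfsg.Agent.Lib.Helper25.char_inv (Cfsg.Agent.Lib.Helper25.isCharacter_of_irr χ.2)]
    exact irr_value_memLocalRing hM χ g⁻¹
  · rw [if_neg hχ, hout χ hχ, mul_zero, mul_zero, mul_zero, sub_zero]
    exact memLocalIdeal_zero hM

omit [Fintype G] in
open Classical in
theorem card_subtype_eq_sum {α : Type*} [Fintype α] (P : α → Prop) :
    (Nat.card {a : α // P a} : ℂ) = ∑ a : α, if P a then (1 : ℂ) else 0 := by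
  rw [Nat.card_eq_fintype_card, Fintype.card_subtype, Finset.sum_boole]

/-- the number of `p`-regular elements as a sum -/
theorem card_pRegular_eq_sum (p : ℕ) :
    (Nat.card {y : G // ¬ p ∣ orderOf y} : ℂ) = ∑ y : G, pRegInd (G := G) p y := by
  classical
  rw [card_subtype_eq_sum]
  apply Finset.sum_congr rfl
  intro y _
  unfold pRegInd
  split_ifs <;> rfl

/-- the number of factorizations `g = x y` with `x` a `p`-element and `y` `p`-regular -/
theorem card_pairs_eq_sum (p : ℕ) (g : G) :
    (Nat.card {xy : G × G // (∃ k : ℕ, orderOf xy.1 = p ^ k) ∧ ¬ p ∣ orderOf xy.2 ∧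
        xy.1 * xy.2 = g} : ℂ)
      = ∑ y : G, pElemInd p (g * y⁻¹) * pRegInd p y := by
  classical
  rw [card_subtype_eq_sum, Fintype.sum_prod_type, Finset.sum_comm]
  apply Finset.sum_congr rfl
  intro y _
  rw [Finset.sum_eq_single (g * y⁻¹)]
  · unfold pElemInd pRegInd
    by_cases h1 : ∃ k : ℕ, orderOf (g * y⁻¹) = p ^ k
    · by_cases h2 : ¬ p ∣ orderOf y
      · rw [if_pos h1, if_pos h2, if_pos ⟨h1, h2, by simp⟩, one_mul]
      · rw [if_pos h1, if_neg h2, if_neg (fun h => h2 h.2.1), mul_zero]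
    · rw [if_neg h1, if_neg (fun h => h1 h.1), zero_mul]
  · intro x _ hx
    rw [if_neg]
    rintro ⟨-, -, h3⟩
    apply hx
    rw [← h3, mul_inv_cancel_right]
  · intro h
    exact absurd (Finset.mem_univ _) h

/-- at the identity there is exactly one factorization -/
theorem sum_pairs_one (p : ℕ) [Fact p.Prime] :
    ∑ y : G, pElemInd p ((1 : G) * y⁻¹) * pRegInd p y = 1 := by
  classical
  have hp : p.Prime := Fact.out
  rw [Finset.sum_eq_single (1 : G)]
  · unfold pElemInd pRegInd
    rw [if_pos ⟨0, by simp⟩, if_pos (by simpa using hp.one_lt.ne'), one_mul]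
  · intro y _ hy
    unfold pElemInd pRegInd
    by_cases h1 : ∃ k : ℕ, orderOf ((1 : G) * y⁻¹) = p ^ k
    · by_cases h2 : ¬ p ∣ orderOf y
      · exfalso
        obtain ⟨k, hk⟩ := h1
        rw [one_mul, orderOf_inv] at hk
        have hk0 : k = 0 := by
          by_contra hk0
          apply h2
          rw [hk]
          exact dvd_pow_self p hk0
        rw [hk0, pow_zero, orderOf_eq_one_iff] at hk
        exact hy hk
      · rw [if_neg h2, mul_zero]
    · rw [if_neg h1, zero_mul]
  · intro h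
    exact absurd (Finset.mem_univ _) h

/-- the number of `p`-regular elements is prime to `p` -/
theorem not_dvd_card_pRegular [Fact p.Prime] (hM : Cfsg.IsPModular p M) :
    ¬ p ∣ Nat.card {y : G // ¬ p ∣ orderOf y} := by
  intro hdvd
  have hp : p.Prime := Fact.out
  have h1 := kulshammer_core (G := G) hM (1 : G) (by simpa using hp.one_lt.ne')
  rw [sum_pairs_one, ← card_pRegular_eq_sum] at h1
  have h2 : Cfsg.MemLocalIdeal M ((Nat.card {y : G // ¬ p ∣ orderOf y} : ℂ)
      * Cfsg.blockCoeff (Cfsg.principalBlock M G) 1) :=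
    memLocalIdeal_mul_right hM ((memLocalIdeal_natCast_iff hM _).mpr hdvd)
      (blockCoeff_memLocalRing hM _ isPBlock_principalBlock 1)
  have h3 := memLocalIdeal_add hM h1 h2
  rw [sub_add_cancel] at h3
  exact not_memLocalIdeal_one hM h3

/-- **Külshammer's formula** for the principal block idempotent. -/
theorem kulshammer [Fact p.Prime] (hM : Cfsg.IsPModular p M) (g : G) (hg : ¬ p ∣ orderOf g) :
    Cfsg.MemLocalIdeal M (Cfsg.blockCoeff (Cfsg.principalBlock M G) g
      - (Nat.card {xy : G × G // (∃ k : ℕ, orderOf xy.1 = p ^ k) ∧ ¬ p ∣ orderOf xy.2 ∧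
          xy.1 * xy.2 = g} : ℂ) / (Nat.card {y : G // ¬ p ∣ orderOf y} : ℂ)) := by
  have h1 := kulshammer_core (G := G) hM g hg
  rw [← card_pairs_eq_sum, ← card_pRegular_eq_sum] at h1
  have hR := not_dvd_card_pRegular (G := G) hM
  have hRne : (Nat.card {y : G // ¬ p ∣ orderOf y} : ℂ) ≠ 0 := by
    intro h
    apply hR
    have : Nat.card {y : G // ¬ p ∣ orderOf y} = 0 := by exact_mod_cast h
    rw [this]
    exact dvd_zero p
  have h2 := memLocalIdeal_mul_right hM (memLocalIdeal_neg h1) (memLocalRing_natCast_inv hM hR)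
  convert h2 using 1
  field_simp
  ring

end Cfsg.Agent.Lib.Helper7
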