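import Mathlib
import Cfsg.Agent.H5.TCkSound

/-!
# S2112 (architect helper7): the Schur multiplier of `Sz(8)` is `C₂ × C₂` — word data

Words are lists of letters in helper5's `Cfsg.H5.TCk` convention: letter `2 i` is the generator `i`, letter
`2 i + 1` its inverse, and `ev g [l₀, l₁, …] = gl g l₀ * gl g l₁ * ⋯`.

Three generators `h₁ h₂ h₃` (letters `0/1`, `2/3`, `4/5`), all of order `7`:
`h₁ = δ(ζ)`, `h₂ = τ(1,0) h₁ τ(1,0)⁻¹`, `h₃ = ω h₂ ω⁻¹` in the Suzuki–Tits ovoid model of `Sz(8)`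
(`ζ³ = ζ + 1`).  `B = ⟨h₁, h₂⟩` is the Borel subgroup `2^{3+3} : 7` of order `448` and index `65`.
-/

set_option autoImplicit false

namespace Cfsg.Agent.Lib.Helper7.Sz8

open Cfsg.H5.TCk

/-- `tH2 h₁ tH2⁻¹ = h₂` -/
def tH2 : List ℕ := [0, 2, 1, 3, 3]
/-- `uW h₁ uW⁻¹ = h₃` -/
def uW : List ℕ := [0, 4, 2, 4, 1, 5]
/-- `vW h₁ vW⁻¹ = h₁⁻¹` -/
def vW : List ℕ := [2, 4, 1, 5, 2, 2]

/-- `h₁⁷` -/
def relH1 : List ℕ := [0, 0, 0, 0, 0, 0, 0]
/-- `h₂⁻¹ (tH2 h₁ tH2⁻¹)` -/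
def relH2 : List ℕ := [3] ++ tH2 ++ [0] ++ winv tH2
def relR3 : List ℕ := [0, 0, 0, 3, 1, 3, 1, 2]
def relR4 : List ℕ := [0, 0, 0, 2, 1, 3, 0, 3, 3, 3]
/-- `h₃⁻¹ (uW h₁ uW⁻¹)` -/
def relU : List ℕ := [5] ++ uW ++ [0] ++ winv uW
/-- `h₁ (vW h₁ vW⁻¹)` -/
def relV : List ℕ := [0] ++ vW ++ [0] ++ winv vW
def relR7 : List ℕ := [0, 0, 0, 5, 1, 4, 1, 4]
def relR8 : List ℕ := [0, 2, 2, 5, 0, 2, 2, 5]
def relR9 : List ℕ := [0, 2, 5, 5, 0, 2, 5, 5]
def relR10 : List ℕ := [0, 4, 1, 2, 0, 4, 1, 2]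
def relR11 : List ℕ := [0, 0, 2, 0, 2, 0, 3, 0, 2]
def relR12 : List ℕ := [0, 2, 4, 2, 5, 5, 5, 2, 2]

/-- words for `τ(0,ζ+1)`, `τ(ζ+1,ζ²+1)`, `τ(0,ζ)`, `τ(ζ²,1)` -/
def w1 : List ℕ := [1, 2, 1, 2]
def v1 : List ℕ := [2, 1]
def w2 : List ℕ := [0, 3, 0, 3]
def v2 : List ℕ := [3, 0]

/-- the commutator `[w1, v1]`, trivial in `Sz(8)`; it generates the kernel of the cover with `wordC2` -/
def wordC1 : List ℕ := w1 ++ v1 ++ winv w1 ++ winv v1
/-- the commutator `[w2, v2]` -/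
def wordC2 : List ℕ := w2 ++ v2 ++ winv w2 ++ winv v2

/-- a presentation of `B = 2^{3+3} : 7` on `h₁, h₂` -/
def relsB : List (List ℕ) := [relH1, relH2, relR3, relR4]

/-- a presentation of `Sz(8)` on `h₁, h₂, h₃` -/
def relsG : List (List ℕ) :=
  relsB ++ [relU, relV, relR7, relR8, relR9, relR10, relR11, relR12]

/-- the relators of `relsG` corrected by their values in the cover (`1`, `c₁`, `c₂` or `c₁c₂`) -/
def relsGhat : List (List ℕ) :=
  [relH1, relH2, relR3 ++ wordC1, relR4 ++ wordC2, relU, relV, relR7 ++ wordC1, relR8, relR9, relR10,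
    relR11, relR12 ++ wordC2]

/-- the commutator word of a word and a generator -/
def cwordS (r : List ℕ) (g : ℕ) : List ℕ := r ++ [2 * g] ++ winv r ++ [2 * g + 1]

/-- a presentation of the cover `2² · Sz(8)` -/
def relsHat : List (List ℕ) :=
  relsGhat ++ [wordC1 ++ wordC1, wordC2 ++ wordC2] ++
    [cwordS wordC1 0, cwordS wordC1 1, cwordS wordC1 2, cwordS wordC2 0, cwordS wordC2 1, cwordS wordC2 2]

/-- relators valid in every extension of `B` by a central `2`-group `Z`, modulo `⟨c₁, c₂⟩`, on the lifts of order `7` -/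
def relsC : List (List ℕ) :=
  [relH1, relH2, cwordS relR3 0, cwordS relR3 1, cwordS relR4 0, cwordS relR4 1, wordC1, wordC2]

/-- **The data of `Sz(8)` used by the proof**: three generators satisfying the relators, and the order. -/
structure IsSz8Triple {G : Type*} [Group G] (g : ℕ → G) : Prop where
  card : Nat.card G = 29120
  gen : Subgroup.closure (Set.range fun i : Fin 3 => g i.val) = ⊤
  rels : ∀ r ∈ relsG, ev g r = 1
  c1 : ev g wordC1 = 1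
  c2 : ev g wordC2 = 1
  w1sq : ev g (w1 ++ w1) = 1
  w2sq : ev g (w2 ++ w2) = 1

end Cfsg.Agent.Lib.Helper7.Sz8
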