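import Mathlib
import Cfsg.Agent.Lib.Helper7.BGTypesD
import Cfsg.Agent.S1354
import Cfsg.Agent.S1364
import Cfsg.Agent.S1365
import Cfsg.Agent.S1366
import Cfsg.Agent.S1368

/-!
# Helper7: B&G section 16 -- constructing type `P` data

* `isOfTypeF_of`: a builder for `IsOfTypeF ↥X`.
* `isSelfNormalizingCyclic_of`: `K`, `K* = C_{M_σ}(K)` form a self-normalizing cyclic pair
  (from the frozen row S1370 as a hypothesis, and the landed S1366, S1368).
* `isTypePWith_of`: type `P` data `(K, U', K*)` for a maximal subgroup with `K ≠ 1`, from a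
  `K`-invariant nilpotent complement `U'` of `M_F` in `M'` (and the frozen rows S1356, S1370 as
  hypotheses).
-/

set_option autoImplicit false
set_option linter.unusedSectionVars false
set_option linter.unusedVariables false
open Cfsg

namespace Cfsg.Agent.Lib.Helper7.BGTypes

open Cfsg.Agent.Lib.Helper10.BG Cfsg.Agent.Lib.Helper10 Cfsg.Agent.Lib.Helper9.BGExc
open Cfsg.Agent.Lib.Helper1.BGSigmaDecomp

variable {G : Type*} [Group G] [Finite G]

/-- A builder for groups of Frobenius type: `X = H ⋊ U` with `H = X_F ≠ 1`, `U ≠ 1` abelian and a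
subgroup `U₀ ≤ U` of the same exponent acting regularly on `H`. -/
theorem isOfTypeF_of {X H U U₀ : Subgroup G}
    (hsolv : Group.IsSolvable X) (hodd : Odd (Nat.card X))
    (hH : fittingHallOf X = H) (hH1 : H ≠ ⊥) (hU1 : U ≠ ⊥)
    (hc : IsComplIn H U X) (hUab : ∀ a ∈ U, ∀ b ∈ U, a * b = b * a)
    (hU₀ : U₀ ≤ U) (hexp : Monoid.exponent U₀ = Monoid.exponent U)
    (hreg : ∀ u ∈ U₀, u ≠ 1 → ∀ x ∈ H, u * x = x * u → x = 1) :
    IsOfTypeF ↥X := by
  obtain ⟨hHX, hUX, hHU, hfact⟩ := hc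
  have hFH : fittingHall ↥X = H.subgroupOf X := by
    rw [← hH]
    unfold fittingHallOf
    exact (Subgroup.comap_map_eq_self_of_injective X.subtype_injective _).symm
  have hcard : Nat.card X = Nat.card H * Nat.card U :=
    Cfsg.Agent.Lib.Helper10.IsComplIn.card_eq ⟨hHX, hUX, hHU, hfact⟩
  have eH : Nat.card (H.subgroupOf X) = Nat.card H :=
    Nat.card_congr (Subgroup.subgroupOfEquivOfLe hHX).toEquiv
  have eU : Nat.card (U.subgroupOf X) = Nat.card U :=
    Nat.card_congr (Subgroup.subgroupOfEquivOfLe hUX).toEquiv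
  refine ⟨hsolv, hodd, ?_, ?_, U.subgroupOf X, ?_, ?_,
    ⟨U.subgroupOf X, le_rfl, Subgroup.le_normalizer, ?_, fun x _ _ => inf_le_left⟩,
    ⟨U₀.subgroupOf X, Subgroup.comap_mono hU₀, ?_, ?_⟩⟩
  · rw [hFH]
    intro h
    apply hH1
    rw [← Subgroup.card_eq_one, ← eH, h, Subgroup.card_bot]
  · rw [hFH]
    intro h
    have hXH : X ≤ H := Subgroup.subgroupOf_eq_top.mp h
    apply hU1
    rw [eq_bot_iff, ← hHU]
    exact le_inf (hUX.trans hXH) le_rfl
  · intro h
    apply hU1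
    rw [← Subgroup.card_eq_one, ← eU, h, Subgroup.card_bot]
  · rw [hFH]
    apply Subgroup.isComplement'_of_card_mul_and_disjoint
    · rw [eH, eU, ← hcard]
    · rw [disjoint_iff, eq_bot_iff]
      intro x hx
      obtain ⟨h1, h2⟩ := Subgroup.mem_inf.mp hx
      have h3 : (x : G) ∈ H ⊓ U := ⟨h1, h2⟩
      rw [hHU, Subgroup.mem_bot] at h3
      exact Subgroup.mem_bot.mpr (Subtype.ext h3)
  · exact ⟨⟨fun a b => Subtype.ext (Subtype.ext (hUab a.1.1 a.2 b.1.1 b.2))⟩⟩
  · have e1 : Monoid.exponent ↥(U₀.subgroupOf X) = Monoid.exponent ↥U₀ :=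
      Monoid.exponent_eq_of_mulEquiv (Subgroup.subgroupOfEquivOfLe (hU₀.trans hUX))
    have e2 : Monoid.exponent ↥(U.subgroupOf X) = Monoid.exponent ↥U :=
      Monoid.exponent_eq_of_mulEquiv (Subgroup.subgroupOfEquivOfLe hUX)
    rw [e1, e2, hexp]
  · intro u hu hu1 x hx hux
    rw [hFH] at hx
    have h1 := hreg (u : G) hu (fun h => hu1 (Subtype.ext h)) (x : G) hx
      (congrArg Subtype.val hux)
    exact Subtype.ext h1


/-- the set `Ẑ` of elements of `K K*` outside `K ∪ K*`. -/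
def hatZ (M K : Subgroup G) : Set G :=
  (↑(K ⊔ (sigmaCore M ⊓ Subgroup.centralizer (K : Set G))) : Set G) \
    ((K : Set G) ∪ ↑(sigmaCore M ⊓ Subgroup.centralizer (K : Set G)))

/-- `K` and `K* = C_{M_σ}(K)` form a self-normalizing cyclic pair, given the frozen row S1370
for `(M, K, U)`. -/
theorem isSelfNormalizingCyclic_of (hG : IsMinSimpleOddOrder G) {M K U : Subgroup G}
    (hM : IsCoatom M) (hKU : IsSigmaDecomposition M K U) (hK1 : K ≠ ⊥)
    (h70 : IsTISubset (hatZ M K) ∧ Subgroup.normalizer (hatZ M K) =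
      K ⊔ (sigmaCore M ⊓ Subgroup.centralizer (K : Set G))) :
    IsSelfNormalizingCyclic K (sigmaCore M ⊓ Subgroup.centralizer (K : Set G)) := by
  obtain ⟨Mstar, ⟨hMstar, hKst, hKstH⟩, -⟩ := Cfsg.Agent.S1366.result hG M hM K U hKU hK1
  obtain ⟨-, hcyc⟩ := Cfsg.Agent.S1368.result hG M hM K U hKU hK1 Mstar hMstar hKst hKstH
  have hKs1 : sigmaCore M ⊓ Subgroup.centralizer (K : Set G) ≠ ⊥ :=
    (Cfsg.Agent.S1354.result hG M hM K hKU.cyclic hKU.hall).1
  obtain ⟨Ks, hKs⟩ : ∃ Ks, Ks = sigmaCore M ⊓ Subgroup.centralizer (K : Set G) := ⟨_, rfl⟩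
  have hZdef : hatZ M K = (↑(K ⊔ Ks) : Set G) \ ((K : Set G) ∪ ↑Ks) := by rw [hKs]; rfl
  rw [← hKs] at hcyc hKs1 h70 ⊢
  rw [hZdef] at h70
  obtain ⟨hTI, hN⟩ := h70
  have hcomm : ∀ a ∈ K ⊔ Ks, ∀ b ∈ K ⊔ Ks, a * b = b * a := by
    intro a ha b hb
    have hc : IsMulCommutative ↥(K ⊔ Ks) := IsCyclic.isMulCommutative
    exact congrArg Subtype.val (mul_comm' (⟨a, ha⟩ : ↥(K ⊔ Ks)) ⟨b, hb⟩)
  refine ⟨hK1, hKs1, ?_, ?_, hcyc, ?_⟩
  · rw [eq_bot_iff, ← K_inf_sigmaCore hG hM hKU, hKs]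
    exact inf_le_inf_left _ inf_le_left
  · intro a ha b hb
    exact hcomm a (Subgroup.mem_sup_left ha) b (Subgroup.mem_sup_right hb)
  · intro X hX hXne
    apply le_antisymm
    · intro g hg
      obtain ⟨x, hx⟩ := hXne
      have hxZ := hX hx
      have hx1 : x ≠ 1 := by
        rintro rfl
        exact hxZ.2 (Or.inl K.one_mem)
      have hgx : g * x * g⁻¹ ∈ X := (Subgroup.mem_set_normalizer_iff.mp hg x).mp hx
      rw [← hN]
      by_contra hgn
      exact hx1 (hTI g hgn x hxZ (hX hgx))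
    · intro z hz
      rw [Subgroup.mem_set_normalizer_iff]
      intro h
      constructor
      · intro hh
        have : z * h * z⁻¹ = h := by
          rw [hcomm z hz h (hX hh).1]; group
        rw [this]; exact hh
      · intro hh
        have hhZ : h ∈ K ⊔ Ks := by
          have h1 := (hX hh).1
          have h2 : h = z⁻¹ * (z * h * z⁻¹) * z := by group
          rw [h2]
          exact (K ⊔ Ks).mul_mem ((K ⊔ Ks).mul_mem ((K ⊔ Ks).inv_mem hz) h1) hz
        have : z * h * z⁻¹ = h := by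
          rw [hcomm z hz h hhZ]; group
        rwa [this] at hh

/-- `K ≠ 1` forces `κ(M) ≠ ∅`. -/
theorem kappa_nonempty_of_K_ne_bot {M K U : Subgroup G} (hKU : IsSigmaDecomposition M K U)
    (hK1 : K ≠ ⊥) : (kappa M).Nonempty := by
  obtain ⟨p, hp, hpd⟩ := Nat.exists_prime_and_dvd
    (fun h : Nat.card K = 1 => hK1 (Subgroup.card_eq_one.mp h))
  exact ⟨p, hKU.hall.2.1 p hp hpd⟩

/-- `M' ∩ K = 1` and `M' K = M` when `K ≠ 1`. -/
theorem isComplIn_commutator_K (hG : IsMinSimpleOddOrder G) {M K U : Subgroup G}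
    (hM : IsCoatom M) (hKU : IsSigmaDecomposition M K U) (hK1 : K ≠ ⊥) :
    IsComplIn ⁅M, M⁆ K M := by
  have hM' : ⁅M, M⁆ = U ⊔ sigmaCore M := (Cfsg.Agent.S1365.result hG M hM K U hKU hK1).1
  have hcard' : Nat.card ↥⁅M, M⁆ = Nat.card U * Nat.card (sigmaCore M) := by
    rw [hM']; exact card_U_sup_sigmaCore hG hM hKU
  have hcop : (Nat.card ↥⁅M, M⁆).Coprime (Nat.card K) := by
    rw [hcard']
    apply Nat.Coprime.mul_left
    · exact Cfsg.Agent.Lib.Helper3.BG14.coprime_card_U_K hG hM hKU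
    · apply Nat.coprime_of_dvd
      intro q hq hd1 hd2
      exact not_mem_sigma_of_dvd_card_K hKU hq hd2 (mem_sigma_of_dvd_card_sigmaCore hG hM hq hd1)
  apply Cfsg.Agent.Lib.Helper3.BG14.isComplIn_of_inf_of_card (commutator_le_self M) hKU.hall.1
    (Subgroup.inf_eq_bot_of_coprime hcop)
  rw [hcard', card_eq hG hM hKU]; ring

/-- **type `P` data for a maximal subgroup with `K ≠ 1`**, from a `K`-invariant nilpotent
complement `U'` of `M_F` in `M'`, the frozen row S1356 for `M` and the frozen row S1370 for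
`(M, K, U)`. -/
theorem isTypePWith_of (hG : IsMinSimpleOddOrder G) {M K U U' : Subgroup G}
    (hM : IsCoatom M) (hKU : IsSigmaDecomposition M K U) (hK1 : K ≠ ⊥)
    (hU'n : Group.IsNilpotent U') (hKU' : K ≤ Subgroup.normalizer (U' : Set G))
    (hU'c : IsComplIn (fittingHallOf M) U' ⁅M, M⁆)
    (h56 : ⁅⁅M, M⁆, ⁅M, M⁆⁆ ≤ fittingOf M ∧
      fittingOf M = (M ⊓ Subgroup.centralizer (fittingHallOf M : Set G)) ⊔ fittingHallOf M ∧
      ((kappa M).Nonempty → fittingOf M ≤ ⁅M, M⁆))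
    (h70 : IsTISubset (hatZ M K) ∧ Subgroup.normalizer (hatZ M K) =
      K ⊔ (sigmaCore M ⊓ Subgroup.centralizer (K : Set G))) :
    IsTypePWith M K U' (sigmaCore M ⊓ Subgroup.centralizer (K : Set G)) := by
  obtain ⟨h56a, h56b, h56c⟩ := h56
  obtain ⟨-, -, hKsH, hHnc⟩ := Cfsg.Agent.S1364.result hG M hM K U hKU hK1
  obtain ⟨hM', hKs''⟩ := Cfsg.Agent.S1365.result hG M hM K U hKU hK1
  have hcK := isComplIn_commutator_K hG hM hKU hK1
  have hfit : fittingHallOf M ⊔ (M ⊓ Subgroup.centralizer (fittingHallOf M : Set G)) = fittingOf M := by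
    rw [h56b, sup_comm]
  refine
    { W₁_ne := hK1
      W₁_cyclic := hKU.cyclic
      W₁_hall := ?_
      W₁_compl := hcK
      U_nilpotent := hU'n
      U_normal := hKU'
      U_compl := hU'c
      H_not_cyclic := hHnc
      derived_two_le := by rw [hfit]; exact h56a
      fitting_eq := hfit
      fitting_le := h56c (kappa_nonempty_of_K_ne_bot hKU hK1)
      W₂_le := le_inf hKsH hKs''
      W₂_centralizer := ?_
      selfNormalizing := isSelfNormalizingCyclic_of hG hM hKU hK1 h70 }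
  · apply Nat.coprime_of_dvd
    intro q hq hd1 hd2
    exact hKU.hall.2.2 q hq (hKU.hall.2.1 q hq hd1) hd2
  · intro x hx hx1
    have h54 := (Cfsg.Agent.S1354.result hG M hM K hKU.cyclic hKU.hall).2 hK1 x hx hx1
    apply le_antisymm
    · rintro m ⟨hmM', hmC⟩
      have h1 : m ∈ K ⊔ (sigmaCore M ⊓ Subgroup.centralizer (K : Set G)) := by
        rw [← h54]
        exact ⟨commutator_le_self M hmM', hmC⟩
      -- `K*` normalizes (indeed centralizes) `K`
      have hn : (sigmaCore M ⊓ Subgroup.centralizer (K : Set G)) ≤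
          Subgroup.normalizer (K : Set G) :=
        inf_le_right.trans (Subgroup.centralizer_le_normalizer _)
      obtain ⟨κ, hκ, s, hs, rfl⟩ := exists_mul_of_mem_sup_of_le_normalizer hn h1
      have hsM' : s ∈ ⁅M, M⁆ := by
        rw [hM']
        exact Subgroup.mem_sup_right hs.1
      have hκM' : κ ∈ ⁅M, M⁆ := by
        have : κ = κ * s * s⁻¹ := by group
        rw [this]
        exact (⁅M, M⁆).mul_mem hmM' ((⁅M, M⁆).inv_mem hsM')
      have h2 : κ ∈ ⁅M, M⁆ ⊓ K := ⟨hκM', hκ⟩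
      rw [hcK.2.2.1, Subgroup.mem_bot] at h2
      rw [h2, one_mul]
      exact hs
    · intro s hs
      refine ⟨?_, ?_⟩
      · rw [hM']
        exact Subgroup.mem_sup_right hs.1
      · exact Subgroup.mem_centralizer_singleton_iff.mpr
          (Subgroup.mem_centralizer_iff.mp hs.2 x hx).symm

end Cfsg.Agent.Lib.Helper7.BGTypes
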