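import Mathlib
import Cfsg.Agent.Lib.Helper7.BGTypesE
import Cfsg.Agent.S1355
import Cfsg.Agent.S1357
import Cfsg.Agent.S1360
import Cfsg.Agent.S1363
import Cfsg.Agent.S1372

/-!
# Helper7: B&G section 16 -- S1381 (Type II iff `K ≠ 1`, `U ≠ 1`) and S1382 (Type III or IV iff
`K ≠ 1`, `U = 1`, `M_F ≠ M_σ`), from the landed rows and the frozen rows S1356, S1370 as hypotheses.
-/

set_option autoImplicit false
set_option linter.unusedSectionVars false
set_option linter.unusedVariables false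
open Cfsg

namespace Cfsg.Agent.Lib.Helper7.BGTypes

open Cfsg.Agent.Lib.Helper10.BG Cfsg.Agent.Lib.Helper10 Cfsg.Agent.Lib.Helper9.BGExc
open Cfsg.Agent.Lib.Helper1.BGSigmaDecomp

variable {G : Type*} [Group G] [Finite G]

/-- the frozen row S1356 as a hypothesis. -/
def P1356 (G : Type*) [Group G] : Prop :=
  ∀ M : Subgroup G, IsCoatom M →
    ⁅⁅M, M⁆, ⁅M, M⁆⁆ ≤ fittingOf M ∧
      fittingOf M = (M ⊓ Subgroup.centralizer (fittingHallOf M : Set G)) ⊔ fittingHallOf M ∧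
      ((kappa M).Nonempty → fittingOf M ≤ ⁅M, M⁆)

/-- the frozen row S1370 as a hypothesis. -/
def P1370 (G : Type*) [Group G] : Prop :=
  ∀ M : Subgroup G, IsCoatom M → ∀ K U : Subgroup G, IsSigmaDecomposition M K U → K ≠ ⊥ →
    IsTISubset (hatZ M K) ∧ Subgroup.normalizer (hatZ M K) =
      K ⊔ (sigmaCore M ⊓ Subgroup.centralizer (K : Set G))

/-- `M_σ` is a complement of `U` in `U M_σ`. -/
theorem isComplIn_sigmaCore_U (hG : IsMinSimpleOddOrder G) {M K U : Subgroup G} (hM : IsCoatom M)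
    (hKU : IsSigmaDecomposition M K U) : IsComplIn (sigmaCore M) U (U ⊔ sigmaCore M) := by
  have hE := isComplIn_UK hG hM hKU
  apply Cfsg.Agent.Lib.Helper3.BG14.isComplIn_of_inf_of_card le_sup_right le_sup_left
  · rw [eq_bot_iff, ← hE.2.2.1, inf_comm]
    exact inf_le_inf_right _ le_sup_left
  · rw [card_U_sup_sigmaCore hG hM hKU, mul_comm]

/-- when `U ≠ 1` (and `K ≠ 1`): `(M')_F = M_σ`. -/
theorem fittingHallOf_commutator_eq (hG : IsMinSimpleOddOrder G) {M K U : Subgroup G}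
    (hM : IsCoatom M) (hKU : IsSigmaDecomposition M K U) (hK1 : K ≠ ⊥)
    (hnil : Group.IsNilpotent (sigmaCore M)) :
    fittingHallOf ⁅M, M⁆ = sigmaCore M := by
  have hM' : ⁅M, M⁆ = U ⊔ sigmaCore M := (Cfsg.Agent.S1365.result hG M hM K U hKU hK1).1
  have hσM' : sigmaCore M ≤ ⁅M, M⁆ := by rw [hM']; exact le_sup_right
  have hUM' : U ≤ ⁅M, M⁆ := by rw [hM']; exact le_sup_left
  have hcardM' : Nat.card ↥⁅M, M⁆ = Nat.card U * Nat.card (sigmaCore M) := by
    rw [hM']; exact card_U_sup_sigmaCore hG hM hKU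
  have hcopU : (Nat.card U).Coprime (Nat.card (sigmaCore M)) := by
    apply Nat.coprime_of_dvd
    intro q hq hd1 hd2
    exact not_mem_sigma_of_dvd_card_U hG hM hKU hq hd1
      (mem_sigma_of_dvd_card_sigmaCore hG hM hq hd2)
  -- `M_σ ≤ (M')_F`
  have hge : sigmaCore M ≤ fittingHallOf ⁅M, M⁆ := by
    have hn : ((sigmaCore M).subgroupOf ⁅M, M⁆).Normal :=
      Subgroup.normal_subgroupOf_of_le_normalizer
        ((commutator_le_self M).trans (le_normalizer_sigmaCore M))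
    have hnil' : Group.IsNilpotent ((sigmaCore M).subgroupOf ⁅M, M⁆) := by
      have := hnil
      exact Group.nilpotent_of_mulEquiv (Subgroup.subgroupOfEquivOfLe hσM').symm
    have hcop' : (Nat.card ((sigmaCore M).subgroupOf ⁅M, M⁆)).Coprime
        ((sigmaCore M).subgroupOf ⁅M, M⁆).index := by
      have e1 : Nat.card ((sigmaCore M).subgroupOf ⁅M, M⁆) = Nat.card (sigmaCore M) :=
        Nat.card_congr (Subgroup.subgroupOfEquivOfLe hσM').toEquiv
      have e2 : ((sigmaCore M).subgroupOf ⁅M, M⁆).index = Nat.card U := by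
        have h1 := Cfsg.Agent.Lib.Helper12.card_mul_relIndex_eq hσM'
        have h3 : Nat.card (sigmaCore M) * (sigmaCore M).relIndex ⁅M, M⁆ =
            Nat.card (sigmaCore M) * Nat.card U := by
          rw [h1, hcardM', mul_comm]
        exact Nat.eq_of_mul_eq_mul_left Nat.card_pos h3
      rw [e1, e2]
      exact hcopU.symm
    have h1 := le_fittingHall hn hnil' hcop'
    have h2 := Subgroup.map_mono (f := (⁅M, M⁆).subtype) h1
    rw [Subgroup.map_subgroupOf_eq_of_le hσM'] at h2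
    exact h2
  apply le_antisymm _ hge
  -- `(M')_F` is a `σ(M)`-group
  obtain ⟨N, hN⟩ : ∃ N, N = fittingHallOf ⁅M, M⁆ := ⟨_, rfl⟩
  rw [← hN] at hge ⊢
  have hNM' : N ≤ ⁅M, M⁆ := hN ▸ fittingHallOf_le _
  have hNn : ⁅M, M⁆ ≤ Subgroup.normalizer (N : Set G) := hN ▸ le_normalizer_fittingHallOf _
  have hNnil : Group.IsNilpotent N := hN ▸ isNilpotent_fittingHallOf _
  have hNcop : (Nat.card N).Coprime (N.relIndex ⁅M, M⁆) := hN ▸ fittingHallOf_coprime _
  apply le_sigmaCore_of_sigma_group hG hM (hNM'.trans (commutator_le_self M))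
  intro p hp hpN
  by_contra hpσ
  haveI : Fact p.Prime := ⟨hp⟩
  have hpσ' : ¬ p ∣ Nat.card (sigmaCore M) :=
    fun h => hpσ (mem_sigma_of_dvd_card_sigmaCore hG hM hp h)
  have hpU : p ∣ Nat.card U := by
    have h1 : p ∣ Nat.card ↥⁅M, M⁆ := hpN.trans (Subgroup.card_dvd_of_le hNM')
    rw [hcardM'] at h1
    rcases (Nat.Prime.dvd_mul hp).mp h1 with h | h
    · exact h
    · exact absurd h hpσ'
  obtain ⟨U₀, hU₀, hexp, hU₀reg⟩ := Cfsg.Agent.S1360.result hG M hM K U hKU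
  obtain ⟨g, hg⟩ := exists_prime_orderOf_dvd_card' (G := U) p hpU
  have h1 : p ∣ Monoid.exponent ↥U := hg ▸ Monoid.order_dvd_exponent g
  rw [← hexp] at h1
  have h2 : p ∣ Nat.card U₀ := h1.trans Group.exponent_dvd_nat_card
  obtain ⟨u, hu⟩ := exists_prime_orderOf_dvd_card' (G := U₀) p h2
  have huo : orderOf (u : G) = p := by rw [Subgroup.orderOf_coe]; exact hu
  have hu1 : (u : G) ≠ 1 := by
    intro h
    rw [h, orderOf_one] at huo
    exact hp.one_lt.ne huo
  have hup : IsPGroup p (Subgroup.zpowers (u : G)) :=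
    IsPGroup.of_card (n := 1) (by rw [pow_one, Nat.card_zpowers, huo])
  have hnd : ¬ p ∣ N.relIndex ⁅M, M⁆ := by
    intro hd
    exact hp.one_lt.ne' (Nat.eq_one_of_dvd_coprimes hNcop hpN hd)
  have huN : (u : G) ∈ N :=
    pgroup_le_of_not_dvd_relIndex hNn hnd hup
      (Subgroup.zpowers_le.mpr (hUM' (hU₀ u.2))) (Subgroup.mem_zpowers _)
  obtain ⟨y, hy, hy1⟩ : ∃ y ∈ sigmaCore M, y ≠ 1 := by
    by_contra hcon
    push Not at hcon
    exact sigmaCore_ne_bot hG hM ((Subgroup.eq_bot_iff_forall _).mpr hcon)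
  have hcomm : (u : G) * y = y * u := by
    apply Cfsg.Agent.Lib.Helper1.BGFcons.commute_of_coprime_of_nilpotent hNnil huN (hge hy)
    rw [huo]
    apply (Nat.Prime.coprime_iff_not_dvd hp).mpr
    intro hd
    apply hpσ'
    have h3 : orderOf y ∣ Nat.card (sigmaCore M) := by
      have := orderOf_dvd_natCard (⟨y, hy⟩ : sigmaCore M)
      rwa [Subgroup.orderOf_mk] at this
    exact hd.trans h3
  exact hu1 (hU₀reg u u.2 ⟨hKU.compl.1 (hU₀ u.2), y, hy, hy1, hcomm⟩)

/-- **S1381** from the frozen row S1370 and the conclusions of S1356 for `M` (needed only when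
`K ≠ 1` and `U ≠ 1`). -/
theorem s1381_core (hG : IsMinSimpleOddOrder G) (h70 : P1370 G)
    (M : Subgroup G) (hM : IsCoatom M) (K U : Subgroup G) (hKU : IsSigmaDecomposition M K U)
    (h56M : K ≠ ⊥ → U ≠ ⊥ → (⁅⁅M, M⁆, ⁅M, M⁆⁆ ≤ fittingOf M ∧
      fittingOf M = (M ⊓ Subgroup.centralizer (fittingHallOf M : Set G)) ⊔ fittingHallOf M ∧
      ((kappa M).Nonempty → fittingOf M ≤ ⁅M, M⁆))) :
    IsOfTypeII M ↔ (K ≠ ⊥ ∧ U ≠ ⊥) := by
  constructor
  · rintro ⟨W₁, U', W₂, hP, hU'1, -, -, -, hN, -, -⟩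
    exact ⟨K_ne_bot_of_typeP hG hM hP hKU.hall,
      U_ne_bot_of_not_normalizer_le hG hM hKU hP hU'1 hN⟩
  · rintro ⟨hK1, hU1⟩
    obtain ⟨hUc, hN⟩ := Cfsg.Agent.S1363.result hG M hM K U hKU hK1
    have hUab : ∀ a ∈ U, ∀ b ∈ U, a * b = b * a := fun a ha b hb =>
      congrArg Subtype.val (mul_comm' (⟨a, ha⟩ : U) ⟨b, hb⟩)
    have hH : fittingHallOf M = sigmaCore M := by
      by_contra hne
      exact hU1 (Cfsg.Agent.S1357.result hG M hM K U hKU hne).1
    have hnil : Group.IsNilpotent (sigmaCore M) := hH ▸ isNilpotent_fittingHallOf M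
    have hM' : ⁅M, M⁆ = U ⊔ sigmaCore M := (Cfsg.Agent.S1365.result hG M hM K U hKU hK1).1
    have hc : IsComplIn (sigmaCore M) U ⁅M, M⁆ := hM' ▸ isComplIn_sigmaCore_U hG hM hKU
    have hUnil : Group.IsNilpotent U := by
      have := hUc
      exact Cfsg.Agent.Lib.Helper11.BG15.isNilpotent_of_comm
    have hP := isTypePWith_of hG hM hKU hK1 hUnil hKU.normal (hH ▸ hc) (h56M hK1 hU1)
      (h70 M hM K U hKU hK1)
    obtain ⟨hKp, hTI, -⟩ := Cfsg.Agent.S1372.result hG M hM K U hKU hK1 hU1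
    have hH' := fittingHallOf_commutator_eq hG hM hKU hK1 hnil
    obtain ⟨U₀, hU₀, hexp, hU₀reg⟩ := Cfsg.Agent.S1360.result hG M hM K U hKU
    have hM'top : ⁅M, M⁆ ≠ ⊤ := fun h => hM.1 (top_le_iff.mp (h ▸ commutator_le_self M))
    have hF : IsOfTypeF ↥⁅M, M⁆ :=
      isOfTypeF_of (isSolvable_of_ne_top hG hM'top)
        (Odd.of_dvd_nat hG.1 (Subgroup.card_subgroup_dvd_card _)) hH'
        (sigmaCore_ne_bot hG hM) hU1 hc hUab hU₀ hexp
        (fun u hu hu1 x hx hux => by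
          by_contra hx1
          exact hu1 (hU₀reg u hu ⟨hKU.compl.1 (hU₀ hu), x, hx, hx1, hux⟩))
    exact ⟨K, U, _, hP, hU1, hKp, hTI, hUc, hN, hF, hH'.trans hH.symm⟩


/-- **S1381** from the frozen rows S1356 and S1370. -/
theorem s1381_of (hG : IsMinSimpleOddOrder G) (h56 : P1356 G) (h70 : P1370 G)
    (M : Subgroup G) (hM : IsCoatom M) (K U : Subgroup G) (hKU : IsSigmaDecomposition M K U) :
    IsOfTypeII M ↔ (K ≠ ⊥ ∧ U ≠ ⊥) :=
  s1381_core hG h70 M hM K U hKU (fun _ _ => h56 M hM)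

/-! ### S1382 -/

/-- when `U = 1`: a `K`-invariant complement `U'` of `M_F` in `M_σ` (a Hall subgroup of `M`). -/
theorem exists_invariant_compl (hG : IsMinSimpleOddOrder G) {M K U : Subgroup G}
    (hM : IsCoatom M) (hKU : IsSigmaDecomposition M K U) (hU : U = ⊥) :
    ∃ U' : Subgroup G, IsComplIn (fittingHallOf M) U' (sigmaCore M) ∧
      K ≤ Subgroup.normalizer (U' : Set G) ∧
      (Nat.card U').Coprime (Nat.card (fittingHallOf M)) ∧
      (Nat.card U').Coprime (U'.relIndex M) := by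
  obtain ⟨F, hF⟩ : ∃ F, F = fittingHallOf M := ⟨_, rfl⟩
  rw [← hF]
  have hFM : F ≤ M := hF ▸ fittingHallOf_le M
  have hFσ : F ≤ sigmaCore M :=
    hF ▸ Cfsg.Agent.Lib.Helper1.BGFthm.fittingHallOf_le_sigmaCore hG hM
  have hFcop : (Nat.card F).Coprime (F.relIndex M) := hF ▸ fittingHallOf_coprime M
  have hKM : K ≤ M := hKU.hall.1
  have hMs : Group.IsSolvable ↥M := isSolvable_of_ne_top hG hM.1
  have hcardM : Nat.card M = F.relIndex M * Nat.card F := by
    rw [mul_comm]; exact (Cfsg.Agent.Lib.Helper12.card_mul_relIndex_eq hFM).symm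
  obtain ⟨H₀, hH₀⟩ := Cfsg.Agent.Lib.Helper1.hall_exists (G := ↥M) (F.relIndex M) (Nat.card F)
    hcardM hFcop.symm
  obtain ⟨H₁, hH₁⟩ : ∃ H₁, H₁ = H₀.map M.subtype := ⟨_, rfl⟩
  have hH₁M : H₁ ≤ M := hH₁ ▸ Subgroup.map_subtype_le _
  have hH₁card : Nat.card H₁ = F.relIndex M := by
    rw [hH₁, Subgroup.card_map_of_injective M.subtype_injective, hH₀]
  have hH₁rel : H₁.relIndex M = Nat.card F := by
    have h1 := Cfsg.Agent.Lib.Helper12.card_mul_relIndex_eq hH₁M
    have h3 : Nat.card H₁ * H₁.relIndex M = Nat.card H₁ * Nat.card F := by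
      rw [h1, hcardM, hH₁card]
    exact Nat.eq_of_mul_eq_mul_left Nat.card_pos h3
  have hKF : (Nat.card K).Coprime (Nat.card F) := by
    apply Nat.coprime_of_dvd
    intro q hq hd1 hd2
    exact not_mem_sigma_of_dvd_card_K hKU hq hd1
      (mem_sigma_of_dvd_card_sigmaCore hG hM hq (hd2.trans (Subgroup.card_dvd_of_le hFσ)))
  obtain ⟨g, hgM, hg⟩ := hall_le_conj_in hMs hH₁M hKM
    (by rw [hH₁rel, hH₁card]; exact hFcop.symm) (by rw [hH₁rel]; exact hKF)
  obtain ⟨H, hH⟩ : ∃ H, H = H₁.map (MulAut.conj g⁻¹).toMonoidHom := ⟨_, rfl⟩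
  have hKH : K ≤ H := by
    have := Subgroup.map_mono (f := (MulAut.conj g⁻¹).toMonoidHom) hg
    rwa [map_conj_inv_map_conj, ← hH] at this
  have hHM : H ≤ M := by
    have := Subgroup.map_mono (f := (MulAut.conj g⁻¹).toMonoidHom) hH₁M
    rwa [map_conj_eq_self_of_mem (M.inv_mem hgM), ← hH] at this
  have hHcard : Nat.card H = F.relIndex M := by
    rw [hH, Subgroup.card_map_of_injective (MulAut.conj g⁻¹).injective, hH₁card]
  -- the complement
  have hsup : H ⊔ sigmaCore M = M := by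
    apply le_antisymm (sup_le hHM (sigmaCore_le M))
    exact (Cfsg.Agent.Lib.Helper1.BGFthm.K_sup_sigmaCore hKU hU).ge.trans
      (sup_le_sup_right hKH _)
  have hrel0 : F.relIndex M ≠ 0 := by
    intro h0
    rw [h0, zero_mul] at hcardM
    exact Nat.card_pos.ne' hcardM
  have hcard : Nat.card F * Nat.card ↥(H ⊓ sigmaCore M) = Nat.card (sigmaCore M) := by
    have h1 := Cfsg.H5.card_sup_mul_card_inf (hHM.trans (le_normalizer_sigmaCore M))
    rw [hsup, hHcard, hcardM] at h1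
    have h3 : F.relIndex M * (Nat.card F * Nat.card ↥(H ⊓ sigmaCore M)) =
        F.relIndex M * Nat.card (sigmaCore M) := by
      rw [← h1]; ring
    exact Nat.eq_of_mul_eq_mul_left (Nat.pos_of_ne_zero hrel0) h3
  refine ⟨H ⊓ sigmaCore M, ?_, ?_, ?_, ?_⟩
  · apply Cfsg.Agent.Lib.Helper3.BG14.isComplIn_of_inf_of_card hFσ inf_le_right _ hcard
    apply Subgroup.inf_eq_bot_of_coprime
    apply Nat.Coprime.coprime_dvd_right (Subgroup.card_dvd_of_le inf_le_left)
    rw [hHcard]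
    exact hFcop
  · apply Cfsg.Agent.Lib.Helper1.le_normalizer_of_forall_conj_mem
    intro k hk d hd
    refine Subgroup.mem_inf.mpr ⟨?_, ?_⟩
    · exact H.mul_mem (H.mul_mem (hKH hk) hd.1) (H.inv_mem (hKH hk))
    · exact (Subgroup.mem_normalizer_iff.mp (le_normalizer_sigmaCore M (hKM hk)) d).mp hd.2
  · apply Nat.Coprime.coprime_dvd_left (Subgroup.card_dvd_of_le inf_le_left)
    rw [hHcard]
    exact hFcop.symm
  · -- `U'` is a Hall subgroup of `M`
    have hU'M : H ⊓ sigmaCore M ≤ M := inf_le_left.trans hHM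
    have h1 := Cfsg.Agent.Lib.Helper12.card_mul_relIndex_eq hU'M
    have hcM := card_eq hG hM hKU
    rw [hU, Subgroup.card_bot, one_mul, ← hcard] at hcM
    have hrel : (H ⊓ sigmaCore M).relIndex M = Nat.card K * Nat.card F := by
      have h3 : Nat.card ↥(H ⊓ sigmaCore M) * (H ⊓ sigmaCore M).relIndex M =
          Nat.card ↥(H ⊓ sigmaCore M) * (Nat.card K * Nat.card F) := by
        rw [h1, hcM]; ring
      exact Nat.eq_of_mul_eq_mul_left Nat.card_pos h3
    rw [hrel]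
    apply Nat.Coprime.mul_right
    · apply Nat.coprime_of_dvd
      intro q hq hd1 hd2
      exact not_mem_sigma_of_dvd_card_K hKU hq hd2 (mem_sigma_of_dvd_card_sigmaCore hG hM hq
        (hd1.trans (Subgroup.card_dvd_of_le inf_le_right)))
    · apply Nat.Coprime.coprime_dvd_left (Subgroup.card_dvd_of_le inf_le_left)
      rw [hHcard]
      exact hFcop.symm


/-- a subgroup of `M'` meeting `M_F` trivially is nilpotent (S1355: `M'/M_F` is nilpotent). -/
theorem isNilpotent_of_inf_fittingHallOf_eq_bot (hG : IsMinSimpleOddOrder G) {M V : Subgroup G}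
    (hM : IsCoatom M) (hVM' : V ≤ ⁅M, M⁆) (hV : fittingHallOf M ⊓ V = ⊥) :
    Group.IsNilpotent V := by
  obtain ⟨-, -, -, -, hnil⟩ := Cfsg.Agent.S1355.result hG M hM
  have hVM : V ≤ M := hVM'.trans (commutator_le_self M)
  let π := QuotientGroup.mk' (fittingHall ↥M)
  have hmem : ∀ v : V, π (Subgroup.inclusion hVM v) ∈ (commutator ↥M).map π := by
    intro v
    apply Subgroup.mem_map_of_mem
    have h1 : (v : G) ∈ ⁅M, M⁆ := hVM' v.2
    rw [← Subgroup.map_subtype_commutator] at h1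
    obtain ⟨w, hw, hwv⟩ := h1
    have : w = Subgroup.inclusion hVM v := Subtype.ext hwv
    rw [← this]
    exact hw
  let f : V →* ↥((commutator ↥M).map π) :=
    (π.comp (Subgroup.inclusion hVM)).codRestrict _ hmem
  have := hnil
  apply Subgroup.isNilpotent_of_ker_le_center f
  intro v hv
  have h1 : π (Subgroup.inclusion hVM v) = 1 := congrArg Subtype.val (MonoidHom.mem_ker.mp hv)
  have h2 : Subgroup.inclusion hVM v ∈ fittingHall ↥M := (QuotientGroup.eq_one_iff _).mp h1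
  have h3 : (v : G) ∈ fittingHallOf M ⊓ V :=
    ⟨⟨Subgroup.inclusion hVM v, h2, rfl⟩, v.2⟩
  rw [hV, Subgroup.mem_bot] at h3
  have : v = 1 := Subtype.ext h3
  rw [this]
  exact Subgroup.one_mem _

open Cfsg.Agent.Lib.Helper1.BGStubs2 in
/-- **S1382** from the frozen rows S1356 and S1370. -/
theorem s1382_of (hG : IsMinSimpleOddOrder G) (h56 : P1356 G) (h70 : P1370 G)
    (M : Subgroup G) (hM : IsCoatom M) (K U : Subgroup G) (hKU : IsSigmaDecomposition M K U) :
    (IsOfTypeIII M ∨ IsOfTypeIV M) ↔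
      (K ≠ ⊥ ∧ U = ⊥ ∧ fittingHallOf M ≠ sigmaCore M) := by
  have h57 : ∀ (M : Subgroup G), IsCoatom M → ∀ K U : Subgroup G, IsSigmaDecomposition M K U →
      fittingHallOf M ≠ sigmaCore M →
        U = ⊥ ∧ IsTISubset (fittingOf M : Set G) ∧ (Nat.card K).Prime :=
    fun M hM K U hKU hne => Cfsg.Agent.S1357.result hG M hM K U hKU hne
  have h63 : P1363 G := fun M hM K U hKU hK1 => Cfsg.Agent.S1363.result hG M hM K U hKU hK1
  have h65 : P1365 G := fun M hM K U hKU hK1 => Cfsg.Agent.S1365.result hG M hM K U hKU hK1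
  constructor
  · intro h
    obtain ⟨W₁, U', W₂, hP, hU'1, hN⟩ : ∃ W₁ U' W₂ : Subgroup G, IsTypePWith M W₁ U' W₂ ∧
        U' ≠ ⊥ ∧ Subgroup.normalizer (U' : Set G) ≤ M := by
      rcases h with ⟨W₁, U', W₂, hP, hU'1, -, -, -, hN⟩ | ⟨W₁, U', W₂, hP, hU'1, -, -, -, hN⟩
      · exact ⟨W₁, U', W₂, hP, hU'1, hN⟩
      · exact ⟨W₁, U', W₂, hP, hU'1, hN⟩
    have hK1 : K ≠ ⊥ := K_ne_bot_of_typeP hG hM hP hKU.hall
    have hU : U = ⊥ := U_eq_bot_of_normalizer_le hG h57 h63 h65 hM hKU hP hU'1 hN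
    refine ⟨hK1, hU, ?_⟩
    intro hH
    have hσ := Cfsg.Agent.Lib.Helper1.BGFthm.sigmaCore_eq_commutator hG hM hKU hU
    have hc := Cfsg.Agent.Lib.Helper10.IsComplIn.card_eq hP.U_compl
    rw [hH, hσ] at hc
    have h1 : Nat.card U' = 1 := by
      have h2 : Nat.card ↥⁅M, M⁆ * Nat.card U' = Nat.card ↥⁅M, M⁆ * 1 := by
        rw [mul_one]; exact hc.symm
      exact Nat.eq_of_mul_eq_mul_left Nat.card_pos h2
    exact hU'1 (Subgroup.card_eq_one.mp h1)
  · rintro ⟨hK1, hU, hne⟩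
    obtain ⟨-, hTI, hKp⟩ := h57 M hM K U hKU hne
    have hσ := Cfsg.Agent.Lib.Helper1.BGFthm.sigmaCore_eq_commutator hG hM hKU hU
    obtain ⟨U', hc, hKU', hcopF, hhall⟩ := exists_invariant_compl hG hM hKU hU
    have hU'σ : U' ≤ sigmaCore M := hc.2.1
    have hU'n : Group.IsNilpotent U' :=
      isNilpotent_of_inf_fittingHallOf_eq_bot hG hM (hσ ▸ hU'σ) hc.2.2.1
    have hU'1 : U' ≠ ⊥ := by
      intro h
      apply hne
      have h1 := Cfsg.Agent.Lib.Helper10.IsComplIn.card_eq hc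
      rw [h, Subgroup.card_bot, mul_one] at h1
      exact Subgroup.eq_of_le_of_card_ge hc.1 (le_of_eq h1)
    have hP := isTypePWith_of hG hM hKU hK1 hU'n hKU' (hσ ▸ hc) (h56 M hM)
      (h70 M hM K U hKU hK1)
    have hN : Subgroup.normalizer (U' : Set G) ≤ M :=
      normalizer_le_of_nilpotent_sigma_hall hG hM (hU'σ.trans (sigmaCore_le M)) hU'n hU'1 hhall
        (fun r hr hrd => mem_sigma_of_dvd_card_sigmaCore hG hM hr
          (hrd.trans (Subgroup.card_dvd_of_le hU'σ)))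
    by_cases hab : IsMulCommutative U'
    · exact Or.inl ⟨K, U', _, hP, hU'1, hKp, hTI, hab, hN⟩
    · exact Or.inr ⟨K, U', _, hP, hU'1, hKp, hTI, hab, hN⟩

end Cfsg.Agent.Lib.Helper7.BGTypes
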