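import Cfsg.Agent.Lib.Helper22.Co1MP2Data
import Cfsg.Agent.Lib.Helper7.Co1MP2TCW.WB
import Cfsg.Agent.H5.TCkSound
import Cfsg.Agent.Lib.Helper4.TC.Trans

set_option autoImplicit false
set_option maxRecDepth 100000
set_option linter.unusedVariables false

/-! S2043-[P2], certificate `W` (helper7): the coset enumeration of the weak group with the relators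
`relsW` over the five generators of `sgens2` closes at 4096 cosets.  Certificate made with helper24's
`ptc`/`emit` for helper4's checker (files `Lib/Helper7/Co1MP2TCW/*`), here turned into the abstract
bound asked for by helper22. -/

namespace Cfsg.Agent.Lib.Helper22.Co1M

open Cfsg.Agent.Helper4.TC

namespace Helper7

/-- a bound for the index in a presented group gives the same bound in every group with such generators -/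
theorem abstract_bound {α : Type} (R S : Set (FreeGroup α)) (n : ℕ)
    (hb : Finite (PresentedGroup R ⧸ (Subgroup.closure S).map (PresentedGroup.mk R)) ∧
      Nat.card (PresentedGroup R ⧸ (Subgroup.closure S).map (PresentedGroup.mk R)) ≤ n)
    {M : Type} [Group M] (f : α → M) (Kt : Subgroup M) [Finite Kt]
    (hR : ∀ r ∈ R, FreeGroup.lift f r = 1) (hS : ∀ s ∈ S, FreeGroup.lift f s ∈ Kt)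
    (hgen : Subgroup.closure (Set.range f) = ⊤) : Finite M ∧ Nat.card M ≤ n * Nat.card Kt := by
  obtain ⟨hfin, hcard⟩ := hb
  let H : Subgroup (PresentedGroup R) := (Subgroup.closure S).map (PresentedGroup.mk R)
  let ψ : PresentedGroup R →* M := PresentedGroup.toGroup hR
  have hψ : Function.Surjective ψ := by
    rw [← MonoidHom.range_eq_top, eq_top_iff, ← hgen, Subgroup.closure_le]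
    rintro _ ⟨x, rfl⟩
    exact ⟨PresentedGroup.of x, PresentedGroup.toGroup.of hR⟩
  have hH : H ≤ Kt.comap ψ := by
    show (Subgroup.closure S).map (PresentedGroup.mk R) ≤ Kt.comap ψ
    rw [Subgroup.map_le_iff_le_comap, Subgroup.closure_le]
    intro s hs
    exact hS s hs
  let q : PresentedGroup R ⧸ H → M ⧸ Kt :=
    Quotient.map' ψ (fun a b hab => by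
      rw [QuotientGroup.leftRel_apply] at hab ⊢
      have := hH hab
      simpa [Subgroup.mem_comap, map_mul, map_inv] using this)
  have hq : Function.Surjective q := by
    intro y
    induction y using Quotient.inductionOn' with
    | h m =>
      obtain ⟨g, rfl⟩ := hψ m
      exact ⟨Quotient.mk'' g, rfl⟩
  have : Finite (PresentedGroup R ⧸ H) := hfin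
  have : Finite (M ⧸ Kt) := Finite.of_surjective q hq
  have hM : Finite M := Finite.of_equiv _ (Subgroup.groupEquivQuotientProdSubgroup (s := Kt)).symm
  refine ⟨hM, ?_⟩
  rw [Subgroup.card_eq_card_quotient_mul_card_subgroup Kt]
  exact Nat.mul_le_mul_right _ ((Nat.card_le_card_of_surjective q hq).trans hcard)

theorem invW_invW' (w : List ℕ) : invW (invW w) = w := by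
  unfold invW
  rw [List.map_reverse, List.reverse_reverse, List.map_map]
  have h : ((fun c => Nat.xor c 1) ∘ fun c => Nat.xor c 1) = id := by
    funext c
    show Nat.xor (Nat.xor c 1) 1 = c
    exact (Nat.xor_assoc c 1 1).trans (by simp)
  rw [h, List.map_id]

/-- `relsW` as a literal -/
noncomputable def relsWL : List (List ℕ) := [[2, 2, 2, 2, 2, 2, 2, 2, 2, 2, 2],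
  [4, 4, 4, 4, 4],
  [4, 3, 5, 2, 2, 2],
  [6, 6, 6, 6, 6],
  [0, 0, 0, 0, 0, 0, 0, 0, 0, 0, 0, 0, 0, 0, 0, 0, 0, 0, 0, 0, 0, 0, 0],
  [2, 1, 3, 0, 0],
  [7, 1, 1, 5, 3, 1, 4, 0, 2, 4, 0, 0],
  [8, 8, 8, 8, 8, 8, 8, 8, 8, 8, 8, 8, 8, 8, 8, 8, 8, 8, 8, 8, 8, 8, 8],
  [9, 9, 3, 8, 2],
  [6, 4, 4, 6, 4, 4],
  [7, 5, 5, 7, 4, 4, 4],
  [6, 5, 6, 4, 3, 6, 2, 2],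
  [6, 2, 6, 2, 6, 2, 6, 2],
  [7, 4, 4, 4, 7, 4, 4, 4],
  [6, 4, 6, 4, 6, 4, 6, 4],
  [6, 5, 7, 5, 6, 4, 6, 4],
  [7, 4, 6, 4, 7, 4, 6, 4],
  [7, 3, 4, 7, 7, 4, 4, 2, 2],
  [7, 5, 5, 7, 2, 5, 5, 2, 2],
  [6, 4, 4, 7, 5, 3, 6, 2, 2],
  [4, 4, 2, 7, 4, 3, 4, 1, 6, 2, 4, 0],
  [8, 5, 2, 4, 8, 0, 8, 5, 2, 4, 8, 0],
  [8, 5, 3, 5, 8, 0, 8, 4, 3, 4, 8, 0],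
  [8, 5, 3, 5, 9, 1, 9, 4, 3, 4, 8, 0],
  [8, 4, 9, 0, 9, 1, 9, 9, 0, 5, 8, 0],
  [9, 3, 1, 9, 4, 4, 3, 5, 3, 5, 8, 0],
  [8, 4, 1, 8, 8, 0, 8, 1, 8, 5, 8, 0],
  [2, 6, 5, 2, 7, 9, 3, 5, 3, 7, 8, 0],
  [2, 8, 8, 3, 9],
  [0, 0, 8, 0, 0, 8],
  [0, 2, 8, 1, 2, 9],
  [2, 2, 2, 4, 3, 5],
  [4, 4, 6, 4, 4, 6],
  [0, 8, 0, 9, 1, 9],
  [0, 8, 8, 0, 8, 8],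
  [0, 8, 0, 8, 0, 8],
  [0, 0, 8, 2, 0, 3, 8],
  [0, 2, 1, 9, 0, 2, 8],
  [0, 8, 1, 2, 9, 1, 2],
  [0, 3, 8, 2, 0, 8, 8],
  [2, 2, 2, 2, 5, 3, 4],
  [2, 2, 2, 5, 2, 2, 4],
  [2, 2, 4, 4, 2, 5, 5],
  [2, 4, 2, 5, 5, 3, 4],
  [2, 4, 3, 4, 3, 5, 5],
  [0, 2, 8, 1, 9, 2, 8],
  [0, 8, 2, 9, 1, 2, 9],
  [4, 4, 4, 7, 5, 5, 7],
  [0, 0, 2, 2, 1, 3, 0, 3],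
  [0, 0, 2, 0, 2, 1, 3, 3],
  [0, 0, 0, 0, 2, 1, 1, 3],
  [0, 2, 1, 9, 1, 2, 0, 8],
  [0, 0, 9, 2, 8, 8, 1, 3],
  [0, 0, 2, 1, 8, 8, 3, 9],
  [0, 3, 0, 8, 0, 3, 0, 8],
  [0, 3, 9, 1, 9, 3, 0, 8],
  [0, 3, 8, 0, 8, 3, 0, 8],
  [0, 2, 0, 3, 1, 2, 1, 3],
  [0, 2, 0, 8, 0, 2, 0, 8],
  [2, 2, 6, 5, 6, 4, 3, 6],
  [0, 2, 9, 1, 9, 2, 0, 8],
  [0, 4, 1, 9, 1, 5, 0, 8],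
  [0, 4, 0, 8, 0, 5, 0, 8],
  [2, 2, 5, 5, 2, 4, 2, 4],
  [2, 4, 2, 4, 4, 4, 3, 4],
  [2, 2, 5, 2, 5, 2, 4, 4],
  [2, 4, 3, 4, 3, 4, 4, 4],
  [2, 2, 4, 4, 2, 4, 4, 4],
  [2, 2, 5, 5, 5, 2, 5, 5],
  [0, 4, 9, 1, 9, 5, 0, 8],
  [0, 4, 8, 0, 8, 5, 0, 8],
  [2, 4, 2, 5, 3, 4, 3, 5],
  [0, 5, 9, 1, 9, 4, 0, 8],
  [0, 5, 8, 0, 8, 4, 0, 8],
  [0, 7, 0, 7, 0, 7, 0, 7],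
  [4, 6, 4, 7, 4, 6, 4, 7],
  [0, 0, 9, 1, 9, 9, 0, 8],
  [0, 8, 1, 8, 0, 8, 8, 8],
  [2, 2, 9, 9, 3, 9, 3, 8],
  [0, 8, 2, 8, 0, 8, 2, 8],
  [2, 8, 3, 8, 2, 9, 3, 9],
  [0, 8, 3, 8, 0, 8, 3, 8],
  [0, 8, 4, 8, 0, 8, 5, 8],
  [0, 8, 4, 9, 1, 9, 5, 8],
  [0, 0, 8, 0, 9, 9, 1, 9],
  [2, 8, 8, 8, 8, 3, 9, 9],
  [2, 2, 8, 8, 3, 8, 3, 9],
  [0, 0, 0, 9, 3, 1, 8, 1, 3],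
  [0, 0, 3, 3, 4, 2, 5, 1, 3],
  [0, 0, 3, 4, 2, 5, 3, 1, 3],
  [0, 0, 4, 2, 5, 3, 3, 1, 3],
  [0, 0, 5, 2, 2, 2, 4, 1, 3],
  [0, 0, 2, 2, 8, 1, 2, 9, 3],
  [0, 2, 8, 2, 1, 3, 0, 2, 9],
  [0, 0, 2, 9, 3, 1, 8, 3, 3],
  [0, 3, 8, 1, 9, 1, 8, 1, 2],
  [0, 3, 8, 8, 0, 8, 8, 1, 2],
  [0, 3, 9, 0, 3, 9, 0, 3, 9],
  [0, 8, 1, 3, 9, 2, 8, 1, 8],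
  [0, 3, 8, 2, 9, 0, 9, 1, 9],
  [0, 3, 8, 0, 9, 3, 9, 1, 9],
  [0, 2, 9, 1, 9, 9, 2, 1, 9],
  [0, 8, 1, 2, 8, 0, 8, 8, 2],
  [0, 9, 2, 0, 9, 2, 0, 9, 2],
  [0, 2, 1, 3, 8, 3, 0, 9, 3],
  [0, 0, 3, 8, 0, 9, 3, 0, 8],
  [0, 0, 0, 2, 1, 8, 1, 2, 9],
  [0, 0, 2, 1, 4, 3, 5, 2, 2],
  [0, 0, 2, 1, 2, 4, 3, 5, 2],
  [0, 0, 2, 1, 2, 2, 4, 3, 5],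
  [0, 0, 2, 1, 5, 3, 3, 3, 4],
  [0, 2, 1, 3, 9, 0, 8, 0, 9],
  [0, 2, 1, 3, 9, 9, 1, 9, 9],
  [0, 0, 8, 0, 2, 9, 0, 8, 2],
  [0, 8, 1, 3, 9, 1, 8, 3, 8],
  [2, 2, 2, 4, 8, 8, 3, 9, 5],
  [2, 2, 2, 4, 9, 9, 3, 8, 5],
  [2, 2, 5, 5, 7, 7, 5, 3, 6],
  [2, 2, 7, 3, 4, 7, 7, 4, 4],
  [2, 2, 7, 5, 5, 7, 2, 5, 5],
  [2, 2, 4, 2, 5, 3, 5, 3, 4],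
  [2, 4, 2, 4, 7, 2, 4, 6, 6],
  [2, 4, 2, 6, 4, 4, 6, 3, 4],
  [2, 4, 6, 6, 5, 2, 6, 4, 4],
  [2, 2, 5, 2, 4, 2, 5, 2, 4],
  [2, 5, 2, 6, 6, 5, 2, 6, 5],
  [2, 2, 5, 3, 5, 3, 4, 3, 4],
  [2, 4, 3, 4, 3, 6, 4, 4, 6],
  [2, 4, 3, 5, 2, 8, 2, 9, 9],
  [2, 4, 3, 5, 2, 9, 2, 8, 8],
  [2, 4, 6, 6, 5, 2, 5, 5, 7],
  [0, 2, 9, 3, 8, 2, 1, 2, 9],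
  [0, 9, 2, 8, 8, 8, 1, 2, 9],
  [0, 2, 8, 1, 8, 2, 9, 9, 9],
  [2, 2, 4, 4, 2, 6, 4, 4, 6],
  [2, 2, 9, 2, 8, 8, 4, 3, 5],
  [2, 2, 4, 3, 5, 9, 2, 8, 8],
  [2, 2, 8, 2, 9, 9, 4, 3, 5],
  [2, 2, 4, 3, 5, 8, 2, 9, 9],
  [4, 4, 6, 5, 6, 4, 4, 6, 6],
  [4, 4, 7, 5, 6, 4, 6, 5, 7],
  [4, 4, 6, 4, 4, 7, 7, 7, 7],
  [0, 2, 2, 8, 8, 3, 1, 2, 9],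
  [0, 2, 8, 1, 2, 2, 9, 9, 3],
  [0, 0, 0, 3, 3, 3, 1, 2, 2, 2],
  [0, 0, 0, 3, 3, 3, 1, 4, 2, 5],
  [0, 0, 2, 9, 1, 3, 0, 8, 3, 3],
  [0, 0, 9, 0, 3, 9, 0, 3, 9, 3],
  [0, 0, 2, 0, 8, 2, 0, 3, 8, 3],
  [0, 0, 2, 2, 1, 9, 0, 2, 8, 3],
  [0, 0, 2, 9, 2, 0, 9, 2, 0, 9],
  [0, 0, 8, 2, 2, 0, 3, 1, 3, 8],
  [0, 0, 8, 2, 1, 2, 0, 3, 3, 8],
  [0, 0, 0, 8, 3, 0, 9, 1, 1, 3],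
  [0, 0, 8, 8, 0, 3, 8, 1, 1, 2],
  [0, 0, 5, 2, 4, 3, 3, 3, 1, 3],
  [0, 0, 3, 5, 2, 4, 3, 3, 1, 3],
  [0, 0, 4, 3, 3, 3, 5, 3, 1, 3],
  [0, 0, 4, 4, 3, 5, 5, 3, 1, 3],
  [0, 0, 3, 5, 3, 3, 4, 3, 1, 3],
  [0, 0, 3, 3, 5, 2, 4, 3, 1, 3],
  [0, 0, 3, 4, 3, 3, 3, 5, 1, 3],
  [0, 0, 5, 2, 4, 4, 3, 5, 1, 3],
  [0, 0, 4, 2, 2, 2, 2, 5, 1, 3],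
  [0, 0, 4, 4, 2, 5, 2, 5, 1, 3],
  [0, 0, 3, 4, 4, 3, 5, 5, 1, 3],
  [0, 0, 3, 3, 5, 3, 3, 4, 1, 3],
  [0, 0, 5, 5, 2, 4, 3, 4, 1, 3],
  [0, 0, 3, 3, 3, 5, 2, 4, 1, 3],
  [0, 0, 5, 5, 3, 3, 4, 4, 1, 3],
  [0, 0, 5, 3, 5, 2, 4, 4, 1, 3],
  [0, 0, 0, 9, 1, 3, 0, 8, 1, 3],
  [0, 0, 2, 1, 1, 9, 9, 1, 3, 9],
  [0, 0, 2, 1, 2, 2, 2, 5, 3, 4],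
  [0, 0, 2, 1, 2, 2, 5, 3, 4, 2],
  [0, 0, 2, 1, 2, 4, 2, 2, 2, 5],
  [0, 0, 2, 1, 2, 5, 2, 2, 4, 2],
  [0, 0, 2, 1, 2, 5, 3, 4, 2, 2],
  [0, 0, 2, 1, 4, 2, 2, 2, 5, 2],
  [0, 0, 2, 1, 4, 2, 5, 5, 3, 4],
  [0, 0, 2, 1, 4, 3, 3, 3, 3, 5],
  [0, 0, 2, 1, 4, 3, 4, 3, 5, 5],
  [0, 0, 2, 1, 4, 4, 2, 5, 5, 2],
  [0, 0, 2, 1, 4, 4, 3, 5, 3, 5],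
  [0, 0, 2, 1, 5, 2, 2, 4, 2, 2],
  [0, 0, 2, 1, 5, 2, 5, 3, 4, 4],
  [0, 2, 2, 2, 1, 2, 1, 5, 3, 4],
  [0, 0, 2, 1, 5, 5, 2, 2, 4, 4],
  [0, 2, 1, 3, 8, 0, 3, 1, 9, 3],
  [0, 2, 2, 1, 9, 1, 2, 2, 0, 8],
  [0, 3, 3, 0, 8, 0, 3, 3, 0, 8],
  [0, 2, 0, 5, 3, 4, 1, 2, 2, 2],
  [0, 3, 3, 9, 1, 9, 3, 3, 0, 8],
  [0, 3, 3, 8, 0, 8, 3, 3, 0, 8],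
  [0, 3, 4, 1, 9, 1, 5, 3, 0, 8],
  [0, 3, 4, 0, 8, 0, 5, 3, 0, 8],
  [0, 3, 4, 9, 1, 9, 5, 3, 0, 8],
  [0, 3, 4, 8, 0, 8, 5, 3, 0, 8],
  [0, 3, 5, 1, 9, 1, 4, 3, 0, 8],
  [0, 3, 5, 0, 8, 0, 4, 3, 0, 8],
  [0, 3, 5, 9, 1, 9, 4, 3, 0, 8],
  [0, 3, 5, 8, 0, 8, 4, 3, 0, 8],
  [0, 2, 2, 8, 0, 2, 8, 2, 1, 9],
  [0, 2, 8, 0, 2, 9, 3, 1, 9, 3],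
  [0, 8, 1, 2, 2, 9, 1, 2, 9, 2],
  [0, 8, 2, 2, 9, 1, 2, 9, 2, 9],
  [0, 2, 9, 1, 2, 9, 3, 0, 8, 3],
  [0, 2, 0, 3, 0, 2, 2, 1, 3, 3],
  [0, 0, 0, 4, 3, 5, 1, 2, 2, 2],
  [0, 3, 0, 4, 3, 5, 1, 5, 2, 4],
  [0, 8, 1, 8, 2, 9, 9, 9, 1, 2],
  [0, 3, 0, 8, 2, 0, 3, 8, 1, 2],
  [0, 2, 0, 5, 3, 4, 1, 4, 2, 5],
  [0, 2, 1, 3, 3, 0, 8, 3, 0, 9],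
  [0, 2, 0, 3, 1, 8, 2, 0, 3, 8],
  [0, 2, 2, 0, 8, 0, 2, 2, 0, 8],
  [2, 2, 2, 4, 3, 6, 4, 4, 6, 4],
  [2, 2, 2, 2, 5, 8, 8, 3, 9, 4],
  [2, 2, 2, 2, 5, 9, 9, 3, 8, 4],
  [2, 2, 2, 7, 7, 2, 2, 2, 7, 7],
  [2, 2, 2, 7, 7, 4, 2, 5, 7, 7],
  [0, 2, 2, 9, 1, 9, 2, 2, 0, 8],
  [2, 2, 2, 8, 5, 3, 4, 9, 2, 9],
  [2, 2, 2, 8, 3, 3, 3, 9, 9, 9],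
  [0, 2, 2, 8, 0, 8, 2, 2, 0, 8],
  [2, 2, 2, 9, 5, 3, 4, 8, 2, 8],
  [0, 2, 4, 1, 9, 1, 5, 2, 0, 8],
  [0, 2, 8, 1, 5, 2, 2, 2, 4, 9],
  [0, 5, 2, 2, 2, 4, 8, 1, 2, 9],
  [0, 2, 4, 0, 8, 0, 5, 2, 0, 8],
  [2, 2, 5, 6, 6, 5, 2, 6, 2, 5],
  [2, 2, 4, 4, 8, 2, 9, 9, 5, 5],
  [2, 2, 4, 4, 9, 2, 8, 8, 5, 5],
  [2, 2, 2, 7, 4, 7, 3, 3, 7, 5],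
  [2, 2, 5, 2, 7, 7, 5, 3, 6, 5],
  [2, 2, 7, 3, 5, 5, 6, 5, 6, 5],
  [0, 2, 4, 9, 1, 9, 5, 2, 0, 8],
  [0, 2, 4, 8, 0, 8, 5, 2, 0, 8],
  [0, 2, 5, 1, 9, 1, 4, 2, 0, 8],
  [0, 2, 5, 0, 8, 0, 4, 2, 0, 8],
  [2, 2, 7, 2, 4, 6, 6, 4, 3, 4],
  [2, 2, 4, 7, 3, 4, 7, 7, 2, 4],
  [2, 2, 2, 5, 8, 2, 9, 9, 2, 4],
  [2, 2, 2, 5, 9, 2, 8, 8, 2, 4],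
  [2, 2, 7, 3, 4, 6, 6, 6, 4, 4],
  [2, 2, 6, 6, 3, 6, 3, 7, 7, 4],
  [2, 2, 4, 2, 7, 2, 4, 6, 6, 4],
  [0, 2, 5, 9, 1, 9, 4, 2, 0, 8],
  [2, 2, 4, 7, 2, 2, 7, 3, 3, 6],
  [2, 2, 6, 6, 4, 3, 7, 7, 3, 7],
  [2, 2, 6, 3, 3, 6, 3, 5, 2, 7],
  [2, 2, 6, 4, 3, 7, 7, 2, 4, 7],
  [2, 2, 7, 3, 5, 7, 4, 7, 4, 7],
  [2, 2, 5, 5, 6, 6, 6, 5, 3, 6],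
  [2, 2, 6, 6, 4, 7, 5, 7, 3, 6],
  [2, 2, 5, 3, 5, 6, 6, 5, 2, 6],
  [0, 2, 0, 8, 1, 2, 2, 0, 3, 8],
  [0, 2, 0, 3, 8, 0, 3, 0, 8, 3],
  [0, 3, 8, 1, 8, 0, 3, 8, 1, 8],
  [0, 2, 9, 9, 0, 9, 2, 0, 9, 2],
  [0, 0, 9, 1, 3, 9, 9, 2, 1, 9],
  [2, 2, 2, 8, 4, 3, 5, 9, 9, 9],
  [0, 8, 1, 8, 2, 0, 8, 1, 8, 2],
  [0, 3, 9, 0, 3, 9, 0, 9, 9, 3],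
  [0, 2, 2, 1, 3, 9, 1, 2, 1, 9],
  [0, 3, 3, 8, 0, 9, 3, 0, 8, 2],
  [0, 3, 9, 1, 3, 9, 2, 0, 8, 2],
  [2, 2, 2, 9, 4, 3, 5, 8, 8, 8],
  [2, 2, 6, 4, 4, 6, 2, 4, 2, 4],
  [2, 2, 9, 2, 8, 8, 2, 5, 3, 4],
  [2, 4, 3, 7, 2, 4, 6, 6, 3, 4],
  [2, 2, 2, 7, 5, 5, 7, 5, 3, 5],
  [2, 4, 2, 4, 7, 5, 5, 7, 3, 4],
  [2, 4, 4, 8, 8, 3, 9, 5, 3, 5],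
  [2, 4, 4, 9, 9, 3, 8, 5, 3, 5],
  [2, 4, 2, 6, 5, 5, 5, 6, 3, 4],
  [2, 4, 3, 4, 2, 7, 3, 4, 7, 7],
  [2, 4, 2, 7, 5, 5, 7, 4, 3, 4],
  [0, 4, 3, 9, 1, 9, 3, 5, 0, 8],
  [0, 0, 2, 1, 2, 2, 5, 2, 2, 4],
  [0, 0, 5, 3, 3, 4, 3, 3, 1, 3],
  [2, 2, 5, 2, 5, 2, 7, 5, 5, 7],
  [2, 2, 4, 8, 2, 9, 9, 2, 2, 5],
  [2, 2, 2, 4, 3, 4, 6, 4, 4, 6],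
  [2, 4, 3, 4, 3, 4, 7, 5, 5, 7],
  [2, 4, 3, 4, 8, 8, 3, 9, 5, 5],
  [2, 4, 3, 4, 9, 9, 3, 8, 5, 5],
  [2, 4, 3, 4, 3, 6, 5, 5, 5, 6],
  [2, 4, 3, 7, 4, 7, 4, 4, 2, 6],
  [2, 4, 3, 4, 3, 7, 5, 5, 7, 4],
  [0, 4, 4, 1, 9, 1, 5, 5, 0, 8],
  [2, 2, 4, 4, 2, 6, 5, 5, 5, 6],
  [2, 2, 6, 6, 5, 2, 6, 3, 5, 5],
  [2, 2, 4, 4, 2, 7, 5, 5, 7, 4],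
  [2, 4, 6, 6, 3, 5, 5, 2, 5, 7],
  [2, 4, 4, 3, 6, 6, 5, 2, 6, 4],
  [2, 2, 4, 4, 3, 7, 2, 4, 6, 6],
  [2, 2, 5, 6, 4, 4, 6, 2, 5, 5],
  [2, 4, 3, 4, 4, 6, 6, 5, 2, 6],
  [2, 4, 4, 7, 7, 5, 3, 6, 3, 4],
  [0, 4, 4, 9, 1, 9, 5, 5, 0, 8],
  [0, 4, 4, 8, 0, 8, 5, 5, 0, 8],
  [2, 4, 6, 2, 4, 6, 6, 5, 3, 7],
  [2, 6, 3, 4, 6, 2, 6, 3, 4, 6],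
  [2, 6, 6, 3, 4, 6, 3, 4, 6, 5],
  [2, 4, 6, 3, 4, 7, 7, 3, 5, 7],
  [2, 4, 7, 3, 4, 6, 5, 3, 6, 5],
  [2, 2, 7, 3, 4, 6, 6, 5, 5, 7],
  [2, 5, 2, 7, 7, 7, 5, 2, 6, 5],
  [2, 4, 7, 3, 7, 4, 7, 2, 5, 6],
  [2, 4, 3, 7, 5, 5, 6, 5, 2, 6],
  [2, 4, 8, 4, 3, 5, 9, 3, 9, 5],
  [2, 4, 9, 4, 3, 5, 8, 3, 8, 5],
  [0, 0, 0, 4, 3, 5, 1, 4, 2, 5],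
  [0, 2, 8, 1, 3, 4, 2, 5, 3, 9],
  [2, 4, 6, 6, 5, 2, 6, 5, 5, 5],
  [2, 2, 2, 8, 2, 9, 9, 5, 3, 4],
  [2, 2, 2, 9, 2, 8, 8, 5, 3, 4],
  [2, 5, 2, 5, 8, 8, 3, 9, 4, 4],
  [2, 5, 2, 5, 9, 9, 3, 8, 4, 4],
  [2, 5, 6, 5, 6, 4, 3, 6, 3, 4],
  [0, 5, 3, 9, 1, 9, 3, 4, 0, 8],
  [0, 5, 3, 8, 0, 8, 3, 4, 0, 8],
  [2, 4, 4, 4, 7, 2, 4, 6, 6, 5],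
  [2, 2, 2, 5, 3, 4, 8, 2, 9, 9],
  [2, 4, 2, 5, 5, 8, 8, 3, 9, 4],
  [2, 4, 2, 5, 5, 9, 9, 3, 8, 4],
  [2, 4, 3, 5, 7, 2, 5, 7, 4, 7],
  [0, 5, 2, 9, 1, 9, 2, 4, 0, 8],
  [0, 5, 2, 8, 0, 8, 2, 4, 0, 8],
  [2, 2, 5, 5, 5, 2, 6, 4, 4, 6],
  [2, 5, 5, 2, 8, 2, 9, 9, 4, 4],
  [2, 5, 5, 2, 9, 2, 8, 8, 4, 4],
  [2, 4, 4, 2, 5, 5, 8, 2, 9, 9],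
  [2, 4, 4, 2, 5, 5, 9, 2, 8, 8],
  [4, 4, 4, 7, 4, 7, 5, 5, 7, 7],
  [0, 5, 5, 9, 1, 9, 4, 4, 0, 8],
  [0, 5, 5, 8, 0, 8, 4, 4, 0, 8],
  [4, 4, 7, 4, 4, 7, 5, 6, 5, 7],
  [2, 5, 7, 7, 4, 2, 5, 7, 7, 4],
  [2, 4, 7, 7, 7, 5, 2, 5, 5, 7],
  [2, 2, 6, 4, 4, 6, 5, 2, 5, 5],
  [2, 4, 7, 7, 7, 5, 2, 6, 4, 4],
  [2, 2, 2, 5, 7, 5, 5, 7, 3, 5],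
  [2, 5, 8, 4, 3, 5, 9, 9, 9, 4],
  [2, 7, 2, 7, 2, 7, 2, 7, 2, 7],
  [2, 6, 4, 6, 3, 7, 7, 3, 7, 7],
  [4, 6, 4, 6, 6, 4, 6, 4, 6, 6],
  [4, 6, 4, 6, 6, 5, 7, 5, 6, 6],
  [4, 6, 4, 7, 7, 4, 6, 4, 7, 7],
  [2, 2, 6, 5, 5, 5, 7, 5, 3, 6],
  [0, 2, 0, 2, 8, 0, 2, 2, 1, 9],
  [0, 0, 0, 9, 1, 9, 9, 9, 0, 8],
  [0, 2, 0, 9, 1, 9, 9, 2, 0, 8],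
  [0, 2, 8, 1, 3, 3, 4, 2, 5, 9],
  [0, 5, 8, 8, 0, 8, 1, 4, 0, 8],
  [0, 5, 0, 9, 1, 9, 9, 4, 0, 8],
  [0, 2, 8, 1, 4, 2, 5, 3, 3, 9],
  [0, 8, 1, 4, 8, 0, 8, 5, 8, 8],
  [0, 8, 1, 4, 9, 1, 9, 5, 8, 8],
  [0, 4, 8, 8, 0, 8, 1, 5, 0, 8],
  [0, 4, 0, 9, 1, 9, 9, 5, 0, 8],
  [0, 8, 1, 5, 8, 0, 8, 4, 8, 8],
  [0, 8, 1, 5, 9, 1, 9, 4, 8, 8],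
  [0, 0, 2, 1, 1, 3, 9, 1, 1, 9],
  [0, 3, 8, 2, 0, 9, 3, 8, 2, 8],
  [0, 8, 2, 4, 8, 0, 8, 5, 2, 8],
  [0, 8, 2, 5, 9, 1, 9, 4, 2, 8],
  [0, 3, 9, 1, 8, 3, 3, 0, 8, 3],
  [0, 8, 3, 3, 8, 0, 8, 3, 3, 8],
  [0, 8, 3, 4, 8, 0, 8, 5, 3, 8],
  [0, 8, 3, 5, 9, 1, 9, 4, 3, 8],
  [2, 8, 3, 8, 8, 2, 9, 3, 9, 9],
  [0, 0, 8, 0, 9, 5, 8, 0, 8, 4],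
  [0, 0, 5, 9, 1, 9, 4, 9, 0, 8],
  [0, 0, 8, 0, 9, 5, 9, 1, 9, 4],
  [0, 5, 8, 0, 8, 4, 9, 9, 1, 9],
  [0, 0, 8, 0, 9, 4, 8, 0, 8, 5],
  [0, 0, 4, 9, 1, 9, 5, 9, 0, 8],
  [0, 4, 9, 1, 9, 5, 9, 9, 1, 9],
  [0, 0, 4, 8, 0, 8, 5, 9, 0, 8],
  [0, 8, 8, 1, 8, 0, 8, 8, 1, 8],
  [0, 3, 0, 8, 0, 3, 9, 9, 1, 9],
  [0, 4, 0, 8, 0, 5, 9, 9, 1, 9],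
  [2, 4, 4, 3, 5, 9, 9, 3, 8, 5],
  [0, 4, 1, 8, 0, 8, 8, 5, 0, 8],
  [2, 2, 4, 2, 2, 9, 2, 8, 8, 5],
  [0, 3, 3, 4, 2, 5, 8, 1, 2, 9],
  [0, 4, 2, 5, 3, 3, 8, 1, 2, 9],
  [0, 0, 3, 8, 0, 0, 8, 1, 1, 2],
  [2, 4, 4, 3, 5, 8, 8, 3, 9, 5],
  [2, 2, 4, 2, 2, 8, 2, 9, 9, 5],
  [0, 0, 0, 0, 0, 0, 3, 3, 1, 2, 2],
  [0, 0, 0, 0, 0, 3, 0, 3, 0, 2, 2],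
  [0, 0, 0, 0, 3, 4, 2, 5, 1, 3, 3],
  [0, 0, 0, 0, 4, 2, 5, 3, 1, 3, 3],
  [0, 0, 0, 0, 0, 3, 3, 0, 2, 0, 2],
  [0, 0, 0, 5, 3, 4, 2, 1, 2, 2, 2],
  [0, 0, 0, 9, 0, 3, 9, 3, 0, 2, 9],
  [0, 0, 3, 0, 3, 3, 1, 2, 2, 0, 2],
  [0, 0, 3, 0, 8, 8, 2, 1, 8, 2, 8],
  [0, 0, 3, 3, 0, 3, 0, 2, 2, 0, 2],
  [0, 0, 0, 3, 3, 1, 3, 0, 2, 2, 2],
  [0, 0, 3, 0, 0, 3, 3, 1, 4, 2, 5],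
  [0, 0, 3, 3, 1, 5, 2, 4, 0, 3, 3],
  [0, 0, 0, 3, 3, 3, 0, 2, 1, 2, 2],
  [0, 0, 3, 3, 8, 8, 1, 5, 3, 4, 9],
  [0, 0, 3, 7, 2, 5, 7, 4, 7, 1, 3],
  [0, 0, 3, 9, 9, 1, 2, 1, 8, 2, 8],
  [0, 0, 4, 3, 3, 5, 5, 3, 4, 1, 3],
  [0, 0, 4, 3, 4, 4, 4, 2, 4, 1, 3],
  [0, 0, 5, 2, 0, 2, 6, 6, 0, 3, 6],
  [0, 0, 0, 5, 3, 4, 1, 1, 5, 2, 4],
  [0, 0, 5, 3, 5, 3, 4, 4, 3, 1, 3],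
  [0, 0, 6, 2, 2, 6, 5, 6, 4, 1, 3],
  [0, 0, 7, 2, 5, 7, 4, 7, 3, 1, 3],
  [0, 0, 7, 3, 7, 3, 7, 3, 7, 1, 3],
  [0, 0, 8, 3, 3, 4, 2, 5, 0, 3, 8],
  [0, 0, 8, 3, 4, 2, 5, 3, 0, 3, 8],
  [0, 0, 8, 3, 8, 1, 3, 8, 8, 0, 2],
  [0, 0, 8, 4, 2, 5, 3, 3, 0, 3, 8],
  [0, 0, 9, 5, 2, 4, 1, 8, 8, 2, 2],
  [0, 0, 2, 0, 0, 4, 3, 5, 1, 2, 2],
  [0, 0, 3, 0, 3, 3, 0, 2, 0, 2, 2],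
  [0, 0, 8, 3, 8, 1, 3, 1, 9, 9, 2],
  [0, 0, 2, 2, 0, 5, 3, 4, 1, 2, 2],
  [0, 0, 0, 3, 0, 0, 2, 2, 1, 1, 3],
  [0, 0, 0, 0, 2, 2, 1, 2, 4, 3, 5],
  [0, 0, 3, 1, 3, 3, 3, 1, 5, 2, 4],
  [0, 2, 2, 6, 6, 4, 2, 1, 6, 2, 4],
  [0, 0, 2, 7, 0, 7, 0, 7, 0, 7, 3],
  [0, 0, 2, 8, 4, 1, 9, 1, 5, 8, 3],
  [0, 0, 2, 8, 5, 1, 9, 1, 4, 8, 3],
  [0, 0, 2, 8, 5, 9, 1, 9, 4, 8, 3],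
  [0, 0, 3, 0, 3, 0, 3, 0, 4, 2, 5],
  [0, 3, 0, 5, 2, 2, 4, 1, 5, 2, 4],
  [0, 3, 0, 3, 0, 5, 2, 4, 0, 3, 3],
  [0, 3, 0, 5, 3, 4, 2, 1, 5, 2, 4],
  [0, 0, 0, 3, 3, 3, 1, 3, 5, 2, 4],
  [0, 3, 3, 7, 7, 3, 7, 1, 5, 3, 7],
  [0, 3, 7, 0, 7, 0, 7, 0, 7, 1, 2],
  [0, 3, 7, 5, 7, 3, 6, 1, 5, 3, 7],
  [0, 0, 9, 2, 1, 3, 0, 9, 9, 0, 8],
  [0, 2, 2, 1, 2, 1, 5, 3, 4, 1, 2],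
  [0, 2, 0, 5, 3, 4, 0, 2, 1, 2, 2],
  [0, 2, 0, 5, 3, 4, 1, 3, 5, 2, 4],
  [0, 2, 1, 3, 6, 1, 6, 1, 6, 1, 6],
  [0, 8, 1, 3, 4, 2, 5, 3, 9, 1, 2],
  [0, 2, 2, 9, 1, 9, 2, 9, 2, 1, 9],
  [0, 5, 8, 0, 8, 4, 2, 9, 0, 8, 2],
  [0, 2, 5, 9, 1, 9, 4, 9, 2, 1, 9],
  [0, 2, 5, 8, 0, 8, 4, 9, 2, 1, 9],
  [0, 3, 8, 2, 9, 0, 4, 9, 1, 9, 5],
  [0, 3, 8, 0, 9, 3, 4, 9, 1, 9, 5],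
  [0, 4, 8, 0, 8, 5, 2, 9, 0, 8, 2],
  [0, 8, 1, 2, 4, 9, 1, 9, 5, 8, 2],
  [0, 2, 4, 9, 1, 9, 5, 9, 2, 1, 9],
  [0, 8, 1, 2, 4, 8, 0, 8, 5, 8, 2],
  [0, 4, 8, 0, 8, 5, 8, 3, 0, 8, 3],
  [0, 0, 0, 9, 3, 0, 2, 9, 2, 0, 9],
  [0, 0, 3, 1, 2, 1, 8, 1, 2, 9, 2],
  [0, 8, 1, 2, 9, 1, 3, 3, 4, 2, 5],
  [0, 3, 3, 0, 9, 3, 3, 9, 0, 3, 9],
  [0, 3, 8, 0, 9, 3, 5, 1, 9, 1, 4],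
  [0, 3, 8, 0, 9, 3, 5, 8, 0, 8, 4],
  [0, 3, 8, 1, 3, 8, 1, 8, 8, 1, 3],
  [0, 0, 2, 1, 6, 5, 6, 4, 3, 6, 2],
  [0, 0, 2, 1, 5, 3, 5, 5, 5, 2, 5],
  [0, 0, 2, 1, 5, 2, 4, 3, 5, 3, 4],
  [0, 0, 2, 1, 5, 7, 4, 7, 3, 3, 7],
  [0, 0, 2, 1, 2, 6, 5, 6, 4, 3, 6],
  [0, 0, 2, 1, 6, 2, 6, 2, 6, 2, 6],
  [0, 0, 8, 2, 0, 4, 3, 5, 2, 2, 8],
  [0, 0, 8, 2, 0, 2, 2, 4, 3, 5, 8],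
  [0, 0, 8, 2, 0, 5, 3, 3, 3, 4, 8],
  [0, 0, 4, 3, 5, 0, 2, 0, 2, 0, 2],
  [0, 2, 0, 5, 3, 4, 1, 5, 3, 3, 4],
  [0, 2, 0, 2, 0, 2, 2, 0, 5, 3, 4],
  [0, 2, 1, 3, 9, 5, 1, 9, 1, 4, 9],
  [0, 2, 2, 4, 3, 5, 1, 9, 3, 1, 8],
  [0, 2, 4, 3, 5, 2, 1, 9, 3, 1, 8],
  [0, 4, 1, 3, 9, 1, 8, 3, 5, 0, 8],
  [0, 4, 2, 9, 0, 8, 2, 0, 5, 0, 8],
  [0, 0, 0, 8, 0, 9, 2, 9, 0, 8, 2],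
  [0, 2, 1, 8, 8, 1, 8, 2, 1, 8, 2],
  [0, 2, 8, 0, 2, 8, 4, 8, 0, 8, 5],
  [0, 0, 0, 5, 2, 2, 4, 1, 2, 2, 2],
  [0, 0, 8, 3, 1, 9, 9, 2, 0, 9, 2],
  [0, 2, 0, 4, 3, 5, 3, 1, 2, 2, 2],
  [0, 0, 3, 9, 0, 3, 9, 9, 1, 2, 8],
  [0, 2, 2, 2, 1, 2, 1, 4, 3, 5, 3],
  [0, 3, 3, 3, 5, 2, 4, 8, 1, 2, 9],
  [2, 2, 2, 7, 2, 4, 6, 6, 3, 4, 4],
  [2, 2, 2, 7, 5, 7, 2, 7, 4, 2, 6],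
  [2, 2, 2, 7, 7, 3, 5, 2, 4, 7, 7],
  [2, 2, 2, 8, 2, 5, 3, 4, 9, 9, 9],
  [2, 2, 2, 8, 3, 8, 3, 8, 3, 8, 8],
  [2, 2, 2, 8, 5, 2, 2, 4, 9, 9, 9],
  [2, 2, 2, 9, 2, 5, 3, 4, 8, 8, 8],
  [2, 2, 2, 9, 3, 4, 3, 5, 8, 2, 8],
  [2, 2, 2, 9, 5, 2, 2, 4, 8, 8, 8],
  [0, 5, 3, 3, 3, 4, 8, 2, 0, 8, 8],
  [2, 2, 4, 6, 3, 7, 5, 6, 2, 7, 4],
  [2, 2, 2, 7, 7, 5, 3, 3, 4, 7, 7],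
  [2, 2, 4, 7, 2, 6, 5, 3, 6, 5, 7],
  [2, 2, 4, 7, 2, 7, 7, 2, 4, 2, 7],
  [2, 2, 4, 7, 3, 3, 6, 6, 2, 4, 7],
  [2, 2, 4, 8, 3, 8, 5, 2, 4, 9, 5],
  [2, 2, 4, 9, 3, 9, 5, 2, 4, 8, 5],
  [2, 2, 5, 5, 6, 2, 4, 6, 5, 3, 7],
  [2, 2, 5, 5, 8, 2, 9, 9, 4, 2, 4],
  [2, 2, 5, 5, 9, 2, 8, 8, 4, 2, 4],
  [2, 2, 5, 6, 2, 6, 6, 5, 6, 6, 4],
  [2, 2, 5, 6, 4, 6, 6, 4, 6, 3, 6],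
  [2, 2, 2, 5, 7, 2, 2, 6, 3, 3, 6],
  [2, 2, 2, 5, 7, 2, 5, 7, 4, 7, 4],
  [2, 2, 2, 5, 7, 7, 5, 3, 6, 2, 5],
  [0, 4, 2, 2, 2, 2, 5, 8, 1, 2, 9],
  [2, 2, 6, 2, 5, 3, 6, 3, 5, 7, 4],
  [2, 2, 6, 2, 6, 4, 3, 7, 5, 7, 7],
  [2, 2, 6, 2, 6, 5, 7, 2, 7, 5, 6],
  [2, 2, 6, 2, 6, 6, 4, 2, 2, 7, 4],
  [2, 2, 6, 2, 7, 2, 7, 2, 6, 6, 4],
  [2, 2, 6, 3, 4, 6, 3, 5, 5, 6, 5],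
  [2, 2, 6, 3, 5, 6, 2, 7, 2, 7, 5],
  [2, 2, 6, 3, 5, 7, 4, 2, 2, 6, 5],
  [2, 2, 6, 3, 6, 5, 3, 6, 5, 7, 7],
  [2, 2, 6, 3, 7, 7, 2, 4, 2, 7, 7],
  [2, 2, 6, 4, 3, 6, 6, 6, 2, 4, 7],
  [2, 2, 6, 4, 7, 2, 7, 7, 2, 2, 7],
  [2, 2, 6, 4, 7, 3, 3, 6, 6, 3, 7],
  [2, 2, 6, 4, 7, 5, 6, 4, 6, 3, 6],
  [2, 2, 6, 5, 3, 5, 3, 7, 7, 3, 5],
  [2, 2, 6, 5, 7, 7, 7, 7, 4, 3, 6],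
  [2, 2, 6, 6, 2, 7, 2, 7, 7, 2, 5],
  [2, 2, 6, 6, 3, 3, 6, 5, 2, 5, 7],
  [2, 2, 6, 6, 5, 5, 6, 4, 7, 3, 6],
  [2, 2, 4, 3, 7, 7, 4, 4, 2, 2, 7],
  [2, 2, 7, 2, 4, 7, 7, 7, 4, 3, 4],
  [2, 2, 7, 2, 6, 3, 4, 6, 3, 6, 5],
  [2, 2, 7, 2, 7, 3, 4, 7, 5, 6, 5],
  [2, 2, 6, 3, 3, 6, 4, 2, 6, 4, 4],
  [2, 2, 7, 3, 7, 5, 6, 6, 5, 7, 4],
  [2, 2, 7, 4, 2, 7, 3, 7, 3, 6, 4],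
  [2, 2, 7, 4, 4, 2, 4, 7, 3, 5, 7],
  [2, 2, 2, 7, 4, 7, 4, 4, 2, 6, 4],
  [2, 2, 7, 5, 2, 5, 3, 6, 5, 6, 5],
  [2, 2, 7, 7, 3, 4, 6, 6, 3, 5, 7],
  [2, 2, 8, 2, 8, 2, 8, 5, 3, 4, 8],
  [2, 2, 8, 2, 8, 3, 3, 8, 3, 8, 8],
  [2, 2, 9, 2, 9, 2, 9, 5, 3, 4, 9],
  [2, 2, 9, 3, 8, 8, 2, 8, 3, 3, 9],
  [0, 0, 0, 4, 3, 5, 1, 3, 5, 2, 4],
  [2, 4, 2, 4, 6, 2, 4, 7, 5, 3, 7],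
  [2, 2, 4, 2, 7, 2, 5, 7, 4, 7, 5],
  [2, 2, 2, 4, 2, 7, 3, 4, 7, 7, 4],
  [2, 4, 2, 7, 4, 4, 4, 7, 4, 3, 4],
  [2, 4, 2, 7, 7, 4, 7, 7, 3, 7, 5],
  [2, 4, 3, 6, 3, 6, 3, 7, 4, 2, 7],
  [2, 4, 3, 7, 2, 7, 5, 2, 7, 3, 6],
  [2, 2, 4, 3, 7, 3, 4, 7, 7, 3, 4],
  [2, 4, 3, 7, 4, 4, 2, 7, 5, 2, 7],
  [2, 4, 3, 7, 4, 6, 5, 2, 6, 3, 6],
  [2, 2, 4, 3, 7, 7, 3, 4, 3, 4, 7],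
  [2, 4, 3, 8, 4, 3, 5, 9, 9, 9, 5],
  [2, 4, 3, 8, 5, 3, 4, 9, 2, 9, 5],
  [2, 4, 3, 9, 4, 3, 5, 8, 8, 8, 5],
  [2, 4, 3, 9, 5, 3, 4, 8, 2, 8, 5],
  [0, 2, 8, 1, 5, 5, 3, 3, 4, 4, 9],
  [0, 5, 5, 3, 3, 4, 4, 8, 1, 2, 9],
  [2, 4, 4, 6, 3, 5, 6, 3, 7, 5, 6],
  [2, 4, 4, 6, 3, 7, 4, 6, 2, 7, 4],
  [2, 2, 2, 4, 4, 6, 6, 5, 2, 6, 4],
  [0, 2, 8, 1, 5, 3, 5, 2, 4, 4, 9],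
  [2, 4, 6, 2, 6, 3, 6, 6, 5, 7, 4],
  [2, 4, 6, 2, 6, 4, 2, 7, 4, 3, 6],
  [2, 4, 6, 3, 4, 3, 6, 5, 3, 4, 6],
  [2, 4, 6, 3, 4, 6, 6, 6, 3, 5, 7],
  [2, 4, 6, 4, 7, 2, 7, 4, 2, 6, 4],
  [2, 4, 6, 5, 3, 7, 7, 2, 4, 7, 7],
  [2, 4, 7, 3, 6, 3, 5, 2, 6, 4, 7],
  [2, 4, 7, 3, 6, 4, 2, 7, 5, 6, 4],
  [2, 4, 7, 4, 3, 4, 6, 6, 3, 6, 4],
  [2, 4, 7, 3, 6, 4, 2, 4, 7, 5, 7],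
  [2, 4, 7, 7, 4, 7, 7, 3, 7, 2, 5],
  [2, 2, 8, 8, 2, 2, 9, 5, 3, 4, 8],
  [2, 4, 8, 5, 3, 4, 9, 2, 9, 3, 5],
  [2, 4, 8, 8, 5, 3, 4, 9, 9, 9, 5],
  [2, 2, 4, 8, 8, 8, 4, 2, 5, 9, 5],
  [2, 2, 4, 9, 9, 9, 4, 2, 5, 8, 5],
  [0, 2, 0, 4, 3, 5, 3, 1, 4, 2, 5],
  [0, 3, 0, 4, 3, 5, 1, 2, 4, 2, 5],
  [0, 2, 8, 1, 3, 4, 3, 3, 3, 5, 9],
  [0, 0, 5, 3, 4, 2, 5, 2, 4, 1, 3],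
  [2, 4, 6, 4, 4, 6, 3, 4, 4, 2, 5],
  [2, 5, 2, 6, 3, 4, 4, 6, 6, 2, 7],
  [2, 5, 2, 6, 3, 7, 5, 5, 6, 2, 7],
  [2, 4, 7, 3, 4, 3, 6, 3, 5, 2, 6],
  [2, 5, 2, 5, 2, 7, 3, 4, 7, 7, 5],
  [2, 2, 7, 5, 2, 5, 2, 7, 3, 5, 7],
  [2, 5, 2, 7, 7, 2, 6, 4, 2, 7, 7],
  [2, 5, 2, 8, 4, 3, 5, 9, 3, 9, 4],
  [2, 5, 2, 9, 4, 3, 5, 8, 3, 8, 4],
  [0, 2, 4, 3, 5, 2, 8, 2, 0, 8, 8],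
  [2, 2, 5, 3, 6, 6, 2, 7, 2, 7, 7],
  [0, 2, 8, 1, 4, 4, 3, 5, 5, 3, 9],
  [0, 4, 4, 3, 5, 5, 3, 8, 1, 2, 9],
  [2, 2, 6, 5, 6, 3, 4, 4, 2, 5, 6],
  [2, 4, 2, 5, 7, 3, 4, 6, 5, 3, 6],
  [2, 5, 7, 3, 7, 2, 7, 7, 4, 2, 6],
  [2, 5, 7, 4, 2, 6, 5, 7, 2, 7, 5],
  [2, 2, 9, 4, 3, 5, 8, 8, 2, 8, 8],
  [2, 5, 8, 3, 8, 3, 8, 3, 8, 8, 4],
  [2, 2, 8, 4, 3, 5, 9, 9, 2, 9, 9],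
  [2, 5, 9, 3, 9, 3, 9, 3, 9, 9, 4],
  [2, 6, 2, 6, 2, 6, 8, 2, 9, 9, 6],
  [2, 6, 2, 6, 2, 6, 9, 2, 8, 8, 6],
  [2, 6, 3, 4, 6, 4, 6, 6, 3, 4, 7],
  [2, 6, 3, 5, 7, 5, 6, 6, 3, 4, 7],
  [2, 6, 3, 6, 4, 4, 2, 6, 5, 7, 4],
  [2, 6, 3, 6, 4, 6, 2, 6, 5, 2, 7],
  [2, 6, 3, 6, 5, 6, 2, 7, 4, 7, 7],
  [2, 5, 7, 5, 6, 6, 2, 7, 3, 6, 5],
  [2, 6, 4, 2, 6, 4, 6, 4, 2, 7, 4],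
  [2, 6, 4, 2, 6, 5, 7, 5, 2, 7, 4],
  [2, 4, 4, 2, 4, 7, 3, 4, 7, 7, 5],
  [2, 4, 7, 7, 4, 7, 7, 2, 6, 5, 6],
  [2, 2, 6, 5, 6, 5, 2, 2, 7, 5, 5],
  [2, 4, 7, 2, 7, 7, 3, 5, 7, 7, 5],
  [2, 2, 6, 6, 4, 3, 6, 6, 6, 3, 7],
  [2, 6, 6, 4, 6, 6, 2, 7, 4, 7, 5],
  [2, 4, 7, 7, 3, 4, 3, 6, 4, 3, 6],
  [2, 2, 7, 2, 7, 3, 5, 6, 5, 5, 6],
  [2, 2, 2, 2, 7, 3, 4, 6, 5, 3, 6],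
  [2, 6, 6, 6, 3, 4, 7, 5, 2, 7, 5],
  [2, 2, 6, 3, 4, 6, 3, 4, 7, 4, 4],
  [2, 4, 6, 5, 2, 7, 5, 2, 7, 4, 4],
  [2, 6, 4, 6, 3, 7, 7, 3, 6, 6, 6],
  [2, 6, 3, 4, 6, 6, 5, 2, 7, 7, 5],
  [2, 2, 2, 9, 3, 8, 3, 3, 9, 9, 9],
  [2, 2, 9, 3, 9, 3, 9, 9, 9, 9, 9],
  [0, 3, 9, 9, 2, 8, 3, 8, 1, 8, 3],
  [2, 2, 9, 2, 8, 5, 3, 4, 8, 2, 8],
  [0, 0, 2, 2, 8, 1, 8, 2, 9, 3, 9],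
  [0, 3, 3, 5, 3, 3, 4, 8, 1, 2, 9],
  [0, 5, 5, 2, 4, 3, 4, 8, 1, 2, 9],
  [0, 2, 8, 1, 4, 4, 2, 5, 2, 5, 9],
  [0, 2, 8, 1, 3, 4, 4, 3, 5, 5, 9],
  [2, 2, 2, 5, 5, 3, 6, 6, 5, 2, 6],
  [2, 2, 2, 4, 3, 4, 6, 5, 5, 5, 6],
  [0, 0, 4, 3, 4, 3, 3, 5, 5, 1, 3],
  [2, 2, 6, 3, 5, 7, 4, 7, 2, 5, 7],
  [2, 4, 3, 4, 3, 4, 6, 4, 4, 6, 5],
  [2, 4, 4, 2, 9, 2, 8, 8, 5, 2, 5],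
  [2, 4, 4, 3, 4, 3, 6, 6, 5, 2, 6],
  [2, 4, 2, 5, 5, 3, 7, 5, 5, 7, 5],
  [2, 2, 6, 5, 5, 5, 6, 2, 4, 2, 4],
  [2, 4, 7, 5, 2, 6, 3, 4, 3, 5, 7],
  [2, 4, 4, 3, 7, 7, 7, 5, 2, 6, 4],
  [2, 4, 3, 4, 6, 2, 4, 3, 7, 4, 7],
  [2, 4, 6, 5, 3, 7, 4, 4, 3, 4, 6],
  [2, 5, 5, 7, 2, 7, 5, 7, 7, 4, 6],
  [2, 4, 6, 6, 2, 5, 7, 3, 4, 6, 6],
  [2, 5, 7, 4, 7, 9, 9, 3, 8, 3, 7],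
  [2, 2, 5, 9, 2, 8, 8, 5, 2, 4, 4],
  [2, 4, 9, 9, 3, 8, 4, 3, 4, 4, 4],
  [2, 5, 5, 5, 2, 5, 5, 9, 2, 8, 8],
  [2, 2, 6, 5, 6, 4, 9, 9, 3, 8, 6],
  [2, 5, 7, 4, 7, 3, 9, 9, 3, 8, 7],
  [2, 5, 7, 4, 7, 8, 8, 3, 9, 3, 7],
  [2, 2, 6, 5, 6, 4, 8, 8, 3, 9, 6],
  [2, 5, 7, 4, 7, 3, 8, 8, 3, 9, 7],
  [2, 2, 5, 5, 5, 2, 6, 5, 5, 5, 6],
  [2, 4, 6, 6, 5, 3, 4, 4, 3, 4, 7],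
  [2, 4, 7, 7, 4, 4, 6, 3, 5, 2, 7],
  [2, 4, 3, 7, 5, 5, 7, 3, 4, 3, 4],
  [2, 4, 2, 5, 5, 3, 5, 7, 5, 5, 7],
  [2, 5, 2, 6, 4, 4, 6, 4, 3, 4, 4],
  [4, 6, 5, 6, 4, 7, 5, 7, 7, 5, 7],
  [2, 2, 2, 7, 5, 5, 6, 5, 2, 6, 4],
  [2, 2, 5, 3, 7, 7, 5, 3, 6, 3, 5],
  [2, 2, 2, 6, 6, 6, 2, 2, 2, 7, 7],
  [2, 2, 4, 4, 3, 7, 2, 4, 7, 7, 7],
  [0, 6, 6, 6, 6, 0, 7, 0, 7, 0, 7],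
  [4, 6, 4, 7, 5, 6, 6, 6, 6, 5, 7],
  [0, 0, 0, 0, 2, 2, 1, 4, 2, 2, 2, 5],
  [0, 0, 0, 0, 2, 2, 1, 4, 4, 2, 5, 5],
  [0, 0, 0, 2, 2, 0, 0, 4, 3, 5, 0, 2],
  [0, 0, 0, 3, 6, 6, 4, 2, 1, 6, 3, 4],
  [0, 0, 0, 9, 3, 0, 9, 2, 8, 2, 0, 9],
  [0, 0, 0, 8, 8, 2, 1, 2, 8, 1, 3, 9],
  [0, 0, 0, 3, 3, 8, 1, 8, 5, 2, 4, 9],
  [0, 0, 0, 9, 0, 3, 8, 3, 3, 0, 9, 9],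
  [0, 0, 0, 9, 0, 3, 9, 9, 0, 2, 2, 8],
  [0, 0, 3, 0, 0, 3, 3, 1, 5, 3, 3, 4],
  [0, 0, 0, 5, 2, 4, 0, 3, 3, 0, 3, 3],
  [0, 0, 2, 2, 8, 3, 1, 1, 2, 2, 9, 3],
  [0, 0, 3, 7, 7, 3, 7, 1, 5, 3, 7, 3],
  [0, 0, 5, 2, 0, 2, 6, 6, 3, 0, 0, 6],
  [0, 0, 0, 8, 8, 2, 1, 1, 9, 3, 9, 3],
  [0, 0, 2, 9, 2, 9, 1, 1, 3, 1, 9, 9],
  [0, 0, 2, 2, 1, 1, 5, 3, 4, 0, 2, 2],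
  [0, 0, 3, 3, 3, 8, 1, 1, 3, 3, 3, 9],
  [0, 0, 9, 1, 2, 2, 2, 0, 8, 2, 2, 2],
  [0, 0, 0, 9, 5, 3, 4, 8, 1, 8, 2, 2],
  [0, 0, 8, 3, 8, 3, 1, 8, 0, 0, 9, 2],
  [0, 0, 8, 3, 8, 1, 8, 1, 9, 2, 9, 2],
  [0, 0, 8, 3, 8, 1, 1, 3, 0, 9, 9, 2],
  [0, 0, 8, 2, 8, 2, 1, 8, 1, 1, 8, 2],
  [0, 0, 2, 0, 9, 5, 2, 4, 1, 8, 8, 2],
  [0, 0, 7, 7, 4, 7, 1, 5, 7, 4, 1, 5],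
  [0, 0, 2, 2, 6, 6, 0, 3, 6, 0, 0, 5],
  [0, 0, 6, 1, 1, 5, 3, 1, 5, 0, 2, 4],
  [0, 0, 7, 2, 0, 6, 4, 2, 7, 1, 4, 7],
  [0, 0, 5, 2, 0, 2, 7, 7, 7, 0, 3, 6],
  [0, 0, 3, 3, 3, 8, 0, 4, 3, 5, 1, 9],
  [0, 0, 2, 2, 9, 3, 0, 9, 9, 9, 0, 9],
  [0, 0, 2, 8, 2, 0, 9, 9, 3, 1, 3, 9],
  [0, 0, 3, 9, 0, 0, 8, 1, 8, 2, 2, 9],
  [0, 0, 3, 0, 8, 8, 1, 1, 8, 2, 2, 9],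
  [0, 0, 8, 3, 3, 3, 0, 4, 2, 5, 1, 8],
  [0, 0, 3, 3, 1, 8, 8, 2, 1, 8, 1, 8],
  [0, 0, 9, 2, 0, 0, 9, 3, 3, 8, 1, 8],
  [0, 0, 3, 0, 8, 2, 8, 8, 1, 8, 2, 8],
  [0, 0, 7, 5, 2, 4, 8, 0, 6, 8, 7, 8],
  [0, 0, 8, 0, 6, 1, 6, 1, 6, 1, 6, 8],
  [0, 0, 6, 9, 7, 1, 9, 5, 3, 4, 6, 8],
  [0, 0, 3, 9, 3, 0, 9, 2, 1, 8, 8, 8],
  [0, 0, 0, 3, 0, 2, 1, 1, 1, 3, 1, 2],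
  [0, 0, 0, 4, 2, 5, 0, 5, 3, 4, 0, 2],
  [0, 0, 3, 1, 3, 3, 1, 3, 0, 5, 2, 4],
  [0, 0, 3, 4, 1, 1, 2, 0, 5, 3, 1, 3],
  [0, 0, 3, 4, 8, 2, 9, 9, 5, 3, 1, 3],
  [0, 0, 7, 2, 4, 6, 6, 4, 4, 3, 1, 3],
  [0, 2, 6, 6, 4, 2, 1, 6, 2, 4, 1, 2],
  [0, 2, 0, 2, 7, 5, 1, 3, 1, 2, 7, 2],
  [0, 2, 0, 2, 7, 5, 3, 1, 2, 1, 7, 2],
  [0, 0, 7, 7, 5, 3, 6, 5, 3, 5, 1, 3],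
  [0, 0, 5, 2, 7, 5, 5, 7, 3, 5, 1, 3],
  [0, 2, 0, 4, 6, 1, 3, 3, 0, 3, 6, 3],
  [0, 0, 6, 5, 3, 5, 3, 7, 7, 5, 1, 3],
  [0, 0, 5, 5, 7, 3, 4, 7, 7, 5, 1, 3],
  [0, 0, 5, 3, 7, 7, 5, 3, 6, 5, 1, 3],
  [0, 0, 4, 7, 7, 5, 3, 6, 4, 4, 1, 3],
  [0, 0, 3, 7, 2, 4, 6, 6, 4, 4, 1, 3],
  [0, 2, 0, 6, 1, 6, 4, 0, 7, 5, 7, 2],
  [0, 0, 5, 2, 1, 2, 0, 6, 6, 0, 3, 6],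
  [0, 0, 3, 5, 5, 6, 6, 5, 2, 6, 1, 3],
  [0, 2, 0, 8, 3, 3, 3, 0, 5, 2, 4, 8],
  [0, 2, 0, 8, 4, 3, 5, 0, 5, 2, 4, 8],
  [0, 2, 0, 9, 2, 9, 2, 1, 3, 3, 8, 8],
  [0, 0, 0, 3, 0, 5, 2, 4, 0, 4, 3, 5],
  [0, 0, 2, 1, 1, 8, 2, 1, 8, 2, 1, 8],
  [0, 0, 3, 1, 8, 8, 2, 1, 1, 9, 3, 9],
  [0, 0, 2, 1, 2, 4, 0, 3, 1, 1, 5, 2],
  [0, 0, 2, 1, 4, 2, 4, 7, 2, 4, 6, 6],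
  [0, 0, 2, 1, 4, 6, 6, 2, 4, 2, 4, 7],
  [0, 0, 2, 1, 4, 6, 6, 4, 4, 3, 3, 7],
  [0, 0, 2, 1, 5, 2, 6, 6, 5, 2, 6, 5],
  [0, 0, 2, 1, 5, 5, 7, 7, 5, 3, 6, 2],
  [0, 0, 2, 1, 6, 5, 2, 5, 2, 6, 6, 5],
  [0, 2, 4, 6, 1, 3, 3, 0, 3, 6, 0, 3],
  [0, 2, 6, 0, 3, 0, 7, 3, 1, 2, 2, 6],
  [0, 0, 2, 1, 7, 3, 4, 7, 7, 4, 4, 2],
  [0, 3, 0, 8, 8, 2, 8, 2, 0, 3, 3, 9],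
  [0, 2, 2, 2, 8, 0, 3, 0, 8, 5, 3, 4],
  [0, 3, 0, 8, 5, 3, 4, 0, 4, 2, 5, 8],
  [0, 0, 3, 3, 0, 5, 2, 4, 1, 1, 3, 3],
  [0, 0, 0, 0, 4, 4, 3, 5, 5, 1, 3, 3],
  [0, 0, 0, 0, 3, 5, 3, 3, 4, 1, 3, 3],
  [0, 2, 2, 0, 5, 7, 0, 6, 6, 3, 6, 3],
  [0, 0, 9, 2, 1, 8, 1, 3, 3, 0, 9, 9],
  [0, 3, 3, 0, 3, 5, 3, 4, 0, 5, 3, 4],
  [0, 2, 6, 9, 7, 0, 3, 3, 0, 9, 9, 6],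
  [0, 0, 9, 1, 2, 2, 2, 0, 8, 4, 2, 5],
  [0, 3, 3, 3, 0, 9, 2, 2, 0, 9, 0, 9],
  [0, 2, 2, 2, 1, 9, 5, 2, 4, 1, 3, 8],
  [0, 2, 2, 2, 8, 0, 9, 0, 8, 3, 3, 3],
  [0, 2, 4, 3, 1, 9, 1, 5, 3, 3, 0, 8],
  [0, 3, 3, 5, 0, 8, 0, 4, 3, 3, 0, 8],
  [0, 2, 2, 8, 0, 2, 2, 8, 3, 1, 9, 3],
  [0, 2, 7, 7, 8, 6, 4, 2, 9, 1, 5, 3],
  [0, 5, 3, 0, 9, 7, 7, 1, 7, 9, 5, 7],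
  [0, 2, 5, 2, 1, 9, 1, 2, 4, 2, 0, 8],
  [0, 2, 4, 2, 7, 4, 2, 2, 1, 5, 3, 7],
  [0, 2, 2, 4, 1, 9, 1, 2, 5, 3, 0, 8],
  [0, 2, 2, 4, 0, 8, 0, 2, 5, 3, 0, 8],
  [0, 2, 2, 4, 9, 1, 9, 2, 5, 3, 0, 8],
  [0, 3, 4, 4, 1, 9, 1, 5, 5, 3, 0, 8],
  [0, 6, 2, 6, 8, 0, 7, 5, 3, 0, 6, 9],
  [0, 3, 7, 1, 5, 6, 2, 5, 5, 1, 2, 5],
  [0, 2, 4, 2, 1, 9, 1, 2, 5, 2, 0, 8],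
  [0, 3, 3, 0, 5, 3, 4, 3, 0, 5, 3, 4],
  [0, 2, 6, 0, 7, 2, 2, 4, 1, 4, 0, 7],
  [0, 2, 6, 0, 7, 3, 4, 2, 1, 4, 0, 7],
  [0, 2, 6, 2, 7, 2, 7, 3, 1, 5, 3, 7],
  [0, 4, 7, 0, 7, 7, 2, 7, 3, 0, 5, 6],
  [0, 2, 6, 5, 2, 7, 9, 3, 5, 3, 7, 8],
  [0, 2, 6, 9, 7, 0, 3, 9, 0, 2, 9, 6],
  [0, 2, 7, 3, 3, 5, 6, 3, 1, 6, 2, 4],
  [0, 2, 7, 7, 1, 7, 9, 5, 7, 0, 5, 9],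
  [0, 2, 4, 2, 2, 2, 5, 1, 9, 3, 1, 8],
  [0, 2, 8, 7, 0, 7, 0, 7, 0, 7, 2, 9],
  [0, 8, 1, 2, 9, 1, 3, 3, 3, 5, 2, 4],
  [0, 8, 1, 2, 9, 1, 4, 2, 4, 2, 5, 5],
  [0, 3, 0, 3, 3, 8, 1, 2, 9, 5, 2, 4],
  [0, 7, 0, 7, 0, 7, 8, 3, 0, 9, 3, 7],
  [0, 2, 6, 6, 0, 3, 6, 2, 0, 5, 3, 3],
  [0, 3, 3, 0, 4, 2, 2, 5, 0, 5, 3, 4],
  [0, 2, 0, 2, 4, 2, 2, 5, 1, 2, 2, 2],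
  [0, 3, 3, 9, 0, 3, 9, 0, 3, 9, 1, 2],
  [0, 2, 2, 0, 5, 2, 4, 0, 4, 3, 3, 5],
  [0, 2, 2, 1, 4, 2, 2, 5, 0, 2, 2, 2],
  [0, 2, 2, 0, 5, 7, 0, 3, 3, 5, 6, 6],
  [0, 2, 1, 3, 9, 3, 0, 9, 1, 3, 9, 9],
  [0, 2, 1, 3, 3, 8, 1, 3, 8, 1, 3, 8],
  [0, 2, 1, 9, 0, 5, 5, 3, 3, 4, 4, 8],
  [0, 5, 2, 4, 8, 3, 3, 3, 0, 8, 2, 8],
  [0, 2, 2, 1, 3, 5, 3, 4, 0, 2, 2, 2],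
  [0, 2, 2, 2, 1, 2, 1, 4, 2, 2, 5, 2],
  [0, 2, 2, 2, 8, 5, 3, 4, 0, 8, 3, 8],
  [0, 3, 3, 3, 8, 1, 8, 2, 2, 2, 0, 9],
  [0, 3, 3, 3, 8, 0, 3, 3, 3, 8, 1, 9],
  [0, 8, 1, 3, 3, 3, 9, 1, 3, 3, 3, 9],
  [0, 3, 9, 5, 2, 4, 1, 8, 8, 2, 2, 2],
  [0, 2, 2, 5, 1, 9, 1, 4, 2, 2, 0, 8],
  [2, 2, 2, 7, 4, 4, 2, 7, 5, 2, 7, 4],
  [0, 2, 2, 5, 9, 1, 9, 4, 2, 2, 0, 8],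
  [0, 3, 4, 3, 3, 3, 5, 8, 1, 9, 2, 8],
  [0, 8, 2, 9, 1, 3, 4, 3, 3, 3, 5, 9],
  [0, 0, 8, 4, 2, 2, 2, 2, 5, 0, 3, 8],
  [2, 2, 2, 7, 7, 4, 6, 2, 2, 6, 5, 7],
  [2, 2, 2, 4, 3, 7, 5, 7, 5, 7, 4, 6],
  [0, 4, 3, 5, 0, 9, 2, 2, 0, 9, 0, 9],
  [0, 3, 3, 3, 8, 1, 8, 4, 2, 5, 0, 9],
  [0, 2, 9, 2, 2, 2, 1, 2, 8, 4, 2, 5],
  [0, 0, 3, 3, 8, 8, 1, 4, 3, 5, 3, 9],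
  [0, 0, 4, 3, 5, 8, 1, 1, 3, 3, 3, 9],
  [0, 3, 3, 9, 0, 4, 2, 5, 0, 9, 0, 9],
  [0, 2, 9, 4, 2, 5, 1, 2, 8, 2, 2, 2],
  [0, 8, 5, 2, 4, 9, 1, 2, 8, 2, 2, 2],
  [0, 8, 2, 2, 2, 9, 1, 8, 8, 2, 2, 2],
  [0, 2, 0, 4, 3, 5, 3, 1, 5, 3, 3, 4],
  [0, 3, 4, 1, 3, 5, 7, 9, 6, 6, 3, 8],
  [2, 2, 5, 6, 5, 2, 7, 5, 2, 7, 2, 5],
  [2, 2, 5, 3, 6, 3, 7, 4, 6, 2, 7, 5],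
  [2, 2, 5, 3, 6, 4, 2, 7, 3, 3, 4, 7],
  [2, 2, 5, 2, 7, 7, 3, 5, 2, 2, 6, 5],
  [2, 2, 4, 7, 3, 5, 6, 3, 6, 4, 6, 5],
  [2, 2, 4, 8, 8, 8, 5, 2, 4, 3, 9, 5],
  [2, 2, 4, 8, 3, 8, 4, 2, 5, 2, 9, 5],
  [2, 2, 4, 8, 8, 8, 5, 3, 3, 4, 9, 5],
  [2, 2, 2, 4, 9, 2, 9, 9, 3, 3, 8, 5],
  [2, 2, 4, 9, 9, 2, 9, 9, 2, 2, 8, 5],
  [0, 3, 0, 4, 3, 5, 1, 3, 4, 3, 3, 5],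
  [0, 2, 0, 4, 2, 2, 5, 2, 1, 4, 2, 5],
  [2, 2, 7, 5, 7, 7, 2, 7, 3, 7, 2, 4],
  [2, 2, 6, 3, 7, 4, 4, 6, 2, 7, 2, 4],
  [2, 2, 6, 5, 3, 4, 6, 2, 4, 6, 2, 4],
  [2, 2, 2, 9, 2, 4, 2, 2, 5, 8, 2, 8],
  [2, 2, 2, 8, 2, 4, 2, 2, 5, 9, 2, 9],
  [2, 2, 5, 9, 2, 9, 4, 2, 5, 8, 2, 4],
  [0, 2, 5, 5, 1, 9, 1, 4, 4, 2, 0, 8],
  [2, 2, 6, 5, 6, 6, 2, 4, 7, 3, 7, 4],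
  [2, 2, 7, 7, 5, 7, 7, 5, 2, 5, 6, 4],
  [2, 2, 2, 9, 4, 2, 2, 5, 2, 8, 2, 8],
  [2, 2, 5, 2, 8, 2, 8, 4, 2, 5, 9, 4],
  [2, 2, 5, 9, 3, 3, 9, 5, 3, 4, 9, 4],
  [2, 2, 5, 8, 2, 8, 5, 2, 4, 9, 9, 4],
  [2, 2, 2, 8, 4, 2, 2, 5, 2, 9, 2, 9],
  [2, 2, 5, 2, 9, 2, 9, 4, 2, 5, 8, 4],
  [2, 2, 5, 8, 3, 3, 8, 5, 3, 4, 8, 4],
  [2, 2, 5, 3, 6, 4, 2, 7, 2, 4, 3, 7],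
  [2, 2, 7, 5, 3, 5, 6, 5, 2, 7, 2, 7],
  [2, 2, 7, 4, 3, 7, 7, 3, 5, 2, 5, 7],
  [2, 2, 4, 2, 7, 2, 7, 5, 7, 7, 5, 7],
  [2, 2, 4, 3, 7, 5, 2, 7, 5, 2, 7, 7],
  [2, 2, 5, 6, 4, 6, 3, 6, 6, 2, 7, 7],
  [2, 2, 6, 5, 3, 4, 6, 6, 2, 4, 7, 7],
  [2, 2, 6, 4, 7, 7, 2, 2, 6, 4, 7, 7],
  [2, 2, 7, 5, 2, 4, 7, 4, 6, 3, 3, 6],
  [2, 2, 5, 3, 6, 4, 7, 7, 4, 6, 2, 6],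
  [2, 2, 6, 5, 6, 3, 5, 5, 5, 2, 5, 6],
  [2, 2, 4, 7, 5, 7, 7, 3, 7, 2, 5, 6],
  [2, 2, 4, 7, 2, 2, 5, 6, 4, 3, 6, 6],
  [2, 2, 5, 2, 4, 6, 2, 6, 6, 5, 6, 6],
  [0, 0, 9, 9, 0, 3, 8, 1, 8, 2, 2, 9],
  [2, 2, 9, 2, 2, 9, 3, 9, 4, 3, 5, 9],
  [2, 2, 2, 9, 4, 2, 2, 5, 8, 2, 2, 9],
  [2, 2, 9, 2, 5, 2, 4, 9, 5, 2, 4, 9],
  [0, 3, 3, 8, 8, 8, 1, 5, 2, 4, 0, 9],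
  [0, 0, 0, 8, 0, 3, 9, 0, 9, 1, 3, 9],
  [0, 3, 9, 1, 4, 2, 5, 0, 8, 5, 2, 4],
  [2, 2, 8, 2, 5, 2, 4, 8, 5, 2, 4, 8],
  [0, 5, 2, 4, 1, 8, 1, 3, 3, 9, 9, 9],
  [0, 0, 0, 3, 4, 3, 5, 1, 1, 5, 2, 4],
  [0, 2, 2, 7, 7, 7, 4, 2, 1, 6, 2, 4],
  [0, 3, 9, 5, 2, 4, 1, 3, 8, 5, 2, 4],
  [0, 4, 0, 4, 0, 4, 0, 4, 0, 4, 0, 4],
  [0, 0, 0, 5, 3, 4, 1, 1, 4, 2, 5, 2],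
  [2, 2, 6, 3, 5, 2, 6, 2, 4, 7, 2, 4],
  [2, 2, 6, 3, 7, 7, 5, 5, 2, 7, 2, 4],
  [0, 0, 5, 2, 5, 2, 4, 2, 4, 3, 1, 3],
  [2, 4, 3, 6, 2, 4, 7, 5, 3, 7, 3, 4],
  [2, 4, 2, 4, 3, 8, 8, 3, 9, 5, 2, 5],
  [2, 4, 2, 4, 3, 9, 9, 3, 8, 5, 2, 5],
  [2, 4, 2, 4, 7, 8, 2, 9, 9, 4, 6, 6],
  [2, 4, 3, 4, 2, 6, 3, 4, 6, 3, 4, 7],
  [2, 2, 6, 4, 2, 6, 6, 5, 2, 7, 3, 5],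
  [2, 4, 2, 7, 2, 6, 3, 5, 6, 6, 3, 7],
  [2, 2, 7, 4, 3, 6, 5, 6, 2, 6, 3, 5],
  [2, 4, 2, 8, 4, 3, 5, 9, 3, 9, 3, 5],
  [2, 2, 2, 9, 3, 5, 2, 2, 4, 8, 2, 8],
  [0, 5, 7, 5, 9, 3, 5, 0, 7, 9, 7, 9],
  [2, 2, 8, 5, 2, 4, 2, 8, 5, 2, 4, 8],
  [0, 4, 6, 4, 9, 3, 5, 0, 7, 9, 7, 9],
  [2, 2, 9, 5, 2, 4, 2, 9, 5, 2, 4, 9],
  [0, 3, 8, 5, 3, 3, 4, 3, 3, 0, 8, 8],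
  [2, 2, 5, 3, 6, 3, 3, 5, 7, 7, 3, 7],
  [2, 2, 5, 2, 6, 3, 4, 7, 5, 3, 4, 7],
  [0, 2, 1, 9, 0, 5, 3, 3, 4, 3, 3, 8],
  [0, 4, 2, 2, 8, 0, 8, 2, 2, 5, 0, 8],
  [2, 5, 2, 6, 6, 5, 9, 2, 8, 8, 6, 5],
  [0, 4, 2, 4, 9, 1, 9, 5, 2, 5, 0, 8],
  [0, 4, 2, 4, 8, 0, 8, 5, 2, 5, 0, 8],
  [2, 2, 4, 6, 3, 4, 6, 2, 5, 2, 7, 7],
  [2, 4, 3, 8, 3, 4, 3, 5, 9, 2, 9, 5],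
  [2, 2, 4, 8, 2, 2, 9, 9, 9, 9, 2, 5],
  [2, 4, 3, 9, 3, 9, 3, 9, 3, 9, 9, 5],
  [2, 6, 3, 6, 4, 7, 3, 5, 6, 3, 4, 4],
  [2, 4, 2, 4, 4, 3, 7, 3, 4, 7, 7, 5],
  [2, 4, 4, 7, 2, 6, 2, 6, 3, 4, 4, 7],
  [2, 4, 4, 7, 3, 6, 4, 6, 4, 7, 3, 7],
  [2, 4, 4, 7, 3, 6, 6, 5, 7, 5, 3, 7],
  [2, 4, 4, 7, 3, 7, 2, 7, 3, 6, 5, 7],
  [2, 2, 6, 3, 7, 7, 5, 2, 4, 4, 7, 7],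
  [2, 4, 6, 2, 7, 5, 5, 6, 6, 2, 6, 5],
  [2, 4, 6, 3, 7, 5, 5, 6, 2, 7, 5, 5],
  [2, 4, 6, 5, 3, 7, 3, 4, 2, 7, 5, 5],
  [0, 0, 2, 1, 6, 4, 4, 2, 4, 6, 6, 5],
  [2, 4, 6, 6, 5, 8, 2, 9, 9, 6, 4, 4],
  [2, 4, 7, 2, 5, 6, 4, 3, 7, 7, 4, 7],
  [2, 4, 7, 3, 7, 5, 7, 4, 6, 3, 6, 5],
  [2, 6, 5, 2, 6, 5, 6, 3, 7, 4, 4, 6],
  [2, 4, 6, 6, 3, 4, 7, 3, 4, 7, 4, 4],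
  [2, 2, 5, 5, 6, 5, 3, 7, 5, 3, 6, 6],
  [2, 4, 6, 5, 2, 5, 5, 6, 5, 3, 6, 6],
  [2, 4, 3, 6, 4, 7, 2, 4, 7, 4, 6, 6],
  [2, 7, 4, 7, 4, 6, 2, 7, 7, 5, 6, 5],
  [2, 2, 7, 3, 5, 6, 4, 7, 4, 6, 6, 5],
  [2, 2, 6, 5, 7, 4, 2, 6, 4, 6, 6, 5],
  [0, 0, 9, 5, 2, 4, 1, 8, 2, 8, 8, 2],
  [2, 4, 2, 5, 9, 9, 5, 3, 4, 8, 8, 8],
  [0, 2, 0, 2, 4, 2, 2, 5, 1, 4, 2, 5],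
  [0, 2, 0, 2, 5, 3, 4, 3, 1, 4, 2, 5],
  [0, 2, 2, 1, 4, 2, 2, 5, 0, 4, 2, 5],
  [0, 2, 2, 0, 2, 2, 0, 4, 3, 5, 0, 3],
  [0, 2, 0, 3, 0, 2, 2, 1, 4, 3, 5, 2],
  [0, 0, 4, 3, 5, 8, 0, 4, 3, 5, 1, 9],
  [0, 4, 2, 2, 5, 1, 4, 2, 5, 1, 2, 2],
  [0, 0, 0, 3, 4, 3, 5, 2, 1, 4, 2, 5],
  [2, 4, 6, 5, 3, 4, 4, 6, 5, 3, 4, 6],
  [2, 4, 7, 5, 7, 2, 7, 4, 2, 6, 3, 5],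
  [0, 4, 3, 4, 3, 3, 5, 5, 8, 1, 2, 9],
  [2, 5, 6, 2, 6, 2, 6, 4, 7, 7, 5, 5],
  [2, 5, 2, 5, 6, 5, 2, 5, 2, 6, 6, 4],
  [2, 2, 7, 4, 3, 5, 2, 6, 3, 4, 2, 7],
  [2, 4, 3, 6, 2, 6, 3, 4, 3, 7, 3, 7],
  [2, 4, 4, 7, 2, 5, 2, 7, 3, 7, 4, 7],
  [2, 2, 7, 2, 4, 3, 5, 6, 3, 4, 2, 7],
  [2, 5, 6, 3, 4, 2, 7, 5, 7, 7, 3, 7],
  [2, 6, 5, 5, 5, 2, 7, 5, 7, 7, 4, 6],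
  [2, 2, 9, 2, 9, 2, 9, 3, 4, 3, 5, 9],
  [2, 4, 2, 5, 6, 2, 4, 4, 7, 7, 2, 6],
  [2, 2, 6, 6, 3, 5, 7, 3, 6, 6, 2, 4],
  [2, 4, 2, 4, 7, 4, 4, 2, 5, 2, 6, 6],
  [2, 4, 2, 5, 3, 8, 4, 3, 5, 9, 9, 9],
  [0, 2, 1, 8, 8, 2, 4, 3, 5, 0, 9, 3],
  [2, 4, 6, 5, 5, 5, 6, 3, 4, 4, 2, 5],
  [2, 4, 3, 7, 5, 5, 5, 2, 7, 5, 2, 7],
  [0, 2, 8, 1, 9, 3, 4, 4, 3, 5, 5, 8],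
  [0, 3, 8, 4, 4, 3, 5, 5, 3, 0, 8, 8],
  [2, 5, 6, 3, 6, 3, 7, 4, 2, 7, 4, 4],
  [2, 6, 3, 6, 3, 6, 4, 4, 2, 7, 4, 6],
  [2, 4, 7, 4, 2, 6, 6, 3, 5, 5, 7, 7],
  [2, 2, 9, 9, 9, 9, 4, 4, 2, 5, 5, 8],
  [2, 2, 8, 8, 8, 8, 4, 4, 2, 5, 5, 9],
  [2, 2, 5, 7, 5, 7, 3, 6, 3, 3, 5, 6],
  [2, 2, 5, 6, 5, 6, 2, 7, 5, 3, 7, 4],
  [2, 5, 6, 2, 5, 6, 6, 2, 7, 7, 3, 6],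
  [2, 5, 6, 2, 6, 3, 7, 2, 7, 4, 6, 6],
  [2, 5, 6, 2, 6, 4, 3, 6, 2, 7, 4, 7],
  [2, 6, 4, 6, 2, 7, 7, 4, 6, 3, 5, 6],
  [2, 2, 6, 2, 7, 7, 7, 4, 2, 2, 7, 4],
  [2, 2, 7, 5, 2, 6, 6, 5, 2, 7, 4, 4],
  [2, 2, 2, 7, 3, 3, 5, 6, 4, 2, 7, 4],
  [2, 5, 2, 6, 5, 5, 5, 6, 4, 3, 4, 4],
  [0, 7, 0, 8, 4, 7, 4, 2, 7, 7, 9, 7],
  [0, 7, 0, 8, 6, 6, 3, 5, 6, 5, 9, 7],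
  [2, 7, 2, 7, 5, 5, 6, 6, 3, 7, 4, 4],
  [2, 2, 7, 8, 8, 3, 9, 4, 7, 7, 4, 4],
  [2, 2, 7, 9, 9, 3, 8, 4, 7, 7, 4, 4],
  [0, 4, 4, 1, 9, 1, 6, 4, 4, 6, 0, 8],
  [2, 5, 7, 3, 5, 6, 4, 3, 7, 7, 4, 6],
  [2, 6, 4, 4, 6, 3, 4, 8, 2, 9, 9, 4],
  [2, 6, 4, 4, 6, 3, 4, 9, 2, 8, 8, 4],
  [2, 5, 6, 6, 4, 3, 7, 2, 6, 2, 6, 4],
  [2, 2, 5, 5, 7, 7, 5, 8, 8, 3, 9, 6],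
  [2, 2, 5, 5, 7, 7, 5, 9, 9, 3, 8, 6],
  [0, 9, 0, 9, 2, 2, 0, 9, 4, 3, 5, 9],
  [2, 8, 4, 6, 4, 9, 3, 9, 7, 5, 5, 8],
  [2, 8, 4, 6, 4, 9, 3, 9, 4, 4, 6, 8],
  [2, 2, 5, 8, 2, 2, 9, 4, 2, 5, 9, 4],
  [2, 2, 9, 9, 9, 2, 9, 4, 3, 5, 9, 9],
  [2, 2, 8, 8, 8, 2, 8, 4, 3, 5, 8, 8],
  [0, 0, 8, 6, 1, 6, 1, 6, 1, 6, 0, 8],
  [0, 7, 0, 7, 0, 7, 9, 1, 9, 1, 9, 7],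
  [0, 7, 0, 7, 0, 7, 8, 0, 8, 1, 9, 7],
  [0, 7, 0, 7, 0, 7, 9, 1, 8, 0, 8, 7],
  [2, 4, 4, 6, 2, 4, 6, 3, 7, 5, 5, 6],
  [0, 2, 8, 1, 7, 3, 7, 3, 7, 3, 7, 9],
  [0, 7, 3, 7, 3, 7, 3, 7, 8, 1, 2, 9],
  [2, 4, 6, 2, 6, 3, 6, 5, 7, 4, 6, 5],
  [2, 4, 7, 5, 7, 7, 3, 5, 6, 2, 6, 5],
  [2, 4, 2, 6, 4, 7, 5, 6, 2, 7, 3, 6],
  [2, 6, 5, 6, 2, 7, 5, 6, 6, 5, 6, 6],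
  [2, 4, 3, 7, 7, 4, 2, 4, 6, 5, 6, 4],
  [2, 5, 9, 2, 8, 8, 6, 6, 5, 2, 6, 5],
  [2, 4, 6, 6, 8, 2, 9, 9, 4, 2, 4, 7],
  [2, 4, 6, 6, 9, 2, 8, 8, 4, 2, 4, 7],
  [2, 4, 4, 7, 5, 7, 2, 7, 4, 4, 7, 7],
  [2, 4, 6, 5, 5, 7, 8, 8, 3, 9, 3, 7],
  [2, 4, 6, 5, 5, 7, 9, 9, 3, 8, 3, 7],
  [2, 5, 6, 3, 4, 6, 6, 3, 5, 2, 6, 6],
  [2, 5, 7, 5, 7, 2, 7, 3, 5, 2, 7, 5],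
  [2, 2, 6, 5, 5, 6, 5, 7, 5, 6, 3, 6],
  [2, 5, 2, 6, 6, 6, 2, 6, 4, 2, 7, 7],
  [2, 6, 9, 9, 3, 8, 3, 5, 5, 6, 6, 5],
  [4, 4, 6, 6, 5, 5, 6, 4, 7, 4, 6, 6],
  [0, 2, 8, 1, 3, 7, 2, 5, 7, 4, 7, 9],
  [2, 4, 6, 5, 5, 7, 3, 8, 8, 3, 9, 7],
  [2, 4, 6, 5, 5, 7, 3, 9, 9, 3, 8, 7],
  [2, 4, 6, 3, 7, 7, 2, 4, 6, 3, 7, 7],
  [2, 6, 5, 8, 2, 9, 9, 5, 2, 6, 6, 5],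
  [2, 6, 5, 9, 2, 8, 8, 5, 2, 6, 6, 5],
  [0, 0, 0, 9, 2, 2, 8, 1, 1, 3, 8, 8],
  [0, 3, 3, 8, 8, 0, 8, 1, 3, 3, 0, 8],
  [0, 0, 8, 1, 8, 2, 0, 9, 3, 0, 3, 9],
  [0, 2, 8, 1, 4, 3, 3, 5, 5, 3, 4, 9],
  [0, 5, 5, 0, 9, 1, 9, 9, 4, 4, 0, 8],
  [0, 8, 1, 5, 5, 9, 1, 9, 4, 4, 8, 8],
  [0, 2, 8, 1, 6, 2, 2, 6, 5, 6, 4, 9],
  [0, 2, 8, 1, 7, 2, 5, 7, 4, 7, 3, 9],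
  [0, 0, 0, 8, 0, 9, 9, 0, 9, 1, 9, 9],
  [0, 3, 9, 1, 9, 3, 9, 4, 1, 9, 1, 5],
  [2, 2, 2, 8, 4, 2, 2, 5, 9, 2, 2, 8],
  [0, 8, 2, 5, 3, 8, 0, 8, 3, 4, 2, 8],
  [0, 0, 8, 0, 9, 4, 3, 9, 1, 9, 3, 5],
  [0, 4, 1, 2, 8, 0, 8, 2, 8, 5, 0, 8],
  [2, 2, 8, 2, 2, 9, 3, 3, 8, 3, 3, 8],
  [0, 8, 3, 5, 5, 8, 0, 8, 4, 4, 3, 8],
  [2, 4, 8, 3, 8, 8, 8, 4, 3, 5, 8, 5],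
  [0, 4, 0, 8, 0, 5, 9, 5, 8, 0, 8, 4],
  [0, 4, 1, 9, 1, 5, 9, 5, 8, 0, 8, 4],
  [0, 3, 0, 5, 9, 1, 9, 4, 9, 3, 0, 8],
  [0, 2, 0, 5, 9, 1, 9, 4, 9, 2, 0, 8],
  [0, 4, 1, 9, 1, 5, 9, 5, 9, 1, 9, 4],
  [4, 8, 4, 8, 4, 8, 4, 8, 4, 8, 4, 8],
  [0, 4, 9, 5, 9, 1, 9, 4, 0, 5, 0, 8],
  [0, 4, 8, 5, 9, 1, 9, 4, 1, 5, 0, 8],
  [0, 4, 0, 8, 0, 5, 9, 4, 8, 0, 8, 5],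
  [0, 4, 8, 4, 8, 0, 8, 5, 1, 5, 0, 8],
  [2, 2, 9, 2, 2, 9, 9, 9, 5, 3, 4, 9],
  [2, 2, 9, 2, 8, 5, 3, 4, 8, 8, 2, 9],
  [0, 4, 1, 9, 1, 5, 9, 4, 9, 1, 9, 5],
  [0, 5, 8, 1, 8, 0, 8, 8, 1, 4, 0, 8],
  [0, 0, 0, 8, 8, 2, 1, 1, 8, 3, 3, 9],
  [0, 0, 8, 0, 9, 5, 1, 8, 0, 8, 8, 4],
  [0, 2, 5, 1, 8, 0, 8, 8, 4, 2, 0, 8],
  [2, 6, 4, 4, 9, 2, 8, 8, 4, 6, 6, 5],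
  [2, 8, 3, 8, 8, 8, 2, 9, 3, 9, 9, 9],
  [2, 2, 8, 2, 2, 8, 8, 8, 5, 3, 4, 8],
  [0, 0, 9, 2, 9, 3, 1, 9, 0, 3, 8, 3],
  [0, 4, 3, 3, 5, 5, 3, 4, 8, 1, 2, 9],
  [0, 6, 2, 2, 6, 5, 6, 4, 8, 1, 2, 9],
  [0, 7, 2, 5, 7, 4, 7, 3, 8, 1, 2, 9],
  [10, 10, 10, 10, 10],
  [13, 5, 10],
  [9, 2, 1, 12, 0, 3, 8, 4, 9, 2, 1, 13, 0, 3, 8, 11],
  [12, 0, 2, 2, 4, 13, 5, 3, 3, 1],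
  [12, 1, 4, 2, 4, 13, 5, 3, 5, 0],
  [12, 2, 0, 6, 2, 13, 3, 7, 1, 3],
  [12, 3, 5, 2, 1, 13, 0, 3, 4, 2],
  [12, 3, 7, 1, 3, 13, 2, 0, 6, 2],
  [12, 4, 6, 3, 9, 13, 8, 2, 7, 5],
  [12, 5, 3, 5, 0, 13, 1, 4, 2, 4],
  [12, 8, 2, 7, 5, 13, 4, 6, 3, 9],
  [12, 8, 8, 4, 8, 13, 9, 5, 9, 9],
  [12, 9, 5, 9, 9, 13, 8, 8, 4, 8],
  [12, 0, 0, 6, 4, 6, 13, 7, 5, 7, 1, 1],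
  [12, 0, 5, 3, 1, 9, 13, 8, 0, 2, 4, 1],
  [12, 0, 6, 6, 3, 4, 13, 5, 2, 7, 7, 1],
  [12, 0, 6, 9, 2, 5, 13, 4, 3, 8, 7, 1],
  [12, 1, 3, 4, 0, 8, 13, 9, 1, 5, 2, 0],
  [12, 1, 7, 4, 0, 6, 13, 7, 1, 5, 6, 0],
  [12, 1, 7, 4, 9, 4, 13, 5, 8, 5, 6, 0],
  [12, 2, 0, 5, 2, 7, 13, 6, 3, 4, 1, 3],
  [12, 2, 2, 6, 8, 5, 13, 4, 9, 7, 3, 3],
  [12, 2, 2, 8, 4, 6, 13, 7, 5, 9, 3, 3],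
  [12, 3, 0, 8, 7, 7, 13, 6, 6, 9, 1, 2],
  [12, 3, 5, 0, 5, 6, 13, 7, 4, 1, 4, 2],
  [12, 4, 3, 7, 5, 9, 13, 8, 4, 6, 2, 5],
  [12, 4, 3, 8, 7, 1, 13, 0, 6, 9, 2, 5],
  [12, 4, 9, 7, 3, 3, 13, 2, 2, 6, 8, 5],
  [12, 5, 2, 0, 6, 6, 13, 7, 7, 1, 3, 4],
  [12, 5, 2, 7, 7, 1, 13, 0, 6, 6, 3, 4],
  [12, 5, 8, 5, 6, 0, 13, 1, 7, 4, 9, 4],
  [12, 5, 8, 8, 2, 8, 13, 9, 3, 9, 9, 4],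
  [12, 6, 3, 4, 1, 3, 13, 2, 0, 5, 2, 7],
  [12, 6, 6, 9, 1, 2, 13, 3, 0, 8, 7, 7],
  [12, 7, 1, 5, 6, 0, 13, 1, 7, 4, 0, 6],
  [12, 7, 1, 8, 2, 8, 13, 9, 3, 9, 0, 6],
  [12, 7, 4, 1, 4, 2, 13, 3, 5, 0, 5, 6],
  [12, 7, 5, 7, 1, 1, 13, 0, 0, 6, 4, 6],
  [12, 7, 5, 9, 3, 3, 13, 2, 2, 8, 4, 6],
  [12, 7, 7, 1, 3, 4, 13, 5, 2, 0, 6, 6],
  [12, 8, 4, 6, 2, 5, 13, 4, 3, 7, 5, 9],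
  [12, 9, 3, 9, 0, 6, 13, 7, 1, 8, 2, 8],
  [12, 9, 3, 9, 9, 4, 13, 5, 8, 8, 2, 8],
  [12, 0, 0, 4, 7, 4, 9, 13, 8, 5, 6, 5, 1, 1],
  [12, 0, 0, 4, 7, 9, 5, 13, 4, 8, 6, 5, 1, 1],
  [12, 0, 0, 6, 9, 3, 3, 13, 2, 2, 8, 7, 1, 1],
  [12, 0, 0, 8, 8, 4, 7, 13, 6, 5, 9, 9, 1, 1],
  [12, 0, 0, 9, 9, 7, 8, 13, 9, 6, 8, 8, 1, 1],
  [12, 0, 2, 2, 8, 0, 6, 13, 7, 1, 9, 3, 3, 1],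
  [12, 0, 2, 6, 3, 1, 7, 13, 6, 0, 2, 7, 3, 1],
  [12, 0, 2, 6, 6, 2, 7, 13, 6, 3, 7, 7, 3, 1],
  [12, 0, 2, 9, 4, 4, 8, 13, 9, 5, 5, 8, 3, 1],
  [12, 0, 2, 9, 4, 9, 9, 13, 8, 8, 5, 8, 3, 1],
  [12, 0, 3, 3, 6, 1, 4, 13, 5, 0, 7, 2, 2, 1],
  [12, 0, 3, 4, 7, 1, 3, 13, 2, 0, 6, 5, 2, 1],
  [12, 0, 3, 7, 7, 0, 5, 13, 4, 1, 6, 6, 2, 1],
  [12, 0, 3, 9, 5, 6, 8, 13, 9, 7, 4, 8, 2, 1],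
  [12, 0, 4, 0, 2, 7, 4, 13, 5, 6, 3, 1, 5, 1],
  [12, 0, 4, 1, 7, 7, 4, 13, 5, 6, 6, 0, 5, 1],
  [12, 0, 4, 3, 6, 8, 5, 13, 4, 9, 7, 2, 5, 1],
  [12, 0, 4, 6, 4, 0, 9, 13, 8, 1, 5, 7, 5, 1],
  [12, 0, 4, 6, 5, 7, 3, 13, 2, 6, 4, 7, 5, 1],
  [12, 0, 5, 7, 3, 7, 1, 13, 0, 6, 2, 6, 4, 1],
  [12, 0, 5, 8, 0, 6, 3, 13, 2, 7, 1, 9, 4, 1],
  [12, 0, 5, 9, 6, 9, 3, 13, 2, 8, 7, 8, 4, 1],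
  [12, 0, 6, 0, 8, 2, 5, 13, 4, 3, 9, 1, 7, 1],
  [12, 0, 6, 1, 4, 4, 2, 13, 3, 5, 5, 0, 7, 1],
  [12, 0, 6, 2, 5, 0, 9, 13, 8, 1, 4, 3, 7, 1],
  [12, 0, 6, 2, 6, 4, 1, 13, 0, 5, 7, 3, 7, 1],
  [12, 0, 6, 5, 0, 7, 8, 13, 9, 6, 1, 4, 7, 1],
  [12, 0, 6, 9, 7, 5, 9, 13, 8, 4, 6, 8, 7, 1],
  [12, 0, 7, 1, 4, 1, 5, 13, 4, 0, 5, 0, 6, 1],
  [12, 0, 7, 1, 8, 8, 4, 13, 5, 9, 9, 0, 6, 1],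
  [12, 0, 7, 3, 4, 1, 6, 13, 7, 0, 5, 2, 6, 1],
  [12, 0, 7, 4, 3, 3, 7, 13, 6, 2, 2, 5, 6, 1],
  [12, 0, 7, 7, 0, 4, 3, 13, 2, 5, 1, 6, 6, 1],
  [12, 1, 1, 3, 8, 1, 4, 13, 5, 0, 9, 2, 0, 0],
  [12, 1, 1, 6, 9, 0, 6, 13, 7, 1, 8, 7, 0, 0],
  [12, 1, 1, 6, 9, 9, 4, 13, 5, 8, 8, 7, 0, 0],
  [12, 1, 1, 7, 0, 5, 3, 13, 2, 4, 1, 6, 0, 0],
  [12, 1, 2, 6, 3, 3, 9, 13, 8, 2, 2, 7, 3, 0],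
  [12, 1, 2, 6, 3, 7, 5, 13, 4, 6, 2, 7, 3, 0],
  [12, 1, 2, 7, 3, 6, 9, 13, 8, 7, 2, 6, 3, 0],
  [12, 1, 3, 3, 0, 6, 5, 13, 4, 7, 1, 2, 2, 0],
  [12, 1, 3, 5, 6, 6, 9, 13, 8, 7, 7, 4, 2, 0],
  [12, 1, 3, 9, 7, 2, 2, 13, 3, 3, 6, 8, 2, 0],
  [12, 1, 4, 1, 1, 8, 5, 13, 4, 9, 0, 0, 5, 0],
  [12, 1, 4, 6, 3, 1, 7, 13, 6, 0, 2, 7, 5, 0],
  [12, 1, 4, 6, 6, 2, 7, 13, 6, 3, 7, 7, 5, 0],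
  [12, 1, 4, 8, 2, 2, 8, 13, 9, 3, 3, 9, 5, 0],
  [12, 1, 4, 9, 3, 6, 8, 13, 9, 7, 2, 8, 5, 0],
  [12, 1, 5, 0, 5, 0, 3, 13, 2, 1, 4, 1, 4, 0],
  [12, 1, 5, 1, 5, 6, 3, 13, 2, 7, 4, 0, 4, 0],
  [12, 1, 5, 2, 7, 9, 6, 13, 7, 8, 6, 3, 4, 0],
  [12, 1, 5, 7, 2, 1, 8, 13, 9, 0, 3, 6, 4, 0],
  [12, 1, 6, 2, 6, 3, 3, 13, 2, 2, 7, 3, 7, 0],
  [12, 1, 6, 5, 6, 6, 5, 13, 4, 7, 7, 4, 7, 0],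
  [12, 1, 6, 6, 5, 7, 2, 13, 3, 6, 4, 7, 7, 0],
  [12, 1, 7, 1, 5, 1, 4, 13, 5, 0, 4, 0, 6, 0],
  [12, 1, 7, 2, 9, 3, 5, 13, 4, 2, 8, 3, 6, 0],
  [12, 1, 7, 4, 8, 2, 8, 13, 9, 3, 9, 5, 6, 0],
  [12, 1, 7, 7, 4, 1, 4, 13, 5, 0, 5, 6, 6, 0],
  [12, 1, 8, 8, 6, 8, 2, 13, 3, 9, 7, 9, 9, 0],
  [12, 1, 9, 3, 3, 6, 6, 13, 7, 7, 2, 2, 8, 0],
  [12, 1, 9, 4, 7, 1, 7, 13, 6, 0, 6, 5, 8, 0],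
  [12, 1, 9, 9, 2, 9, 4, 13, 5, 8, 3, 8, 8, 0],
  [12, 2, 0, 4, 4, 7, 9, 13, 8, 6, 5, 5, 1, 3],
  [12, 2, 0, 5, 3, 1, 6, 13, 7, 0, 2, 4, 1, 3],
  [12, 2, 0, 6, 5, 2, 1, 13, 0, 3, 4, 7, 1, 3],
  [12, 2, 0, 8, 4, 6, 5, 13, 4, 7, 5, 9, 1, 3],
  [12, 2, 1, 4, 1, 4, 0, 13, 1, 5, 0, 5, 0, 3],
  [12, 2, 1, 4, 6, 3, 8, 13, 9, 2, 7, 5, 0, 3],
  [12, 2, 1, 7, 8, 3, 7, 13, 6, 2, 9, 6, 0, 3],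
  [12, 2, 2, 0, 5, 1, 5, 13, 4, 0, 4, 1, 3, 3],
  [12, 2, 2, 4, 1, 1, 6, 13, 7, 0, 0, 5, 3, 3],
  [12, 2, 2, 6, 2, 0, 4, 13, 5, 1, 3, 7, 3, 3],
  [12, 2, 2, 7, 3, 7, 0, 13, 1, 6, 2, 6, 3, 3],
  [12, 2, 2, 8, 7, 1, 1, 13, 0, 0, 6, 9, 3, 3],
  [12, 2, 4, 1, 6, 0, 0, 13, 1, 1, 7, 0, 5, 3],
  [12, 2, 4, 3, 7, 1, 9, 13, 8, 0, 6, 2, 5, 3],
  [12, 2, 5, 0, 9, 2, 7, 13, 6, 3, 8, 1, 4, 3],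
  [12, 2, 5, 1, 2, 6, 4, 13, 5, 7, 3, 0, 4, 3],
  [12, 2, 5, 1, 6, 0, 7, 13, 6, 1, 7, 0, 4, 3],
  [12, 2, 5, 1, 6, 6, 1, 13, 0, 7, 7, 0, 4, 3],
  [12, 2, 5, 1, 9, 6, 6, 13, 7, 7, 8, 0, 4, 3],
  [12, 2, 5, 5, 7, 0, 9, 13, 8, 1, 6, 4, 4, 3],
  [12, 2, 5, 6, 4, 0, 7, 13, 6, 1, 5, 7, 4, 3],
  [12, 2, 5, 6, 4, 6, 1, 13, 0, 7, 5, 7, 4, 3],
  [12, 2, 5, 8, 6, 3, 5, 13, 4, 2, 7, 9, 4, 3],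
  [12, 2, 5, 9, 9, 4, 6, 13, 7, 5, 8, 8, 4, 3],
  [12, 2, 6, 0, 4, 3, 9, 13, 8, 2, 5, 1, 7, 3],
  [12, 2, 6, 1, 6, 6, 2, 13, 3, 7, 7, 0, 7, 3],
  [12, 2, 6, 2, 6, 5, 5, 13, 4, 4, 7, 3, 7, 3],
  [12, 2, 7, 1, 4, 9, 2, 13, 3, 8, 5, 0, 6, 3],
  [12, 2, 7, 1, 9, 4, 1, 13, 0, 5, 8, 0, 6, 3],
  [12, 2, 7, 3, 4, 4, 6, 13, 7, 5, 5, 2, 6, 3],
  [12, 2, 7, 4, 0, 4, 0, 13, 1, 5, 1, 5, 6, 3],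
  [12, 2, 8, 2, 2, 8, 6, 13, 7, 9, 3, 3, 9, 3],
  [12, 2, 8, 4, 4, 8, 2, 13, 3, 9, 5, 5, 9, 3],
  [12, 2, 8, 6, 8, 4, 4, 13, 5, 5, 9, 7, 9, 3],
  [12, 2, 8, 7, 8, 4, 1, 13, 0, 5, 9, 6, 9, 3],
  [12, 2, 9, 2, 4, 8, 8, 13, 9, 9, 5, 3, 8, 3],
  [12, 3, 1, 5, 8, 6, 6, 13, 7, 7, 9, 4, 0, 2],
  [12, 3, 3, 5, 5, 1, 9, 13, 8, 0, 4, 4, 2, 2],
  [12, 3, 3, 6, 8, 2, 0, 13, 1, 3, 9, 7, 2, 2],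
  [12, 3, 4, 6, 5, 0, 5, 13, 4, 1, 4, 7, 5, 2],
  [12, 3, 5, 2, 7, 0, 7, 13, 6, 1, 6, 3, 4, 2],
  [12, 3, 5, 5, 0, 7, 1, 13, 0, 6, 1, 4, 4, 2],
  [12, 3, 5, 7, 3, 4, 9, 13, 8, 5, 2, 6, 4, 2],
  [12, 3, 5, 7, 7, 0, 5, 13, 4, 1, 6, 6, 4, 2],
  [12, 3, 5, 8, 5, 8, 6, 13, 7, 9, 4, 9, 4, 2],
  [12, 3, 5, 9, 6, 4, 8, 13, 9, 5, 7, 8, 4, 2],
  [12, 3, 6, 4, 7, 7, 0, 13, 1, 6, 6, 5, 7, 2],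
  [12, 3, 6, 5, 5, 3, 6, 13, 7, 2, 4, 4, 7, 2],
  [12, 3, 7, 3, 6, 4, 6, 13, 7, 5, 7, 2, 6, 2],
  [12, 3, 7, 4, 0, 0, 9, 13, 8, 1, 1, 5, 6, 2],
  [12, 3, 7, 4, 4, 7, 9, 13, 8, 6, 5, 5, 6, 2],
  [12, 3, 8, 5, 0, 6, 3, 13, 2, 7, 1, 4, 9, 2],
  [12, 3, 9, 5, 5, 9, 3, 13, 2, 8, 4, 4, 8, 2],
  [12, 3, 9, 6, 9, 7, 5, 13, 4, 6, 8, 7, 8, 2],
  [12, 3, 9, 7, 9, 9, 0, 13, 1, 8, 8, 6, 8, 2],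
  [12, 4, 0, 3, 4, 3, 8, 13, 9, 2, 5, 2, 1, 5],
  [12, 4, 0, 4, 1, 3, 3, 13, 2, 2, 0, 5, 1, 5],
  [12, 4, 0, 5, 0, 0, 7, 13, 6, 1, 1, 4, 1, 5],
  [12, 4, 0, 5, 0, 6, 1, 13, 0, 7, 1, 4, 1, 5],
  [12, 4, 1, 2, 5, 6, 6, 13, 7, 7, 4, 3, 0, 5],
  [12, 4, 1, 2, 6, 1, 6, 13, 7, 0, 7, 3, 0, 5],
  [12, 4, 1, 3, 4, 6, 4, 13, 5, 7, 5, 2, 0, 5],
  [12, 4, 1, 3, 5, 3, 9, 13, 8, 2, 4, 2, 0, 5],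
  [12, 4, 1, 4, 7, 5, 2, 13, 3, 4, 6, 5, 0, 5],
  [12, 4, 1, 5, 7, 0, 6, 13, 7, 1, 6, 4, 0, 5],
  [12, 4, 1, 5, 7, 9, 4, 13, 5, 8, 6, 4, 0, 5],
  [12, 4, 1, 6, 3, 4, 9, 13, 8, 5, 2, 7, 0, 5],
  [12, 4, 1, 6, 6, 2, 1, 13, 0, 3, 7, 7, 0, 5],
  [12, 4, 1, 6, 6, 4, 2, 13, 3, 5, 7, 7, 0, 5],
  [12, 4, 2, 7, 3, 7, 5, 13, 4, 6, 2, 6, 3, 5],
  [12, 4, 2, 7, 9, 4, 3, 13, 2, 5, 8, 6, 3, 5],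
  [12, 4, 2, 8, 3, 6, 0, 13, 1, 7, 2, 9, 3, 5],
  [12, 4, 3, 6, 4, 1, 6, 13, 7, 0, 5, 7, 2, 5],
  [12, 4, 3, 8, 3, 7, 4, 13, 5, 6, 2, 9, 2, 5],
  [12, 4, 3, 9, 1, 7, 1, 13, 0, 6, 0, 8, 2, 5],
  [12, 4, 3, 9, 3, 5, 8, 13, 9, 4, 2, 8, 2, 5],
  [12, 4, 4, 2, 6, 2, 6, 13, 7, 3, 7, 3, 5, 5],
  [12, 4, 4, 3, 7, 0, 4, 13, 5, 1, 6, 2, 5, 5],
  [12, 4, 4, 7, 0, 6, 8, 13, 9, 7, 1, 6, 5, 5],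
  [12, 4, 6, 2, 7, 3, 0, 13, 1, 2, 6, 3, 7, 5],
  [12, 4, 6, 4, 2, 0, 5, 13, 4, 1, 3, 5, 7, 5],
  [12, 4, 6, 8, 7, 8, 2, 13, 3, 9, 6, 9, 7, 5],
  [12, 4, 7, 0, 2, 0, 2, 13, 3, 1, 3, 1, 6, 5],
  [12, 4, 7, 5, 9, 1, 3, 13, 2, 0, 8, 4, 6, 5],
  [12, 4, 7, 7, 4, 7, 0, 13, 1, 6, 5, 6, 6, 5],
  [12, 4, 7, 8, 7, 4, 4, 13, 5, 5, 6, 9, 6, 5],
  [12, 4, 8, 3, 4, 6, 6, 13, 7, 7, 5, 2, 9, 5],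
  [12, 4, 8, 6, 5, 1, 1, 13, 0, 0, 4, 7, 9, 5],
  [12, 4, 9, 0, 0, 5, 0, 13, 1, 4, 1, 1, 8, 5],
  [12, 4, 9, 0, 7, 0, 9, 13, 8, 1, 6, 1, 8, 5],
  [12, 4, 9, 7, 2, 5, 1, 13, 0, 4, 3, 6, 8, 5],
  [12, 4, 9, 7, 5, 0, 8, 13, 9, 1, 4, 6, 8, 5],
  [12, 4, 9, 7, 8, 4, 6, 13, 7, 5, 9, 6, 8, 5],
  [12, 5, 0, 4, 0, 6, 0, 13, 1, 7, 1, 5, 1, 4],
  [12, 5, 0, 5, 6, 6, 0, 13, 1, 7, 7, 4, 1, 4],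
  [12, 5, 0, 7, 2, 2, 1, 13, 0, 3, 3, 6, 1, 4],
  [12, 5, 0, 7, 3, 0, 8, 13, 9, 1, 2, 6, 1, 4],
  [12, 5, 0, 9, 2, 0, 0, 13, 1, 1, 3, 8, 1, 4],
  [12, 5, 1, 3, 7, 3, 3, 13, 2, 2, 6, 2, 0, 4],
  [12, 5, 1, 6, 2, 5, 5, 13, 4, 4, 3, 7, 0, 4],
  [12, 5, 1, 7, 0, 7, 7, 13, 6, 6, 1, 6, 0, 4],
  [12, 5, 1, 7, 1, 6, 4, 13, 5, 7, 0, 6, 0, 4],
  [12, 5, 1, 7, 9, 9, 7, 13, 6, 8, 8, 6, 0, 4],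
  [12, 5, 1, 9, 2, 0, 9, 13, 8, 1, 3, 8, 0, 4],
  [12, 5, 2, 1, 5, 1, 7, 13, 6, 0, 4, 0, 3, 4],
  [12, 5, 2, 6, 6, 0, 7, 13, 6, 1, 7, 7, 3, 4],
  [12, 5, 3, 1, 7, 0, 9, 13, 8, 1, 6, 0, 2, 4],
  [12, 5, 3, 6, 3, 1, 7, 13, 6, 0, 2, 7, 2, 4],
  [12, 5, 5, 2, 7, 3, 7, 13, 6, 2, 6, 3, 4, 4],
  [12, 5, 5, 6, 9, 6, 5, 13, 4, 7, 8, 7, 4, 4],
  [12, 5, 5, 9, 7, 9, 3, 13, 2, 8, 6, 8, 4, 4],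
  [12, 5, 6, 0, 0, 5, 8, 13, 9, 4, 1, 1, 7, 4],
  [12, 5, 6, 2, 9, 2, 5, 13, 4, 3, 8, 3, 7, 4],
  [12, 5, 6, 3, 1, 5, 1, 13, 0, 4, 0, 2, 7, 4],
  [12, 5, 6, 8, 6, 6, 8, 13, 9, 7, 7, 9, 7, 4],
  [12, 5, 7, 0, 0, 7, 7, 13, 6, 6, 1, 1, 6, 4],
  [12, 5, 7, 0, 6, 0, 4, 13, 5, 1, 7, 1, 6, 4],
  [12, 5, 7, 3, 6, 6, 1, 13, 0, 7, 7, 2, 6, 4],
  [12, 5, 7, 3, 9, 6, 6, 13, 7, 7, 8, 2, 6, 4],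
  [12, 5, 8, 6, 4, 0, 5, 13, 4, 1, 5, 7, 9, 4],
  [12, 5, 8, 8, 7, 0, 0, 13, 1, 1, 6, 9, 9, 4],
  [12, 5, 9, 9, 0, 6, 1, 13, 0, 7, 1, 8, 8, 4],
  [12, 6, 0, 2, 6, 2, 7, 13, 6, 3, 7, 3, 1, 7],
  [12, 6, 0, 2, 7, 2, 4, 13, 5, 3, 6, 3, 1, 7],
  [12, 6, 0, 2, 7, 3, 1, 13, 0, 2, 6, 3, 1, 7],
  [12, 6, 0, 2, 7, 5, 0, 13, 1, 4, 6, 3, 1, 7],
  [12, 6, 0, 4, 0, 3, 4, 13, 5, 2, 1, 5, 1, 7],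
  [12, 6, 0, 6, 5, 8, 0, 13, 1, 9, 4, 7, 1, 7],
  [12, 6, 1, 1, 4, 1, 5, 13, 4, 0, 5, 0, 0, 7],
  [12, 6, 1, 4, 3, 3, 7, 13, 6, 2, 2, 5, 0, 7],
  [12, 6, 1, 5, 7, 4, 3, 13, 2, 5, 6, 4, 0, 7],
  [12, 6, 1, 6, 2, 2, 4, 13, 5, 3, 3, 7, 0, 7],
  [12, 6, 1, 7, 0, 4, 3, 13, 2, 5, 1, 6, 0, 7],
  [12, 6, 1, 7, 7, 3, 4, 13, 5, 2, 6, 6, 0, 7],
  [12, 6, 1, 9, 9, 7, 7, 13, 6, 6, 8, 8, 0, 7],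
  [12, 6, 2, 2, 5, 0, 7, 13, 6, 1, 4, 3, 3, 7],
  [12, 6, 2, 2, 5, 6, 1, 13, 0, 7, 4, 3, 3, 7],
  [12, 6, 2, 5, 8, 2, 7, 13, 6, 3, 9, 4, 3, 7],
  [12, 6, 2, 6, 4, 9, 6, 13, 7, 8, 5, 7, 3, 7],
  [12, 6, 2, 7, 1, 3, 6, 13, 7, 2, 0, 6, 3, 7],
  [12, 6, 2, 9, 6, 0, 3, 13, 2, 1, 7, 8, 3, 7],
  [12, 6, 3, 5, 5, 7, 9, 13, 8, 6, 4, 4, 2, 7],
  [12, 6, 3, 7, 3, 1, 7, 13, 6, 0, 2, 6, 2, 7],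
  [12, 6, 3, 7, 7, 5, 0, 13, 1, 4, 6, 6, 2, 7],
  [12, 6, 3, 8, 1, 4, 3, 13, 2, 5, 0, 9, 2, 7],
  [12, 6, 3, 9, 4, 3, 7, 13, 6, 2, 5, 8, 2, 7],
  [12, 6, 4, 2, 7, 2, 9, 13, 8, 3, 6, 3, 5, 7],
  [12, 6, 4, 7, 2, 5, 9, 13, 8, 4, 3, 6, 5, 7],
  [12, 6, 5, 0, 8, 8, 1, 13, 0, 9, 9, 1, 4, 7],
  [12, 6, 6, 1, 1, 6, 4, 13, 5, 7, 0, 0, 7, 7],
  [12, 6, 6, 1, 6, 0, 4, 13, 5, 1, 7, 0, 7, 7],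
  [12, 6, 6, 1, 9, 9, 7, 13, 6, 8, 8, 0, 7, 7],
  [12, 6, 8, 8, 6, 0, 4, 13, 5, 1, 7, 9, 9, 7],
  [12, 6, 9, 0, 5, 8, 8, 13, 9, 9, 4, 1, 8, 7],
  [12, 6, 9, 6, 5, 8, 8, 13, 9, 9, 4, 7, 8, 7],
  [12, 7, 0, 0, 3, 5, 2, 13, 3, 4, 2, 1, 1, 6],
  [12, 7, 0, 2, 4, 1, 3, 13, 2, 0, 5, 3, 1, 6],
  [12, 7, 0, 5, 2, 6, 1, 13, 0, 7, 3, 4, 1, 6],
  [12, 7, 0, 5, 7, 2, 5, 13, 4, 3, 6, 4, 1, 6],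
  [12, 7, 0, 6, 5, 0, 6, 13, 7, 1, 4, 7, 1, 6],
  [12, 7, 0, 7, 3, 0, 5, 13, 4, 1, 2, 6, 1, 6],
  [12, 7, 1, 4, 3, 4, 6, 13, 7, 5, 2, 5, 0, 6],
  [12, 7, 1, 4, 7, 1, 6, 13, 7, 0, 6, 5, 0, 6],
  [12, 7, 1, 8, 7, 0, 0, 13, 1, 1, 6, 9, 0, 6],
  [12, 7, 1, 9, 3, 3, 1, 13, 0, 2, 2, 8, 0, 6],
  [12, 7, 2, 0, 6, 3, 7, 13, 6, 2, 7, 1, 3, 6],
  [12, 7, 2, 7, 1, 7, 8, 13, 9, 6, 0, 6, 3, 6],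
  [12, 7, 3, 5, 7, 1, 8, 13, 9, 0, 6, 4, 2, 6],
  [12, 7, 5, 2, 5, 0, 6, 13, 7, 1, 4, 3, 4, 6],
  [12, 7, 5, 7, 2, 6, 2, 13, 3, 7, 3, 6, 4, 6],
  [12, 7, 5, 8, 2, 8, 6, 13, 7, 9, 3, 9, 4, 6],
  [12, 7, 5, 8, 8, 4, 3, 13, 2, 5, 9, 9, 4, 6],
  [12, 7, 5, 9, 6, 8, 5, 13, 4, 9, 7, 8, 4, 6],
  [12, 7, 7, 2, 2, 8, 0, 13, 1, 9, 3, 3, 6, 6],
  [12, 7, 7, 5, 2, 4, 9, 13, 8, 5, 3, 4, 6, 6],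
  [12, 7, 7, 5, 2, 9, 5, 13, 4, 8, 3, 4, 6, 6],
  [12, 7, 7, 8, 0, 4, 3, 13, 2, 5, 1, 9, 6, 6],
  [12, 7, 7, 8, 2, 6, 4, 13, 5, 7, 3, 9, 6, 6],
  [12, 7, 7, 9, 4, 0, 2, 13, 3, 1, 5, 8, 6, 6],
  [12, 7, 8, 5, 7, 3, 7, 13, 6, 2, 6, 4, 9, 6],
  [12, 7, 8, 6, 3, 4, 0, 13, 1, 5, 2, 7, 9, 6],
  [12, 7, 9, 4, 9, 4, 2, 13, 3, 5, 8, 5, 8, 6],
  [12, 8, 0, 3, 4, 3, 4, 13, 5, 2, 5, 2, 1, 9],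
  [12, 8, 0, 6, 2, 5, 3, 13, 2, 4, 3, 7, 1, 9],
  [12, 8, 1, 1, 4, 7, 9, 13, 8, 6, 5, 0, 0, 9],
  [12, 8, 1, 1, 5, 6, 2, 13, 3, 7, 4, 0, 0, 9],
  [12, 8, 1, 4, 3, 7, 1, 13, 0, 6, 2, 5, 0, 9],
  [12, 8, 1, 4, 6, 4, 1, 13, 0, 5, 7, 5, 0, 9],
  [12, 8, 1, 4, 9, 4, 9, 13, 8, 5, 8, 5, 0, 9],
  [12, 8, 1, 5, 5, 7, 3, 13, 2, 6, 4, 4, 0, 9],
  [12, 8, 1, 6, 0, 2, 4, 13, 5, 3, 1, 7, 0, 9],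
  [12, 8, 1, 6, 1, 8, 5, 13, 4, 9, 0, 7, 0, 9],
  [12, 8, 2, 0, 9, 7, 9, 13, 8, 6, 8, 1, 3, 9],
  [12, 8, 2, 2, 7, 3, 0, 13, 1, 2, 6, 3, 3, 9],
  [12, 8, 2, 4, 2, 0, 5, 13, 4, 1, 3, 5, 3, 9],
  [12, 8, 2, 5, 1, 7, 3, 13, 2, 6, 0, 4, 3, 9],
  [12, 8, 3, 6, 3, 5, 7, 13, 6, 4, 2, 7, 2, 9],
  [12, 8, 4, 3, 6, 5, 7, 13, 6, 4, 7, 2, 5, 9],
  [12, 8, 5, 2, 7, 0, 5, 13, 4, 1, 6, 3, 4, 9],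
  [12, 8, 5, 5, 7, 2, 7, 13, 6, 3, 6, 4, 4, 9],
  [12, 8, 5, 6, 5, 1, 1, 13, 0, 0, 4, 7, 4, 9],
  [12, 8, 5, 8, 5, 0, 9, 13, 8, 1, 4, 9, 4, 9],
  [12, 8, 6, 5, 5, 1, 3, 13, 2, 0, 4, 4, 7, 9],
  [12, 8, 6, 5, 5, 6, 2, 13, 3, 7, 4, 4, 7, 9],
  [12, 8, 6, 8, 1, 3, 9, 13, 8, 2, 0, 9, 7, 9],
  [12, 8, 7, 2, 6, 3, 0, 13, 1, 2, 7, 3, 6, 9],
  [12, 8, 7, 7, 4, 2, 0, 13, 1, 3, 5, 6, 6, 9],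
  [12, 8, 8, 5, 8, 3, 1, 13, 0, 2, 9, 4, 9, 9],
  [12, 8, 8, 6, 3, 7, 8, 13, 9, 6, 2, 7, 9, 9],
  [12, 9, 0, 3, 6, 4, 0, 13, 1, 5, 7, 2, 1, 8],
  [12, 9, 0, 6, 4, 2, 6, 13, 7, 3, 5, 7, 1, 8],
  [12, 9, 1, 2, 6, 1, 4, 13, 5, 0, 7, 3, 0, 8],
  [12, 9, 1, 4, 6, 8, 5, 13, 4, 9, 7, 5, 0, 8],
  [12, 9, 2, 5, 2, 1, 5, 13, 4, 0, 3, 4, 3, 8],
  [12, 9, 2, 7, 5, 0, 3, 13, 2, 1, 4, 6, 3, 8],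
  [12, 9, 3, 3, 9, 5, 0, 13, 1, 4, 8, 2, 2, 8],
  [12, 9, 3, 9, 5, 6, 0, 13, 1, 7, 4, 8, 2, 8],
  [12, 9, 4, 1, 1, 7, 4, 13, 5, 6, 0, 0, 5, 8],
  [12, 9, 4, 2, 8, 2, 5, 13, 4, 3, 9, 3, 5, 8],
  [12, 9, 5, 5, 8, 3, 1, 13, 0, 2, 9, 4, 4, 8],
  [12, 9, 5, 7, 8, 4, 2, 13, 3, 5, 9, 6, 4, 8],
  [12, 9, 6, 0, 6, 3, 6, 13, 7, 2, 7, 1, 7, 8],
  [12, 9, 6, 1, 4, 7, 1, 13, 0, 6, 5, 0, 7, 8],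
  [12, 9, 6, 2, 7, 9, 9, 13, 8, 8, 6, 3, 7, 8],
  [12, 9, 6, 8, 8, 1, 1, 13, 0, 0, 9, 9, 7, 8],
  [12, 9, 7, 1, 6, 5, 5, 13, 4, 4, 7, 0, 6, 8],
  [12, 9, 7, 2, 8, 5, 0, 13, 1, 4, 9, 3, 6, 8],
  [12, 9, 7, 4, 8, 2, 1, 13, 0, 3, 9, 5, 6, 8],
  [12, 9, 7, 7, 9, 7, 4, 13, 5, 6, 8, 6, 6, 8],
  [12, 9, 9, 4, 1, 8, 7, 13, 6, 9, 0, 5, 8, 8],
  [12, 9, 9, 4, 7, 8, 7, 13, 6, 9, 6, 5, 8, 8],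
  [12, 9, 9, 5, 3, 8, 3, 13, 2, 9, 2, 4, 8, 8],
  [12, 1, 12, 0, 1, 9, 1, 13, 0, 13, 8, 0],
  [12, 1, 12, 0, 8, 0, 1, 13, 0, 13, 1, 9],
  [12, 1, 12, 0, 1, 4, 1, 5, 1, 13, 0, 13, 4, 0, 5, 0],
  [12, 1, 12, 0, 1, 5, 0, 4, 1, 13, 0, 13, 5, 1, 4, 0],
  [12, 1, 12, 0, 4, 0, 5, 0, 1, 13, 0, 13, 1, 4, 1, 5],
  [12, 1, 12, 0, 4, 0, 8, 5, 1, 13, 0, 13, 4, 9, 1, 5],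
  [12, 1, 12, 0, 4, 9, 1, 5, 1, 13, 0, 13, 4, 0, 8, 5],
  [12, 1, 12, 0, 4, 9, 5, 9, 1, 13, 0, 13, 8, 4, 8, 5],
  [12, 1, 12, 0, 5, 1, 4, 0, 1, 13, 0, 13, 1, 5, 0, 4],
  [12, 1, 12, 0, 5, 1, 9, 4, 1, 13, 0, 13, 5, 8, 0, 4],
  [12, 1, 12, 0, 5, 8, 0, 4, 1, 13, 0, 13, 5, 1, 9, 4],
  [12, 1, 12, 0, 5, 8, 4, 9, 1, 13, 0, 13, 8, 5, 9, 4],
  [12, 1, 12, 0, 8, 4, 8, 5, 1, 13, 0, 13, 4, 9, 5, 9],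
  [12, 1, 12, 0, 8, 5, 9, 4, 1, 13, 0, 13, 5, 8, 4, 9],
  [12, 1, 12, 0, 0, 6, 2, 6, 6, 1, 13, 0, 13, 7, 7, 3, 7, 1],
  [12, 1, 12, 0, 4, 3, 8, 7, 1, 1, 13, 0, 13, 0, 6, 9, 2, 5],
  [12, 1, 12, 0, 4, 7, 3, 5, 7, 1, 13, 0, 13, 6, 4, 2, 6, 5],
  [12, 1, 12, 0, 6, 4, 2, 6, 5, 1, 13, 0, 13, 4, 7, 3, 5, 7],
  [12, 1, 12, 0, 7, 7, 3, 7, 1, 1, 13, 0, 13, 0, 6, 2, 6, 6],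
  [12, 1, 12, 0, 0, 0, 7, 5, 3, 1, 1, 13, 0, 13, 0, 2, 4, 6, 1, 1],
  [12, 1, 12, 0, 0, 0, 8, 8, 4, 7, 1, 13, 0, 13, 6, 5, 9, 9, 1, 1],
  [12, 1, 12, 0, 0, 2, 4, 6, 1, 1, 1, 13, 0, 13, 0, 0, 7, 5, 3, 1],
  [12, 1, 12, 0, 0, 3, 7, 2, 6, 9, 1, 13, 0, 13, 8, 7, 3, 6, 2, 1],
  [12, 1, 12, 0, 1, 4, 1, 5, 1, 9, 1, 13, 0, 13, 8, 0, 4, 0, 5, 0],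
  [12, 1, 12, 0, 1, 4, 1, 9, 5, 0, 1, 13, 0, 13, 1, 4, 8, 0, 5, 0],
  [12, 1, 12, 0, 1, 4, 1, 9, 5, 9, 1, 13, 0, 13, 8, 4, 8, 0, 5, 0],
  [12, 1, 12, 0, 1, 5, 0, 4, 1, 9, 1, 13, 0, 13, 8, 0, 5, 1, 4, 0],
  [12, 1, 12, 0, 1, 5, 0, 8, 4, 0, 1, 13, 0, 13, 1, 5, 9, 1, 4, 0],
  [12, 1, 12, 0, 1, 5, 0, 8, 4, 9, 1, 13, 0, 13, 8, 5, 9, 1, 4, 0],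
  [12, 1, 12, 0, 1, 6, 5, 7, 1, 5, 1, 13, 0, 13, 4, 0, 6, 4, 7, 0],
  [12, 1, 12, 0, 1, 6, 6, 0, 4, 4, 1, 13, 0, 13, 5, 5, 1, 7, 7, 0],
  [12, 1, 12, 0, 1, 9, 4, 0, 5, 9, 1, 13, 0, 13, 8, 4, 1, 5, 8, 0],
  [12, 1, 12, 0, 1, 9, 4, 9, 5, 0, 1, 13, 0, 13, 1, 4, 8, 5, 8, 0],
  [12, 1, 12, 0, 1, 9, 5, 1, 4, 9, 1, 13, 0, 13, 8, 5, 0, 4, 8, 0],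
  [12, 1, 12, 0, 1, 9, 5, 8, 4, 0, 1, 13, 0, 13, 1, 5, 9, 4, 8, 0],
  [12, 1, 12, 0, 1, 9, 5, 8, 4, 9, 1, 13, 0, 13, 8, 5, 9, 4, 8, 0],
  [12, 1, 12, 0, 2, 0, 7, 1, 8, 4, 1, 13, 0, 13, 5, 9, 0, 6, 1, 3],
  [12, 1, 12, 0, 2, 2, 0, 2, 4, 7, 1, 13, 0, 13, 6, 5, 3, 1, 3, 3],
  [12, 1, 12, 0, 2, 5, 2, 6, 2, 2, 1, 13, 0, 13, 3, 3, 7, 3, 4, 3],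
  [12, 1, 12, 0, 3, 3, 7, 3, 4, 3, 1, 13, 0, 13, 2, 5, 2, 6, 2, 2],
  [12, 1, 12, 0, 3, 6, 8, 0, 6, 4, 1, 13, 0, 13, 5, 7, 1, 9, 7, 2],
  [12, 1, 12, 0, 3, 7, 1, 3, 5, 7, 1, 13, 0, 13, 6, 4, 2, 0, 6, 2],
  [12, 1, 12, 0, 4, 0, 6, 4, 7, 0, 1, 13, 0, 13, 1, 6, 5, 7, 1, 5],
  [12, 1, 12, 0, 4, 4, 2, 1, 9, 6, 1, 13, 0, 13, 7, 8, 0, 3, 5, 5],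
  [12, 1, 12, 0, 5, 0, 4, 1, 3, 7, 1, 13, 0, 13, 6, 2, 0, 5, 1, 4],
  [12, 1, 12, 0, 5, 5, 1, 7, 7, 0, 1, 13, 0, 13, 1, 6, 6, 0, 4, 4],
  [12, 1, 12, 0, 5, 5, 6, 1, 5, 6, 1, 13, 0, 13, 7, 4, 0, 7, 4, 4],
  [12, 1, 12, 0, 5, 6, 0, 2, 4, 1, 1, 13, 0, 13, 0, 5, 3, 1, 7, 4],
  [12, 1, 12, 0, 5, 7, 1, 9, 7, 2, 1, 13, 0, 13, 3, 6, 8, 0, 6, 4],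
  [12, 1, 12, 0, 5, 9, 0, 6, 1, 3, 1, 13, 0, 13, 2, 0, 7, 1, 8, 4],
  [12, 1, 12, 0, 6, 2, 0, 5, 1, 4, 1, 13, 0, 13, 5, 0, 4, 1, 3, 7],
  [12, 1, 12, 0, 6, 4, 2, 0, 6, 2, 1, 13, 0, 13, 3, 7, 1, 3, 5, 7],
  [12, 1, 12, 0, 6, 5, 0, 8, 8, 1, 1, 13, 0, 13, 0, 9, 9, 1, 4, 7],
  [12, 1, 12, 0, 6, 5, 3, 1, 3, 3, 1, 13, 0, 13, 2, 2, 0, 2, 4, 7],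
  [12, 1, 12, 0, 7, 4, 0, 7, 4, 4, 1, 13, 0, 13, 5, 5, 6, 1, 5, 6],
  [12, 1, 12, 0, 7, 8, 0, 3, 5, 5, 1, 13, 0, 13, 4, 4, 2, 1, 9, 6],
  [12, 1, 12, 0, 7, 9, 6, 0, 6, 9, 1, 13, 0, 13, 8, 7, 1, 7, 8, 6],
  [12, 1, 12, 0, 8, 7, 1, 7, 8, 6, 1, 13, 0, 13, 7, 9, 6, 0, 6, 9],
  [12, 1, 12, 0, 8, 7, 3, 6, 2, 1, 1, 13, 0, 13, 0, 3, 7, 2, 6, 9],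
  [12, 3, 0, 12, 1, 2, 3, 4, 9, 4, 3, 0, 13, 1, 2, 13, 5, 8, 5, 2],
  [12, 3, 0, 12, 1, 2, 3, 7, 2, 7, 3, 0, 13, 1, 2, 13, 6, 3, 6, 2],
  [12, 3, 0, 12, 1, 2, 4, 8, 4, 8, 3, 0, 13, 1, 2, 13, 9, 5, 9, 5],
  [12, 3, 0, 12, 1, 2, 5, 8, 5, 2, 3, 0, 13, 1, 2, 13, 3, 4, 9, 4],
  [12, 3, 0, 12, 1, 2, 6, 0, 6, 6, 3, 0, 13, 1, 2, 13, 7, 7, 1, 7],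
  [12, 3, 0, 12, 1, 2, 6, 3, 6, 2, 3, 0, 13, 1, 2, 13, 3, 7, 2, 7],
  [12, 3, 0, 12, 1, 2, 8, 3, 4, 9, 3, 0, 13, 1, 2, 13, 8, 5, 2, 9],
  [12, 3, 0, 12, 1, 2, 8, 5, 2, 9, 3, 0, 13, 1, 2, 13, 8, 3, 4, 9],
  [12, 3, 0, 12, 1, 2, 9, 5, 9, 5, 3, 0, 13, 1, 2, 13, 4, 8, 4, 8],
  [12, 3, 0, 12, 1, 2, 0, 2, 2, 7, 4, 3, 0, 13, 1, 2, 13, 5, 6, 3, 3, 1],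
  [12, 3, 0, 12, 1, 2, 0, 2, 4, 0, 4, 3, 0, 13, 1, 2, 13, 5, 1, 5, 3, 1],
  [12, 3, 0, 12, 1, 2, 0, 4, 3, 7, 2, 3, 0, 13, 1, 2, 13, 3, 6, 2, 5, 1],
  [12, 3, 0, 12, 1, 2, 1, 7, 4, 3, 6, 3, 0, 13, 1, 2, 13, 7, 2, 5, 6, 0],
  [12, 3, 0, 12, 1, 2, 1, 7, 4, 9, 4, 3, 0, 13, 1, 2, 13, 5, 8, 5, 6, 0],
  [12, 3, 0, 12, 1, 2, 1, 7, 7, 2, 7, 3, 0, 13, 1, 2, 13, 6, 3, 6, 6, 0],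
  [12, 3, 0, 12, 1, 2, 1, 8, 3, 8, 4, 3, 0, 13, 1, 2, 13, 5, 9, 2, 9, 0],
  [12, 3, 0, 12, 1, 2, 1, 9, 0, 3, 7, 3, 0, 13, 1, 2, 13, 6, 2, 1, 8, 0],
  [12, 3, 0, 12, 1, 2, 2, 1, 1, 5, 9, 3, 0, 13, 1, 2, 13, 8, 4, 0, 0, 3],
  [12, 3, 0, 12, 1, 2, 2, 2, 6, 0, 6, 3, 0, 13, 1, 2, 13, 7, 1, 7, 3, 3],
  [12, 3, 0, 12, 1, 2, 2, 4, 4, 0, 5, 3, 0, 13, 1, 2, 13, 4, 1, 5, 5, 3],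
  [12, 3, 0, 12, 1, 2, 2, 7, 3, 0, 6, 3, 0, 13, 1, 2, 13, 7, 1, 2, 6, 3],
  [12, 3, 0, 12, 1, 2, 3, 1, 6, 3, 8, 3, 0, 13, 1, 2, 13, 9, 2, 7, 0, 2],
  [12, 3, 0, 12, 1, 2, 3, 6, 2, 5, 1, 3, 0, 13, 1, 2, 13, 0, 4, 3, 7, 2],
  [12, 3, 0, 12, 1, 2, 4, 1, 5, 5, 3, 3, 0, 13, 1, 2, 13, 2, 4, 4, 0, 5],
  [12, 3, 0, 12, 1, 2, 4, 3, 8, 4, 9, 3, 0, 13, 1, 2, 13, 8, 5, 9, 2, 5],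
  [12, 3, 0, 12, 1, 2, 4, 6, 5, 7, 7, 3, 0, 13, 1, 2, 13, 6, 6, 4, 7, 5],
  [12, 3, 0, 12, 1, 2, 4, 7, 2, 1, 7, 3, 0, 13, 1, 2, 13, 6, 0, 3, 6, 5],
  [12, 3, 0, 12, 1, 2, 5, 1, 5, 3, 1, 3, 0, 13, 1, 2, 13, 0, 2, 4, 0, 4],
  [12, 3, 0, 12, 1, 2, 5, 3, 0, 5, 6, 3, 0, 13, 1, 2, 13, 7, 4, 1, 2, 4],
  [12, 3, 0, 12, 1, 2, 5, 3, 7, 5, 8, 3, 0, 13, 1, 2, 13, 9, 4, 6, 2, 4],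
  [12, 3, 0, 12, 1, 2, 5, 5, 0, 6, 4, 3, 0, 13, 1, 2, 13, 5, 7, 1, 4, 4],
  [12, 3, 0, 12, 1, 2, 5, 6, 3, 3, 1, 3, 0, 13, 1, 2, 13, 0, 2, 2, 7, 4],
  [12, 3, 0, 12, 1, 2, 5, 7, 1, 4, 4, 3, 0, 13, 1, 2, 13, 5, 5, 0, 6, 4],
  [12, 3, 0, 12, 1, 2, 5, 8, 5, 6, 0, 3, 0, 13, 1, 2, 13, 1, 7, 4, 9, 4],
  [12, 3, 0, 12, 1, 2, 5, 9, 0, 9, 3, 3, 0, 13, 1, 2, 13, 2, 8, 1, 8, 4],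
  [12, 3, 0, 12, 1, 2, 6, 0, 3, 6, 5, 3, 0, 13, 1, 2, 13, 4, 7, 2, 1, 7],
  [12, 3, 0, 12, 1, 2, 6, 2, 1, 8, 0, 3, 0, 13, 1, 2, 13, 1, 9, 0, 3, 7],
  [12, 3, 0, 12, 1, 2, 6, 3, 6, 6, 0, 3, 0, 13, 1, 2, 13, 1, 7, 7, 2, 7],
  [12, 3, 0, 12, 1, 2, 6, 4, 6, 3, 0, 3, 0, 13, 1, 2, 13, 1, 2, 7, 5, 7],
  [12, 3, 0, 12, 1, 2, 7, 1, 2, 6, 3, 3, 0, 13, 1, 2, 13, 2, 7, 3, 0, 6],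
  [12, 3, 0, 12, 1, 2, 7, 1, 5, 2, 7, 3, 0, 13, 1, 2, 13, 6, 3, 4, 0, 6],
  [12, 3, 0, 12, 1, 2, 7, 4, 1, 2, 4, 3, 0, 13, 1, 2, 13, 5, 3, 0, 5, 6],
  [12, 3, 0, 12, 1, 2, 8, 0, 2, 4, 4, 3, 0, 13, 1, 2, 13, 5, 5, 3, 1, 9],
  [12, 3, 0, 12, 1, 2, 8, 4, 0, 0, 3, 3, 0, 13, 1, 2, 13, 2, 1, 1, 5, 9],
  [12, 3, 0, 12, 1, 2, 8, 5, 3, 6, 9, 3, 0, 13, 1, 2, 13, 8, 7, 2, 4, 9],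
  [12, 3, 0, 12, 1, 2, 8, 7, 2, 2, 9, 3, 0, 13, 1, 2, 13, 8, 3, 3, 6, 9],
  [12, 3, 0, 12, 1, 2, 9, 2, 7, 0, 2, 3, 0, 13, 1, 2, 13, 3, 1, 6, 3, 8],
  [12, 3, 0, 12, 1, 2, 9, 4, 6, 2, 4, 3, 0, 13, 1, 2, 13, 5, 3, 7, 5, 8],
  [12, 3, 0, 12, 1, 2, 0, 0, 3, 9, 7, 0, 3, 0, 13, 1, 2, 13, 1, 6, 8, 2, 1, 1],
  [12, 3, 0, 12, 1, 2, 0, 0, 9, 9, 2, 7, 3, 0, 13, 1, 2, 13, 6, 3, 8, 8, 1, 1],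
  [12, 3, 0, 12, 1, 2, 0, 2, 2, 6, 2, 4, 3, 0, 13, 1, 2, 13, 5, 3, 7, 3, 3, 1],
  [12, 3, 0, 12, 1, 2, 0, 2, 5, 2, 9, 1, 3, 0, 13, 1, 2, 13, 0, 8, 3, 4, 3, 1],
  [12, 3, 0, 12, 1, 2, 0, 3, 4, 6, 5, 3, 3, 0, 13, 1, 2, 13, 2, 4, 7, 5, 2, 1],
  [12, 3, 0, 12, 1, 2, 0, 3, 5, 8, 0, 4, 3, 0, 13, 1, 2, 13, 5, 1, 9, 4, 2, 1],
  [12, 3, 0, 12, 1, 2, 0, 3, 6, 4, 2, 4, 3, 0, 13, 1, 2, 13, 5, 3, 5, 7, 2, 1],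
  [12, 3, 0, 12, 1, 2, 0, 3, 6, 5, 5, 6, 3, 0, 13, 1, 2, 13, 7, 4, 4, 7, 2, 1],
  [12, 3, 0, 12, 1, 2, 0, 4, 0, 2, 5, 8, 3, 0, 13, 1, 2, 13, 9, 4, 3, 1, 5, 1],
  [12, 3, 0, 12, 1, 2, 0, 4, 3, 0, 9, 5, 3, 0, 13, 1, 2, 13, 4, 8, 1, 2, 5, 1],
  [12, 3, 0, 12, 1, 2, 0, 5, 2, 6, 4, 8, 3, 0, 13, 1, 2, 13, 9, 5, 7, 3, 4, 1],
  [12, 3, 0, 12, 1, 2, 0, 6, 6, 0, 4, 0, 3, 0, 13, 1, 2, 13, 1, 5, 1, 7, 7, 1],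
  [12, 3, 0, 12, 1, 2, 0, 7, 1, 1, 1, 5, 3, 0, 13, 1, 2, 13, 4, 0, 0, 0, 6, 1],
  [12, 3, 0, 12, 1, 2, 0, 8, 0, 7, 0, 0, 3, 0, 13, 1, 2, 13, 1, 1, 6, 1, 9, 1],
  [12, 3, 0, 12, 1, 2, 1, 1, 6, 4, 9, 1, 3, 0, 13, 1, 2, 13, 0, 8, 5, 7, 0, 0],
  [12, 3, 0, 12, 1, 2, 1, 1, 8, 8, 6, 6, 3, 0, 13, 1, 2, 13, 7, 7, 9, 9, 0, 0],
  [12, 3, 0, 12, 1, 2, 1, 5, 1, 7, 7, 1, 3, 0, 13, 1, 2, 13, 0, 6, 6, 0, 4, 0],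
  [12, 3, 0, 12, 1, 2, 1, 6, 1, 3, 4, 1, 3, 0, 13, 1, 2, 13, 0, 5, 2, 0, 7, 0],
  [12, 3, 0, 12, 1, 2, 1, 6, 8, 2, 1, 1, 3, 0, 13, 1, 2, 13, 0, 0, 3, 9, 7, 0],
  [12, 3, 0, 12, 1, 2, 1, 9, 6, 0, 6, 1, 3, 0, 13, 1, 2, 13, 0, 7, 1, 7, 8, 0],
  [12, 3, 0, 12, 1, 2, 2, 0, 4, 1, 3, 7, 3, 0, 13, 1, 2, 13, 6, 2, 0, 5, 1, 3],
  [12, 3, 0, 12, 1, 2, 2, 1, 4, 7, 0, 5, 3, 0, 13, 1, 2, 13, 4, 1, 6, 5, 0, 3],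
  [12, 3, 0, 12, 1, 2, 2, 1, 5, 5, 6, 3, 3, 0, 13, 1, 2, 13, 2, 7, 4, 4, 0, 3],
  [12, 3, 0, 12, 1, 2, 2, 1, 6, 4, 7, 1, 3, 0, 13, 1, 2, 13, 0, 6, 5, 7, 0, 3],
  [12, 3, 0, 12, 1, 2, 2, 2, 1, 6, 5, 9, 3, 0, 13, 1, 2, 13, 8, 4, 7, 0, 3, 3],
  [12, 3, 0, 12, 1, 2, 2, 5, 7, 4, 0, 3, 3, 0, 13, 1, 2, 13, 2, 1, 5, 6, 4, 3],
  [12, 3, 0, 12, 1, 2, 2, 6, 0, 4, 6, 2, 3, 0, 13, 1, 2, 13, 3, 7, 5, 1, 7, 3],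
  [12, 3, 0, 12, 1, 2, 2, 6, 3, 4, 0, 5, 3, 0, 13, 1, 2, 13, 4, 1, 5, 2, 7, 3],
  [12, 3, 0, 12, 1, 2, 2, 7, 3, 5, 2, 7, 3, 0, 13, 1, 2, 13, 6, 3, 4, 2, 6, 3],
  [12, 3, 0, 12, 1, 2, 2, 8, 2, 8, 5, 6, 3, 0, 13, 1, 2, 13, 7, 4, 9, 3, 9, 3],
  [12, 3, 0, 12, 1, 2, 3, 0, 5, 0, 6, 5, 3, 0, 13, 1, 2, 13, 4, 7, 1, 4, 1, 2],
  [12, 3, 0, 12, 1, 2, 3, 0, 5, 1, 2, 7, 3, 0, 13, 1, 2, 13, 6, 3, 0, 4, 1, 2],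
  [12, 3, 0, 12, 1, 2, 3, 0, 5, 1, 6, 2, 3, 0, 13, 1, 2, 13, 3, 7, 0, 4, 1, 2],
  [12, 3, 0, 12, 1, 2, 3, 0, 6, 1, 1, 7, 3, 0, 13, 1, 2, 13, 6, 0, 0, 7, 1, 2],
  [12, 3, 0, 12, 1, 2, 3, 1, 2, 4, 7, 8, 3, 0, 13, 1, 2, 13, 9, 6, 5, 3, 0, 2],
  [12, 3, 0, 12, 1, 2, 3, 1, 2, 6, 1, 7, 3, 0, 13, 1, 2, 13, 6, 0, 7, 3, 0, 2],
  [12, 3, 0, 12, 1, 2, 3, 1, 3, 7, 0, 4, 3, 0, 13, 1, 2, 13, 5, 1, 6, 2, 0, 2],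
  [12, 3, 0, 12, 1, 2, 3, 1, 5, 9, 1, 3, 3, 0, 13, 1, 2, 13, 2, 0, 8, 4, 0, 2],
  [12, 3, 0, 12, 1, 2, 3, 1, 7, 0, 2, 4, 3, 0, 13, 1, 2, 13, 5, 3, 1, 6, 0, 2],
  [12, 3, 0, 12, 1, 2, 3, 1, 9, 6, 0, 3, 3, 0, 13, 1, 2, 13, 2, 1, 7, 8, 0, 2],
  [12, 3, 0, 12, 1, 2, 3, 3, 6, 0, 7, 7, 3, 0, 13, 1, 2, 13, 6, 6, 1, 7, 2, 2],
  [12, 3, 0, 12, 1, 2, 3, 4, 7, 1, 7, 5, 3, 0, 13, 1, 2, 13, 4, 6, 0, 6, 5, 2],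
  [12, 3, 0, 12, 1, 2, 3, 4, 9, 6, 5, 8, 3, 0, 13, 1, 2, 13, 9, 4, 7, 8, 5, 2],
  [12, 3, 0, 12, 1, 2, 3, 5, 5, 6, 1, 6, 3, 0, 13, 1, 2, 13, 7, 0, 7, 4, 4, 2],
  [12, 3, 0, 12, 1, 2, 3, 6, 5, 5, 3, 6, 3, 0, 13, 1, 2, 13, 7, 2, 4, 4, 7, 2],
  [12, 3, 0, 12, 1, 2, 3, 6, 9, 0, 3, 7, 3, 0, 13, 1, 2, 13, 6, 2, 1, 8, 7, 2],
  [12, 3, 0, 12, 1, 2, 3, 7, 0, 4, 1, 2, 3, 0, 13, 1, 2, 13, 3, 0, 5, 1, 6, 2],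
  [12, 3, 0, 12, 1, 2, 3, 7, 5, 1, 7, 3, 3, 0, 13, 1, 2, 13, 2, 6, 0, 4, 6, 2],
  [12, 3, 0, 12, 1, 2, 4, 0, 0, 0, 6, 1, 3, 0, 13, 1, 2, 13, 0, 7, 1, 1, 1, 5],
  [12, 3, 0, 12, 1, 2, 4, 0, 0, 7, 8, 0, 3, 0, 13, 1, 2, 13, 1, 9, 6, 1, 1, 5],
  [12, 3, 0, 12, 1, 2, 4, 1, 2, 5, 3, 6, 3, 0, 13, 1, 2, 13, 7, 2, 4, 3, 0, 5],
  [12, 3, 0, 12, 1, 2, 4, 1, 5, 2, 7, 3, 3, 0, 13, 1, 2, 13, 2, 6, 3, 4, 0, 5],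
  [12, 3, 0, 12, 1, 2, 4, 1, 6, 6, 2, 1, 3, 0, 13, 1, 2, 13, 0, 3, 7, 7, 0, 5],
  [12, 3, 0, 12, 1, 2, 4, 3, 0, 8, 6, 9, 3, 0, 13, 1, 2, 13, 8, 7, 9, 1, 2, 5],
  [12, 3, 0, 12, 1, 2, 4, 3, 1, 8, 5, 1, 3, 0, 13, 1, 2, 13, 0, 4, 9, 0, 2, 5],
  [12, 3, 0, 12, 1, 2, 4, 3, 8, 3, 6, 9, 3, 0, 13, 1, 2, 13, 8, 7, 2, 9, 2, 5],
  [12, 3, 0, 12, 1, 2, 4, 6, 0, 6, 3, 6, 3, 0, 13, 1, 2, 13, 7, 2, 7, 1, 7, 5],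
  [12, 3, 0, 12, 1, 2, 4, 8, 0, 5, 2, 6, 3, 0, 13, 1, 2, 13, 7, 3, 4, 1, 9, 5],
  [12, 3, 0, 12, 1, 2, 4, 8, 7, 2, 5, 2, 3, 0, 13, 1, 2, 13, 3, 4, 3, 6, 9, 5],
  [12, 3, 0, 12, 1, 2, 4, 8, 7, 2, 9, 4, 3, 0, 13, 1, 2, 13, 5, 8, 3, 6, 9, 5],
  [12, 3, 0, 12, 1, 2, 4, 8, 8, 5, 2, 9, 3, 0, 13, 1, 2, 13, 8, 3, 4, 9, 9, 5],
  [12, 3, 0, 12, 1, 2, 5, 0, 2, 8, 7, 0, 3, 0, 13, 1, 2, 13, 1, 6, 9, 3, 1, 4],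
  [12, 3, 0, 12, 1, 2, 5, 0, 7, 8, 0, 6, 3, 0, 13, 1, 2, 13, 7, 1, 9, 6, 1, 4],
  [12, 3, 0, 12, 1, 2, 5, 1, 5, 2, 5, 8, 3, 0, 13, 1, 2, 13, 9, 4, 3, 4, 0, 4],
  [12, 3, 0, 12, 1, 2, 5, 1, 6, 2, 0, 2, 3, 0, 13, 1, 2, 13, 3, 1, 3, 7, 0, 4],
  [12, 3, 0, 12, 1, 2, 5, 1, 8, 3, 8, 3, 3, 0, 13, 1, 2, 13, 2, 9, 2, 9, 0, 4],
  [12, 3, 0, 12, 1, 2, 5, 1, 9, 3, 3, 5, 3, 0, 13, 1, 2, 13, 4, 2, 2, 8, 0, 4],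
  [12, 3, 0, 12, 1, 2, 5, 2, 5, 9, 6, 9, 3, 0, 13, 1, 2, 13, 8, 7, 8, 4, 3, 4],
  [12, 3, 0, 12, 1, 2, 5, 5, 1, 4, 1, 6, 3, 0, 13, 1, 2, 13, 7, 0, 5, 0, 4, 4],
  [12, 3, 0, 12, 1, 2, 5, 5, 9, 5, 9, 9, 3, 0, 13, 1, 2, 13, 8, 8, 4, 8, 4, 4],
  [12, 3, 0, 12, 1, 2, 5, 6, 3, 1, 5, 1, 3, 0, 13, 1, 2, 13, 0, 4, 0, 2, 7, 4],
  [12, 3, 0, 12, 1, 2, 5, 7, 1, 5, 5, 8, 3, 0, 13, 1, 2, 13, 9, 4, 4, 0, 6, 4],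
  [12, 3, 0, 12, 1, 2, 5, 8, 1, 7, 2, 9, 3, 0, 13, 1, 2, 13, 8, 3, 6, 0, 9, 4],
  [12, 3, 0, 12, 1, 2, 5, 8, 1, 7, 4, 9, 3, 0, 13, 1, 2, 13, 8, 5, 6, 0, 9, 4],
  [12, 3, 0, 12, 1, 2, 5, 8, 3, 6, 9, 5, 3, 0, 13, 1, 2, 13, 4, 8, 7, 2, 9, 4],
  [12, 3, 0, 12, 1, 2, 6, 0, 4, 0, 3, 4, 3, 0, 13, 1, 2, 13, 5, 2, 1, 5, 1, 7],
  [12, 3, 0, 12, 1, 2, 6, 0, 5, 3, 6, 1, 3, 0, 13, 1, 2, 13, 0, 7, 2, 4, 1, 7],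
  [12, 3, 0, 12, 1, 2, 6, 0, 7, 3, 0, 2, 3, 0, 13, 1, 2, 13, 3, 1, 2, 6, 1, 7],
  [12, 3, 0, 12, 1, 2, 6, 2, 4, 9, 6, 4, 3, 0, 13, 1, 2, 13, 5, 7, 8, 5, 3, 7],
  [12, 3, 0, 12, 1, 2, 6, 3, 6, 4, 9, 4, 3, 0, 13, 1, 2, 13, 5, 8, 5, 7, 2, 7],
  [12, 3, 0, 12, 1, 2, 6, 4, 0, 9, 1, 2, 3, 0, 13, 1, 2, 13, 3, 0, 8, 1, 5, 7],
  [12, 3, 0, 12, 1, 2, 6, 4, 1, 5, 0, 6, 3, 0, 13, 1, 2, 13, 7, 1, 4, 0, 5, 7],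
  [12, 3, 0, 12, 1, 2, 6, 5, 0, 8, 8, 4, 3, 0, 13, 1, 2, 13, 5, 9, 9, 1, 4, 7],
  [12, 3, 0, 12, 1, 2, 6, 5, 1, 5, 3, 4, 3, 0, 13, 1, 2, 13, 5, 2, 4, 0, 4, 7],
  [12, 3, 0, 12, 1, 2, 6, 8, 5, 9, 0, 6, 3, 0, 13, 1, 2, 13, 7, 1, 8, 4, 9, 7],
  [12, 3, 0, 12, 1, 2, 7, 0, 0, 3, 3, 0, 3, 0, 13, 1, 2, 13, 1, 2, 2, 1, 1, 6],
  [12, 3, 0, 12, 1, 2, 7, 0, 4, 6, 2, 8, 3, 0, 13, 1, 2, 13, 9, 3, 7, 5, 1, 6],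
  [12, 3, 0, 12, 1, 2, 7, 0, 7, 2, 5, 1, 3, 0, 13, 1, 2, 13, 0, 4, 3, 6, 1, 6],
  [12, 3, 0, 12, 1, 2, 7, 0, 7, 4, 4, 2, 3, 0, 13, 1, 2, 13, 3, 5, 5, 6, 1, 6],
  [12, 3, 0, 12, 1, 2, 7, 1, 8, 4, 9, 7, 3, 0, 13, 1, 2, 13, 6, 8, 5, 9, 0, 6],
  [12, 3, 0, 12, 1, 2, 7, 1, 9, 6, 1, 4, 3, 0, 13, 1, 2, 13, 5, 0, 7, 8, 0, 6],
  [12, 3, 0, 12, 1, 2, 7, 2, 5, 2, 9, 5, 3, 0, 13, 1, 2, 13, 4, 8, 3, 4, 3, 6],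
  [12, 3, 0, 12, 1, 2, 7, 2, 9, 4, 4, 8, 3, 0, 13, 1, 2, 13, 9, 5, 5, 8, 3, 6],
  [12, 3, 0, 12, 1, 2, 7, 2, 9, 6, 5, 5, 3, 0, 13, 1, 2, 13, 4, 4, 7, 8, 3, 6],
  [12, 3, 0, 12, 1, 2, 7, 4, 1, 7, 5, 8, 3, 0, 13, 1, 2, 13, 9, 4, 6, 0, 5, 6],
  [12, 3, 0, 12, 1, 2, 7, 4, 8, 3, 3, 9, 3, 0, 13, 1, 2, 13, 8, 2, 2, 9, 5, 6],
  [12, 3, 0, 12, 1, 2, 8, 2, 6, 6, 5, 9, 3, 0, 13, 1, 2, 13, 8, 4, 7, 7, 3, 9],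
  [12, 3, 0, 12, 1, 2, 8, 3, 4, 9, 4, 8, 3, 0, 13, 1, 2, 13, 9, 5, 8, 5, 2, 9],
  [12, 3, 0, 12, 1, 2, 8, 3, 6, 0, 9, 4, 3, 0, 13, 1, 2, 13, 5, 8, 1, 7, 2, 9],
  [12, 3, 0, 12, 1, 2, 8, 5, 2, 9, 4, 8, 3, 0, 13, 1, 2, 13, 9, 5, 8, 3, 4, 9],
  [12, 3, 0, 12, 1, 2, 8, 5, 7, 3, 7, 9, 3, 0, 13, 1, 2, 13, 8, 6, 2, 6, 4, 9],
  [12, 3, 0, 12, 1, 2, 8, 7, 8, 4, 3, 4, 3, 0, 13, 1, 2, 13, 5, 2, 5, 9, 6, 9],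
  [12, 3, 0, 12, 1, 2, 8, 7, 9, 1, 2, 5, 3, 0, 13, 1, 2, 13, 4, 3, 0, 8, 6, 9],
  [12, 3, 0, 12, 1, 2, 8, 8, 2, 5, 9, 3, 3, 0, 13, 1, 2, 13, 2, 8, 4, 3, 9, 9],
  [12, 3, 0, 12, 1, 2, 9, 0, 0, 7, 8, 0, 3, 0, 13, 1, 2, 13, 1, 9, 6, 1, 1, 8],
  [12, 3, 0, 12, 1, 2, 9, 0, 6, 1, 3, 5, 3, 0, 13, 1, 2, 13, 4, 2, 0, 7, 1, 8],
  [12, 3, 0, 12, 1, 2, 9, 1, 5, 2, 7, 3, 3, 0, 13, 1, 2, 13, 2, 6, 3, 4, 0, 8],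
  [12, 3, 0, 12, 1, 2, 9, 4, 3, 1, 5, 1, 3, 0, 13, 1, 2, 13, 0, 4, 0, 2, 5, 8],
  [12, 3, 0, 12, 1, 2, 9, 4, 3, 4, 0, 4, 3, 0, 13, 1, 2, 13, 5, 1, 5, 2, 5, 8],
  [12, 3, 0, 12, 1, 2, 9, 4, 4, 0, 6, 4, 3, 0, 13, 1, 2, 13, 5, 7, 1, 5, 5, 8],
  [12, 3, 0, 12, 1, 2, 9, 4, 6, 0, 5, 6, 3, 0, 13, 1, 2, 13, 7, 4, 1, 7, 5, 8],
  [12, 3, 0, 12, 1, 2, 9, 6, 5, 3, 0, 2, 3, 0, 13, 1, 2, 13, 3, 1, 2, 4, 7, 8],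
  [12, 12, 0, 13, 13, 1],
  [12, 12, 2, 13, 13, 3],
  [12, 12, 4, 13, 13, 5],
  [12, 12, 6, 13, 13, 7],
  [12, 12, 8, 13, 13, 9],
  [12, 12, 10, 13, 13, 11],
  [12, 12, 12, 13, 13, 13],
  [12, 3, 0, 12, 1, 2, 13, 3, 0, 13, 1, 2, 0, 3, 0, 12, 1, 2, 12, 3, 0, 13, 1, 2, 13, 1],
  [12, 3, 0, 12, 1, 2, 13, 3, 0, 13, 1, 2, 2, 3, 0, 12, 1, 2, 12, 3, 0, 13, 1, 2, 13, 3],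
  [12, 3, 0, 12, 1, 2, 13, 3, 0, 13, 1, 2, 4, 3, 0, 12, 1, 2, 12, 3, 0, 13, 1, 2, 13, 5],
  [12, 3, 0, 12, 1, 2, 13, 3, 0, 13, 1, 2, 6, 3, 0, 12, 1, 2, 12, 3, 0, 13, 1, 2, 13, 7],
  [12, 3, 0, 12, 1, 2, 13, 3, 0, 13, 1, 2, 8, 3, 0, 12, 1, 2, 12, 3, 0, 13, 1, 2, 13, 9],
  [12, 3, 0, 12, 1, 2, 13, 3, 0, 13, 1, 2, 10, 3, 0, 12, 1, 2, 12, 3, 0, 13, 1, 2, 13, 11],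
  [12, 3, 0, 12, 1, 2, 13, 3, 0, 13, 1, 2, 12, 3, 0, 12, 1, 2, 12, 3, 0, 13, 1, 2, 13, 13],
  [12, 1, 12, 0, 13, 1, 13, 0, 0, 1, 12, 0, 12, 1, 13, 0, 13, 1],
  [12, 1, 12, 0, 13, 1, 13, 0, 2, 1, 12, 0, 12, 1, 13, 0, 13, 3],
  [12, 1, 12, 0, 13, 1, 13, 0, 4, 1, 12, 0, 12, 1, 13, 0, 13, 5],
  [12, 1, 12, 0, 13, 1, 13, 0, 6, 1, 12, 0, 12, 1, 13, 0, 13, 7],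
  [12, 1, 12, 0, 13, 1, 13, 0, 8, 1, 12, 0, 12, 1, 13, 0, 13, 9],
  [12, 1, 12, 0, 13, 1, 13, 0, 10, 1, 12, 0, 12, 1, 13, 0, 13, 11],
  [12, 1, 12, 0, 13, 1, 13, 0, 12, 1, 12, 0, 12, 1, 13, 0, 13, 13],
  [12, 5, 12, 4, 13, 5, 13, 4, 0, 5, 12, 4, 12, 5, 13, 4, 13, 1],
  [12, 5, 12, 4, 13, 5, 13, 4, 2, 5, 12, 4, 12, 5, 13, 4, 13, 3],
  [12, 5, 12, 4, 13, 5, 13, 4, 4, 5, 12, 4, 12, 5, 13, 4, 13, 5],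
  [12, 5, 12, 4, 13, 5, 13, 4, 6, 5, 12, 4, 12, 5, 13, 4, 13, 7],
  [12, 5, 12, 4, 13, 5, 13, 4, 8, 5, 12, 4, 12, 5, 13, 4, 13, 9],
  [12, 5, 12, 4, 13, 5, 13, 4, 10, 5, 12, 4, 12, 5, 13, 4, 13, 11],
  [12, 5, 12, 4, 13, 5, 13, 4, 12, 5, 12, 4, 12, 5, 13, 4, 13, 13],
  [12, 9, 12, 8, 7, 4, 12, 5, 6, 0, 7, 4, 13, 5, 6, 9, 13, 8, 13, 1],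
  [12, 9, 12, 8, 7, 4, 12, 5, 6, 2, 7, 4, 13, 5, 6, 9, 13, 8, 13, 3],
  [12, 9, 12, 8, 7, 4, 12, 5, 6, 4, 7, 4, 13, 5, 6, 9, 13, 8, 13, 5],
  [12, 9, 12, 8, 7, 4, 12, 5, 6, 6, 7, 4, 13, 5, 6, 9, 13, 8, 13, 7],
  [12, 9, 12, 8, 7, 4, 12, 5, 6, 8, 7, 4, 13, 5, 6, 9, 13, 8, 13, 9],
  [12, 9, 12, 8, 7, 4, 12, 5, 6, 10, 7, 4, 13, 5, 6, 9, 13, 8, 13, 11],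
  [12, 9, 12, 8, 7, 4, 12, 5, 6, 12, 7, 4, 13, 5, 6, 9, 13, 8, 13, 13],
  [12, 1, 2, 12, 3, 0, 4, 9, 0, 12, 1, 8, 5, 0, 4, 9, 0, 13, 1, 8, 5, 1, 2, 13, 3, 0, 13, 1],
  [12, 1, 2, 12, 3, 0, 4, 9, 0, 12, 1, 8, 5, 2, 4, 9, 0, 13, 1, 8, 5, 1, 2, 13, 3, 0, 13, 3],
  [12, 1, 2, 12, 3, 0, 4, 9, 0, 12, 1, 8, 5, 4, 4, 9, 0, 13, 1, 8, 5, 1, 2, 13, 3, 0, 13, 5],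
  [12, 1, 2, 12, 3, 0, 4, 9, 0, 12, 1, 8, 5, 6, 4, 9, 0, 13, 1, 8, 5, 1, 2, 13, 3, 0, 13, 7],
  [12, 1, 2, 12, 3, 0, 4, 9, 0, 12, 1, 8, 5, 8, 4, 9, 0, 13, 1, 8, 5, 1, 2, 13, 3, 0, 13, 9],
  [12, 1, 2, 12, 3, 0, 4, 9, 0, 12, 1, 8, 5, 10, 4, 9, 0, 13, 1, 8, 5, 1, 2, 13, 3, 0, 13, 11],
  [12, 1, 2, 12, 3, 0, 4, 9, 0, 12, 1, 8, 5, 12, 4, 9, 0, 13, 1, 8, 5, 1, 2, 13, 3, 0, 13, 13]]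

theorem relsW_eq : relsW = relsWL := by decide +kernel

/-- base `k` of the certificate is relator `i` of `relsW` read backwards (`false`) or its inverse (`true`) -/
def idxW : List (ℕ × Bool) := [(0, false), (0, true), (1, false), (1, true), (2, false), (2, true), (3, false), (3, true), (4, false), (4, true), (5, false), (5, true), (6, false), (6, true), (7, false), (7, true), (8, false), (8, true), (9, false), (9, true), (10, false), (10, true), (11, false), (11, true), (12, false), (12, true), (13, false), (13, true), (14, false), (14, true), (15, false), (15, true), (16, false), (16, true), (17, false), (17, true), (18, false), (18, true), (19, false), (19, true),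 (20, false), (20, true), (21, false), (21, true), (22, false), (22, true), (23, false), (23, true), (24, false), (24, true), (25, false), (25, true), (26, false), (26, true), (27, false), (27, true), (1086, false), (1086, true), (1087, false), (1087, true), (1088, false), (1088, true), (1361, false), (1361, true), (1362, false), (1362, true), (1363, false), (1363, true), (1364, false), (1364, true), (1365, false), (1365, true), (1366, false), (1366, true), (1367, false), (1367, true), (1368, false), (1368, true), (1369, false), (1369, true), (1370, false), (1370, true), (1371, false), (1371, true), (1372, false), (1372, true), (1373, false), (1373, true), (1374, false),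 (1374, true), (1375, false), (1375, true), (1376, false), (1376, true), (1377, false), (1377, true), (1378, false), (1378, true), (1379, false), (1379, true), (1380, false), (1380, true), (1381, false), (1381, true), (1382, false), (1382, true), (1383, false), (1383, true), (1384, false), (1384, true), (1389, false), (1389, true), (1390, false), (1390, true), (1391, false), (1391, true), (1392, false), (1392, true), (1669, false), (1669, true), (1670, false), (1670, true), (1671, false), (1671, true), (1672, false), (1672, true)]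

noncomputable def baseOf (p : ℕ × Bool) : List ℕ :=
  if p.2 then invW ((relsWL.getD p.1 []).reverse) else (relsWL.getD p.1 []).reverse

theorem bases_eq : W.bases = idxW.map baseOf := by decide +kernel

theorem bases_lt : W.bases.all (fun b => b.all (fun l => decide (l < 14))) = true := by decide +kernel

theorem subs_ok : W.subsL.all (fun b => decide (b.reverse ∈ sgens2)) = true := by decide +kernel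

section

variable {M : Type} [Group M] (γm : ℕ → M)

theorem gl_eq (l : ℕ) (hl : l < 14) :
    gl (fun i : Fin 7 => γm i.val) (Cod.dec l) = Cfsg.H5.TCk.gl γm l := by
  interval_cases l <;> rfl

theorem evc_eq_ev (b : List ℕ) (hb : ∀ l ∈ b, l < 14) :
    evc (fun i : Fin 7 => γm i.val) Cod.dec b = Cfsg.H5.TCk.ev γm b.reverse := by
  induction b with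
  | nil => rfl
  | cons l w ih =>
    have h1 : evc (fun i : Fin 7 => γm i.val) Cod.dec (l :: w) =
        evc (fun i : Fin 7 => γm i.val) Cod.dec w * gl (fun i : Fin 7 => γm i.val) (Cod.dec l) := rfl
    rw [h1, ih (fun x hx => hb x (List.mem_cons_of_mem _ hx)), gl_eq γm l (hb l List.mem_cons_self),
      List.reverse_cons, Cfsg.H5.TCk.ev_append]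
    simp [Cfsg.H5.TCk.ev]

end

end Helper7

open Helper7 in
/-- S2043-[P2], certificate `W` -/
theorem tcW_bound {M : Type} [Group M] (γm : ℕ → M) (Kt : Subgroup M) [Finite Kt]
    (hrel : ∀ r ∈ relsW, Cfsg.H5.TCk.ev γm r = 1) (hsg : ∀ g ∈ sgens2, Cfsg.H5.TCk.ev γm g ∈ Kt)
    (hgen : Subgroup.closure (Set.range fun i : Fin 7 => γm i.val) = ⊤) :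
    Finite M ∧ Nat.card M ≤ 4096 * Nat.card Kt := by
  have hlt : ∀ b ∈ W.bases, ∀ l ∈ b, l < 14 := by
    intro b hb l hl
    have h1 := List.all_eq_true.mp bases_lt b hb
    have h2 := List.all_eq_true.mp h1 l hl
    exact of_decide_eq_true h2
  have hrelL : ∀ i, Cfsg.H5.TCk.ev γm (relsWL.getD i []) = 1 := by
    intro i
    rw [List.getD_eq_getElem?_getD]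
    cases h : relsWL[i]? with
    | none => rfl
    | some r =>
      have hr : r ∈ relsWL := List.mem_of_getElem? h
      rw [← relsW_eq] at hr
      simpa using hrel r hr
  have hB : ∀ b ∈ W.bases, evc (fun i : Fin 7 => γm i.val) Cod.dec b = 1 := by
    intro b hb
    have hb' := hb
    rw [bases_eq] at hb'
    obtain ⟨p, _, hp⟩ := List.mem_map.mp hb'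
    rcases p with ⟨i, fl⟩
    cases fl with
    | false =>
      have hb2 : b = (relsWL.getD i []).reverse := by rw [← hp]; rfl
      rw [evc_eq_ev γm b (hlt b hb), hb2, List.reverse_reverse]
      exact hrelL i
    | true =>
      have hb2 : b = invW ((relsWL.getD i []).reverse) := by rw [← hp]; rfl
      have hinv : invW b = (relsWL.getD i []).reverse := by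
        rw [hb2]
        exact invW_invW' _
      have hlt2 : ∀ l ∈ invW b, l < 14 := by
        intro l hl
        unfold invW at hl
        rw [List.mem_reverse, List.mem_map] at hl
        obtain ⟨c, hc, rfl⟩ := hl
        have := hlt b hb c hc
        interval_cases c <;> decide
      have h2 : evc (fun i : Fin 7 => γm i.val) Cod.dec (invW b) = 1 := by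
        rw [evc_eq_ev γm _ hlt2, hinv, List.reverse_reverse]
        exact hrelL i
      rw [evc_invW _ Cod.coding, inv_eq_one] at h2
      exact h2
  have h := abstract_bound (relSet Cod.dec W.bases) (relSet Cod.dec W.subsL) W.n W.bound
    (fun i : Fin 7 => γm i.val) Kt
    (by
      rintro r ⟨b, hb, rfl⟩
      rw [lift_wordF]
      exact hB b hb)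
    (by
      rintro s ⟨b, hb, rfl⟩
      rw [lift_wordF]
      have h1 := List.all_eq_true.mp subs_ok b hb
      have h2 : b.reverse ∈ sgens2 := of_decide_eq_true h1
      have h3 : ∀ l ∈ b, l < 14 := by
        intro l hl
        have : b ∈ ([[0], [2], [4], [6], [8]] : List (List ℕ)) := hb
        simp only [List.mem_cons, List.mem_nil_iff, or_false] at this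
        rcases this with rfl | rfl | rfl | rfl | rfl <;> simp at hl <;> omega
      rw [evc_eq_ev γm b h3]
      exact hsg _ h2)
    hgen
  have hn : W.n = 4096 := rfl
  rw [hn] at h
  exact h

end Cfsg.Agent.Lib.Helper22.Co1M
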