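import Mathlib
import Cfsg.Prelude.Def_Blocks
import Cfsg.Agent.Lib.Helper7.FirstMain
import Cfsg.Agent.Lib.Helper7.Covering
import Cfsg.Agent.Lib.Helper24.Transport
import Cfsg.Agent.Lib.Helper13.Cores

/-!
# The extended first main theorem (helper7 library)

`P` a `p`-subgroup of `G`, `P ≤ H`, `C_G(P) ≤ H ≤ N_G(P)`.

* `isDefectGroup_of_isInducedBlock_of_le`: a block `b` of `H` inducing a block `B` with defect
  group `P` has defect group `P`.
* `exists_isInducedBlock_defect_of_le`: every block `B` of `G` with defect group `P` is induced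
  from a block of `H` with defect group `P`.
-/

set_option autoImplicit false

namespace Cfsg.Agent.Lib.Helper7

open Cfsg.Agent.Lib.Helper2 Cfsg.Agent.Lib.Helper24
open scoped ComplexConjugate

section grp

variable {G : Type*} [Group G]

theorem conj_mem_sup_centralizer (P : Subgroup G) {m : G}
    (hm : m ∈ Subgroup.normalizer (P : Set G)) {l : G}
    (hl : l ∈ P ⊔ Subgroup.centralizer (P : Set G)) :
    m * l * m⁻¹ ∈ P ⊔ Subgroup.centralizer (P : Set G) := by
  have hle : P ⊔ Subgroup.centralizer (P : Set G)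
      ≤ (P ⊔ Subgroup.centralizer (P : Set G)).comap (MulAut.conj m).toMonoidHom := by
    apply sup_le
    · intro x hx
      rw [Subgroup.mem_comap]
      apply (le_sup_left : P ≤ P ⊔ Subgroup.centralizer (P : Set G))
      exact (Subgroup.mem_normalizer_iff.mp hm x).mp hx
    · intro x hx
      rw [Subgroup.mem_comap]
      apply (le_sup_right : Subgroup.centralizer (P : Set G) ≤ P ⊔ Subgroup.centralizer (P : Set G))
      show m * x * m⁻¹ ∈ Subgroup.centralizer (P : Set G)
      rw [Subgroup.mem_centralizer_iff]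
      intro u hu
      have hu' : m⁻¹ * u * m ∈ P := by
        have := (Subgroup.mem_normalizer_iff''.mp hm u).mp hu
        exact this
      have hc := (Subgroup.mem_centralizer_iff.mp hx) _ hu'
      calc u * (m * x * m⁻¹) = m * ((m⁻¹ * u * m) * x) * m⁻¹ := by group
        _ = m * (x * (m⁻¹ * u * m)) * m⁻¹ := by rw [hc]
        _ = m * x * m⁻¹ * u := by group
  exact hle hl

theorem normalizer_le_normalizer_sup_centralizer (P : Subgroup G) :
    Subgroup.normalizer (P : Set G)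
      ≤ Subgroup.normalizer ((P ⊔ Subgroup.centralizer (P : Set G) : Subgroup G) : Set G) := by
  intro n hn
  rw [Subgroup.mem_normalizer_iff]
  intro l
  constructor
  · intro hl
    exact conj_mem_sup_centralizer P hn hl
  · intro hl
    have := conj_mem_sup_centralizer P (Subgroup.inv_mem _ hn) hl
    have e : n⁻¹ * (n * l * n⁻¹) * n⁻¹⁻¹ = l := by group
    rwa [e] at this

end grp

section

variable {G : Type*} [Group G] [Fintype G] {p : ℕ} {M : Ideal Cfsg.AlgInt}

theorem isDefectGroup_of_isInducedBlock_of_le [Fact p.Prime] (hM : Cfsg.IsPModular p M)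
    (H P : Subgroup G) [Fintype H] (hPH : P ≤ H)
    (hHN : H ≤ Subgroup.normalizer (P : Set G)) (B : Set (Cfsg.IrrCharacter G))
    (hD : Cfsg.IsDefectGroup p M B P) (b : Set (Cfsg.IrrCharacter H))
    (hind : Cfsg.IsInducedBlock M H b B) :
    Cfsg.IsDefectGroup p M b (P.subgroupOf H) := by
  classical
  have hB := hind.2.1
  have hcardD := card_of_isDefectGroup hM B hB P hD
  have hDp : IsPGroup p P := IsPGroup.of_card hcardD
  obtain ⟨Db, hDb⟩ := exists_isDefectGroup hM b hind.1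
  obtain ⟨E, hE, hle⟩ := Cfsg.Agent.S0917.result p M hM _ b hind.1 B hB hind Db hDb
  have hcore := Cfsg.Agent.S0912.result p M hM b hind.1 Db hDb
  have hcardE := card_of_isDefectGroup hM B hB E hE
  haveI : (P.subgroupOf H).Normal := Subgroup.normal_subgroupOf_of_le_normalizer hHN
  have hQ : IsPGroup p (P.subgroupOf H) :=
    hDp.comap_of_injective _ (Subgroup.subtype_injective _)
  have h1 : P.subgroupOf H ≤ Db :=
    (Cfsg.Agent.Lib.Helper13.le_pCore _ inferInstance hQ).trans hcore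
  have h2 : Nat.card Db ≤ Nat.card (P.subgroupOf H) := by
    have e1 : Nat.card (P.subgroupOf H) = Nat.card P :=
      Nat.card_congr (Subgroup.subgroupOfEquivOfLe hPH).toEquiv
    have e2 : Nat.card Db = Nat.card (Db.map H.subtype) :=
      (Subgroup.card_map_of_injective (Subgroup.subtype_injective _)).symm
    rw [e1, e2, hcardD, ← hcardE]
    exact Subgroup.card_le_of_le hle
  have h3 : P.subgroupOf H = Db := Subgroup.eq_of_le_of_card_ge h1 h2
  rw [h3]; exact hDb

theorem exists_isInducedBlock_defect_of_le [Fact p.Prime] (hM : Cfsg.IsPModular p M)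
    (H P : Subgroup G) [Fintype H] (hPH : P ≤ H)
    (hCH : Subgroup.centralizer (P : Set G) ≤ H)
    (hHN : H ≤ Subgroup.normalizer (P : Set G)) (B : Set (Cfsg.IrrCharacter G))
    (hB : Cfsg.IsPBlock M B) (hD : Cfsg.IsDefectGroup p M B P) :
    ∃ b : Set (Cfsg.IrrCharacter H), Cfsg.IsDefectGroup p M b (P.subgroupOf H) ∧
      Cfsg.IsInducedBlock M H b B := by
  classical
  obtain ⟨g₀, hg₀, hDle, hDc⟩ := exists_of_isDefectGroup hD
  have hDp : IsPGroup p P := IsPGroup.of_card hDc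
  have hg₀D : g₀ ∈ Subgroup.centralizer (P : Set G) := by
    rw [Subgroup.mem_centralizer_iff]
    intro u hu
    have := hDle hu
    rw [Subgroup.mem_centralizer_singleton_iff] at this
    exact this
  obtain ⟨b, hind⟩ := exists_isInducedBlock_of_le hM H P hDp hPH hCH hHN B hB g₀ hg₀D hg₀.2.1
  exact ⟨b, isDefectGroup_of_isInducedBlock_of_le hM H P hPH hHN B hD b hind, hind⟩

/-- transitivity of induced central characters: `H ≤ K ≤ G` -/
theorem inducedCentralChar_trans (hM : Cfsg.IsPModular p M) (H K : Subgroup G) [Fintype H]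
    [Fintype K] [Fintype (H.subgroupOf K)] (hHK : H ≤ K)
    (ξ : Cfsg.IrrCharacter (H.subgroupOf K)) (χ₁ : Cfsg.IrrCharacter K)
    (hcong : ∀ n : K, Cfsg.MemLocalIdeal M
      (Cfsg.inducedCentralChar (H.subgroupOf K) (ξ : H.subgroupOf K → ℂ) n
        - Cfsg.centralChar (χ₁ : K → ℂ) n)) (g : G) :
    Cfsg.MemLocalIdeal M
      (Cfsg.inducedCentralChar H
        ((irrMap (Subgroup.subgroupOfEquivOfLe hHK) ξ : Cfsg.IrrCharacter H) : H → ℂ) g
        - Cfsg.inducedCentralChar K (χ₁ : K → ℂ) g) := by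
  classical
  have h1 := omega_restrict_sub_memLocalIdeal (H.subgroupOf K) hM (ξ : H.subgroupOf K → ℂ) χ₁ hcong
    (classIndicatorOn K g) (classIndicatorOn_isClassFunction K g)
    (classIndicatorOn_memLocalRing K hM g)
  rw [← inducedCentralChar_eq_omega] at h1
  have h2 : omega (ξ : H.subgroupOf K → ℂ)
      (fun h : H.subgroupOf K => classIndicatorOn K g (h : K))
      = Cfsg.inducedCentralChar H
        ((irrMap (Subgroup.subgroupOfEquivOfLe hHK) ξ : Cfsg.IrrCharacter H) : H → ℂ) g := by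
    rw [inducedCentralChar_eq_omega]
    unfold omega
    set φ := Subgroup.subgroupOfEquivOfLe hHK with hφ
    have e1 : ((irrMap φ ξ : Cfsg.IrrCharacter H) : H → ℂ) 1 = (ξ : H.subgroupOf K → ℂ) 1 := by
      rw [irrMap_apply, map_one]
    rw [e1]
    congr 1
    rw [← Equiv.sum_comp φ.toEquiv]
    apply Finset.sum_congr rfl
    intro h _
    show _ = classIndicatorOn H g (φ h) * ((irrMap φ ξ : Cfsg.IrrCharacter H) : H → ℂ) (φ h)
    rw [irrMap_apply_apply]
    rfl
  rw [h2] at h1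
  exact h1

/-- a block of `H` inducing `B` is covered by a block of `N` inducing `B` -/
theorem exists_cover_block [Fact p.Prime] (hM : Cfsg.IsPModular p M) (H P N : Subgroup G)
    [Fintype H] [Fintype N] [Fintype (H.subgroupOf N)]
    (hP : IsPGroup p P) (hPN : P ≤ N) (hCH : Subgroup.centralizer (P : Set G) ≤ H)
    (hHN : H ≤ N) (hNP : N ≤ Subgroup.normalizer (P : Set G))
    (hnorm : N ≤ Subgroup.normalizer (H : Set G))
    (B : Set (Cfsg.IrrCharacter G)) (b : Set (Cfsg.IrrCharacter H))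
    (hind : Cfsg.IsInducedBlock M H b B) (ξ : Cfsg.IrrCharacter H) (hξ : ξ ∈ b) :
    ∃ χ₀ : Cfsg.IrrCharacter N,
      Cfsg.classInner (fun h : H.subgroupOf N => (χ₀ : N → ℂ) h)
        ((irrMap (Subgroup.subgroupOfEquivOfLe hHN).symm ξ :
          Cfsg.IrrCharacter (H.subgroupOf N)) : H.subgroupOf N → ℂ) ≠ 0 ∧
      Cfsg.IsInducedBlock M N (Cfsg.blockOf M (χ₀ : N → ℂ)) B := by
  classical
  set φ := Subgroup.subgroupOfEquivOfLe hHN with hφ
  haveI : (H.subgroupOf N).Normal := Subgroup.normal_subgroupOf_of_le_normalizer hnorm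
  haveI : (P.subgroupOf N).Normal := Subgroup.normal_subgroupOf_of_le_normalizer hNP
  have hP' : IsPGroup p (P.subgroupOf N) :=
    hP.comap_of_injective _ (Subgroup.subtype_injective _)
  have hCN : Subgroup.centralizer ((P.subgroupOf N : Subgroup N) : Set N) ≤ H.subgroupOf N := by
    intro x hx
    rw [Subgroup.mem_subgroupOf]
    exact hCH ((mem_centralizer_subgroupOf_iff N P hPN x).mp hx)
  have hb := hind.1
  have hB := hind.2.1
  set ξt := irrMap φ.symm ξ with hξt
  obtain ⟨χ₀, hχ₀⟩ := exists_irr_over (H.subgroupOf N) ξt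
  refine ⟨χ₀, hχ₀, ?_⟩
  have hbt : Cfsg.IsPBlock M (irrMap φ.symm '' b) := isPBlock_image_irrMap φ.symm hb
  have hξt_mem : ξt ∈ irrMap φ.symm '' b := ⟨ξ, hξ, rfl⟩
  have hind₀ := isInducedBlock_of_covering (H.subgroupOf N) hM (P.subgroupOf N) hP' hCN
    (Cfsg.blockOf M (χ₀ : N → ℂ)) ⟨χ₀, rfl⟩ (irrMap φ.symm '' b) hbt
    ⟨χ₀, mem_blockOf_self hM χ₀, ξt, hξt_mem, hχ₀⟩
  refine ⟨⟨χ₀, rfl⟩, hB, ?_⟩
  intro χ₁ hχ₁ χ hχ g
  have h1 := inducedCentralChar_trans hM H N hHN ξt χ₁
    (fun n => hind₀.2.2 ξt hξt_mem χ₁ hχ₁ n) g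
  have e : irrMap φ ξt = ξ := by
    rw [hξt]
    have := irrMap_irrMap_symm φ ξ
    exact this
  rw [← hφ, e] at h1
  have h2 := hind.2.2 ξ hξ χ hχ g
  have h3 := memLocalIdeal_sub hM h2 h1
  rwa [sub_sub_sub_cancel_left] at h3

/-- **Extended first main theorem, conjugacy part**: two blocks of `H` (`P C_G(P) ≤ H ≤ N_G(P)`,
`H` normalized by `N_G(P)`) inducing the same block `B` with defect group `P` are conjugate under
`N_G(P)`. -/
theorem ext_first_main_conj [Fact p.Prime] (hM : Cfsg.IsPModular p M) (H P : Subgroup G)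
    [Fintype H] (hPH : P ≤ H) (hCH : Subgroup.centralizer (P : Set G) ≤ H)
    (hHN : H ≤ Subgroup.normalizer (P : Set G))
    (hnorm : Subgroup.normalizer (P : Set G) ≤ Subgroup.normalizer (H : Set G))
    (B : Set (Cfsg.IrrCharacter G)) (hD : Cfsg.IsDefectGroup p M B P)
    (b b' : Set (Cfsg.IrrCharacter H))
    (hind : Cfsg.IsInducedBlock M H b B) (hind' : Cfsg.IsInducedBlock M H b' B) :
    ∃ n ∈ Subgroup.normalizer (P : Set G), ∀ θ ∈ b, ∃ θ' ∈ b', ∀ x : H,
      ∀ hx : n * (x : G) * n⁻¹ ∈ H, (θ' : H → ℂ) x = (θ : H → ℂ) ⟨n * (x : G) * n⁻¹, hx⟩ := by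
  classical
  letI : Fintype (Subgroup.normalizer (P : Set G)) := Fintype.ofFinite _
  letI : Fintype (H.subgroupOf (Subgroup.normalizer (P : Set G))) := Fintype.ofFinite _
  have hB := hind.2.1
  have hcardD := card_of_isDefectGroup hM B hB P hD
  have hP : IsPGroup p P := IsPGroup.of_card hcardD
  have hb := hind.1
  have hb' := hind'.1
  obtain ⟨ξ, hξ⟩ := isPBlock_nonempty hM hb
  obtain ⟨ξ', hξ'⟩ := isPBlock_nonempty hM hb'
  obtain ⟨χ₀, hχ₀, hind₀⟩ := exists_cover_block hM H P (Subgroup.normalizer (P : Set G)) hP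
    Subgroup.le_normalizer hCH hHN le_rfl hnorm B b hind ξ hξ
  obtain ⟨χ₀', hχ₀', hind₀'⟩ := exists_cover_block hM H P (Subgroup.normalizer (P : Set G)) hP
    Subgroup.le_normalizer hCH hHN le_rfl hnorm B b' hind' ξ' hξ'
  have hdef₀' := isDefectGroup_of_isInducedBlock_of_le hM (Subgroup.normalizer (P : Set G)) P
    Subgroup.le_normalizer le_rfl B hD _ hind₀'
  have heq := first_main_unique hM P hP B _ _ hdef₀' hind₀ hind₀'
  have hsame : Cfsg.SameBlock M (χ₀ : Subgroup.normalizer (P : Set G) → ℂ)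
      (χ₀' : Subgroup.normalizer (P : Set G) → ℂ) := by
    have : χ₀' ∈ Cfsg.blockOf M (χ₀ : Subgroup.normalizer (P : Set G) → ℂ) := by
      rw [heq]; exact mem_blockOf_self hM χ₀'
    exact this
  set φ := Subgroup.subgroupOfEquivOfLe hHN with hφ
  haveI : (H.subgroupOf (Subgroup.normalizer (P : Set G))).Normal :=
    Subgroup.normal_subgroupOf_of_le_normalizer hnorm
  have hbt : Cfsg.IsPBlock M (irrMap φ.symm '' b) := isPBlock_image_irrMap φ.symm hb
  have hbt' : Cfsg.IsPBlock M (irrMap φ.symm '' b') := isPBlock_image_irrMap φ.symm hb'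
  obtain ⟨x, hx⟩ := constituent_mem_orbitUnion (H.subgroupOf (Subgroup.normalizer (P : Set G))) hM
    (irrMap φ.symm '' b) hbt χ₀ χ₀' hsame (irrMap φ.symm ξ) ⟨ξ, hξ, rfl⟩ hχ₀
    (irrMap φ.symm ξ') hχ₀'
  -- `x` conjugates `ξ'` into `b`
  refine ⟨((x⁻¹ : Subgroup.normalizer (P : Set G)) : G), (x⁻¹).2, ?_⟩
  intro θ hθ
  have hθt : irrMap φ.symm θ ∈ irrMap φ.symm '' b := ⟨θ, hθ, rfl⟩
  have hs1 := sameBlock_of_mem hM hbt hx hθt
  have hs2 := sameBlock_conjFun (H.subgroupOf (Subgroup.normalizer (P : Set G))) hs1 x⁻¹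
  have e1 : conjFun (H.subgroupOf (Subgroup.normalizer (P : Set G))) x⁻¹
      ((conjIrr (H.subgroupOf (Subgroup.normalizer (P : Set G))) x (irrMap φ.symm ξ') :
        Cfsg.IrrCharacter _) : _ → ℂ) = ((irrMap φ.symm ξ' : Cfsg.IrrCharacter _) : _ → ℂ) := by
    have e0 : ((conjIrr (H.subgroupOf (Subgroup.normalizer (P : Set G))) x (irrMap φ.symm ξ') :
        Cfsg.IrrCharacter _) : _ → ℂ)
        = conjFun (H.subgroupOf (Subgroup.normalizer (P : Set G))) x
          ((irrMap φ.symm ξ' : Cfsg.IrrCharacter _) : _ → ℂ) := rfl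
    rw [e0, ← conjFun_mul, mul_inv_cancel, conjFun_one]
  rw [e1] at hs2
  -- the conjugate of θ lies in b'
  have hmem : conjIrr (H.subgroupOf (Subgroup.normalizer (P : Set G))) x⁻¹ (irrMap φ.symm θ)
      ∈ irrMap φ.symm '' b' := by
    rw [eq_blockOf_of_mem hM hbt' (⟨ξ', hξ', rfl⟩ : irrMap φ.symm ξ' ∈ irrMap φ.symm '' b')]
    exact hs2
  obtain ⟨θ', hθ', hθ'e⟩ := hmem
  refine ⟨θ', hθ', ?_⟩
  intro y hy
  have h1 : (θ' : H → ℂ) y
      = ((irrMap φ.symm θ' : Cfsg.IrrCharacter _) : _ → ℂ) (φ.symm y) := by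
    rw [irrMap_apply, MulEquiv.symm_symm, MulEquiv.apply_symm_apply]
  rw [h1, hθ'e]
  show conjFun (H.subgroupOf (Subgroup.normalizer (P : Set G))) x⁻¹
    ((irrMap φ.symm θ : Cfsg.IrrCharacter _) : _ → ℂ) (φ.symm y) = _
  rw [conjFun_apply, irrMap_apply, MulEquiv.symm_symm]
  congr 1

end

end Cfsg.Agent.Lib.Helper7
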