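import Mathlib
import Cfsg.Prelude.Def_Characters
import Cfsg.Agent.Lib.Helper2.Induction
import Cfsg.Agent.Lib.Helper2.Expansion
import Cfsg.Agent.Lib.Helper2.DirectProduct
import Cfsg.Agent.Lib.Helper2.NormalInduction
import Cfsg.Agent.Lib.Helper7.BrauerApp

/-!
# Elementary groups as direct products, and characters built on them (helper7 library)

* `exists_commuting_sylow_complement`: an elementary group is the internal direct product of a
  `p`-subgroup `S` and a `p'`-subgroup `K`.
* `prodEquivOfCommute`: the isomorphism `S × K ≃* E`.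
* `isCharacter_of_prod`: the function `s k ↦ [s ∈ U] λ(s) c(k)` is a character of `E`, when
  the multiplicities of the character `c` of `K` are divisible by `|S : U|`.
-/

set_option autoImplicit false

namespace Cfsg.Agent.Lib.Helper7

open Cfsg.Agent.Lib.Helper2
open scoped ComplexConjugate

universe u

/-- an elementary group is the direct product of a `p`-group and a `p'`-group -/
theorem exists_commuting_sylow_complement {E : Type*} [Group E] [Finite E] {q p : ℕ}
    (hq : q.Prime) (hp : p.Prime) (hE : Cfsg.IsElementary q E) :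
    ∃ S K : Subgroup E, IsPGroup p S ∧ ¬ p ∣ Nat.card K ∧
      (∀ s ∈ S, ∀ k ∈ K, s * k = k * s) ∧ S ⊓ K = ⊥ ∧
      Nat.card S * Nat.card K = Nat.card E := by
  obtain ⟨x, hx, hcop, k, hk⟩ := hE
  haveI : Fact p.Prime := ⟨hp⟩
  have hXc : Subgroup.zpowers x ≤ Subgroup.center E := by
    rw [Subgroup.zpowers_le]; exact hx
  obtain ⟨S⟩ : Nonempty (Sylow p E) := inferInstance
  haveI hXn : (Subgroup.zpowers x).Normal := normal_of_le_center' _ hXc
  by_cases hqp : q = p
  · subst hqp
    have hKnd : ¬ q ∣ Nat.card (Subgroup.zpowers x) := by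
      rw [Nat.card_zpowers]
      intro hd
      exact hq.one_lt.ne' (Nat.Coprime.eq_one_of_dvd hcop.symm hd)
    have hcardE := Subgroup.index_mul_card (Subgroup.zpowers x)
    rw [hk] at hcardE
    have hfac : (Nat.card E).factorization q = k := by
      rw [← hcardE, Nat.factorization_mul (pow_pos hq.pos k).ne' Nat.card_pos.ne',
        Finsupp.add_apply, Nat.factorization_pow, Finsupp.smul_apply,
        Nat.Prime.factorization_self hq, Nat.factorization_eq_zero_of_not_dvd hKnd]
      simp
    have hScard : Nat.card (S : Subgroup E) = q ^ k := by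
      rw [Sylow.card_eq_multiplicity, hfac]
    refine ⟨S, Subgroup.zpowers x, S.isPGroup', hKnd, ?_, ?_, ?_⟩
    · intro s _ y hy
      exact (Subgroup.mem_center_iff.mp (hXc hy)) s
    · apply (Subgroup.disjoint_of_coprime_natCard _).eq_bot
      rw [hScard]
      exact Nat.Coprime.pow_left k ((Nat.Prime.coprime_iff_not_dvd hq).mpr hKnd)
    · rw [hScard, hcardE]
  · have hSX : (S : Subgroup E) ≤ Subgroup.zpowers x := by
      intro s hs
      apply mem_of_regular_of_index_pow (Subgroup.zpowers x) hq ⟨k, hk⟩ s
      obtain ⟨i, hi⟩ := (IsPGroup.iff_orderOf.mp S.isPGroup') ⟨s, hs⟩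
      have hi' : orderOf s = p ^ i := by rw [← hi, Subgroup.orderOf_mk]
      rw [hi']
      intro hd
      have := (Nat.prime_dvd_prime_iff_eq hq hp).mp (hq.dvd_of_dvd_pow hd)
      exact hqp this
    have hSc : (S : Subgroup E) ≤ Subgroup.center E := hSX.trans hXc
    haveI hSn : (S : Subgroup E).Normal := normal_of_le_center' _ hSc
    obtain ⟨H, hH⟩ := Subgroup.exists_right_complement'_of_coprime
      (N := (S : Subgroup E)) S.card_coprime_index
    have hcard := hH.card_mul_card
    refine ⟨S, H, S.isPGroup', ?_, ?_, hH.disjoint.eq_bot, hcard⟩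
    · intro hd
      have h1 := Subgroup.card_mul_index (S : Subgroup E)
      have h2 : Nat.card H = (S : Subgroup E).index := by
        have hSpos : 0 < Nat.card (S : Subgroup E) := Nat.card_pos
        apply Nat.eq_of_mul_eq_mul_left hSpos
        rw [hcard, h1]
      rw [h2] at hd
      exact S.not_dvd_index hd
    · intro s hs y _
      exact (Subgroup.mem_center_iff.mp (hSc hs)) y |>.symm

theorem commute_subtype_of_forall {E : Type*} [Group E] (S K : Subgroup E)
    (hc : ∀ s ∈ S, ∀ k ∈ K, s * k = k * s) (s : S) (k : K) :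
    Commute (S.subtype s) (K.subtype k) := by
  have := hc s s.2 k k.2
  exact this

/-- the product map of two commuting subgroups -/
noncomputable def prodHomOfCommute {E : Type*} [Group E] (S K : Subgroup E)
    (hc : ∀ s ∈ S, ∀ k ∈ K, s * k = k * s) : S × K →* E :=
  MonoidHom.noncommCoprod S.subtype K.subtype (commute_subtype_of_forall S K hc)

theorem prodHomOfCommute_apply {E : Type*} [Group E] (S K : Subgroup E)
    (hc : ∀ s ∈ S, ∀ k ∈ K, s * k = k * s) (x : S × K) :
    prodHomOfCommute S K hc x = (x.1 : E) * (x.2 : E) := by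
  unfold prodHomOfCommute
  rw [MonoidHom.noncommCoprod_apply]
  rfl

theorem prodHomOfCommute_bijective {E : Type*} [Group E] [Finite E] (S K : Subgroup E)
    (hc : ∀ s ∈ S, ∀ k ∈ K, s * k = k * s) (hd : S ⊓ K = ⊥)
    (hcard : Nat.card S * Nat.card K = Nat.card E) :
    Function.Bijective (prodHomOfCommute S K hc) := by
  have hinj : Function.Injective (prodHomOfCommute S K hc) := by
    rw [injective_iff_map_eq_one]
    rintro ⟨s, k⟩ h
    rw [prodHomOfCommute_apply] at h
    simp only at h
    have hs : (s : E) = (k : E)⁻¹ := eq_inv_of_mul_eq_one_left h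
    have hmem : (s : E) ∈ S ⊓ K := by
      refine ⟨s.2, ?_⟩
      rw [hs]; exact K.inv_mem k.2
    rw [hd, Subgroup.mem_bot] at hmem
    have hk1 : (k : E) = 1 := by
      rw [hmem, one_mul] at h; exact h
    apply Prod.ext
    · exact Subtype.ext hmem
    · exact Subtype.ext hk1
  apply hinj.bijective_of_nat_card_le
  rw [Nat.card_prod, hcard]

/-- the internal direct product of two commuting subgroups -/
noncomputable def prodEquivOfCommute {E : Type*} [Group E] [Finite E] (S K : Subgroup E)
    (hc : ∀ s ∈ S, ∀ k ∈ K, s * k = k * s) (hd : S ⊓ K = ⊥)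
    (hcard : Nat.card S * Nat.card K = Nat.card E) : S × K ≃* E :=
  MulEquiv.ofBijective (prodHomOfCommute S K hc) (prodHomOfCommute_bijective S K hc hd hcard)

theorem prodEquivOfCommute_apply {E : Type*} [Group E] [Finite E] (S K : Subgroup E)
    (hc : ∀ s ∈ S, ∀ k ∈ K, s * k = k * s) (hd : S ⊓ K = ⊥)
    (hcard : Nat.card S * Nat.card K = Nat.card E) (x : S × K) :
    prodEquivOfCommute S K hc hd hcard x = (x.1 : E) * (x.2 : E) := by
  unfold prodEquivOfCommute
  rw [MulEquiv.ofBijective_apply, prodHomOfCommute_apply]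

/-- induction from a normal subgroup of an invariant function -/
theorem indFun_of_invariant {S : Type*} [Group S] [Fintype S] (U : Subgroup S) [hU : U.Normal]
    (lam : U → ℂ) (hinv : ∀ s : S, conjFun U s lam = lam) (u : U) :
    Cfsg.indFun U lam (u : S) = (U.index : ℂ) * lam u := by
  rw [indFun_apply_mem U lam u]
  rw [Finset.sum_congr rfl (fun x _ => by rw [hinv x]), Finset.sum_const, Finset.card_univ,
    nsmul_eq_mul, ← Nat.card_eq_fintype_card, ← Subgroup.index_mul_card U]
  have hUne : (Nat.card U : ℂ) ≠ 0 := by exact_mod_cast Nat.card_pos.ne'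
  push_cast
  field_simp

/-- the function `s k ↦ [s ∈ U] λ(s) c(k)` on `E = S × K` is a character when the
multiplicities of `c` are divisible by `|S : U|` -/
theorem isCharacter_of_prod {E : Type u} [Group E] [Finite E] (S K : Subgroup E)
    (hc : ∀ s ∈ S, ∀ k ∈ K, s * k = k * s) (hd : S ⊓ K = ⊥)
    (hcard : Nat.card S * Nat.card K = Nat.card E)
    (U : Subgroup S) [hU : U.Normal] (lam : U → ℂ) (hlam : Cfsg.IsCharacter U lam)
    (hinv : ∀ s : S, conjFun U s lam = lam)
    (c : K → ℂ) (hcc : Cfsg.IsCharacter K c) [Fintype K]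
    (hdiv : ∀ β : Cfsg.IrrCharacter K, ∃ z : ℕ,
      Cfsg.classInner c (β : K → ℂ) = (U.index : ℂ) * (z : ℂ))
    (F : E → ℂ) [DecidablePred (fun s : S => s ∈ U)]
    (hF : ∀ (s : S) (k : K), F ((s : E) * (k : E))
      = if h : s ∈ U then lam ⟨s, h⟩ * c k else 0) :
    Cfsg.IsCharacter E F := by
  classical
  letI : Fintype S := Fintype.ofFinite S
  letI : Fintype (Cfsg.IrrCharacter K) := Fintype.ofFinite _
  choose z hz using hdiv
  set Φ : S × K → ℂ := ∑ β : Cfsg.IrrCharacter K,
    z β • ((fun x : S × K => Cfsg.indFun U lam x.1) * (fun x : S × K => (β : K → ℂ) x.2))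
    with hΦdef
  have hΦ : Cfsg.IsCharacter (S × K) Φ := by
    apply isCharacter_sum
    intro β _
    apply isCharacter_nsmul
    apply isCharacter_mul
    · exact IsCharacter.comp (indFun_isCharacter U lam hlam) (MonoidHom.fst S K)
    · exact IsCharacter.comp (IsIrrCharacter.isCharacter β.2) (MonoidHom.snd S K)
  set e := prodEquivOfCommute S K hc hd hcard with he
  have hFΦ : F = fun x => Φ (e.symm.toMonoidHom x) := by
    funext x
    obtain ⟨⟨s, k⟩, rfl⟩ := e.surjective x
    show F (e (s, k)) = Φ (e.symm (e (s, k)))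
    rw [e.symm_apply_apply, he, prodEquivOfCommute_apply, hF]
    simp only
    rw [hΦdef, Finset.sum_apply]
    simp only [Pi.smul_apply, Pi.mul_apply, nsmul_eq_mul]
    by_cases hs : s ∈ U
    · rw [dif_pos hs]
      have h1 := indFun_of_invariant U lam hinv ⟨s, hs⟩
      simp only at h1
      rw [h1]
      have h2 := congr_fun (classFunction_expansion c (IsCharacter.isClassFunction hcc)) k
      rw [Finset.sum_apply] at h2
      simp only [Pi.smul_apply, smul_eq_mul] at h2
      conv_lhs => rw [h2]
      rw [Finset.mul_sum]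
      apply Finset.sum_congr rfl
      intro β _
      rw [hz β]
      ring
    · rw [dif_neg hs, indFun_apply_not_mem U lam hs]
      simp
  rw [hFΦ]
  exact IsCharacter.comp hΦ e.symm.toMonoidHom

end Cfsg.Agent.Lib.Helper7
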