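import Mathlib
import Cfsg.Agent.Lib.Helper24.AugNilpotent

/-!
# The kernel of `F[G] → F[G ⧸ Q]` is nilpotent for a normal `p`-subgroup `Q` (helper7 library)

`F` is a field of characteristic `p`.
* `prod_of_sub_one_eq_zero_field`: products of at least `|G|` factors `u - 1`, `u ∈ Q`, vanish in
  `F[G]`.
* `augIdeal F Q k`: the left ideal generated by the `k`-fold products of such factors.
* `pow_card_eq_zero_of_mapDomain_eq_zero`: an element of `F[G]` mapping to zero in `F[G ⧸ Q]` has
  vanishing `|G|`-th power.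
-/

set_option autoImplicit false

namespace Cfsg.Agent.Lib.Helper7

open Cfsg.Agent.Lib.Helper24

section

variable {p : ℕ} [Fact p.Prime] {G : Type*} [Group G] [Finite G]
  (F : Type*) [Field F] [CharP F p]

theorem prod_of_sub_one_eq_zero_field (Q : Subgroup G) (hQ : IsPGroup p Q) (l : List Q)
    (hl : Nat.card G ≤ l.length) :
    (l.map (fun u : Q => MonoidAlgebra.of F G (u : G) - 1)).prod = 0 := by
  have h0 := prod_of_sub_one_eq_zero (p := p) Q hQ l hl
  have h1 := congrArg (MonoidAlgebra.mapRingHom G (ZMod.castHom (dvd_refl p) F)) h0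
  rw [map_zero, map_list_prod, List.map_map] at h1
  rw [← h1]
  congr 1
  apply List.map_congr_left
  intro u _
  simp [MonoidAlgebra.of_apply]

end

section Ideal

variable {G : Type*} [Group G] (F : Type*) [Field F]

/-- the left ideal generated by the `k`-fold products of elements `u - 1`, `u ∈ Q` -/
noncomputable def augIdeal (Q : Subgroup G) (k : ℕ) : Ideal (MonoidAlgebra F G) :=
  Ideal.span {x | ∃ l : List Q, l.length = k ∧
    x = (l.map (fun u : Q => MonoidAlgebra.of F G (u : G) - 1)).prod}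

theorem one_mem_augIdeal_zero (Q : Subgroup G) : (1 : MonoidAlgebra F G) ∈ augIdeal F Q 0 :=
  Ideal.subset_span ⟨[], rfl, by simp⟩

theorem sub_one_mem_augIdeal_one (Q : Subgroup G) (u : Q) :
    MonoidAlgebra.of F G (u : G) - 1 ∈ augIdeal F Q 1 :=
  Ideal.subset_span ⟨[u], rfl, by simp⟩

theorem of_sub_one_mul_of (u g : G) :
    (MonoidAlgebra.of F G u - 1) * MonoidAlgebra.of F G g
      = MonoidAlgebra.of F G g * (MonoidAlgebra.of F G (g⁻¹ * u * g) - 1) := by
  rw [sub_mul, mul_sub, one_mul, mul_one, ← map_mul, ← map_mul]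
  congr 2
  group

theorem sub_one_mul_mem_augIdeal (Q : Subgroup G) [hQ : Q.Normal] (k : ℕ)
    {x : MonoidAlgebra F G} (hx : x ∈ augIdeal F Q k) :
    ∀ u : Q, (MonoidAlgebra.of F G (u : G) - 1) * x ∈ augIdeal F Q (k + 1) := by
  unfold augIdeal at hx
  induction hx using Submodule.span_induction with
  | mem x hx =>
    intro u
    obtain ⟨l, hl, rfl⟩ := hx
    apply Ideal.subset_span
    exact ⟨u :: l, by simp [hl], by simp⟩
  | zero =>
    intro u
    rw [mul_zero]
    exact Submodule.zero_mem _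
  | add x y _ _ h1 h2 =>
    intro u
    rw [mul_add]
    exact Submodule.add_mem _ (h1 u) (h2 u)
  | smul a x _ h1 =>
    intro u
    rw [smul_eq_mul]
    induction a using MonoidAlgebra.induction_on generalizing u with
    | of g =>
      rw [← mul_assoc, of_sub_one_mul_of, mul_assoc]
      apply Ideal.mul_mem_left
      have hmem : g⁻¹ * (u : G) * g ∈ Q := by
        have := hQ.conj_mem (u : G) u.2 g⁻¹
        rwa [inv_inv] at this
      exact h1 ⟨g⁻¹ * (u : G) * g, hmem⟩
    | add a b ha hb =>
      rw [add_mul, mul_add]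
      exact Submodule.add_mem _ (ha u) (hb u)
    | smul c a ha =>
      rw [smul_mul_assoc, mul_smul_comm]
      have := ha u
      have e : c • ((MonoidAlgebra.of F G (u : G) - 1) * (a * x))
          = (c • (1 : MonoidAlgebra F G)) * ((MonoidAlgebra.of F G (u : G) - 1) * (a * x)) := by
        rw [smul_mul_assoc, one_mul]
      rw [e]
      exact Ideal.mul_mem_left _ _ this

theorem mul_mem_augIdeal (Q : Subgroup G) [hQ : Q.Normal] (k : ℕ)
    {x y : MonoidAlgebra F G} (hx : x ∈ augIdeal F Q 1) (hy : y ∈ augIdeal F Q k) :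
    x * y ∈ augIdeal F Q (k + 1) := by
  unfold augIdeal at hx
  induction hx using Submodule.span_induction with
  | mem x hx =>
    obtain ⟨l, hl, rfl⟩ := hx
    obtain ⟨u, rfl⟩ := List.length_eq_one_iff.mp hl
    rw [List.map_singleton, List.prod_singleton]
    exact sub_one_mul_mem_augIdeal F Q k hy u
  | zero =>
    rw [zero_mul]
    exact Submodule.zero_mem _
  | add x y _ _ h1 h2 =>
    rw [add_mul]
    exact Submodule.add_mem _ h1 h2
  | smul a x _ h1 =>
    rw [smul_eq_mul, mul_assoc]
    exact Ideal.mul_mem_left _ _ h1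

theorem pow_mem_augIdeal (Q : Subgroup G) [hQ : Q.Normal]
    {x : MonoidAlgebra F G} (hx : x ∈ augIdeal F Q 1) (k : ℕ) : x ^ k ∈ augIdeal F Q k := by
  induction k with
  | zero => rw [pow_zero]; exact one_mem_augIdeal_zero F Q
  | succ k ih => rw [pow_succ']; exact mul_mem_augIdeal F Q k hx ih

/-- an element of the kernel of `F[G] → F[G ⧸ Q]` lies in `augIdeal F Q 1` -/
theorem mem_augIdeal_one_of_mapDomain_eq_zero (Q : Subgroup G) [hQ : Q.Normal]
    (x : MonoidAlgebra F G)
    (hx : MonoidAlgebra.mapDomain (fun g : G => (g : G ⧸ Q)) x = 0) :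
    x ∈ augIdeal F Q 1 := by
  have key : ∀ y : MonoidAlgebra F G,
      y - MonoidAlgebra.mapDomain (fun q : G ⧸ Q => q.out)
        (MonoidAlgebra.mapDomain (fun g : G => (g : G ⧸ Q)) y) ∈ augIdeal F Q 1 := by
    intro y
    induction y using MonoidAlgebra.induction_on with
    | of g =>
      rw [MonoidAlgebra.of_apply, MonoidAlgebra.mapDomain_single, MonoidAlgebra.mapDomain_single]
      have hmem : ((g : G ⧸ Q).out)⁻¹ * g ∈ Q := by
        rw [← QuotientGroup.eq]
        exact QuotientGroup.out_eq' _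
      have e : MonoidAlgebra.single g (1 : F) - MonoidAlgebra.single ((g : G ⧸ Q).out) (1 : F)
          = MonoidAlgebra.of F G ((g : G ⧸ Q).out)
            * (MonoidAlgebra.of F G (((g : G ⧸ Q).out)⁻¹ * g) - 1) := by
        rw [mul_sub, mul_one, ← map_mul, mul_inv_cancel_left]
        rfl
      rw [e]
      exact Ideal.mul_mem_left _ _ (sub_one_mem_augIdeal_one F Q ⟨_, hmem⟩)
    | add a b ha hb =>
      rw [MonoidAlgebra.mapDomain_add, MonoidAlgebra.mapDomain_add]
      have e : a + b - (MonoidAlgebra.mapDomain (fun q : G ⧸ Q => q.out)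
            (MonoidAlgebra.mapDomain (fun g : G => (g : G ⧸ Q)) a) +
          MonoidAlgebra.mapDomain (fun q : G ⧸ Q => q.out)
            (MonoidAlgebra.mapDomain (fun g : G => (g : G ⧸ Q)) b))
          = (a - MonoidAlgebra.mapDomain (fun q : G ⧸ Q => q.out)
            (MonoidAlgebra.mapDomain (fun g : G => (g : G ⧸ Q)) a)) +
            (b - MonoidAlgebra.mapDomain (fun q : G ⧸ Q => q.out)
            (MonoidAlgebra.mapDomain (fun g : G => (g : G ⧸ Q)) b)) := by abel
      rw [e]
      exact Submodule.add_mem _ ha hb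
    | smul c a ha =>
      rw [MonoidAlgebra.mapDomain_smul, MonoidAlgebra.mapDomain_smul, ← smul_sub]
      have e : c • (a - MonoidAlgebra.mapDomain (fun q : G ⧸ Q => q.out)
            (MonoidAlgebra.mapDomain (fun g : G => (g : G ⧸ Q)) a))
          = (c • (1 : MonoidAlgebra F G)) * (a - MonoidAlgebra.mapDomain (fun q : G ⧸ Q => q.out)
            (MonoidAlgebra.mapDomain (fun g : G => (g : G ⧸ Q)) a)) := by
        rw [smul_mul_assoc, one_mul]
      rw [e]
      exact Ideal.mul_mem_left _ _ ha
  have := key x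
  rwa [hx, MonoidAlgebra.mapDomain_zero, sub_zero] at this

end Ideal

section Main

variable {p : ℕ} [Fact p.Prime] {G : Type*} [Group G] [Finite G]
  (F : Type*) [Field F] [CharP F p]

theorem augIdeal_eq_bot (Q : Subgroup G) (hQ : IsPGroup p Q) (k : ℕ) (hk : Nat.card G ≤ k) :
    augIdeal F Q k = ⊥ := by
  unfold augIdeal
  rw [Ideal.span_eq_bot]
  rintro x ⟨l, hl, rfl⟩
  exact prod_of_sub_one_eq_zero_field F Q hQ l (by rw [hl]; exact hk)

/-- an element of the kernel of `F[G] → F[G ⧸ Q]`, `Q` a normal `p`-subgroup, is nilpotent -/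
theorem pow_card_eq_zero_of_mapDomain_eq_zero (Q : Subgroup G) [hQn : Q.Normal]
    (hQ : IsPGroup p Q) (x : MonoidAlgebra F G)
    (hx : MonoidAlgebra.mapDomain (fun g : G => (g : G ⧸ Q)) x = 0) :
    x ^ Nat.card G = 0 := by
  have h1 := pow_mem_augIdeal F Q (mem_augIdeal_one_of_mapDomain_eq_zero F Q x hx) (Nat.card G)
  rw [augIdeal_eq_bot F Q hQ _ le_rfl] at h1
  exact h1

end Main

end Cfsg.Agent.Lib.Helper7
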