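import Mathlib
import Cfsg.Prelude.Def_Blocks
import Cfsg.Agent.Lib.Helper24.Loc
import Cfsg.Agent.Lib.Helper24.CenterFn
import Cfsg.Agent.Lib.Helper7.AugIdeal

/-!
# The group algebra over the residue field of the local ring (helper7)

* `ResF hM`: the residue field `Rloc hM ⧸ Mloc hM` of the local ring at `M`, a field of
  characteristic `p`; `redC hM : ℂ → ResF hM` reduces local integers (and sends everything else
  to `0`); `redFn hM f` is the element of the group algebra `(ResF hM)[H]` with coefficients
  `redC (f h)`; `redFn_conv`: reduction turns convolution into multiplication.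
* `eq_zero_of_central_idem`: over a field of characteristic `p`, a central idempotent `ε` of
  `F[H]` with `ε * (∑_{u ∈ Q} u) = 0` for a `p`-subgroup `Q` is zero (the group algebra is free
  over `F[Q]`, so its direct summands are).
* `exists_coset_sum_not_memLocalIdeal`: the version for local-integral class functions.
-/

set_option autoImplicit false

namespace Cfsg.Agent.Lib.Helper7

open Cfsg.Agent.Lib.Helper24

section Residue

variable {p : ℕ} {M : Ideal Cfsg.AlgInt}

instance Mloc_isMaximal (hM : Cfsg.IsPModular p M) : (Mloc hM).IsMaximal := by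
  rw [Ideal.isMaximal_iff]
  refine ⟨?_, ?_⟩
  · intro h
    rw [mem_Mloc] at h
    exact not_memLocalIdeal_one hM (by simpa using h)
  · intro J x _ hx hxJ
    have hx' : ¬ Cfsg.MemLocalIdeal M (x : ℂ) := fun h => hx ((mem_Mloc hM x).mpr h)
    have hinv : Cfsg.MemLocalRing M ((x : ℂ)⁻¹) := memLocalRing_inv hM x.2 hx'
    have hne : (x : ℂ) ≠ 0 := by
      intro h0
      apply hx'
      rw [h0]
      exact memLocalIdeal_zero hM
    have h1 : (1 : Rloc hM) = ⟨(x : ℂ)⁻¹, hinv⟩ * x := by
      apply Subtype.ext
      push_cast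
      rw [inv_mul_cancel₀ hne]
    rw [h1]
    exact J.mul_mem_left _ hxJ

/-- the residue field of the local ring at `M` -/
abbrev ResF (hM : Cfsg.IsPModular p M) : Type := Rloc hM ⧸ Mloc hM

noncomputable instance ResF.field (hM : Cfsg.IsPModular p M) : Field (ResF hM) :=
  Ideal.Quotient.field (Mloc hM)

instance ResF.charP (hM : Cfsg.IsPModular p M) : CharP (ResF hM) p := by
  have h0 : ((p : ℕ) : ResF hM) = 0 := by
    have hp : ((p : ℕ) : Rloc hM) ∈ Mloc hM := by
      rw [mem_Mloc]
      have := (memLocalIdeal_natCast_iff hM p).mpr (dvd_refl p)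
      simpa using this
    have : (Ideal.Quotient.mk (Mloc hM)) ((p : ℕ) : Rloc hM) = 0 :=
      Ideal.Quotient.eq_zero_iff_mem.mpr hp
    simpa using this
  exact (CharP.charP_iff_prime_eq_zero hM.1).mpr h0

open Classical in
/-- reduction modulo the local ideal (zero outside the local ring) -/
noncomputable def redC (hM : Cfsg.IsPModular p M) (z : ℂ) : ResF hM :=
  if h : Cfsg.MemLocalRing M z then Ideal.Quotient.mk (Mloc hM) ⟨z, h⟩ else 0

theorem redC_of_mem (hM : Cfsg.IsPModular p M) {z : ℂ} (h : Cfsg.MemLocalRing M z) :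
    redC hM z = Ideal.Quotient.mk (Mloc hM) ⟨z, h⟩ := by
  unfold redC
  rw [dif_pos h]

theorem redC_zero (hM : Cfsg.IsPModular p M) : redC hM 0 = 0 := by
  rw [redC_of_mem hM (memLocalRing_zero hM)]
  exact map_zero _

theorem redC_one (hM : Cfsg.IsPModular p M) : redC hM 1 = 1 := by
  rw [redC_of_mem hM (memLocalRing_one hM)]
  exact map_one _

theorem redC_add (hM : Cfsg.IsPModular p M) {z w : ℂ} (hz : Cfsg.MemLocalRing M z)
    (hw : Cfsg.MemLocalRing M w) : redC hM (z + w) = redC hM z + redC hM w := by
  rw [redC_of_mem hM hz, redC_of_mem hM hw, redC_of_mem hM (memLocalRing_add hM hz hw), ← map_add]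
  rfl

theorem redC_mul (hM : Cfsg.IsPModular p M) {z w : ℂ} (hz : Cfsg.MemLocalRing M z)
    (hw : Cfsg.MemLocalRing M w) : redC hM (z * w) = redC hM z * redC hM w := by
  rw [redC_of_mem hM hz, redC_of_mem hM hw, redC_of_mem hM (memLocalRing_mul hM hz hw), ← map_mul]
  rfl

theorem redC_sum (hM : Cfsg.IsPModular p M) {ι : Type*} (s : Finset ι) (f : ι → ℂ)
    (hf : ∀ i ∈ s, Cfsg.MemLocalRing M (f i)) :
    redC hM (∑ i ∈ s, f i) = ∑ i ∈ s, redC hM (f i) := by
  classical
  induction s using Finset.induction_on with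
  | empty => simp [redC_zero]
  | insert a s ha ih =>
    rw [Finset.sum_insert ha, Finset.sum_insert ha,
      redC_add hM (hf a (Finset.mem_insert_self a s))
        (memLocalRing_sum hM s f (fun i hi => hf i (Finset.mem_insert_of_mem hi))),
      ih (fun i hi => hf i (Finset.mem_insert_of_mem hi))]

theorem redC_eq_zero_iff (hM : Cfsg.IsPModular p M) {z : ℂ} (hz : Cfsg.MemLocalRing M z) :
    redC hM z = 0 ↔ Cfsg.MemLocalIdeal M z := by
  rw [redC_of_mem hM hz, Ideal.Quotient.eq_zero_iff_mem, mem_Mloc]

theorem redC_eq_of_sub (hM : Cfsg.IsPModular p M) {z w : ℂ} (hz : Cfsg.MemLocalRing M z)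
    (hw : Cfsg.MemLocalRing M w) (h : Cfsg.MemLocalIdeal M (z - w)) : redC hM z = redC hM w := by
  have h1 : redC hM (z - w) = 0 :=
    (redC_eq_zero_iff hM (memLocalRing_sub hM hz hw)).mpr h
  have h2 : redC hM z = redC hM (z - w) + redC hM w := by
    rw [← redC_add hM (memLocalRing_sub hM hz hw) hw, sub_add_cancel]
  rw [h2, h1, zero_add]

variable {H : Type*} [Group H] [Fintype H]

/-- reduction of a complex-valued function to the group algebra over the residue field -/
noncomputable def redFn (hM : Cfsg.IsPModular p M) (f : H → ℂ) : MonoidAlgebra (ResF hM) H :=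
  ∑ h : H, MonoidAlgebra.single h (redC hM (f h))

theorem coeff_redFn (hM : Cfsg.IsPModular p M) (f : H → ℂ) (h : H) :
    (redFn hM f).coeff h = redC hM (f h) := by
  classical
  unfold redFn
  rw [MonoidAlgebra.coeff_sum, Finsupp.finsetSum_apply]
  simp only [MonoidAlgebra.coeff_single, Finsupp.single_apply]
  rw [Finset.sum_ite_eq' Finset.univ h]
  simp

theorem redFn_conv (hM : Cfsg.IsPModular p M) (f g : H → ℂ)
    (hf : ∀ h, Cfsg.MemLocalRing M (f h)) (hg : ∀ h, Cfsg.MemLocalRing M (g h)) :
    redFn hM (conv f g) = redFn hM f * redFn hM g := by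
  classical
  apply MonoidAlgebra.coeff_injective
  ext x
  rw [coeff_redFn, MonoidAlgebra.coeff_mul_apply_left, Finsupp.sum_fintype _ _ (by simp),
    conv_apply, redC_sum hM _ _ (fun h _ => memLocalRing_mul hM (hf h) (hg _))]
  apply Finset.sum_congr rfl
  intro h _
  rw [redC_mul hM (hf h) (hg _), coeff_redFn, coeff_redFn]

end Residue

section Freeness

variable {H : Type*} [Group H] [Fintype H] (F : Type*) [Field F]

open Classical in
/-- the sum of the elements of a subgroup, in the group algebra -/
noncomputable def subgroupSum (Q : Subgroup H) : MonoidAlgebra F H :=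
  ∑ u : Q, MonoidAlgebra.single (u : H) (1 : F)

open Classical in
theorem coeff_mul_subgroupSum (Q : Subgroup H) (x : MonoidAlgebra F H) (g : H) :
    (x * subgroupSum F Q).coeff g = ∑ u : Q, x.coeff (g * (u : H)⁻¹) := by
  classical
  unfold subgroupSum
  rw [Finset.mul_sum, MonoidAlgebra.coeff_sum, Finsupp.finsetSum_apply]
  apply Finset.sum_congr rfl
  intro u _
  rw [MonoidAlgebra.coeff_mul_single_apply, mul_one]

theorem eq_sum_single (x : MonoidAlgebra F H) :
    x = ∑ h : H, MonoidAlgebra.single h (x.coeff h) := by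
  classical
  apply MonoidAlgebra.coeff_injective
  ext g
  rw [MonoidAlgebra.coeff_sum, Finsupp.finsetSum_apply]
  simp only [MonoidAlgebra.coeff_single, Finsupp.single_apply]
  rw [Finset.sum_ite_eq' Finset.univ g]
  simp

theorem smul_mem_augIdeal (Q : Subgroup H) (k : ℕ) (c : F) {y : MonoidAlgebra F H}
    (hy : y ∈ augIdeal F Q k) : c • y ∈ augIdeal F Q k := by
  have e : c • y = (c • (1 : MonoidAlgebra F H)) * y := by rw [smul_mul_assoc, one_mul]
  rw [e]
  exact Ideal.mul_mem_left _ _ hy

open Classical in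
/-- the sum over a left coset -/
theorem sum_coset_eq (Q : Subgroup H) (f : H → F) (g : H) :
    ∑ u : Q, f (g * (u : H)⁻¹)
      = ∑ h : H, if ((h : H ⧸ Q) = (g : H ⧸ Q)) then f h else 0 := by
  classical
  have h1 : ∑ h : H, (if ((h : H ⧸ Q) = (g : H ⧸ Q)) then f h else 0)
      = ∑ k : H, if k ∈ Q then f (g * k) else 0 := by
    rw [← Equiv.sum_comp (Equiv.mulLeft g)]
    apply Finset.sum_congr rfl
    intro k _
    have : (((Equiv.mulLeft g) k : H) : H ⧸ Q) = (g : H ⧸ Q) ↔ k ∈ Q := by
      rw [eq_comm, QuotientGroup.eq]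
      simp
    simp only [this]
    rfl
  rw [h1, ← Finset.sum_filter]
  have h2 : ∑ u : Q, f (g * (u : H)⁻¹) = ∑ u : Q, f (g * (u : H)) := by
    rw [← Equiv.sum_comp (Equiv.inv Q)]
    apply Finset.sum_congr rfl
    intro u _
    simp
  rw [h2]
  exact (Finset.sum_subtype (Finset.univ.filter (· ∈ Q)) (by simp) (fun k => f (g * k))).symm

/-- an element annihilated by the sum of a subgroup `Q` lies in the left ideal generated by the
`u - 1`, `u ∈ Q` (the group algebra is free as a right module over the algebra of `Q`) -/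
theorem mem_augIdeal_one_of_mul_subgroupSum_eq_zero (Q : Subgroup H) (x : MonoidAlgebra F H)
    (hx : x * subgroupSum F Q = 0) : x ∈ augIdeal F Q 1 := by
  classical
  set t : H → H := fun h => ((h : H ⧸ Q)).out with ht
  have htmk : ∀ h : H, ((t h : H) : H ⧸ Q) = (h : H ⧸ Q) := fun h => QuotientGroup.out_eq' _
  have hmem : ∀ h : H, (t h)⁻¹ * h ∈ Q := by
    intro h
    rw [← QuotientGroup.eq]
    exact htmk h
  -- the part supported on the transversal
  set x' : MonoidAlgebra F H := ∑ h : H, MonoidAlgebra.single (t h) (x.coeff h) with hx'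
  have hdiff : x - x' ∈ augIdeal F Q 1 := by
    have e0 : x - x' = ∑ h : H, (MonoidAlgebra.single h (x.coeff h)
        - MonoidAlgebra.single (t h) (x.coeff h)) := by
      rw [Finset.sum_sub_distrib, ← eq_sum_single]
    rw [e0]
    apply Submodule.sum_mem
    intro h _
    have e1 : MonoidAlgebra.single h (x.coeff h) - MonoidAlgebra.single (t h) (x.coeff h)
        = (x.coeff h) • (MonoidAlgebra.of F H (t h)
          * (MonoidAlgebra.of F H ((t h)⁻¹ * h) - 1)) := by
      rw [mul_sub, mul_one, ← map_mul, mul_inv_cancel_left, smul_sub]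
      simp [MonoidAlgebra.of_apply]
    rw [e1]
    apply smul_mem_augIdeal
    exact Ideal.mul_mem_left _ _ (sub_one_mem_augIdeal_one F Q ⟨_, hmem h⟩)
  have hx'0 : x' = 0 := by
    apply MonoidAlgebra.coeff_injective
    ext g
    rw [hx', MonoidAlgebra.coeff_sum, Finsupp.finsetSum_apply]
    simp only [MonoidAlgebra.coeff_single, Finsupp.single_apply, MonoidAlgebra.coeff_zero,
      Finsupp.coe_zero, Pi.zero_apply]
    by_cases hg : t g = g
    · have h2 := congrArg (fun y => y.coeff g) hx
      simp only [MonoidAlgebra.coeff_zero, Finsupp.coe_zero, Pi.zero_apply] at h2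
      rw [coeff_mul_subgroupSum, sum_coset_eq F Q (fun h => x.coeff h) g] at h2
      refine Eq.trans ?_ h2
      apply Finset.sum_congr rfl
      intro h _
      have : t h = g ↔ ((h : H ⧸ Q) = (g : H ⧸ Q)) := by
        constructor
        · intro h3
          rw [← htmk h, h3]
        · intro h3
          rw [← hg]
          show ((h : H ⧸ Q)).out = ((g : H ⧸ Q)).out
          rw [h3]
      simp only [this]
    · apply Finset.sum_eq_zero
      intro h _
      rw [if_neg]
      intro h3
      apply hg
      rw [← h3]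
      show (((t h : H) : H ⧸ Q)).out = t h
      rw [htmk h]
  rw [hx'0, sub_zero] at hdiff
  exact hdiff

variable {p : ℕ} [Fact p.Prime] [CharP F p]

/-- over a field of characteristic `p`, a central idempotent of the group algebra annihilated by
the sum of a `p`-subgroup is zero -/
theorem eq_zero_of_central_idem (Q : Subgroup H) (hQ : IsPGroup p Q) (ε : MonoidAlgebra F H)
    (hc : ∀ a : MonoidAlgebra F H, ε * a = a * ε) (hid : ε * ε = ε)
    (h0 : ε * subgroupSum F Q = 0) : ε = 0 := by
  -- `ε * a` lies in the first power of the augmentation ideal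
  have h1 : ∀ a : MonoidAlgebra F H, ε * a ∈ augIdeal F Q 1 := by
    intro a
    apply mem_augIdeal_one_of_mul_subgroupSum_eq_zero
    rw [hc a, mul_assoc, h0, mul_zero]
  -- multiplying an element of the first power with a `k`-fold product
  have h2 : ∀ (k : ℕ) (y : MonoidAlgebra F H), y ∈ augIdeal F Q 1 → ∀ l : List Q, l.length = k →
      y * (l.map (fun u : Q => MonoidAlgebra.of F H (u : H) - 1)).prod ∈ augIdeal F Q (k + 1) := by
    intro k y hy l hl
    unfold augIdeal at hy
    induction hy using Submodule.span_induction with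
    | mem z hz =>
      obtain ⟨l', hl', rfl⟩ := hz
      obtain ⟨u, rfl⟩ := List.length_eq_one_iff.mp hl'
      rw [List.map_singleton, List.prod_singleton]
      apply Ideal.subset_span
      exact ⟨u :: l, by simp [hl], by simp⟩
    | zero =>
      rw [zero_mul]
      exact Submodule.zero_mem _
    | add z w _ _ hz hw =>
      rw [add_mul]
      exact Submodule.add_mem _ hz hw
    | smul a z _ hz =>
      rw [smul_eq_mul, mul_assoc]
      exact Ideal.mul_mem_left _ _ hz
  -- `ε * x ∈ augIdeal (k+1)` for `x ∈ augIdeal k`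
  have h3 : ∀ (k : ℕ) (x : MonoidAlgebra F H), x ∈ augIdeal F Q k →
      ε * x ∈ augIdeal F Q (k + 1) := by
    intro k x hx
    unfold augIdeal at hx
    induction hx using Submodule.span_induction with
    | mem z hz =>
      obtain ⟨l, hl, rfl⟩ := hz
      have := h2 k (ε * 1) (h1 1) l hl
      rwa [mul_one] at this
    | zero =>
      rw [mul_zero]
      exact Submodule.zero_mem _
    | add z w _ _ hz hw =>
      rw [mul_add]
      exact Submodule.add_mem _ hz hw
    | smul a z _ hz =>
      rw [smul_eq_mul, ← mul_assoc, hc a, mul_assoc]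
      exact Ideal.mul_mem_left _ _ hz
  have h4 : ∀ k : ℕ, ε ∈ augIdeal F Q k := by
    intro k
    induction k with
    | zero =>
      have := Ideal.mul_mem_left (augIdeal F Q 0) ε (one_mem_augIdeal_zero F Q)
      rwa [mul_one] at this
    | succ k ih =>
      have := h3 k ε ih
      rwa [hid] at this
  have h5 := h4 (Nat.card H)
  rw [augIdeal_eq_bot F Q hQ _ le_rfl] at h5
  exact h5

end Freeness

section Local

variable {p : ℕ} {M : Ideal Cfsg.AlgInt} {H : Type*} [Group H] [Fintype H]

/-- the reduction of a class function is central -/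
theorem redFn_central (hM : Cfsg.IsPModular p M) (ε : H → ℂ) (hcf : Cfsg.IsClassFunction H ε)
    (a : MonoidAlgebra (ResF hM) H) : redFn hM ε * a = a * redFn hM ε := by
  induction a using MonoidAlgebra.induction_on with
  | of g =>
    apply MonoidAlgebra.coeff_injective
    ext x
    rw [MonoidAlgebra.of_apply, MonoidAlgebra.coeff_mul_single_apply,
      MonoidAlgebra.coeff_single_mul_apply, mul_one, one_mul, coeff_redFn, coeff_redFn]
    congr 1
    have := hcf (x * g⁻¹) g⁻¹
    rw [← this]
    congr 1
    group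
  | add a b ha hb => rw [mul_add, add_mul, ha, hb]
  | smul c a ha => rw [mul_smul_comm, smul_mul_assoc, ha]

open Classical in
/-- **Freeness lemma, local form.**  Let `ε` be a local-integral class function on `H` which is
idempotent modulo the local ideal and not zero modulo the local ideal, and `Q` a `p`-subgroup.
Then some coset sum `∑_{u ∈ Q} ε (h u)` is a local unit. -/
theorem exists_coset_sum_not_memLocalIdeal [Fact p.Prime] (hM : Cfsg.IsPModular p M)
    (Q : Subgroup H) (hQ : IsPGroup p Q) (ε : H → ℂ) (hcf : Cfsg.IsClassFunction H ε)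
    (hR : ∀ h, Cfsg.MemLocalRing M (ε h))
    (hid : ∀ h, Cfsg.MemLocalIdeal M (conv ε ε h - ε h))
    (hne : ∃ g, ¬ Cfsg.MemLocalIdeal M (ε g)) :
    ∃ h : H, ¬ Cfsg.MemLocalIdeal M (∑ u : Q, ε (h * (u : H))) := by
  by_contra hcon
  push Not at hcon
  obtain ⟨g₀, hg₀⟩ := hne
  have hconvR : ∀ h, Cfsg.MemLocalRing M (conv ε ε h) := by
    intro h
    rw [conv_apply]
    exact memLocalRing_sum hM _ _ (fun k _ => memLocalRing_mul hM (hR k) (hR _))
  have hidem : redFn hM ε * redFn hM ε = redFn hM ε := by
    rw [← redFn_conv hM ε ε hR hR]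
    apply MonoidAlgebra.coeff_injective
    ext x
    rw [coeff_redFn, coeff_redFn]
    exact redC_eq_of_sub hM (hconvR x) (hR x) (hid x)
  have hzero : redFn hM ε * subgroupSum (ResF hM) Q = 0 := by
    apply MonoidAlgebra.coeff_injective
    ext g
    rw [coeff_mul_subgroupSum]
    simp only [coeff_redFn, MonoidAlgebra.coeff_zero, Finsupp.coe_zero, Pi.zero_apply]
    rw [← redC_sum hM _ _ (fun u _ => hR _)]
    have h1 : ∑ u : Q, ε (g * (u : H)⁻¹) = ∑ u : Q, ε (g * (u : H)) := by
      rw [← Equiv.sum_comp (Equiv.inv Q)]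
      apply Finset.sum_congr rfl
      intro u _
      simp
    rw [h1]
    exact (redC_eq_zero_iff hM (memLocalRing_sum hM _ _ (fun u _ => hR _))).mpr (hcon g)
  have h0 := eq_zero_of_central_idem (p := p) (ResF hM) Q hQ (redFn hM ε)
    (redFn_central hM ε hcf) hidem hzero
  have h1 : (redFn hM ε).coeff g₀ = 0 := by rw [h0]; rfl
  rw [coeff_redFn, redC_eq_zero_iff hM (hR g₀)] at h1
  exact hg₀ h1

end Local

end Cfsg.Agent.Lib.Helper7
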