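import Mathlib
import Cfsg.Prelude.Def_Characters
import Cfsg.Prelude.Def_Blocks
import Cfsg.Agent.Lib.Helper2.Ito
import Cfsg.Agent.Lib.Helper2.Column
import Cfsg.Agent.Lib.Helper2.Regular
import Cfsg.Agent.Lib.Helper24.GaloisProd
import Cfsg.Agent.Lib.Helper24.Loc
import Cfsg.Agent.Lib.Helper25.EvenDegree
import Cfsg.Agent.Lib.Helper25.Kernel
import Cfsg.Agent.Lib.Helper7.PCongr

/-!
# A Knörr-type bound for `k(GV)` (helper7 library)

For `X = GV` with `V` an abelian normal Sylow `p`-subgroup and `G` a complement, and `v ∈ V`: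
`k(X) + |G| ≤ |C_G(v)| |V| + k(G)`.  The proof: every irreducible character of `X` is nonzero at
`v` (Itô + the `p`-congruence), so by AM–GM over the Galois conjugates `χ(v^k)` the column
orthogonality relation at the generators `v^k` of `⟨v⟩` gives the bound.
-/

set_option autoImplicit false

namespace Cfsg.Agent.Lib.Helper7

open Cfsg.Agent.Lib.Helper2 Cfsg.Agent.Lib.Helper24 Cfsg.Agent.Lib.Helper25
open scoped ComplexConjugate

section Nonvanish

variable {X : Type*} [Group X] [Finite X]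

/-- An irreducible character does not vanish at an element of an abelian normal `p`-subgroup
of index prime to `p`. -/
theorem irr_apply_ne_zero_of_mem_abelian_normal_sylow (p : ℕ) [Fact p.Prime] (V : Subgroup X)
    [V.Normal] (hVp : IsPGroup p V) (hidx : ¬ p ∣ V.index)
    (hab : ∀ a ∈ V, ∀ b ∈ V, a * b = b * a) {χ : X → ℂ} (hχ : Cfsg.IsIrrCharacter X χ)
    {v : X} (hv : v ∈ V) : χ v ≠ 0 := by
  obtain ⟨M, hM⟩ := exists_isPModular p (Fact.out)
  obtain ⟨d, hd, hdvd⟩ := ito_aux (Nat.card X) X rfl χ hχ V hab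
  have hpd : ¬ p ∣ d := fun h => hidx (dvd_trans h hdvd)
  have hord : ∃ k : ℕ, orderOf v = p ^ k := by
    obtain ⟨k, hk⟩ := hVp ⟨v, hv⟩
    have h1 : v ^ p ^ k = 1 := by
      have := congrArg Subtype.val hk
      simpa using this
    obtain ⟨j, _, hj⟩ := (Nat.dvd_prime_pow (Fact.out)).1 (orderOf_dvd_of_pow_eq_one h1)
    exact ⟨j, hj⟩
  have h1 := char_mul_sub_memLocalIdeal hM χ (IsIrrCharacter.isCharacter hχ) v 1 (by simp) hord
  rw [mul_one, hd] at h1
  intro h0
  rw [h0, zero_sub] at h1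
  have h2 := memLocalIdeal_neg h1
  rw [neg_neg] at h2
  exact hpd ((memLocalIdeal_natCast_iff hM d).1 h2)

end Nonvanish

section AMGM

variable {X : Type*} [Group X] [Finite X]

/-- AM–GM over the Galois conjugates of a nonzero character value. -/
theorem card_units_le_sum_normSq_char {χ : X → ℂ} (hχ : Cfsg.IsCharacter X χ) (v : X)
    (o : ℕ) [NeZero o] (ho : orderOf v = o) (h0 : χ v ≠ 0) :
    (Fintype.card (ZMod o)ˣ : ℝ) ≤ ∑ k : (ZMod o)ˣ, ‖χ (v ^ (k : ZMod o).val)‖ ^ 2 := by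
  obtain ⟨n, ρ, rfl⟩ := hχ
  obtain ⟨μ, hμ, hpow, _⟩ := exists_eigenvalues ρ v
  rw [ho] at hμ
  have hsum : (∑ i, μ i) ≠ 0 := by
    have := hpow 1
    rw [pow_one] at this
    rw [this] at h0
    simpa using h0
  have h1 := (card_units_le_sum_normSq o _ μ hμ hsum).2
  refine le_trans h1 (le_of_eq ?_)
  apply Finset.sum_congr rfl
  intro k _
  rw [hpow]

end AMGM

section Centralizer

variable {X : Type*} [Group X] [Finite X]

/-- A generator of `⟨v⟩` has the same centralizer as `v`. -/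
theorem centralizer_pow_unit (v : X) (o : ℕ) [NeZero o] (ho : orderOf v = o) (k : (ZMod o)ˣ) :
    Subgroup.centralizer ({v ^ (k : ZMod o).val} : Set X) = Subgroup.centralizer ({v} : Set X) := by
  have hback : (v ^ (k : ZMod o).val) ^ ((k⁻¹ : (ZMod o)ˣ) : ZMod o).val = v := by
    rw [← pow_mul, ← pow_mod_orderOf, ho]
    have h1 : ((k : ZMod o).val * ((k⁻¹ : (ZMod o)ˣ) : ZMod o).val) % o
        = (1 : ZMod o).val := by
      rw [← ZMod.val_mul, ← Units.val_mul, mul_inv_cancel, Units.val_one]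
    rw [h1, ZMod.val_one_eq_one_mod, ← ho, pow_mod_orderOf, pow_one]
  ext x
  simp only [Subgroup.mem_centralizer_iff, Set.mem_singleton_iff, forall_eq]
  constructor
  · intro h
    have h2 : Commute (v ^ (k : ZMod o).val) x := h
    have h3 := h2.pow_left ((k⁻¹ : (ZMod o)ˣ) : ZMod o).val
    rw [hback] at h3
    exact h3
  · intro h
    have h2 : Commute v x := h
    exact h2.pow_left _

/-- The centralizer in `X = VG` of an element of the abelian normal subgroup `V`. -/
theorem card_centralizer_of_complement (V G : Subgroup X)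
    (hab : ∀ a ∈ V, ∀ b ∈ V, a * b = b * a) (hGV : Subgroup.IsComplement' V G)
    {v : X} (hv : v ∈ V) :
    Nat.card (Subgroup.centralizer ({v} : Set X))
      = Nat.card ↥(G ⊓ Subgroup.centralizer ({v} : Set X)) * Nat.card V := by
  classical
  set C := Subgroup.centralizer ({v} : Set X) with hC
  have hVC : V ≤ C := by
    intro w hw
    rw [hC, Subgroup.mem_centralizer_iff]
    intro y hy
    rw [Set.mem_singleton_iff] at hy
    subst hy
    exact hab _ hv _ hw
  have hbij := hGV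
  let f : V × ↥(G ⊓ C) → C := fun x =>
    ⟨(x.1 : X) * (x.2 : X), C.mul_mem (hVC x.1.2) x.2.2.2⟩
  have hf : Function.Bijective f := by
    constructor
    · intro a b hab'
      have h1 : (a.1 : X) * (a.2 : X) = (b.1 : X) * (b.2 : X) := congrArg Subtype.val hab'
      have h2 := hbij.1
        (a₁ := ((⟨(a.1 : X), a.1.2⟩ : ↥(V : Set X)), (⟨(a.2 : X), a.2.2.1⟩ : ↥(G : Set X))))
        (a₂ := ((⟨(b.1 : X), b.1.2⟩ : ↥(V : Set X)), (⟨(b.2 : X), b.2.2.1⟩ : ↥(G : Set X)))) h1
      have h3 := congrArg (fun z => (z.1 : X)) h2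
      have h4 := congrArg (fun z => (z.2 : X)) h2
      simp only at h3 h4
      apply Prod.ext
      · exact Subtype.ext h3
      · exact Subtype.ext h4
    · intro c
      obtain ⟨⟨w, g⟩, hwg⟩ := hbij.2 (c : X)
      simp only at hwg
      have hgC : (g : X) ∈ C := by
        have : (g : X) = (w : X)⁻¹ * (c : X) := by rw [← hwg]; group
        rw [this]
        exact C.mul_mem (C.inv_mem (hVC w.2)) c.2
      exact ⟨(⟨w, w.2⟩, ⟨(g : X), ⟨g.2, hgC⟩⟩), Subtype.ext hwg⟩
  rw [Nat.card_congr (Equiv.ofBijective f hf).symm, Nat.card_prod, mul_comm]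

end Centralizer

section Column

variable {X : Type*} [Group X] [Fintype X]

/-- The second orthogonality relation at a single element, in real form. -/
theorem sum_irr_norm_sq [Fintype (Cfsg.IrrCharacter X)] (g : X) :
    ∑ χ : Cfsg.IrrCharacter X, ‖(χ : X → ℂ) g‖ ^ 2
      = (Nat.card (Subgroup.centralizer ({g} : Set X)) : ℝ) := by
  classical
  have h := column_orthogonality g g
  rw [if_pos (IsConj.refl g)] at h
  have h2 : ((∑ χ : Cfsg.IrrCharacter X, ‖(χ : X → ℂ) g‖ ^ 2 : ℝ) : ℂ)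
      = ((Nat.card (Subgroup.centralizer ({g} : Set X)) : ℝ) : ℂ) := by
    rw [Complex.ofReal_sum, Complex.ofReal_natCast, ← h]
    apply Finset.sum_congr rfl
    intro χ _
    rw [Complex.mul_conj, Complex.normSq_eq_norm_sq]
  exact_mod_cast h2

end Column

section Inflation

universe u

variable {X : Type u} [Group X] [Finite X] (V : Subgroup X) [V.Normal]

/-- Inflation identifies the irreducible characters of `X ⧸ V` with the irreducible characters
of `X` having `V` in the kernel. -/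
noncomputable def inflEquiv : Cfsg.IrrCharacter (X ⧸ V) ≃
    {χ : Cfsg.IrrCharacter X // ∀ w ∈ V, (χ : X → ℂ) w = (χ : X → ℂ) 1} :=
  Equiv.ofBijective
    (fun ψ => ⟨⟨fun x => (ψ : X ⧸ V → ℂ) (x : X ⧸ V), isIrrCharacter_inflation V ψ.2⟩, by
      intro w hw
      have h1 : ((w : X) : X ⧸ V) = ((1 : X) : X ⧸ V) := by
        rw [QuotientGroup.eq]
        simpa using V.inv_mem hw
      show (ψ : X ⧸ V → ℂ) (w : X ⧸ V) = (ψ : X ⧸ V → ℂ) ((1 : X) : X ⧸ V)
      rw [h1]⟩)
    (by
      constructor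
      · intro ψ ψ' h
        apply Subtype.ext
        funext q
        obtain ⟨x, rfl⟩ := QuotientGroup.mk_surjective q
        have h1 := congrArg (fun z : {χ : Cfsg.IrrCharacter X //
          ∀ w ∈ V, (χ : X → ℂ) w = (χ : X → ℂ) 1} => ((z : Cfsg.IrrCharacter X) : X → ℂ) x) h
        exact h1
      · rintro ⟨χ, hχ⟩
        obtain ⟨ψ, hψ, hψχ⟩ := exists_deflation V χ.2 hχ
        refine ⟨⟨ψ, hψ⟩, ?_⟩
        apply Subtype.ext
        apply Subtype.ext
        funext x
        exact (hψχ x).symm)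

theorem inflEquiv_apply (ψ : Cfsg.IrrCharacter (X ⧸ V)) (x : X) :
    (((inflEquiv V ψ : {χ : Cfsg.IrrCharacter X // ∀ w ∈ V, (χ : X → ℂ) w = (χ : X → ℂ) 1})
      : Cfsg.IrrCharacter X) : X → ℂ) x = (ψ : X ⧸ V → ℂ) (x : X ⧸ V) := rfl

end Inflation

section Main

universe u

variable {X : Type u} [Group X] [Finite X]

/-- `k(X) + |G| ≤ |C_G(v)| |V| + k(G)` for `X = VG`, `V` an abelian normal Sylow `p`-subgroup. -/
theorem knorr_bound (p : ℕ) [Fact p.Prime] (V : Subgroup X) [V.Normal] (hVp : IsPGroup p V)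
    (hidx : ¬ p ∣ V.index) (hab : ∀ a ∈ V, ∀ b ∈ V, a * b = b * a) (G : Subgroup X)
    (hGV : Subgroup.IsComplement' V G) (v : X) (hv : v ∈ V) :
    Nat.card (ConjClasses X) + Nat.card G
      ≤ Nat.card ↥(G ⊓ Subgroup.centralizer ({v} : Set X)) * Nat.card V
        + Nat.card (ConjClasses G) := by
  classical
  haveI : Fintype X := Fintype.ofFinite X
  haveI : Fintype (Cfsg.IrrCharacter X) := Fintype.ofFinite _
  haveI : Fintype (Cfsg.IrrCharacter (X ⧸ V)) := Fintype.ofFinite _
  set o := orderOf v with ho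
  haveI : NeZero o := ⟨(orderOf_pos v).ne'⟩
  set c := Nat.card ↥(G ⊓ Subgroup.centralizer ({v} : Set X)) with hc
  let inA : Cfsg.IrrCharacter X → Prop := fun χ => ∀ w ∈ V, (χ : X → ℂ) w = (χ : X → ℂ) 1
  -- the quotient is isomorphic to `G`
  let e : X ⧸ V ≃* G := hGV.symm.QuotientMulEquiv
  have hcardQ : Nat.card (X ⧸ V) = Nat.card G := Nat.card_congr e.toEquiv
  -- number of characters in `A`
  have hcardA : Nat.card {χ : Cfsg.IrrCharacter X // inA χ} = Nat.card (ConjClasses G) := by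
    rw [← Nat.card_congr (inflEquiv V), card_irrCharacter]
    exact Nat.card_congr
      { toFun := ConjClasses.map e.toMonoidHom
        invFun := ConjClasses.map e.symm.toMonoidHom
        left_inv := by
          intro a
          obtain ⟨a0, rfl⟩ := ConjClasses.exists_rep a
          show ConjClasses.mk (e.symm (e a0)) = ConjClasses.mk a0
          rw [MulEquiv.symm_apply_apply]
        right_inv := by
          intro a
          obtain ⟨a0, rfl⟩ := ConjClasses.exists_rep a
          show ConjClasses.mk (e (e.symm a0)) = ConjClasses.mk a0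
          rw [MulEquiv.apply_symm_apply] }
  -- sum of squares of degrees over `A`
  have hsumA : ∑ χ : {χ : Cfsg.IrrCharacter X // inA χ}, ‖((χ : Cfsg.IrrCharacter X) : X → ℂ) 1‖ ^ 2
      = (Nat.card G : ℝ) := by
    rw [← Equiv.sum_comp (inflEquiv V)]
    have h1 := sum_irr_degree_sq (G := X ⧸ V)
    rw [hcardQ] at h1
    have h2 : ((∑ ψ : Cfsg.IrrCharacter (X ⧸ V),
        ‖(((inflEquiv V ψ : {χ : Cfsg.IrrCharacter X // inA χ}) : Cfsg.IrrCharacter X) : X → ℂ) 1‖ ^ 2
          : ℝ) : ℂ) = ((Nat.card G : ℝ) : ℂ) := by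
      rw [Complex.ofReal_sum, Complex.ofReal_natCast, ← h1]
      apply Finset.sum_congr rfl
      intro ψ _
      rw [inflEquiv_apply]
      obtain ⟨d, _, hd⟩ := IsIrrCharacter.apply_one ψ.2
      have h3 : (((1 : X) : X ⧸ V)) = (1 : X ⧸ V) := rfl
      rw [h3, hd]
      simp
    exact_mod_cast h2
  -- for each unit `k`, the sum over the complement of `A`
  have hpowV : ∀ k : (ZMod o)ˣ, v ^ (k : ZMod o).val ∈ V := fun k => V.pow_mem hv _
  have hcent : ∀ k : (ZMod o)ˣ,
      (Nat.card (Subgroup.centralizer ({v ^ (k : ZMod o).val} : Set X)) : ℝ)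
        = (c : ℝ) * (Nat.card V : ℝ) := by
    intro k
    rw [centralizer_pow_unit v o rfl k, card_centralizer_of_complement V G hab hGV hv]
    push_cast
    rfl
  have hB : ∀ k : (ZMod o)ˣ,
      ∑ χ : {χ : Cfsg.IrrCharacter X // ¬ inA χ},
        ‖((χ : Cfsg.IrrCharacter X) : X → ℂ) (v ^ (k : ZMod o).val)‖ ^ 2
        = (c : ℝ) * (Nat.card V : ℝ) - (Nat.card G : ℝ) := by
    intro k
    have h1 := sum_irr_norm_sq (X := X) (v ^ (k : ZMod o).val)
    rw [hcent k, ← Fintype.sum_subtype_add_sum_subtype inA] at h1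
    have h2 : ∑ χ : {χ : Cfsg.IrrCharacter X // inA χ},
        ‖((χ : Cfsg.IrrCharacter X) : X → ℂ) (v ^ (k : ZMod o).val)‖ ^ 2 = (Nat.card G : ℝ) := by
      rw [← hsumA]
      apply Finset.sum_congr rfl
      intro χ _
      rw [χ.2 _ (hpowV k)]
    rw [h2] at h1
    linarith
  -- AM–GM for each character
  have hAM : ∀ χ : {χ : Cfsg.IrrCharacter X // ¬ inA χ},
      (Fintype.card (ZMod o)ˣ : ℝ) ≤ ∑ k : (ZMod o)ˣ,
        ‖((χ : Cfsg.IrrCharacter X) : X → ℂ) (v ^ (k : ZMod o).val)‖ ^ 2 := by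
    intro χ
    exact card_units_le_sum_normSq_char (IsIrrCharacter.isCharacter χ.1.2) v o rfl
      (irr_apply_ne_zero_of_mem_abelian_normal_sylow p V hVp hidx hab χ.1.2 hv)
  have hphi : (0 : ℝ) < (Fintype.card (ZMod o)ˣ : ℝ) := by
    exact_mod_cast Fintype.card_pos
  -- double counting
  have hdouble : (Fintype.card {χ : Cfsg.IrrCharacter X // ¬ inA χ} : ℝ)
      * (Fintype.card (ZMod o)ˣ : ℝ)
      ≤ (Fintype.card (ZMod o)ˣ : ℝ) * ((c : ℝ) * (Nat.card V : ℝ) - (Nat.card G : ℝ)) := by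
    calc (Fintype.card {χ : Cfsg.IrrCharacter X // ¬ inA χ} : ℝ) * (Fintype.card (ZMod o)ˣ : ℝ)
        = ∑ _χ : {χ : Cfsg.IrrCharacter X // ¬ inA χ}, (Fintype.card (ZMod o)ˣ : ℝ) := by
          rw [Finset.sum_const, Finset.card_univ, nsmul_eq_mul]
      _ ≤ ∑ χ : {χ : Cfsg.IrrCharacter X // ¬ inA χ}, ∑ k : (ZMod o)ˣ,
            ‖((χ : Cfsg.IrrCharacter X) : X → ℂ) (v ^ (k : ZMod o).val)‖ ^ 2 :=
          Finset.sum_le_sum (fun χ _ => hAM χ)
      _ = ∑ k : (ZMod o)ˣ, ∑ χ : {χ : Cfsg.IrrCharacter X // ¬ inA χ},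
            ‖((χ : Cfsg.IrrCharacter X) : X → ℂ) (v ^ (k : ZMod o).val)‖ ^ 2 :=
          Finset.sum_comm
      _ = ∑ _k : (ZMod o)ˣ, ((c : ℝ) * (Nat.card V : ℝ) - (Nat.card G : ℝ)) :=
          Finset.sum_congr rfl (fun k _ => hB k)
      _ = (Fintype.card (ZMod o)ˣ : ℝ) * ((c : ℝ) * (Nat.card V : ℝ) - (Nat.card G : ℝ)) := by
          rw [Finset.sum_const, Finset.card_univ, nsmul_eq_mul]
  have hBcard : (Fintype.card {χ : Cfsg.IrrCharacter X // ¬ inA χ} : ℝ)
      ≤ (c : ℝ) * (Nat.card V : ℝ) - (Nat.card G : ℝ) := by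
    by_contra hlt
    push Not at hlt
    have := mul_lt_mul_of_pos_left hlt hphi
    nlinarith
  -- count the characters
  have hsplit : Fintype.card {χ : Cfsg.IrrCharacter X // inA χ}
      + Fintype.card {χ : Cfsg.IrrCharacter X // ¬ inA χ} = Fintype.card (Cfsg.IrrCharacter X) := by
    have h1 := Fintype.sum_subtype_add_sum_subtype inA (fun _ => (1 : ℕ))
    simpa using h1
  have hk : Nat.card (ConjClasses X) = Fintype.card (Cfsg.IrrCharacter X) := by
    rw [← card_irrCharacter, Nat.card_eq_fintype_card]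
  have hA' : Fintype.card {χ : Cfsg.IrrCharacter X // inA χ} = Nat.card (ConjClasses G) := by
    rw [← hcardA, Nat.card_eq_fintype_card]
  have hfinal : ((Nat.card (ConjClasses X) + Nat.card G : ℕ) : ℝ)
      ≤ ((c * Nat.card V + Nat.card (ConjClasses G) : ℕ) : ℝ) := by
    rw [hk, ← hsplit, hA']
    push_cast
    linarith
  exact_mod_cast hfinal

end Main

end Cfsg.Agent.Lib.Helper7
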