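import Mathlib
import Cfsg.Prelude.Def_Blocks
import Cfsg.Agent.Lib.Helper2.Integrality
import Cfsg.Agent.Lib.Helper2.Induction
import Cfsg.Agent.Lib.Helper24.BlockBasic
import Cfsg.Agent.Lib.Helper25.Kernel
import Cfsg.Agent.Lib.Helper25.CharBasic
import Cfsg.Agent.Lib.Helper7.PPrimeNormal

/-!
# Divisibility of character values and multiplicities (helper7 library)

* `card_mul_irr_eq`: `|G| χ(g) = χ(1) |Q| β` with `β` an algebraic integer, for a subgroup `Q`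
  centralizing `g`.
* `index_mul_irr_eq`: the same modulo a normal subgroup in the kernel of `χ`.
* `dvd_classInner_of_values`: divisibility of the multiplicities `[χ_K, β]` for a `p'`-subgroup
  `K` from such divisibility of the values.
-/

set_option autoImplicit false

namespace Cfsg.Agent.Lib.Helper7

open Cfsg.Agent.Lib.Helper2 Cfsg.Agent.Lib.Helper24
open scoped ComplexConjugate

universe u

variable {G : Type u} [Group G] [Finite G]

/-- `|G| χ(g) = χ(1) |Q| β` for `Q` centralizing `g` -/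
theorem card_mul_irr_eq (χ : Cfsg.IrrCharacter G) (g : G) (Q : Subgroup G)
    (hQ : ∀ u ∈ Q, u * g = g * u) :
    ∃ β : ℂ, IsIntegral ℤ β ∧
      (Nat.card G : ℂ) * (χ : G → ℂ) g = (χ : G → ℂ) 1 * (Nat.card Q : ℂ) * β := by
  classical
  letI : Fintype G := Fintype.ofFinite G
  set C := Subgroup.centralizer ({g} : Set G) with hC
  have hQC : Q ≤ C := by
    intro u hu
    rw [hC, Subgroup.mem_centralizer_singleton_iff]
    exact hQ u hu
  obtain ⟨r, hr⟩ := Subgroup.card_dvd_of_le hQC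
  have hint := centralChar_isIntegral χ g
  have hne : (χ : G → ℂ) 1 ≠ 0 := Cfsg.Agent.Lib.Helper25.irr_one_ne_zero χ.2
  refine ⟨(r : ℂ) * Cfsg.centralChar (χ : G → ℂ) g, ?_, ?_⟩
  · have hr' : IsIntegral ℤ ((r : ℂ)) := by
      have := isIntegral_algebraMap (R := ℤ) (A := ℂ) (x := (r : ℤ))
      simpa using this
    exact IsIntegral.mul hr' hint
  · have hidx := Subgroup.index_mul_card C
    rw [← hidx, hr]
    unfold Cfsg.centralChar
    push_cast
    field_simp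
    rw [← hC]
    ring

/-- `|G : N| χ(g) = χ(1) |QN/N| β` for `N` in the kernel of `χ` and `Q` centralizing `g` -/
theorem index_mul_irr_eq (χ : Cfsg.IrrCharacter G) (N : Subgroup G) [N.Normal]
    (hN : ∀ n ∈ N, (χ : G → ℂ) n = (χ : G → ℂ) 1) (g : G) (Q : Subgroup G)
    (hQ : ∀ u ∈ Q, u * g = g * u) :
    ∃ β : ℂ, IsIntegral ℤ β ∧
      (N.index : ℂ) * (χ : G → ℂ) g
        = (χ : G → ℂ) 1 * (Nat.card (Q.map (QuotientGroup.mk' N)) : ℂ) * β := by
  obtain ⟨ψ, hψ, hχψ⟩ := Cfsg.Agent.Lib.Helper25.exists_deflation N χ.2 hN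
  have hQ' : ∀ u ∈ Q.map (QuotientGroup.mk' N), u * (g : G ⧸ N) = (g : G ⧸ N) * u := by
    intro u hu
    obtain ⟨v, hv, rfl⟩ := Subgroup.mem_map.mp hu
    change ((v * g : G) : G ⧸ N) = ((g * v : G) : G ⧸ N)
    rw [hQ v hv]
  obtain ⟨β, hβ, h⟩ := card_mul_irr_eq (⟨ψ, hψ⟩ : Cfsg.IrrCharacter (G ⧸ N)) (g : G ⧸ N)
    (Q.map (QuotientGroup.mk' N)) hQ'
  refine ⟨β, hβ, ?_⟩
  rw [hχψ g, hχψ 1, Subgroup.index_eq_card]
  exact h

/-- divisibility of multiplicities from divisibility of values -/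
theorem dvd_classInner_of_values {K : Type*} [Group K] [Fintype K] (p : ℕ) [hp : Fact p.Prime]
    (hK : ¬ p ∣ Nat.card K) (c : K → ℂ) (hc : Cfsg.IsCharacter K c) (n₀ d t : ℕ) (hn₀ : n₀ ≠ 0)
    (hd0 : d ≠ 0) (hν : n₀.factorization p ≤ d.factorization p) (ht : ∃ j : ℕ, t = p ^ j)
    (h0 : ∀ k : K, ∃ β : ℂ, IsIntegral ℤ β ∧ (n₀ : ℂ) * c k = (d : ℂ) * (t : ℂ) * β)
    (β : K → ℂ) (hβ : Cfsg.IsCharacter K β) :
    ∃ z : ℕ, Cfsg.classInner c β = (t : ℂ) * (z : ℂ) := by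
  classical
  obtain ⟨j, rfl⟩ := ht
  obtain ⟨n, hn⟩ := classInner_isCharacter_nat hc hβ
  choose b hb using h0
  -- the algebraic integer γ
  set γ : ℂ := ∑ k : K, b k * conj (β k) with hγ
  have hγint : IsIntegral ℤ γ := by
    apply IsIntegral.sum
    intro k _
    apply IsIntegral.mul (hb k).1
    obtain ⟨m, ρ, rfl⟩ := hβ
    exact (char_isIntegral ρ k).map (starRingEnd ℂ : ℂ →+* ℂ).toIntAlgHom
  have hKne : (Nat.card K : ℂ) ≠ 0 := by exact_mod_cast Nat.card_pos.ne'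
  have hsum : (n₀ : ℂ) * (Nat.card K : ℂ) * (n : ℂ) = (d : ℂ) * ((p ^ j : ℕ) : ℂ) * γ := by
    rw [← hn]
    unfold Cfsg.classInner
    rw [hγ]
    have : (n₀ : ℂ) * (Nat.card K : ℂ) * ((Nat.card K : ℂ)⁻¹ * ∑ g : K, c g * conj (β g))
        = ∑ g : K, ((n₀ : ℂ) * c g) * conj (β g) := by
      rw [Finset.mul_sum, Finset.mul_sum]
      apply Finset.sum_congr rfl
      intro k _
      field_simp
    rw [this, Finset.mul_sum]
    apply Finset.sum_congr rfl
    intro k _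
    rw [(hb k).2]
    ring
  have hpj : ((p ^ j : ℕ) : ℂ) ≠ 0 := by
    exact_mod_cast (pow_pos hp.out.pos j).ne'
  have hdC : (d : ℂ) ≠ 0 := by exact_mod_cast hd0
  have hrat : γ = (((n₀ * Nat.card K * n : ℕ) : ℚ) / ((d * p ^ j : ℕ) : ℚ) : ℚ) := by
    push_cast
    rw [eq_div_iff (mul_ne_zero hdC (by exact_mod_cast (pow_pos hp.out.pos j).ne'))]
    push_cast at hsum
    rw [hsum]; ring
  obtain ⟨z, hz⟩ := exists_int_of_isIntegral_of_rat _ hrat hγint
  have hZ : ((n₀ * Nat.card K * n : ℕ) : ℤ) = (d * p ^ j : ℕ) * z := by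
    have : ((n₀ * Nat.card K * n : ℕ) : ℂ) = ((d * p ^ j : ℕ) : ℂ) * (z : ℂ) := by
      rw [← hz]
      push_cast
      push_cast at hsum
      rw [hsum]
    exact_mod_cast this
  -- number theory
  have hdvd : d * p ^ j ∣ n₀ * Nat.card K * n := by
    have : ((d * p ^ j : ℕ) : ℤ) ∣ ((n₀ * Nat.card K * n : ℕ) : ℤ) := ⟨z, hZ⟩
    exact Int.natCast_dvd_natCast.mp this
  set e := n₀.factorization p with he
  have hn₀' : p ^ e * (n₀ / p ^ e) = n₀ := Nat.ordProj_mul_ordCompl_eq_self n₀ p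
  have hn₀nd : ¬ p ∣ n₀ / p ^ e := Nat.not_dvd_ordCompl hp.out hn₀
  have hped : p ^ e ∣ d := (hp.out.pow_dvd_iff_le_factorization hd0).mpr hν
  have h1 : p ^ e * p ^ j ∣ p ^ e * ((n₀ / p ^ e) * Nat.card K * n) := by
    have h2 : p ^ e * p ^ j ∣ d * p ^ j := Nat.mul_dvd_mul_right hped _
    have h3 : n₀ * Nat.card K * n = p ^ e * ((n₀ / p ^ e) * Nat.card K * n) := by
      conv_lhs => rw [← hn₀']
      ring
    rw [← h3]
    exact dvd_trans h2 hdvd
  have h4 : p ^ j ∣ (n₀ / p ^ e) * Nat.card K * n :=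
    (Nat.mul_dvd_mul_iff_left (pow_pos hp.out.pos e)).mp h1
  have hcop : Nat.Coprime (p ^ j) ((n₀ / p ^ e) * Nat.card K) := by
    apply Nat.Coprime.pow_left
    apply Nat.Coprime.mul_right
    · exact (Nat.Prime.coprime_iff_not_dvd hp.out).mpr hn₀nd
    · exact (Nat.Prime.coprime_iff_not_dvd hp.out).mpr hK
  obtain ⟨w, hw⟩ := hcop.dvd_of_dvd_mul_left h4
  refine ⟨w, ?_⟩
  rw [hn, hw]
  push_cast
  ring

end Cfsg.Agent.Lib.Helper7
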