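import Mathlib
import Cfsg.Prelude.Def_Blocks
import Cfsg.Agent.Lib.Helper7.PPartFn
import Cfsg.Agent.Lib.Helper7.DivInner
import Cfsg.Agent.Lib.Helper7.ElemProd
import Cfsg.Agent.Lib.Helper7.BrauerChar

/-!
# The characters `θ_λ` (helper7 library)

For a normal `p`-subgroup `P` of `G`, a `G`-invariant character `λ` of `P` and a character `χ`
of `G`, the function `thetaFn p P λ χ` is `g ↦ λ(g_p) χ(g_{p'})` when `g_p ∈ P` and `0`
otherwise.  Under a divisibility hypothesis on the values of `χ` at `p`-regular elements it is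
a generalized character (`isGeneralizedCharacter_thetaFn`).
-/

set_option autoImplicit false

namespace Cfsg.Agent.Lib.Helper7

open Cfsg.Agent.Lib.Helper2
open scoped ComplexConjugate Classical

universe u

variable {G : Type u} [Group G] [Finite G]

/-- `g ↦ λ(g_p) χ(g_{p'})` if `g_p ∈ P`, and `0` otherwise -/
noncomputable def thetaFn (p : ℕ) [Fact p.Prime] (P : Subgroup G) (lam : P → ℂ) (χ : G → ℂ) :
    G → ℂ :=
  fun g => if h : pPt p g ∈ P then lam ⟨pPt p g, h⟩ * χ (pRg p g) else 0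

theorem thetaFn_isClassFunction (p : ℕ) [Fact p.Prime] (P : Subgroup G) [hPn : P.Normal]
    (lam : P → ℂ) (hinv : ∀ g : G, conjFun P g lam = lam) (χ : G → ℂ)
    (hχ : Cfsg.IsClassFunction G χ) : Cfsg.IsClassFunction G (thetaFn p P lam χ) := by
  intro g h
  unfold thetaFn
  have h1 : pPt p (h * g * h⁻¹) = h * pPt p g * h⁻¹ := pPt_conj p h g
  have h2 : pRg p (h * g * h⁻¹) = h * pRg p g * h⁻¹ := pRg_conj p h g
  by_cases hm : pPt p g ∈ P
  · have hm' : pPt p (h * g * h⁻¹) ∈ P := by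
      rw [h1]; exact hPn.conj_mem _ hm h
    rw [dif_pos hm, dif_pos hm', h2, hχ]
    congr 1
    have h3 := congr_fun (hinv h) ⟨pPt p g, hm⟩
    rw [conjFun_apply] at h3
    rw [← h3]
    congr 1
    exact Subtype.ext h1
  · have hm' : pPt p (h * g * h⁻¹) ∉ P := by
      rw [h1]
      intro hc
      apply hm
      have := hPn.conj_mem _ hc h⁻¹
      have e : h⁻¹ * (h * pPt p g * h⁻¹) * h⁻¹⁻¹ = pPt p g := by group
      rw [e] at this
      exact this
    rw [dif_neg hm, dif_neg hm']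

theorem thetaFn_mul (p : ℕ) [Fact p.Prime] (P : Subgroup G) (lam : P → ℂ) (χ : G → ℂ)
    {s k : G} (hs : ∃ j : ℕ, orderOf s = p ^ j) (hk : ¬ p ∣ orderOf k) (h : s * k = k * s) :
    thetaFn p P lam χ (s * k) = if h : s ∈ P then lam ⟨s, h⟩ * χ k else 0 := by
  unfold thetaFn
  have h1 := pPt_mul_of_commute p hs hk h
  have h2 := pRg_mul_of_commute p hs hk h
  by_cases hm : s ∈ P
  · have hm' : pPt p (s * k) ∈ P := by rw [h1]; exact hm
    rw [dif_pos hm, dif_pos hm', h2]
    congr 2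
    exact Subtype.ext h1
  · have hm' : pPt p (s * k) ∉ P := by rw [h1]; exact hm
    rw [dif_neg hm, dif_neg hm']

/-- `θ_λ` is a generalized character -/
theorem isGeneralizedCharacter_thetaFn (p : ℕ) [hp : Fact p.Prime] (P : Subgroup G)
    [hPn : P.Normal] (lam : P → ℂ) (hlam : Cfsg.IsCharacter P lam)
    (hinv : ∀ g : G, conjFun P g lam = lam) (χ : G → ℂ) (hχ : Cfsg.IsCharacter G χ)
    (n₀ d : ℕ) (hn₀ : n₀ ≠ 0) (hd0 : d ≠ 0) (hν : n₀.factorization p ≤ d.factorization p)
    (hdiv : ∀ k : G, ¬ p ∣ orderOf k → ∀ S : Subgroup G, IsPGroup p S →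
      (∀ s ∈ S, s * k = k * s) → ∃ β : ℂ, IsIntegral ℤ β ∧
        (n₀ : ℂ) * χ k = (d : ℂ) * (Nat.card (S.map (QuotientGroup.mk' P)) : ℂ) * β) :
    Cfsg.IsGeneralizedCharacter G (thetaFn p P lam χ) := by
  letI : Fintype G := Fintype.ofFinite G
  apply isGeneralizedCharacter_of_elementary
    (thetaFn_isClassFunction p P lam hinv χ (IsCharacter.isClassFunction hχ))
  intro q hq E hE
  obtain ⟨S', K', hS', hK', hcomm, hdisj, hcard⟩ :=
    exists_commuting_sylow_complement hq hp.out hE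
  apply gc_of_char
  letI : Fintype K' := Fintype.ofFinite K'
  let f : S' →* G ⧸ P := (QuotientGroup.mk' P).comp (E.subtype.comp S'.subtype)
  have hUmem : ∀ s : S', s ∈ f.ker ↔ ((s : E) : G) ∈ P := by
    intro s
    rw [MonoidHom.mem_ker]
    exact QuotientGroup.eq_one_iff _
  let ι : f.ker →* P := MonoidHom.codRestrict (E.subtype.comp (S'.subtype.comp f.ker.subtype)) P
    (fun u => (hUmem u).mp u.2)
  have hlam' : Cfsg.IsCharacter f.ker (fun u => lam (ι u)) := IsCharacter.comp hlam ι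
  have hinv' : ∀ s : S', conjFun f.ker s (fun u => lam (ι u)) = (fun u => lam (ι u)) := by
    intro s
    funext u
    rw [conjFun_apply]
    have h3 := congr_fun (hinv ((s : E) : G)) (ι u)
    rw [conjFun_apply] at h3
    rw [← h3]
    congr 1
  have hcc : Cfsg.IsCharacter K' (fun k : K' => χ ((k : E) : G)) :=
    IsCharacter.restrict (IsCharacter.restrict hχ E) K'
  -- regularity of the elements of K'
  have hKreg : ∀ k : K', ¬ p ∣ orderOf (((k : E) : G)) := by
    intro k hd
    apply hK'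
    have h1 : orderOf k ∣ Nat.card K' := orderOf_dvd_natCard _
    rw [← Subgroup.orderOf_coe, ← Subgroup.orderOf_coe] at h1
    exact dvd_trans hd h1
  have hSord : ∀ s : S', ∃ j : ℕ, orderOf (((s : E) : G)) = p ^ j := by
    intro s
    obtain ⟨j, hj⟩ := (IsPGroup.iff_orderOf.mp hS') s
    exact ⟨j, by rw [Subgroup.orderOf_coe, Subgroup.orderOf_coe, hj]⟩
  have hcommG : ∀ (s : S') (k : K'), ((s : E) : G) * ((k : E) : G) = ((k : E) : G) * ((s : E) : G) := by
    intro s k
    have := hcomm s s.2 k k.2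
    have := congrArg (fun e : E => (e : G)) this
    simpa using this
  -- the index of U
  have hrange : f.range = (S'.map E.subtype).map (QuotientGroup.mk' P) := by
    ext x
    constructor
    · rintro ⟨s, rfl⟩
      exact ⟨((s : E) : G), ⟨(s : E), s.2, rfl⟩, rfl⟩
    · rintro ⟨y, ⟨e, he, rfl⟩, rfl⟩
      exact ⟨⟨e, he⟩, rfl⟩
  have hidx : f.ker.index = Nat.card ((S'.map E.subtype).map (QuotientGroup.mk' P)) := by
    rw [Subgroup.index_ker, hrange]
  have hpow : ∃ j : ℕ, f.ker.index = p ^ j := by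
    rw [Subgroup.index_ker]
    have : IsPGroup p f.range := hS'.of_surjective f.rangeRestrict f.rangeRestrict_surjective
    exact IsPGroup.iff_card.mp this
  have hdiv' : ∀ β : Cfsg.IrrCharacter K', ∃ z : ℕ,
      Cfsg.classInner (fun k : K' => χ ((k : E) : G)) (β : K' → ℂ)
        = (f.ker.index : ℂ) * (z : ℂ) := by
    intro β
    apply dvd_classInner_of_values p hK' _ hcc n₀ d f.ker.index hn₀ hd0 hν hpow _ _
      (IsIrrCharacter.isCharacter β.2)
    intro k
    obtain ⟨b, hb, hbe⟩ := hdiv ((k : E) : G) (hKreg k) (S'.map E.subtype) (hS'.map _) (by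
      rintro s ⟨e, he, rfl⟩
      exact hcommG ⟨e, he⟩ k)
    refine ⟨b, hb, ?_⟩
    rw [hidx]
    exact hbe
  apply isCharacter_of_prod S' K' hcomm hdisj hcard f.ker (fun u => lam (ι u)) hlam' hinv'
    (fun k : K' => χ ((k : E) : G)) hcc hdiv'
  intro s k
  show thetaFn p P lam χ (((s : E) : G) * ((k : E) : G)) = _
  rw [thetaFn_mul p P lam χ (hSord s) (hKreg k) (hcommG s k)]
  by_cases hs : s ∈ f.ker
  · rw [dif_pos hs, dif_pos ((hUmem s).mp hs)]
    rfl
  · rw [dif_neg hs, dif_neg (fun h => hs ((hUmem s).mpr h))]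

/-- inner products of the functions `θ_λ` -/
theorem classInner_thetaFn [Fintype G] (p : ℕ) [hp : Fact p.Prime] (P : Subgroup G) [Fintype P]
    (hP : IsPGroup p P) (hcent : ∀ y : G, ¬ p ∣ orderOf y → ∀ u ∈ P, u * y = y * u)
    (lam lam' : P → ℂ) (χ χ' : G → ℂ) :
    Cfsg.classInner (thetaFn p P lam χ) (thetaFn p P lam' χ')
      = (Nat.card G : ℂ)⁻¹ * ((∑ u : P, lam u * conj (lam' u))
        * ∑ y : G, if p ∣ orderOf y then 0 else χ y * conj (χ' y)) := by
  unfold Cfsg.classInner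
  congr 1
  have hord : ∀ u : P, ∃ j : ℕ, orderOf (u : G) = p ^ j := by
    intro u
    obtain ⟨j, hj⟩ := (IsPGroup.iff_orderOf.mp hP) u
    exact ⟨j, by rw [← hj, Subgroup.orderOf_coe]⟩
  have h1 : ∀ g : G, thetaFn p P lam χ g * conj (thetaFn p P lam' χ' g)
      = if pPt p g ∈ P then thetaFn p P lam χ g * conj (thetaFn p P lam' χ' g) else 0 := by
    intro g
    by_cases hm : pPt p g ∈ P
    · rw [if_pos hm]
    · rw [if_neg hm]
      unfold thetaFn
      rw [dif_neg hm, zero_mul]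
  rw [Finset.sum_congr rfl (fun g _ => h1 g),
    sum_pPt_mem p P hP hcent (fun g => thetaFn p P lam χ g * conj (thetaFn p P lam' χ' g)),
    Finset.sum_mul]
  apply Finset.sum_congr rfl
  intro u _
  rw [Finset.mul_sum]
  apply Finset.sum_congr rfl
  intro y _
  by_cases hy : p ∣ orderOf y
  · rw [if_pos hy, if_pos hy, mul_zero]
  · rw [if_neg hy, if_neg hy]
    rw [thetaFn_mul p P lam χ (hord u) hy (hcent y hy _ u.2),
      thetaFn_mul p P lam' χ' (hord u) hy (hcent y hy _ u.2), dif_pos u.2, dif_pos u.2]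
    rw [map_mul]
    ring

end Cfsg.Agent.Lib.Helper7
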