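import Mathlib
import Cfsg.Prelude.Def_Characters
import Cfsg.Agent.Lib.Helper2.Orthogonality
import Cfsg.Agent.Lib.Helper11.GenChar
import Cfsg.Agent.Lib.Helper25.CharBasic

/-!
# Truncations of irreducible characters (helper7 library)

If the truncation of an irreducible character `χ` to a subset `T ∋ 1` is a generalized
character, then `χ` vanishes off `T`.
-/

set_option autoImplicit false

namespace Cfsg.Agent.Lib.Helper7

open Cfsg.Agent.Lib.Helper2 Cfsg.Agent.Lib.Helper11
open scoped ComplexConjugate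

variable {G : Type*} [Group G] [Fintype G]

theorem eq_zero_of_truncation_isGeneralizedCharacter (χ : Cfsg.IrrCharacter G) (T : G → Prop)
    [DecidablePred T] (h1 : T 1)
    (hθ : Cfsg.IsGeneralizedCharacter G (fun g => if T g then (χ : G → ℂ) g else 0)) :
    (∀ g, ¬ T g → (χ : G → ℂ) g = 0) ∧
      Cfsg.classInner (fun g => if T g then (χ : G → ℂ) g else 0)
        (fun g => if T g then (χ : G → ℂ) g else 0) = 1 := by
  classical
  set θ : G → ℂ := fun g => if T g then (χ : G → ℂ) g else 0 with hθdef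
  obtain ⟨n, hn⟩ := IsGeneralizedCharacter.inner_irr_int hθ χ
  have hχχ := classInner_irrCharacter_self χ
  set r : ℝ := ∑ g : G, if T g then Complex.normSq ((χ : G → ℂ) g) else 0 with hr
  set r₀ : ℝ := ∑ g : G, Complex.normSq ((χ : G → ℂ) g) with hr₀
  have hG : (0 : ℝ) < (Nat.card G : ℝ) := by exact_mod_cast Nat.card_pos
  have hGC : (Nat.card G : ℂ) ≠ 0 := by exact_mod_cast Nat.card_pos.ne'
  have e1 : Cfsg.classInner θ (χ : G → ℂ) = ((r / (Nat.card G : ℝ) : ℝ) : ℂ) := by
    unfold Cfsg.classInner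
    rw [hr]
    push_cast
    rw [div_eq_inv_mul]
    congr 1
    apply Finset.sum_congr rfl
    intro g _
    rw [hθdef]
    simp only
    by_cases hT : T g
    · rw [if_pos hT, if_pos hT, Complex.mul_conj]
    · rw [if_neg hT, if_neg hT, zero_mul]; simp
  have e1' : Cfsg.classInner θ θ = ((r / (Nat.card G : ℝ) : ℝ) : ℂ) := by
    rw [← e1]
    unfold Cfsg.classInner
    congr 1
    apply Finset.sum_congr rfl
    intro g _
    rw [hθdef]
    simp only
    by_cases hT : T g
    · rw [if_pos hT]
    · rw [if_neg hT, zero_mul, zero_mul]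
  have e2 : (1 : ℂ) = ((r₀ / (Nat.card G : ℝ) : ℝ) : ℂ) := by
    rw [← hχχ]
    unfold Cfsg.classInner
    rw [hr₀]
    push_cast
    rw [div_eq_inv_mul]
    congr 1
    apply Finset.sum_congr rfl
    intro g _
    rw [Complex.mul_conj]
  have e2' : r₀ / (Nat.card G : ℝ) = 1 := by exact_mod_cast e2.symm
  have hrle : r ≤ r₀ := by
    rw [hr, hr₀]
    apply Finset.sum_le_sum
    intro g _
    by_cases hT : T g
    · rw [if_pos hT]
    · rw [if_neg hT]; exact Complex.normSq_nonneg _
  have hrpos : 0 < r := by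
    rw [hr]
    apply Finset.sum_pos'
    · intro g _
      by_cases hT : T g
      · rw [if_pos hT]; exact Complex.normSq_nonneg _
      · rw [if_neg hT]
    · refine ⟨1, Finset.mem_univ _, ?_⟩
      rw [if_pos h1]
      exact Complex.normSq_pos.mpr (Cfsg.Agent.Lib.Helper25.irr_one_ne_zero χ.2)
  have hnr : (n : ℝ) = r / (Nat.card G : ℝ) := by
    have : ((n : ℝ) : ℂ) = ((r / (Nat.card G : ℝ) : ℝ) : ℂ) := by
      rw [← e1, hn]; simp
    exact_mod_cast this
  have hn0 : (0 : ℝ) < n := by rw [hnr]; exact div_pos hrpos hG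
  have hn1 : (n : ℝ) ≤ 1 := by
    rw [hnr, ← e2']
    exact div_le_div_of_nonneg_right hrle hG.le
  have hn_eq : n = 1 := by
    have h0 : 0 < n := by exact_mod_cast hn0
    have h1' : n ≤ 1 := by exact_mod_cast hn1
    omega
  have hr_eq : r = r₀ := by
    have h3 : r / (Nat.card G : ℝ) = r₀ / (Nat.card G : ℝ) := by
      rw [← hnr, hn_eq, e2']; simp
    field_simp at h3
    exact h3
  refine ⟨?_, ?_⟩
  · intro g hg
    by_contra hne
    have hlt : r < r₀ := by
      rw [hr, hr₀]
      apply Finset.sum_lt_sum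
      · intro g _
        by_cases hT : T g
        · rw [if_pos hT]
        · rw [if_neg hT]; exact Complex.normSq_nonneg _
      · refine ⟨g, Finset.mem_univ _, ?_⟩
        rw [if_neg hg]
        exact Complex.normSq_pos.mpr hne
    exact absurd hr_eq hlt.ne
  · rw [e1', ← hnr, hn_eq]; simp

end Cfsg.Agent.Lib.Helper7
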