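import Mathlib
import Cfsg.Prelude.Def_Blocks
import Cfsg.Agent.Lib.Helper24.Defect
import Cfsg.Agent.Lib.Helper7.ThetaLambda
import Cfsg.Agent.Lib.Helper7.CentralHom
import Cfsg.Agent.Lib.Helper7.Truncation
import Cfsg.Agent.Lib.Helper7.DefectOrder
import Cfsg.Agent.Lib.Helper7.DefectClass
import Cfsg.Agent.Lib.Helper7.HeightZero

/-!
# Characters of relative defect zero over a central `p`-subgroup (helper7 library)

`D` a central `p`-subgroup of `G`, `χ ∈ Irr(G)` with `ν(χ(1)) = ν(|G : D|)`.  Then `χ` vanishes on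
the elements whose `p`-part is not in `D`, and `D` is a defect group of the block of `χ`.
-/

set_option autoImplicit false

namespace Cfsg.Agent.Lib.Helper7

open Cfsg.Agent.Lib.Helper2 Cfsg.Agent.Lib.Helper24
open scoped ComplexConjugate Classical

universe u

variable {G : Type u} [Group G] [Finite G]

theorem thetaFn_central_eq (p : ℕ) [Fact p.Prime] (D : Subgroup G) (χ : G → ℂ) (φ : D →* ℂˣ)
    (hφ : ∀ (z : D) (g : G), χ ((z : G) * g) = ((φ z : ℂˣ) : ℂ) * χ g) (g : G) :
    thetaFn p D (coeFunHom D φ) χ g = if pPt p g ∈ D then χ g else 0 := by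
  unfold thetaFn
  by_cases h : pPt p g ∈ D
  · rw [dif_pos h, if_pos h, coeFunHom_apply, ← hφ ⟨pPt p g, h⟩ (pRg p g)]
    simp only
    rw [pPt_mul_pRg]
  · rw [dif_neg h, if_neg h]

theorem conjFun_central (D : Subgroup G) (hDZ : D ≤ Subgroup.center G) [hDn : D.Normal]
    (lam : D → ℂ) (g : G) : conjFun D g lam = lam := by
  funext u
  rw [conjFun_apply]
  congr 1
  apply Subtype.ext
  simp only
  have := Subgroup.mem_center_iff.mp (hDZ u.2) g
  rw [this]; group

/-- the truncation of `χ` to the elements with `p`-part in `D` is a generalized character -/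
theorem isGeneralizedCharacter_central_truncation (p : ℕ) [hp : Fact p.Prime] (D : Subgroup G)
    (hDZ : D ≤ Subgroup.center G) (χ : Cfsg.IrrCharacter G)
    (hdeg : D.index.factorization p ≤ (Cfsg.charDegree (χ : G → ℂ)).factorization p) :
    Cfsg.IsGeneralizedCharacter G (fun g => if pPt p g ∈ D then (χ : G → ℂ) g else 0) := by
  letI : Fintype G := Fintype.ofFinite G
  haveI hDn : D.Normal := normal_of_le_center' D hDZ
  obtain ⟨φ, hφ⟩ := exists_central_hom χ D hDZ
  have hχc : Cfsg.IsCharacter G (χ : G → ℂ) := IsIrrCharacter.isCharacter χ.2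
  have hd : (χ : G → ℂ) 1 = (Cfsg.charDegree (χ : G → ℂ) : ℂ) :=
    Cfsg.Agent.Lib.Helper25.char_one_eq_charDegree hχc
  have hmain := isGeneralizedCharacter_thetaFn p D (coeFunHom D φ) (isCharacter_coeFunHom φ).1
    (conjFun_central D hDZ _) (χ : G → ℂ) hχc D.index (Cfsg.charDegree (χ : G → ℂ))
    Subgroup.index_ne_zero_of_finite (irr_charDegree_pos χ).ne' hdeg (by
      intro k _ S _ hSk
      have hcent : ∀ u ∈ (S ⊔ D : Subgroup G), u * k = k * u := by
        have hle : (S ⊔ D : Subgroup G) ≤ Subgroup.centralizer ({k} : Set G) := by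
          apply sup_le
          · intro s hs
            rw [Subgroup.mem_centralizer_singleton_iff]
            exact hSk s hs
          · intro z hz
            rw [Subgroup.mem_centralizer_singleton_iff]
            exact (Subgroup.mem_center_iff.mp (hDZ hz) k).symm
        intro u hu
        have := hle hu
        rw [Subgroup.mem_centralizer_singleton_iff] at this
        exact this
      obtain ⟨β, hβ, hβe⟩ := card_mul_irr_eq χ k (S ⊔ D) hcent
      refine ⟨β, hβ, ?_⟩
      rw [card_sup_eq_card_map_mul S D, ← Subgroup.index_mul_card D, hd] at hβe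
      have hDne : (Nat.card D : ℂ) ≠ 0 := by exact_mod_cast Nat.card_pos.ne'
      push_cast at hβe
      have : ((D.index : ℂ) * (χ : G → ℂ) k) * (Nat.card D : ℂ)
          = ((Cfsg.charDegree (χ : G → ℂ) : ℂ) *
            (Nat.card (S.map (QuotientGroup.mk' D)) : ℂ) * β) * (Nat.card D : ℂ) := by
        rw [← sub_eq_zero]
        rw [← sub_eq_zero] at hβe
        rw [← hβe]; ring
      exact mul_right_cancel₀ hDne this)
  convert hmain using 1
  funext g
  rw [thetaFn_central_eq p D (χ : G → ℂ) φ hφ g]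

/-- `χ` vanishes on the elements whose `p`-part is not in `D` -/
theorem central_defect_vanish (p : ℕ) [hp : Fact p.Prime] (D : Subgroup G)
    (hDZ : D ≤ Subgroup.center G) (χ : Cfsg.IrrCharacter G)
    (hdeg : D.index.factorization p ≤ (Cfsg.charDegree (χ : G → ℂ)).factorization p) [Fintype G] :
    (∀ g, pPt p g ∉ D → (χ : G → ℂ) g = 0) ∧
      Cfsg.classInner (fun g => if pPt p g ∈ D then (χ : G → ℂ) g else 0)
        (fun g => if pPt p g ∈ D then (χ : G → ℂ) g else 0) = 1 := by
  apply eq_zero_of_truncation_isGeneralizedCharacter χ (fun g => pPt p g ∈ D)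
  · show pPt p (1 : G) ∈ D
    rw [pPt_one]; exact D.one_mem
  · exact isGeneralizedCharacter_central_truncation p D hDZ χ hdeg

theorem hom_mul_conj_eq_one {A : Type*} [Group A] [Finite A] (φ : A →* ℂˣ) (u : A) :
    ((φ u : ℂˣ) : ℂ) * conj ((φ u : ℂˣ) : ℂ) = 1 := by
  have h1 : ((φ u : ℂˣ) : ℂ) ^ Nat.card A = 1 := by
    rw [← Units.val_pow_eq_pow_val, ← map_pow, pow_card_eq_one', map_one, Units.val_one]
  have h2 := Complex.norm_eq_one_of_pow_eq_one h1 Nat.card_pos.ne'
  rw [Complex.mul_conj, Complex.normSq_eq_norm_sq, h2]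
  simp

/-- the sum of `|χ(y)|²` over the `p`-regular elements -/
theorem central_defect_sum_regular (p : ℕ) [hp : Fact p.Prime] (D : Subgroup G)
    (hD : IsPGroup p D) (hDZ : D ≤ Subgroup.center G) (χ : Cfsg.IrrCharacter G)
    (hdeg : D.index.factorization p ≤ (Cfsg.charDegree (χ : G → ℂ)).factorization p) [Fintype G] :
    (∑ y : G, if p ∣ orderOf y then 0 else (χ : G → ℂ) y * conj ((χ : G → ℂ) y))
      = (D.index : ℂ) := by
  letI : Fintype D := Fintype.ofFinite D
  obtain ⟨φ, hφ⟩ := exists_central_hom χ D hDZ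
  have h1 := (central_defect_vanish p D hDZ χ hdeg).2
  have h2 : (fun g => if pPt p g ∈ D then (χ : G → ℂ) g else 0)
      = thetaFn p D (coeFunHom D φ) (χ : G → ℂ) := by
    funext g
    rw [thetaFn_central_eq p D (χ : G → ℂ) φ hφ g]
  rw [h2, classInner_thetaFn p D hD (fun y _ u hu =>
    (Subgroup.mem_center_iff.mp (hDZ hu) y).symm)] at h1
  have h3 : (∑ u : D, coeFunHom D φ u * conj (coeFunHom D φ u)) = (Nat.card D : ℂ) := by
    rw [Finset.sum_congr rfl (fun u _ => by rw [coeFunHom_apply, hom_mul_conj_eq_one φ u]),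
      Finset.sum_const, Finset.card_univ, ← Nat.card_eq_fintype_card]
    simp
  rw [h3, ← Subgroup.index_mul_card D] at h1
  have hDne : (Nat.card D : ℂ) ≠ 0 := by exact_mod_cast Nat.card_pos.ne'
  have hIne : (D.index : ℂ) ≠ 0 := by
    exact_mod_cast (Subgroup.index_ne_zero_of_finite (H := D))
  push_cast at h1
  field_simp at h1
  rw [h1]

/-- `D` is a defect group of the block of `χ` -/
theorem central_defect_isDefectGroup (p : ℕ) [hp : Fact p.Prime] (M : Ideal Cfsg.AlgInt)
    (hM : Cfsg.IsPModular p M) (D : Subgroup G) (hD : IsPGroup p D)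
    (hDZ : D ≤ Subgroup.center G) (χ : Cfsg.IrrCharacter G)
    (hdeg : (Cfsg.charDegree (χ : G → ℂ)).factorization p = D.index.factorization p) :
    Cfsg.IsDefectGroup p M (Cfsg.blockOf M (χ : G → ℂ)) D := by
  letI : Fintype G := Fintype.ofFinite G
  set B := Cfsg.blockOf M (χ : G → ℂ) with hBdef
  have hB : Cfsg.IsPBlock M B := ⟨χ, rfl⟩
  have hχB : χ ∈ B := mem_blockOf_self hM χ
  have hχc : Cfsg.IsCharacter G (χ : G → ℂ) := IsIrrCharacter.isCharacter χ.2
  have hd : (χ : G → ℂ) 1 = (Cfsg.charDegree (χ : G → ℂ) : ℂ) :=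
    Cfsg.Agent.Lib.Helper25.char_one_eq_charDegree hχc
  set d₀ := Cfsg.charDegree (χ : G → ℂ) with hd₀
  have hd₀pos : d₀ ≠ 0 := (irr_charDegree_pos χ).ne'
  have hR := central_defect_sum_regular p D hD hDZ χ hdeg.ge
  -- the class function `a`
  set a : G → ℂ := fun y => if p ∣ orderOf y then 0 else conj ((χ : G → ℂ) y) with hadef
  have ha : Cfsg.IsClassFunction G a := by
    intro g h
    have h1 : orderOf (h * g * h⁻¹) = orderOf g := by
      have := (MulAut.conj h).orderOf_eq g
      simpa [MulAut.conj_apply] using this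
    rw [hadef]
    simp only [h1, IsCharacter.isClassFunction hχc g h]
  have hint : ∀ g, Cfsg.MemLocalRing M (a g) := by
    intro g
    rw [hadef]
    simp only
    by_cases hg : p ∣ orderOf g
    · rw [if_pos hg]; exact memLocalRing_zero hM
    · rw [if_neg hg]
      exact memLocalRing_of_isIntegral hM (irr_value_conj_isIntegral χ g)
  have homega : omega (χ : G → ℂ) a = (D.index : ℂ) * 1 / (d₀ : ℂ) := by
    unfold omega
    rw [hd, mul_one, ← hR]
    congr 1
    apply Finset.sum_congr rfl
    intro g _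
    rw [hadef]
    simp only
    by_cases hg : p ∣ orderOf g
    · rw [if_pos hg, if_pos hg, zero_mul]
    · rw [if_neg hg, if_neg hg, mul_comm]
  have hne : ¬ Cfsg.MemLocalIdeal M (omega (χ : G → ℂ) a) := by
    rw [homega]
    exact not_memLocalIdeal_nat_mul_div hM hd₀pos Subgroup.index_ne_zero_of_finite hdeg.ge
      (memLocalRing_one hM) (not_memLocalIdeal_one hM)
  obtain ⟨g, hag, hωg⟩ := exists_not_memLocalIdeal_of_omega hM χ a ha hint hne
  have hgreg : ¬ p ∣ orderOf g := by
    intro hg
    apply hag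
    rw [hadef]
    simp only
    rw [if_pos hg]
    exact memLocalIdeal_zero hM
  have hχg : ¬ Cfsg.MemLocalIdeal M (conj ((χ : G → ℂ) g)) := by
    intro h
    apply hag
    rw [hadef]
    simp only
    rw [if_neg hgreg]
    exact h
  set C := Subgroup.centralizer ({g} : Set G) with hC
  set c := (Nat.card C).factorization p with hc
  set d := (Nat.card D).factorization p with hdd
  set a₀ := (Nat.card G).factorization p with ha₀
  have hDcard : Nat.card D = p ^ d := by
    obtain ⟨n, hn⟩ := IsPGroup.iff_card.mp hD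
    rw [hdd, hn, Nat.factorization_pow, Finsupp.smul_apply, Nat.Prime.factorization_self hp.out]
    simp
  have ha₀d : a₀ = D.index.factorization p + d := by
    rw [ha₀, ← Subgroup.index_mul_card D,
      Nat.factorization_mul Subgroup.index_ne_zero_of_finite Nat.card_pos.ne', Finsupp.add_apply]
  have hcd : c ≤ d := by
    by_contra hlt
    push Not at hlt
    obtain ⟨Q⟩ : Nonempty (Sylow p C) := inferInstance
    set Q' := (Q : Subgroup C).map C.subtype with hQ'
    have hQ'card : Nat.card Q' = p ^ c := by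
      rw [hQ', Subgroup.card_map_of_injective C.subtype_injective, Sylow.card_eq_multiplicity]
    have hQ'cent : ∀ u ∈ Q', u * g⁻¹ = g⁻¹ * u := by
      rintro u ⟨v, _, rfl⟩
      have hv : (v : G) ∈ Subgroup.centralizer ({g} : Set G) := v.2
      rw [Subgroup.mem_centralizer_singleton_iff] at hv
      have : Commute (v : G) g := hv
      exact this.inv_right.eq
    obtain ⟨β, hβ, hβe⟩ := card_mul_irr_eq χ g⁻¹ Q' hQ'cent
    rw [IsCharacter.apply_inv hχc, hQ'card, hd] at hβe
    apply hχg
    have hcpos : 1 ≤ c := by omega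
    have hkey : conj ((χ : G → ℂ) g)
        = ((d₀ * p ^ (c - 1) : ℕ) : ℂ) * ((p : ℂ) * β) / ((Nat.card G : ℕ) : ℂ) := by
      have hGne : (Nat.card G : ℂ) ≠ 0 := by exact_mod_cast Nat.card_pos.ne'
      rw [eq_div_iff hGne, mul_comm, hβe]
      have : p ^ c = p ^ (c - 1) * p := by
        rw [← pow_succ, Nat.sub_add_cancel hcpos]
      rw [this]
      push_cast
      ring
    rw [hkey]
    apply memLocalIdeal_nat_mul_div hM Nat.card_pos.ne'
    · rw [Nat.factorization_mul hd₀pos (pow_pos hp.out.pos _).ne', Finsupp.add_apply,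
        Nat.factorization_pow, Finsupp.smul_apply, Nat.Prime.factorization_self hp.out, hdeg,
        ← ha₀, ha₀d]
      simp only [smul_eq_mul, mul_one]
      omega
    · exact mul_ne_zero hd₀pos (pow_pos hp.out.pos _).ne'
    · apply memLocalIdeal_mul_right hM _ (memLocalRing_of_isIntegral hM hβ)
      exact (memLocalIdeal_natCast_iff hM p).mpr dvd_rfl
  -- the defect of the block
  set S := (fun ψ : Cfsg.IrrCharacter G => (Cfsg.charDegree (ψ : G → ℂ)).factorization p) '' B
    with hS
  have hSne : S.Nonempty := ⟨_, χ, hχB, rfl⟩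
  have hdefect : Cfsg.blockDefect p B = d := by
    unfold Cfsg.blockDefect
    rw [← hS, ← ha₀]
    apply le_antisymm
    · obtain ⟨ψ, hψB, hψeq⟩ := Nat.sInf_mem hSne
      have hωψ : ¬ Cfsg.MemLocalIdeal M (Cfsg.centralChar (ψ : G → ℂ) g) := by
        intro h
        apply hωg
        have h2 := memLocalIdeal_add hM (hψB g) h
        rwa [sub_add_cancel] at h2
      have h3 := factorization_index_le_of_centralChar hM ψ g hωψ
      rw [factorization_index_centralizer g, ← ha₀, ← hC, ← hc] at h3
      simp only at hψeq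
      rw [hψeq] at h3
      omega
    · have h4 : sInf S ≤ d₀.factorization p := Nat.sInf_le ⟨χ, hχB, rfl⟩
      rw [hdeg] at h4
      omega
  obtain ⟨g₀, hg₀⟩ := exists_isDefectClass hM B hB
  have h5 := blockDefect_eq_of_isDefectClass hM B hB g₀ hg₀
  apply isDefectGroup_of_le_centralizer hg₀ D
  · intro z hz
    rw [Subgroup.mem_centralizer_singleton_iff]
    exact (Subgroup.mem_center_iff.mp (hDZ hz) g₀).symm
  · rw [← h5, hdefect, hDcard]

end Cfsg.Agent.Lib.Helper7
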