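import Mathlib
import Cfsg.Prelude.Def_Blocks
import Cfsg.Agent.Lib.Helper7.RegularDetermines
import Cfsg.Agent.Lib.Helper7.NormalDefect
import Cfsg.Agent.Lib.Helper7.PPart2

/-!
# Blocks of `G ⧸ P` for a normal `p`-subgroup `P` (helper7 library)

* `comap_centralizer_mk`: for `x` of order prime to `p` centralizing the normal `p`-subgroup `P`,
  the preimage of `C_{G/P}(xP)` is `C_G(x)`.
* `centralChar_inflation`: the central character of an inflated function at such an `x`.
* `exists_regular_lift`: `p`-regular elements of `G ⧸ P` lift to `p`-regular elements.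
* `sameBlock_inflation_iff`: if `C_G(P)` has `p`-power index, two characters of `G ⧸ P` are in
  the same block iff their inflations are.
-/

set_option autoImplicit false

namespace Cfsg.Agent.Lib.Helper7

open Cfsg.Agent.Lib.Helper2 Cfsg.Agent.Lib.Helper24
open scoped ComplexConjugate

section

variable {G : Type*} [Group G] {p : ℕ} [hp : Fact p.Prime]

theorem conj_pow_of_comm {x g u : G} (h1 : x⁻¹ * g * x = g * u) (h2 : x * u = u * x) (k : ℕ) :
    (x ^ k)⁻¹ * g * x ^ k = g * u ^ k := by
  induction k with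
  | zero => simp
  | succ k ih =>
    have hxu : x⁻¹ * u ^ k * x = u ^ k := by
      have hc : Commute x (u ^ k) := (show Commute x u from h2).pow_right k
      have : x⁻¹ * u ^ k * x = x⁻¹ * (u ^ k * x) := by group
      rw [this, ← hc.eq]; group
    calc (x ^ (k + 1))⁻¹ * g * x ^ (k + 1)
        = x⁻¹ * ((x ^ k)⁻¹ * g * x ^ k) * x := by rw [pow_succ]; group
      _ = x⁻¹ * (g * u ^ k) * x := by rw [ih]
      _ = (x⁻¹ * g * x) * (x⁻¹ * u ^ k * x) := by group
      _ = g * u * u ^ k := by rw [h1, hxu]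
      _ = g * u ^ (k + 1) := by rw [pow_succ']; group

/-- for `x` of order prime to `p` centralizing the normal `p`-subgroup `P`, the preimage of
`C_{G/P}(xP)` is `C_G(x)` -/
theorem comap_centralizer_mk [Finite G] (P : Subgroup G) [P.Normal] (hP : IsPGroup p P) (x : G)
    (hx : ¬ p ∣ orderOf x) (hxP : x ∈ Subgroup.centralizer (P : Set G)) :
    (Subgroup.centralizer ({(x : G ⧸ P)} : Set (G ⧸ P))).comap (QuotientGroup.mk' P)
      = Subgroup.centralizer ({x} : Set G) := by
  ext g
  rw [Subgroup.mem_comap, Subgroup.mem_centralizer_singleton_iff,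
    Subgroup.mem_centralizer_singleton_iff]
  constructor
  · intro h
    have h1 : ((g * x : G) : G ⧸ P) = ((x * g : G) : G ⧸ P) := h
    have hu : (g * x)⁻¹ * (x * g) ∈ P := QuotientGroup.eq.mp h1
    -- work with the inverse of `x`
    set u := (g * x)⁻¹ * (x * g) with hu_def
    have e1 : x * g * x⁻¹ = g * (x * u * x⁻¹) := by rw [hu_def]; group
    have hxu : x * u = u * x := ((Subgroup.mem_centralizer_iff.mp hxP) u hu).symm
    have e2 : x * u * x⁻¹ = u := by rw [hxu]; group
    rw [e2] at e1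
    have e3 : (x⁻¹)⁻¹ * g * x⁻¹ = g * u := by rw [inv_inv]; exact e1
    have e4 : x⁻¹ * u = u * x⁻¹ := by
      have : Commute x u := hxu
      exact this.inv_left.eq
    have e5 := conj_pow_of_comm e3 e4 (orderOf x)
    rw [inv_pow, pow_orderOf_eq_one, inv_one, inv_one, one_mul, mul_one] at e5
    have e6 : u ^ orderOf x = 1 := by
      have : g * u ^ orderOf x = g * 1 := by rw [mul_one]; exact e5.symm
      exact mul_left_cancel this
    obtain ⟨j, hj⟩ := (IsPGroup.iff_orderOf.mp hP) ⟨u, hu⟩
    have hj' : orderOf u = p ^ j := by rw [← hj, Subgroup.orderOf_mk]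
    have h3 : orderOf u ∣ orderOf x := orderOf_dvd_of_pow_eq_one e6
    have hcop : Nat.Coprime (p ^ j) (orderOf x) :=
      Nat.Coprime.pow_left _ ((Nat.Prime.coprime_iff_not_dvd hp.out).mpr hx)
    have h4 : p ^ j = 1 := Nat.eq_one_of_dvd_coprimes hcop (dvd_refl _) (hj' ▸ h3)
    rw [h4] at hj'
    have hu1 : u = 1 := orderOf_eq_one_iff.mp hj'
    rw [hu_def, inv_mul_eq_one] at hu1
    exact hu1
  · intro h
    show ((g * x : G) : G ⧸ P) = ((x * g : G) : G ⧸ P)
    rw [h]

/-- the central character of an inflated function at an element of order prime to `p`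
centralizing the normal `p`-subgroup `P` -/
theorem centralChar_inflation [Finite G] (P : Subgroup G) [P.Normal] (hP : IsPGroup p P) (x : G)
    (hx : ¬ p ∣ orderOf x) (hxP : x ∈ Subgroup.centralizer (P : Set G)) (f : G ⧸ P → ℂ) :
    Cfsg.centralChar (f ∘ QuotientGroup.mk) x = Cfsg.centralChar f (x : G ⧸ P) := by
  unfold Cfsg.centralChar
  rw [← comap_centralizer_mk P hP x hx hxP,
    Subgroup.index_comap_of_surjective _ (QuotientGroup.mk'_surjective P)]
  rfl

/-- `p`-regular elements of a quotient lift to `p`-regular elements -/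
theorem exists_regular_lift [Finite G] (P : Subgroup G) [P.Normal] (q : G ⧸ P)
    (hq : ¬ p ∣ orderOf q) : ∃ x : G, (x : G ⧸ P) = q ∧ ¬ p ∣ orderOf x := by
  obtain ⟨g, rfl⟩ := QuotientGroup.mk_surjective q
  obtain ⟨z, hz⟩ := exists_isPPart p g (isOfFinOrder_of_finite g)
  have hz' := isPPart_map p (QuotientGroup.mk' P) hz
  have h1 : (QuotientGroup.mk' P) z = 1 := isPPart_eq_one_of_regular p hq hz'
  obtain ⟨y, hzy, _, _, hy⟩ := hz
  refine ⟨y, ?_, hy⟩
  have : (QuotientGroup.mk' P) g = (QuotientGroup.mk' P) z * (QuotientGroup.mk' P) y := by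
    rw [← map_mul, hzy]
  rw [h1, one_mul] at this
  exact this.symm

end

section Blocks

variable {G : Type*} [Group G] [Fintype G] {p : ℕ} [hp : Fact p.Prime] {M : Ideal Cfsg.AlgInt}

/-- If `C_G(P)` has `p`-power index for the normal `p`-subgroup `P`, two irreducible characters of
`G ⧸ P` lie in the same block iff their inflations do. -/
theorem sameBlock_inflation_iff (hM : Cfsg.IsPModular p M) (P : Subgroup G) [P.Normal]
    (hP : IsPGroup p P) (hC : ∃ k : ℕ, (Subgroup.centralizer (P : Set G)).index = p ^ k)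
    (χ ψ : Cfsg.IrrCharacter (G ⧸ P)) :
    Cfsg.SameBlock M (χ : G ⧸ P → ℂ) (ψ : G ⧸ P → ℂ) ↔
      Cfsg.SameBlock M ((χ : G ⧸ P → ℂ) ∘ QuotientGroup.mk)
        ((ψ : G ⧸ P → ℂ) ∘ QuotientGroup.mk) := by
  classical
  letI : Fintype (G ⧸ P) := Fintype.ofFinite _
  have hcent : ∀ x : G, ¬ p ∣ orderOf x → x ∈ Subgroup.centralizer (P : Set G) := fun x hx =>
    mem_of_regular_of_index_pow _ hp.out hC x hx
  constructor
  · intro h
    have h1 := mem_blockOf_of_regular hM
      (⟨_, Cfsg.Agent.Lib.Helper25.isIrrCharacter_inflation P χ.2⟩ : Cfsg.IrrCharacter G)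
      (⟨_, Cfsg.Agent.Lib.Helper25.isIrrCharacter_inflation P ψ.2⟩ : Cfsg.IrrCharacter G)
      (by
        intro x hx
        have e1 := centralChar_inflation P hP x hx (hcent x hx) (χ : G ⧸ P → ℂ)
        have e2 := centralChar_inflation P hP x hx (hcent x hx) (ψ : G ⧸ P → ℂ)
        show Cfsg.MemLocalIdeal M (Cfsg.centralChar ((χ : G ⧸ P → ℂ) ∘ QuotientGroup.mk) x
          - Cfsg.centralChar ((ψ : G ⧸ P → ℂ) ∘ QuotientGroup.mk) x)
        rw [e1, e2]
        exact h _)
    exact h1
  · intro h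
    have h1 := mem_blockOf_of_regular hM χ ψ (by
      intro q hq
      obtain ⟨x, rfl, hx⟩ := exists_regular_lift P q hq
      have e1 := centralChar_inflation P hP x hx (hcent x hx) (χ : G ⧸ P → ℂ)
      have e2 := centralChar_inflation P hP x hx (hcent x hx) (ψ : G ⧸ P → ℂ)
      rw [← e1, ← e2]
      exact h x)
    exact h1

end Blocks

end Cfsg.Agent.Lib.Helper7
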