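import Mathlib
import Cfsg.Prelude.Def_Blocks
import Cfsg.Agent.Lib.Helper2.Regular
import Cfsg.Agent.Lib.Helper7.CentralDefect
import Cfsg.Agent.Lib.Helper7.NormalDefect
import Cfsg.Agent.Lib.Helper7.QuotientPGroup
import Cfsg.Agent.Lib.Helper7.RegularDetermines

/-!
# The canonical character of a block with `G = P C_G(P)` (helper7 library)

`P` a `p`-subgroup with `P ⊔ C_G(P) = ⊤`, `B` a block with defect group `P`.
-/

set_option autoImplicit false

namespace Cfsg.Agent.Lib.Helper7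

open Cfsg.Agent.Lib.Helper2 Cfsg.Agent.Lib.Helper24
open scoped ComplexConjugate Classical

universe u

variable {G : Type u} [Group G]

section group

theorem normal_of_sup_centralizer_eq_top (P : Subgroup G)
    (hG : P ⊔ Subgroup.centralizer (P : Set G) = ⊤) : P.Normal := by
  rw [← Subgroup.normalizer_eq_top_iff]
  apply top_le_iff.mp
  rw [← hG]
  exact sup_le Subgroup.le_normalizer (Subgroup.centralizer_le_normalizer _)

theorem exists_mul_of_sup_centralizer_eq_top (P : Subgroup G)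
    (hG : P ⊔ Subgroup.centralizer (P : Set G) = ⊤) (g : G) :
    ∃ u ∈ P, ∃ c ∈ Subgroup.centralizer (P : Set G), u * c = g := by
  haveI := normal_of_sup_centralizer_eq_top P hG
  have h : g ∈ ((P ⊔ Subgroup.centralizer (P : Set G) : Subgroup G) : Set G) := by
    rw [hG]; exact Set.mem_univ _
  rw [Subgroup.normal_mul] at h
  obtain ⟨u, hu, c, hc, huc⟩ := Set.mem_mul.mp h
  exact ⟨u, hu, c, hc, huc⟩

theorem exists_index_centralizer_pow [Finite G] {p : ℕ} [Fact p.Prime] (P : Subgroup G)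
    (hP : IsPGroup p P) (hG : P ⊔ Subgroup.centralizer (P : Set G) = ⊤) :
    ∃ k : ℕ, (Subgroup.centralizer (P : Set G)).index = p ^ k := by
  haveI := normal_of_sup_centralizer_eq_top P hG
  set C := Subgroup.centralizer (P : Set G) with hC
  let f : P →* G ⧸ C := (QuotientGroup.mk' C).comp P.subtype
  have hsurj : Function.Surjective f := by
    intro q
    obtain ⟨g, rfl⟩ := QuotientGroup.mk_surjective q
    obtain ⟨u, hu, c, hc, rfl⟩ := exists_mul_of_sup_centralizer_eq_top P hG g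
    refine ⟨⟨u, hu⟩, ?_⟩
    show ((u : G) : G ⧸ C) = ((u * c : G) : G ⧸ C)
    rw [QuotientGroup.eq]
    have : u⁻¹ * (u * c) = c := by group
    rw [this]; exact hc
  have hq : IsPGroup p (G ⧸ C) := hP.of_surjective f hsurj
  obtain ⟨k, hk⟩ := IsPGroup.iff_card.mp hq
  exact ⟨k, by rw [Subgroup.index_eq_card, hk]⟩

theorem conjFun_eq_of_sup_centralizer (P : Subgroup G) [hPn : P.Normal]
    (hG : P ⊔ Subgroup.centralizer (P : Set G) = ⊤) (lam : P → ℂ)
    (hlam : Cfsg.IsClassFunction P lam) (g : G) : conjFun P g lam = lam := by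
  funext x
  rw [conjFun_apply]
  obtain ⟨u, hu, c, hc, rfl⟩ := exists_mul_of_sup_centralizer_eq_top P hG g
  rw [← hlam x ⟨u, hu⟩]
  congr 1
  apply Subtype.ext
  have hcx : (x : G) * c = c * (x : G) := (Subgroup.mem_centralizer_iff.mp hc) x x.2
  show u * c * x * (u * c)⁻¹ = u * x * u⁻¹
  have : u * c * x * (u * c)⁻¹ = u * (c * x) * c⁻¹ * u⁻¹ := by group
  rw [this, ← hcx]; group

end group

section canonical

variable [Finite G] {p : ℕ} [hp : Fact p.Prime] {M : Ideal Cfsg.AlgInt}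

theorem charDegree_eq_of_deflation (N : Subgroup G) [N.Normal] (χ : G → ℂ) (ψ : G ⧸ N → ℂ)
    (h : ∀ g : G, χ g = ψ (g : G ⧸ N)) : Cfsg.charDegree χ = Cfsg.charDegree ψ := by
  unfold Cfsg.charDegree
  rw [h 1]
  rfl

/-- the degree of a character of `B` with `P` in its kernel -/
theorem canonical_degree (hM : Cfsg.IsPModular p M) (P : Subgroup G) [P.Normal]
    (B : Set (Cfsg.IrrCharacter G)) (hB : Cfsg.IsPBlock M B) (hD : Cfsg.IsDefectGroup p M B P)
    (θ : Cfsg.IrrCharacter G) (hθ : θ ∈ B)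
    (hker : ∀ x ∈ P, (θ : G → ℂ) x = (θ : G → ℂ) 1) :
    (Cfsg.charDegree (θ : G → ℂ)).factorization p = P.index.factorization p := by
  letI : Fintype G := Fintype.ofFinite G
  have hcard := card_of_isDefectGroup hM B hB P hD
  unfold Cfsg.blockDefect at hcard
  set S := (fun ψ : Cfsg.IrrCharacter G => (Cfsg.charDegree (ψ : G → ℂ)).factorization p) '' B
    with hS
  set a₀ := (Nat.card G).factorization p with ha₀
  have hdpos : Cfsg.charDegree (θ : G → ℂ) ≠ 0 := (irr_charDegree_pos θ).ne'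
  have h1 : sInf S ≤ (Cfsg.charDegree (θ : G → ℂ)).factorization p := Nat.sInf_le ⟨θ, hθ, rfl⟩
  have h2 : (Cfsg.charDegree (θ : G → ℂ)).factorization p ≤ a₀ :=
    (Nat.factorization_le_iff_dvd hdpos Nat.card_pos.ne').mpr
      (Cfsg.Agent.Lib.Helper25.charDegree_dvd_card θ.2) p
  have h3 : a₀ = P.index.factorization p + (Nat.card P).factorization p := by
    rw [ha₀, ← Subgroup.index_mul_card P,
      Nat.factorization_mul Subgroup.index_ne_zero_of_finite Nat.card_pos.ne', Finsupp.add_apply]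
  have h4 : (Nat.card P).factorization p = a₀ - sInf S := by
    rw [hcard, Nat.factorization_pow, Finsupp.smul_apply, Nat.Prime.factorization_self hp.out]
    simp
  apply le_antisymm
  · obtain ⟨ψ, hψ, hψe⟩ := Cfsg.Agent.Lib.Helper25.exists_deflation P θ.2 hker
    have h5 := Cfsg.Agent.Lib.Helper25.charDegree_dvd_card hψ
    rw [← charDegree_eq_of_deflation P (θ : G → ℂ) ψ hψe, ← Subgroup.index_eq_card] at h5
    exact (Nat.factorization_le_iff_dvd hdpos Subgroup.index_ne_zero_of_finite).mpr h5 p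
  · omega

/-- uniqueness of the character of `B` with `P` in its kernel -/
theorem canonical_unique (hM : Cfsg.IsPModular p M) (P : Subgroup G) [P.Normal]
    (hP : IsPGroup p P) (hC : ∃ k : ℕ, (Subgroup.centralizer (P : Set G)).index = p ^ k)
    (B : Set (Cfsg.IrrCharacter G)) (hB : Cfsg.IsPBlock M B) (hD : Cfsg.IsDefectGroup p M B P)
    (θ θ' : Cfsg.IrrCharacter G) (hθ : θ ∈ B) (hθ' : θ' ∈ B)
    (hker : ∀ x ∈ P, (θ : G → ℂ) x = (θ : G → ℂ) 1)
    (hker' : ∀ x ∈ P, (θ' : G → ℂ) x = (θ' : G → ℂ) 1) : θ = θ' := by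
  letI : Fintype G := Fintype.ofFinite G
  obtain ⟨ψ, hψ, hψe⟩ := Cfsg.Agent.Lib.Helper25.exists_deflation P θ.2 hker
  obtain ⟨ψ', hψ', hψe'⟩ := Cfsg.Agent.Lib.Helper25.exists_deflation P θ'.2 hker'
  have hsame := sameBlock_of_mem hM hB hθ hθ'
  have e1 : (θ : G → ℂ) = ψ ∘ QuotientGroup.mk := by funext g; exact hψe g
  have e2 : (θ' : G → ℂ) = ψ' ∘ QuotientGroup.mk := by funext g; exact hψe' g
  rw [e1, e2] at hsame
  have hsame' := (sameBlock_inflation_iff hM P hP hC ⟨ψ, hψ⟩ ⟨ψ', hψ'⟩).mpr hsame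
  have hdeg := canonical_degree hM P B hB hD θ hθ hker
  rw [charDegree_eq_of_deflation P (θ : G → ℂ) ψ hψe] at hdeg
  have hdvd := Cfsg.Agent.Lib.Helper25.charDegree_dvd_card hψ
  have hdpos : Cfsg.charDegree ψ ≠ 0 := (irr_charDegree_pos (⟨ψ, hψ⟩ : Cfsg.IrrCharacter (G ⧸ P))).ne'
  have hnd : ¬ p ∣ Nat.card (G ⧸ P) / Cfsg.charDegree ψ := by
    intro hd
    have hne : Nat.card (G ⧸ P) / Cfsg.charDegree ψ ≠ 0 := by
      apply Nat.ne_of_gt
      exact Nat.div_pos (Nat.le_of_dvd Nat.card_pos hdvd) (Nat.pos_of_ne_zero hdpos)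
    have h1 := (hp.out.dvd_iff_one_le_factorization hne).mp hd
    rw [Nat.factorization_div hdvd, Finsupp.tsub_apply, ← Subgroup.index_eq_card, hdeg] at h1
    omega
  have hsingle := (Cfsg.Agent.S0914.result p M hM (⟨ψ, hψ⟩ : Cfsg.IrrCharacter (G ⧸ P))).mp hnd
  have hmem : (⟨ψ', hψ'⟩ : Cfsg.IrrCharacter (G ⧸ P)) ∈ Cfsg.blockOf M ψ := hsame'
  rw [hsingle] at hmem
  have hψψ' : ψ' = ψ := congrArg Subtype.val hmem
  apply Subtype.ext
  rw [e1, e2, hψψ']

end canonical

section family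

variable [Finite G] {p : ℕ} [hp : Fact p.Prime] {M : Ideal Cfsg.AlgInt}

/-- `θ_λ` is a generalized character -/
theorem isGeneralizedCharacter_thetaFn_canonical (P : Subgroup G) [P.Normal]
    (hG : P ⊔ Subgroup.centralizer (P : Set G) = ⊤) (θ : Cfsg.IrrCharacter G)
    (hker : ∀ x ∈ P, (θ : G → ℂ) x = (θ : G → ℂ) 1)
    (hdeg : P.index.factorization p ≤ (Cfsg.charDegree (θ : G → ℂ)).factorization p)
    (lam : P → ℂ) (hlam : Cfsg.IsCharacter P lam) :
    Cfsg.IsGeneralizedCharacter G (thetaFn p P lam (θ : G → ℂ)) := by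
  letI : Fintype G := Fintype.ofFinite G
  have hθc : Cfsg.IsCharacter G (θ : G → ℂ) := IsIrrCharacter.isCharacter θ.2
  have hd : (θ : G → ℂ) 1 = (Cfsg.charDegree (θ : G → ℂ) : ℂ) :=
    Cfsg.Agent.Lib.Helper25.char_one_eq_charDegree hθc
  apply isGeneralizedCharacter_thetaFn p P lam hlam
    (conjFun_eq_of_sup_centralizer P hG lam (IsCharacter.isClassFunction hlam)) (θ : G → ℂ) hθc
    P.index (Cfsg.charDegree (θ : G → ℂ)) Subgroup.index_ne_zero_of_finite
    (irr_charDegree_pos θ).ne' hdeg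
  intro k _ S _ hSk
  obtain ⟨β, hβ, hβe⟩ := index_mul_irr_eq θ P hker k S hSk
  refine ⟨β, hβ, ?_⟩
  rw [hβe, hd]

/-- the truncation of `θ` is `θ_1` -/
theorem thetaFn_one_eq (P : Subgroup G) (θ : Cfsg.IrrCharacter G)
    (hker : ∀ x ∈ P, (θ : G → ℂ) x = (θ : G → ℂ) 1) (g : G) :
    thetaFn p P (fun _ => 1) (θ : G → ℂ) g = if pPt p g ∈ P then (θ : G → ℂ) g else 0 := by
  unfold thetaFn
  by_cases h : pPt p g ∈ P
  · rw [dif_pos h, if_pos h, one_mul]
    have hθc : Cfsg.IsCharacter G (θ : G → ℂ) := IsIrrCharacter.isCharacter θ.2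
    have := (Cfsg.Agent.Lib.Helper25.char_mul_of_mem_ker hθc (hker _ h) (pRg p g)).2
    rw [pPt_mul_pRg] at this
    exact this.symm
  · rw [dif_neg h, if_neg h]

/-- `θ` vanishes on the elements whose `p`-part is not in `P`, and the sum of `|θ|²` over the
`p`-regular elements is `|G : P|` -/
theorem canonical_vanish (P : Subgroup G) [P.Normal] (hP : IsPGroup p P)
    (hG : P ⊔ Subgroup.centralizer (P : Set G) = ⊤) (θ : Cfsg.IrrCharacter G)
    (hker : ∀ x ∈ P, (θ : G → ℂ) x = (θ : G → ℂ) 1)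
    (hdeg : P.index.factorization p ≤ (Cfsg.charDegree (θ : G → ℂ)).factorization p)
    [Fintype G] :
    (∀ g, pPt p g ∉ P → (θ : G → ℂ) g = 0) ∧
      (∑ y : G, if p ∣ orderOf y then 0 else (θ : G → ℂ) y * conj ((θ : G → ℂ) y))
        = (P.index : ℂ) := by
  letI : Fintype P := Fintype.ofFinite P
  have hgc := isGeneralizedCharacter_thetaFn_canonical P hG θ hker hdeg (fun _ => 1)
    (isCharacter_one' P)
  have hfun : thetaFn p P (fun _ => 1) (θ : G → ℂ)
      = fun g => if pPt p g ∈ P then (θ : G → ℂ) g else 0 := by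
    funext g; exact thetaFn_one_eq P θ hker g
  have htr := eq_zero_of_truncation_isGeneralizedCharacter θ (fun g => pPt p g ∈ P)
    (by show pPt p (1 : G) ∈ P; rw [pPt_one]; exact P.one_mem) (by rw [← hfun]; exact hgc)
  refine ⟨htr.1, ?_⟩
  have h1 := htr.2
  obtain ⟨k, hk⟩ := exists_index_centralizer_pow P hP hG
  have hcent : ∀ y : G, ¬ p ∣ orderOf y → ∀ u ∈ P, u * y = y * u := by
    intro y hy u hu
    have hyC := mem_of_regular_of_index_pow (Subgroup.centralizer (P : Set G)) hp.out ⟨k, hk⟩ y hy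
    exact (Subgroup.mem_centralizer_iff.mp hyC) u hu
  rw [← hfun, classInner_thetaFn p P hP hcent] at h1
  have h3 : (∑ u : P, (fun _ : P => (1 : ℂ)) u * conj ((fun _ : P => (1 : ℂ)) u))
      = (Nat.card P : ℂ) := by
    simp [Nat.card_eq_fintype_card]
  rw [h3, ← Subgroup.index_mul_card P] at h1
  have hPne : (Nat.card P : ℂ) ≠ 0 := by exact_mod_cast Nat.card_pos.ne'
  have hIne : (P.index : ℂ) ≠ 0 := by
    exact_mod_cast (Subgroup.index_ne_zero_of_finite (H := P))
  push_cast at h1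
  field_simp at h1
  rw [h1]

theorem memLocalRing_nat_mul_div (hM : Cfsg.IsPModular p M) {k n : ℕ} (hn : n ≠ 0)
    (hkn : n.factorization p ≤ k.factorization p) (hk : k ≠ 0) {z : ℂ}
    (hz : Cfsg.MemLocalRing M z) : Cfsg.MemLocalRing M ((k : ℂ) * z / (n : ℂ)) := by
  set i := n.factorization p with hi
  have hn' : p ^ i * (n / p ^ i) = n := Nat.ordProj_mul_ordCompl_eq_self n p
  have hn'nd : ¬ p ∣ n / p ^ i := Nat.not_dvd_ordCompl hp.out hn
  have hdk : p ^ i ∣ k := (hp.out.pow_dvd_iff_le_factorization hk).mpr hkn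
  obtain ⟨k', hk'⟩ := hdk
  have hpi : ((p ^ i : ℕ) : ℂ) ≠ 0 := by exact_mod_cast (pow_pos hp.out.pos i).ne'
  have hn'ne : ((n / p ^ i : ℕ) : ℂ) ≠ 0 := by
    intro h
    have : n / p ^ i = 0 := by exact_mod_cast h
    rw [this, mul_zero] at hn'
    exact hn hn'.symm
  have e : (k : ℂ) * z / (n : ℂ) = ((k' : ℂ) * z) * ((n / p ^ i : ℕ) : ℂ)⁻¹ := by
    conv_lhs => rw [← hn', hk']
    push_cast
    push_cast at hpi hn'ne
    field_simp
  rw [e]
  exact memLocalRing_mul hM (memLocalRing_mul hM (memLocalRing_natCast hM k') hz)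
    (memLocalRing_natCast_inv hM hn'nd)

/-- the value of `θ_λ` at a `p`-regular element -/
theorem thetaFn_of_regular (P : Subgroup G) (lam : P → ℂ) (χ : G → ℂ) {g : G}
    (hg : ¬ p ∣ orderOf g) : thetaFn p P lam χ g = lam 1 * χ g := by
  have h := thetaFn_mul p P lam χ (s := 1) (k := g) ⟨0, by simp⟩ hg (by simp)
  rw [one_mul, dif_pos P.one_mem] at h
  exact h

theorem not_dvd_orderOf_one : ¬ p ∣ orderOf (1 : G) := by
  rw [orderOf_one]
  exact fun h => hp.out.one_lt.ne' (Nat.dvd_one.mp h)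

/-- orthonormality of the `θ_λ` -/
theorem classInner_thetaFn_canonical (P : Subgroup G) [P.Normal] (hP : IsPGroup p P)
    (hG : P ⊔ Subgroup.centralizer (P : Set G) = ⊤) (θ : Cfsg.IrrCharacter G)
    (hker : ∀ x ∈ P, (θ : G → ℂ) x = (θ : G → ℂ) 1)
    (hdeg : P.index.factorization p ≤ (Cfsg.charDegree (θ : G → ℂ)).factorization p)
    [Fintype G] (lam lam' : Cfsg.IrrCharacter P) :
    Cfsg.classInner (thetaFn p P (lam : P → ℂ) (θ : G → ℂ))
      (thetaFn p P (lam' : P → ℂ) (θ : G → ℂ)) = if lam = lam' then 1 else 0 := by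
  letI : Fintype P := Fintype.ofFinite P
  obtain ⟨k, hk⟩ := exists_index_centralizer_pow P hP hG
  have hcent : ∀ y : G, ¬ p ∣ orderOf y → ∀ u ∈ P, u * y = y * u := by
    intro y hy u hu
    have hyC := mem_of_regular_of_index_pow (Subgroup.centralizer (P : Set G)) hp.out ⟨k, hk⟩ y hy
    exact (Subgroup.mem_centralizer_iff.mp hyC) u hu
  rw [classInner_thetaFn p P hP hcent, (canonical_vanish P hP hG θ hker hdeg).2]
  have h1 := classInner_irrCharacter lam lam'
  unfold Cfsg.classInner at h1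
  have hPne : (Nat.card P : ℂ) ≠ 0 := by exact_mod_cast Nat.card_pos.ne'
  have hIne : (P.index : ℂ) ≠ 0 := by
    exact_mod_cast (Subgroup.index_ne_zero_of_finite (H := P))
  have h2 : (∑ u : P, (lam : P → ℂ) u * conj ((lam' : P → ℂ) u))
      = (Nat.card P : ℂ) * (if lam = lam' then 1 else 0) := by
    rw [← h1]
    field_simp
  rw [h2, ← Subgroup.index_mul_card P]
  push_cast
  field_simp
  by_cases hl : lam = lam'
  · rw [if_pos hl, if_pos hl]
  · rw [if_neg hl, if_neg hl]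

/-- `θ_λ` is an irreducible character -/
theorem isIrrCharacter_thetaFn_canonical (P : Subgroup G) [P.Normal] (hP : IsPGroup p P)
    (hG : P ⊔ Subgroup.centralizer (P : Set G) = ⊤) (θ : Cfsg.IrrCharacter G)
    (hker : ∀ x ∈ P, (θ : G → ℂ) x = (θ : G → ℂ) 1)
    (hdeg : P.index.factorization p ≤ (Cfsg.charDegree (θ : G → ℂ)).factorization p)
    (lam : Cfsg.IrrCharacter P) :
    Cfsg.IsIrrCharacter G (thetaFn p P (lam : P → ℂ) (θ : G → ℂ)) := by
  letI : Fintype G := Fintype.ofFinite G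
  have hgc := isGeneralizedCharacter_thetaFn_canonical P hG θ hker hdeg (lam : P → ℂ)
    (IsIrrCharacter.isCharacter lam.2)
  have hnorm := classInner_thetaFn_canonical P hP hG θ hker hdeg lam lam
  rw [if_pos rfl] at hnorm
  rcases Cfsg.Agent.Lib.Helper11.IsGeneralizedCharacter.isSignedIrr_of_norm_one hgc hnorm with h | h
  · exact h
  · exfalso
    have h1 := Cfsg.Agent.Lib.Helper25.char_one_eq_charDegree (IsIrrCharacter.isCharacter h)
    have h2 := Cfsg.Agent.Lib.Helper25.char_one_eq_charDegree (IsIrrCharacter.isCharacter lam.2)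
    have h3 := Cfsg.Agent.Lib.Helper25.char_one_eq_charDegree (IsIrrCharacter.isCharacter θ.2)
    rw [Pi.neg_apply, thetaFn_of_regular P _ _ not_dvd_orderOf_one, h2, h3] at h1
    have h4 : -(((Cfsg.charDegree (lam : P → ℂ) * Cfsg.charDegree (θ : G → ℂ) : ℕ) : ℤ))
        = ((Cfsg.charDegree (-thetaFn p P (lam : P → ℂ) (θ : G → ℂ)) : ℕ) : ℤ) := by
      have : ((-(((Cfsg.charDegree (lam : P → ℂ) * Cfsg.charDegree (θ : G → ℂ) : ℕ) : ℤ)) : ℤ) : ℂ)
          = (((Cfsg.charDegree (-thetaFn p P (lam : P → ℂ) (θ : G → ℂ)) : ℕ) : ℤ) : ℂ) := by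
        push_cast
        rw [← h1]
      exact_mod_cast this
    have h5 := irr_charDegree_pos lam
    have h6 := irr_charDegree_pos θ
    have h7 : 0 < Cfsg.charDegree (lam : P → ℂ) * Cfsg.charDegree (θ : G → ℂ) := Nat.mul_pos h5 h6
    omega

/-- the irreducible character `θ_λ` -/
noncomputable def thetaIrr (P : Subgroup G) [P.Normal] (hP : IsPGroup p P)
    (hG : P ⊔ Subgroup.centralizer (P : Set G) = ⊤) (θ : Cfsg.IrrCharacter G)
    (hker : ∀ x ∈ P, (θ : G → ℂ) x = (θ : G → ℂ) 1)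
    (hdeg : P.index.factorization p ≤ (Cfsg.charDegree (θ : G → ℂ)).factorization p)
    (lam : Cfsg.IrrCharacter P) : Cfsg.IrrCharacter G :=
  ⟨thetaFn p P (lam : P → ℂ) (θ : G → ℂ), isIrrCharacter_thetaFn_canonical P hP hG θ hker hdeg lam⟩

theorem thetaIrr_injective (P : Subgroup G) [P.Normal] (hP : IsPGroup p P)
    (hG : P ⊔ Subgroup.centralizer (P : Set G) = ⊤) (θ : Cfsg.IrrCharacter G)
    (hker : ∀ x ∈ P, (θ : G → ℂ) x = (θ : G → ℂ) 1)
    (hdeg : P.index.factorization p ≤ (Cfsg.charDegree (θ : G → ℂ)).factorization p) :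
    Function.Injective (thetaIrr P hP hG θ hker hdeg) := by
  letI : Fintype G := Fintype.ofFinite G
  intro lam lam' h
  by_contra hne
  have h1 := classInner_thetaFn_canonical P hP hG θ hker hdeg lam lam'
  have h2 := classInner_thetaFn_canonical P hP hG θ hker hdeg lam lam
  rw [if_neg hne] at h1
  rw [if_pos rfl] at h2
  have h3 : thetaFn p P (lam : P → ℂ) (θ : G → ℂ) = thetaFn p P (lam' : P → ℂ) (θ : G → ℂ) :=
    congrArg Subtype.val h
  rw [← h3, h2] at h1
  exact one_ne_zero h1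

theorem thetaIrr_trivial (P : Subgroup G) [P.Normal] (hP : IsPGroup p P)
    (hG : P ⊔ Subgroup.centralizer (P : Set G) = ⊤) (θ : Cfsg.IrrCharacter G)
    (hker : ∀ x ∈ P, (θ : G → ℂ) x = (θ : G → ℂ) 1)
    (hdeg : P.index.factorization p ≤ (Cfsg.charDegree (θ : G → ℂ)).factorization p) :
    thetaIrr P hP hG θ hker hdeg (trivialIrr P) = θ := by
  letI : Fintype G := Fintype.ofFinite G
  apply Subtype.ext
  funext g
  show thetaFn p P (fun _ => 1) (θ : G → ℂ) g = (θ : G → ℂ) g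
  rw [thetaFn_one_eq P θ hker g]
  by_cases h : pPt p g ∈ P
  · rw [if_pos h]
  · rw [if_neg h, (canonical_vanish P hP hG θ hker hdeg).1 g h]

/-- `θ_λ` lies in the block of `θ` -/
theorem thetaIrr_mem_blockOf (hM : Cfsg.IsPModular p M) (P : Subgroup G) [P.Normal]
    (hP : IsPGroup p P)
    (hG : P ⊔ Subgroup.centralizer (P : Set G) = ⊤) (θ : Cfsg.IrrCharacter G)
    (hker : ∀ x ∈ P, (θ : G → ℂ) x = (θ : G → ℂ) 1)
    (hdeg : P.index.factorization p ≤ (Cfsg.charDegree (θ : G → ℂ)).factorization p)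
    (lam : Cfsg.IrrCharacter P) :
    thetaIrr P hP hG θ hker hdeg lam ∈ Cfsg.blockOf M (θ : G → ℂ) := by
  letI : Fintype G := Fintype.ofFinite G
  apply mem_blockOf_of_regular hM
  intro g hg
  have hl1 : (lam : P → ℂ) 1 ≠ 0 := Cfsg.Agent.Lib.Helper25.irr_one_ne_zero lam.2
  have hθ1 : (θ : G → ℂ) 1 ≠ 0 := Cfsg.Agent.Lib.Helper25.irr_one_ne_zero θ.2
  have : Cfsg.centralChar (θ : G → ℂ) g
      - Cfsg.centralChar ((thetaIrr P hP hG θ hker hdeg lam : Cfsg.IrrCharacter G) : G → ℂ) g = 0 := by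
    unfold Cfsg.centralChar
    show _ - _ * thetaFn p P (lam : P → ℂ) (θ : G → ℂ) g
      / thetaFn p P (lam : P → ℂ) (θ : G → ℂ) 1 = 0
    rw [thetaFn_of_regular P _ _ hg, thetaFn_of_regular P _ _ not_dvd_orderOf_one]
    field_simp
    ring
  rw [this]
  exact memLocalIdeal_zero hM

/-- the idempotent coefficients of the family `θ_λ` are local integers -/
theorem blockCoeff_range_thetaIrr_memLocalRing (hM : Cfsg.IsPModular p M) (P : Subgroup G)
    [P.Normal] (hP : IsPGroup p P)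
    (hG : P ⊔ Subgroup.centralizer (P : Set G) = ⊤) (θ : Cfsg.IrrCharacter G)
    (hker : ∀ x ∈ P, (θ : G → ℂ) x = (θ : G → ℂ) 1)
    (hdeg : P.index.factorization p ≤ (Cfsg.charDegree (θ : G → ℂ)).factorization p) (g : G) :
    Cfsg.MemLocalRing M (Cfsg.blockCoeff (Set.range (thetaIrr P hP hG θ hker hdeg)) g) := by
  letI : Fintype G := Fintype.ofFinite G
  letI : Fintype P := Fintype.ofFinite P
  letI : Fintype (Cfsg.IrrCharacter P) := Fintype.ofFinite _
  unfold Cfsg.blockCoeff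
  rw [finsum_mem_range (thetaIrr_injective P hP hG θ hker hdeg), finsum_eq_sum_of_fintype]
  have hθc : Cfsg.IsCharacter G (θ : G → ℂ) := IsIrrCharacter.isCharacter θ.2
  have hd : (θ : G → ℂ) 1 = (Cfsg.charDegree (θ : G → ℂ) : ℂ) :=
    Cfsg.Agent.Lib.Helper25.char_one_eq_charDegree hθc
  have hval : ∀ lam : Cfsg.IrrCharacter P,
      ((thetaIrr P hP hG θ hker hdeg lam : Cfsg.IrrCharacter G) : G → ℂ) 1
        * conj (((thetaIrr P hP hG θ hker hdeg lam : Cfsg.IrrCharacter G) : G → ℂ) g)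
      = (lam : P → ℂ) 1 * (θ : G → ℂ) 1 * conj (thetaFn p P (lam : P → ℂ) (θ : G → ℂ) g) := by
    intro lam
    show thetaFn p P (lam : P → ℂ) (θ : G → ℂ) 1 * _ = _
    rw [thetaFn_of_regular P _ _ not_dvd_orderOf_one]
    rfl
  rw [Finset.sum_congr rfl (fun lam _ => hval lam)]
  by_cases hu : pPt p g ∈ P
  · have hval2 : ∀ lam : Cfsg.IrrCharacter P,
        (lam : P → ℂ) 1 * (θ : G → ℂ) 1 * conj (thetaFn p P (lam : P → ℂ) (θ : G → ℂ) g)
        = ((θ : G → ℂ) 1 * conj ((θ : G → ℂ) (pRg p g)))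
          * ((lam : P → ℂ) 1 * (lam : P → ℂ) (⟨pPt p g, hu⟩ : P)⁻¹) := by
      intro lam
      unfold thetaFn
      rw [dif_pos hu, map_mul, IsCharacter.apply_inv (IsIrrCharacter.isCharacter lam.2)]
      ring
    rw [Finset.sum_congr rfl (fun lam _ => hval2 lam), ← Finset.mul_sum,
      sum_irr_degree_mul (G := P)]
    by_cases hu1 : (⟨pPt p g, hu⟩ : P)⁻¹ = 1
    · rw [if_pos hu1]
      have hu1' : pPt p g = 1 := by
        have := inv_eq_one.mp hu1
        exact congrArg Subtype.val this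
      have hreg : pRg p g = g := by
        unfold pRg
        rw [hu1']; group
      rw [hreg, ← Subgroup.index_mul_card P, hd]
      have hPne : (Nat.card P : ℂ) ≠ 0 := by exact_mod_cast Nat.card_pos.ne'
      have hIne : (P.index : ℂ) ≠ 0 := by
        exact_mod_cast (Subgroup.index_ne_zero_of_finite (H := P))
      have e : ((P.index * Nat.card P : ℕ) : ℂ)⁻¹
          * ((Cfsg.charDegree (θ : G → ℂ) : ℂ) * conj ((θ : G → ℂ) g) * (Nat.card P : ℂ))
          = (Cfsg.charDegree (θ : G → ℂ) : ℂ) * conj ((θ : G → ℂ) g) / (P.index : ℂ) := by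
        push_cast
        field_simp
      rw [e]
      exact memLocalRing_nat_mul_div hM Subgroup.index_ne_zero_of_finite hdeg
        (irr_charDegree_pos θ).ne' (memLocalRing_of_isIntegral hM (irr_value_conj_isIntegral θ g))
    · rw [if_neg hu1, mul_zero, mul_zero]
      exact memLocalRing_zero hM
  · have hval2 : ∀ lam : Cfsg.IrrCharacter P,
        (lam : P → ℂ) 1 * (θ : G → ℂ) 1 * conj (thetaFn p P (lam : P → ℂ) (θ : G → ℂ) g) = 0 := by
      intro lam
      unfold thetaFn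
      rw [dif_neg hu, map_zero, mul_zero]
    rw [Finset.sum_congr rfl (fun lam _ => hval2 lam), Finset.sum_const_zero, mul_zero]
    exact memLocalRing_zero hM

/-- the block of the canonical character is the family `θ_λ` -/
theorem blockOf_eq_range_thetaIrr (hM : Cfsg.IsPModular p M) (P : Subgroup G)
    [P.Normal] (hP : IsPGroup p P)
    (hG : P ⊔ Subgroup.centralizer (P : Set G) = ⊤) (θ : Cfsg.IrrCharacter G)
    (hker : ∀ x ∈ P, (θ : G → ℂ) x = (θ : G → ℂ) 1)
    (hdeg : P.index.factorization p ≤ (Cfsg.charDegree (θ : G → ℂ)).factorization p) :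
    Cfsg.blockOf M (θ : G → ℂ) = Set.range (thetaIrr P hP hG θ hker hdeg) := by
  letI : Fintype G := Fintype.ofFinite G
  apply Set.Subset.antisymm
  · apply blockOf_subset_of_memLocalRing hM _
      (blockCoeff_range_thetaIrr_memLocalRing hM P hP hG θ hker hdeg) θ
    exact ⟨trivialIrr P, thetaIrr_trivial P hP hG θ hker hdeg⟩
  · rintro _ ⟨lam, rfl⟩
    exact thetaIrr_mem_blockOf hM P hP hG θ hker hdeg lam

/-- the number of characters in the block -/
theorem card_blockOf_canonical (hM : Cfsg.IsPModular p M) (P : Subgroup G)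
    [P.Normal] (hP : IsPGroup p P)
    (hG : P ⊔ Subgroup.centralizer (P : Set G) = ⊤) (θ : Cfsg.IrrCharacter G)
    (hker : ∀ x ∈ P, (θ : G → ℂ) x = (θ : G → ℂ) 1)
    (hdeg : P.index.factorization p ≤ (Cfsg.charDegree (θ : G → ℂ)).factorization p) :
    Nat.card (Cfsg.blockOf M (θ : G → ℂ)) = Nat.card (ConjClasses P) := by
  letI : Fintype P := Fintype.ofFinite P
  rw [blockOf_eq_range_thetaIrr hM P hP hG θ hker hdeg,
    Nat.card_range_of_injective (thetaIrr_injective P hP hG θ hker hdeg), card_irrCharacter]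

end family

end Cfsg.Agent.Lib.Helper7
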