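import Mathlib
import Cfsg.Prelude.Def_Blocks
import Cfsg.Prelude.Def_Transfer
import Cfsg.Agent.Lib.Helper2.ThompsonDegrees
import Cfsg.Agent.Lib.Helper24.BlockDegreeSum
import Cfsg.Agent.Lib.Helper24.Principal
import Cfsg.Agent.Lib.Helper7.QuotientBlock
import Cfsg.Agent.Lib.Helper25.Kernel

/-!
# Linear characters of the principal block and normal `p`-complements (helper7)

* `normal_pcomplement_of_linear_extension`: if every linear character of a Sylow `p`-subgroup extends
  to `G` then `O^p(G)` is a normal `p`-complement (Tate).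
* `exists_linear_extension_of_principalBlock`: if every member of the principal block of degree
  prime to `p` is linear then every linear character of a Sylow `p`-subgroup extends to `G`.
* `hasNormalPComplement_of_principalBlock_linear` (Isaacs–Smith).
-/

set_option autoImplicit false
set_option linter.style.haveILetI false

namespace Cfsg.Agent.Lib.Helper7

open Cfsg.Agent.Lib.Helper2 Cfsg.Agent.Lib.Helper24
open scoped ComplexConjugate

section Tate

variable {G : Type*} [Group G] [Finite G]

/-- if every linear character of a Sylow `p`-subgroup extends to `G` then `O^p(G)` is a normal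
`p`-complement -/
theorem normal_pcomplement_of_linear_extension (p : ℕ) [Fact p.Prime]
    (hext : ∀ (P : Sylow p G) (μ : ↥(P : Subgroup G) →* ℂˣ),
      ∃ lam : G →* ℂˣ, ∀ x : ↥(P : Subgroup G), lam x = μ x) :
    (Cfsg.pResidual p G).Normal ∧ (Nat.card (Cfsg.pResidual p G)).Coprime p ∧
      ∃ k : ℕ, (Cfsg.pResidual p G).index = p ^ k := by
  classical
  have hp : p.Prime := Fact.out
  obtain ⟨P⟩ : Nonempty (Sylow p G) := inferInstance
  have h1 : (Cfsg.pResidual p G).subgroupOf (P : Subgroup G) ≤
      Cfsg.Agent.Lib.Lead.frattiniP p (P : Subgroup G) := by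
    intro x hx
    have hxR : (x : G) ∈ Cfsg.pResidual p G := Subgroup.mem_subgroupOf.mp hx
    have hxG' : (x : G) ∈ _root_.commutator G :=
      Cfsg.Agent.Lib.Lead.isPGroup_inf_pResidual_le_commutator (P : Subgroup G) P.2 ⟨x.2, hxR⟩
    apply (le_sup_left : _root_.commutator (P : Subgroup G) ≤ _)
    by_contra hxc
    have hne : Abelianization.of x ≠ 1 := by
      intro h
      apply hxc
      have : x ∈ (Abelianization.of : (P : Subgroup G) →* _).ker := h
      rwa [Abelianization.ker_of] at this
    obtain ⟨φ, hφ⟩ := CommGroup.exists_apply_ne_one_of_hasEnoughRootsOfUnity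
      (Abelianization (P : Subgroup G)) ℂ hne
    obtain ⟨lam, hlam⟩ := hext P (φ.comp Abelianization.of)
    apply hφ
    have h2 : lam ((x : ↥(P : Subgroup G)) : G) = 1 := by
      have : ((x : ↥(P : Subgroup G)) : G) ∈ lam.ker := by
        apply (Abelianization.commutator_subset_ker lam)
        exact hxG'
      exact this
    have h3 := hlam x
    rw [h2] at h3
    exact h3.symm
  have h2 := Cfsg.Agent.Lib.Lead.tate_general (P : Subgroup G) P.not_dvd_index h1
  rw [Cfsg.Agent.Lib.Lead.pResidual_eq_bot_of_isPGroup P.2] at h2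
  haveI hN : (Cfsg.pResidual p G).Normal := Cfsg.Agent.Lib.Helper13.pResidual_normal p
  refine ⟨hN, ?_, ?_⟩
  · rw [Nat.coprime_comm, Nat.Prime.coprime_iff_not_dvd hp]
    intro hdvd
    obtain ⟨y, hy⟩ := exists_prime_orderOf_dvd_card' (G := ↥(Cfsg.pResidual p G)) p hdvd
    have hyp : IsPGroup p (Subgroup.zpowers (y : G)) := by
      apply IsPGroup.of_card (n := 1)
      rw [Nat.card_zpowers, Subgroup.orderOf_coe, hy, pow_one]
    obtain ⟨Q, hQ⟩ := hyp.exists_le_sylow
    obtain ⟨g, hg⟩ := MulAction.exists_smul_eq G Q P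
    have hyQ : (y : G) ∈ (Q : Subgroup G) := hQ (Subgroup.mem_zpowers _)
    have hgy : g * (y : G) * g⁻¹ ∈ (P : Subgroup G) := by
      have h3 : g * (y : G) * g⁻¹ ∈ ((g • Q : Sylow p G) : Subgroup G) := by
        rw [Sylow.coe_subgroup_smul]
        exact ⟨(y : G), hyQ, by simp [MulAut.smul_def]⟩
      rwa [hg] at h3
    have hgyR : g * (y : G) * g⁻¹ ∈ Cfsg.pResidual p G := hN.conj_mem _ y.2 g
    have h4 : (⟨g * (y : G) * g⁻¹, hgy⟩ : (P : Subgroup G)) ∈
        (Cfsg.pResidual p G).subgroupOf (P : Subgroup G) := Subgroup.mem_subgroupOf.mpr hgyR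
    have h5 := h2 h4
    rw [Subgroup.mem_bot] at h5
    have h6 : g * (y : G) * g⁻¹ = 1 := congrArg Subtype.val h5
    have h7 : (y : G) = 1 := by
      have := congrArg (fun z => g⁻¹ * z * g) h6
      simpa [mul_assoc] using this
    have h8 : orderOf (y : G) = p := by rw [Subgroup.orderOf_coe, hy]
    rw [h7, orderOf_one] at h8
    exact hp.one_lt.ne h8
  · have hq : IsPGroup p (G ⧸ Cfsg.pResidual p G) :=
      Cfsg.Agent.Lib.Helper13.quotient_pResidual_isPGroup p
    obtain ⟨k, hk⟩ := IsPGroup.iff_card.mp hq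
    exact ⟨k, by rw [Subgroup.index_eq_card]; exact hk⟩

/-- a normal subgroup of order prime to `p` and `p`-power index gives a normal `p`-complement in
the sense of the statement language -/
theorem hasNormalPComplement_of_normal (p : ℕ) [Fact p.Prime] (N : Subgroup G) [N.Normal]
    (hN : (Nat.card N).Coprime p) (hidx : ∃ k : ℕ, N.index = p ^ k) :
    Cfsg.HasNormalPComplement p G := by
  have hp : p.Prime := Fact.out
  obtain ⟨P⟩ : Nonempty (Sylow p G) := inferInstance
  obtain ⟨k, hk⟩ := hidx
  refine ⟨P, N, inferInstance, ?_⟩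
  have hcard : Nat.card N * N.index = Nat.card G := Subgroup.card_mul_index N
  have hP := P.card_eq_multiplicity
  have hfac : (Nat.card G).factorization p = k := by
    rw [← hcard, hk, Nat.factorization_mul Nat.card_pos.ne' (pow_ne_zero _ hp.ne_zero)]
    simp only [Finsupp.coe_add, Pi.add_apply]
    rw [Nat.factorization_eq_zero_of_not_dvd
      (fun h => (Nat.Prime.coprime_iff_not_dvd hp).mp hN.symm h), hp.factorization_pow]
    simp
  rw [hfac] at hP
  apply Subgroup.isComplement'_of_coprime
  · rw [hP, ← hk]; exact hcard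
  · rw [hP]; exact Nat.Coprime.pow_right k hN

end Tate

section Block

variable {G : Type*} [Group G] [Finite G] {p : ℕ} {M : Ideal Cfsg.AlgInt}

theorem blockDefect_principalBlock_eq_factorization (hM : Cfsg.IsPModular p M) :
    Cfsg.blockDefect p (Cfsg.principalBlock M G) = (Nat.card G).factorization p := by
  unfold Cfsg.blockDefect
  have h0 : sInf ((fun χ : Cfsg.IrrCharacter G => (Cfsg.charDegree (χ : G → ℂ)).factorization p)
      '' Cfsg.principalBlock M G) = 0 := by
    apply Nat.le_zero.mp
    apply Nat.sInf_le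
    refine ⟨trivIrr G, trivIrr_mem_principalBlock hM, ?_⟩
    have : Cfsg.charDegree (trivIrr G : G → ℂ) = 1 := by
      unfold Cfsg.charDegree
      simp [trivIrr]
    simp only [this]
    simp
  rw [h0, Nat.sub_zero]

theorem blockHeight_principalBlock (hM : Cfsg.IsPModular p M) (χ : G → ℂ) :
    Cfsg.blockHeight p (Cfsg.principalBlock M G) χ = (Cfsg.charDegree χ).factorization p := by
  unfold Cfsg.blockHeight
  have h0 : sInf ((fun χ : Cfsg.IrrCharacter G => (Cfsg.charDegree (χ : G → ℂ)).factorization p)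
      '' Cfsg.principalBlock M G) = 0 := by
    apply Nat.le_zero.mp
    apply Nat.sInf_le
    refine ⟨trivIrr G, trivIrr_mem_principalBlock hM, ?_⟩
    have : Cfsg.charDegree (trivIrr G : G → ℂ) = 1 := by
      unfold Cfsg.charDegree
      simp [trivIrr]
    simp only [this]
    simp
  rw [h0, Nat.sub_zero]


/-- if every member of the principal block of degree prime to `p` is linear then every linear
character of a Sylow `p`-subgroup extends to `G` -/
theorem exists_linear_extension_of_principalBlock [Fact p.Prime] (hM : Cfsg.IsPModular p M)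
    (hlin : ∀ χ : Cfsg.IrrCharacter G, χ ∈ Cfsg.principalBlock M G →
      ¬ p ∣ Cfsg.charDegree (χ : G → ℂ) → Cfsg.charDegree (χ : G → ℂ) = 1)
    (P : Sylow p G) (μ : ↥(P : Subgroup G) →* ℂˣ) :
    ∃ lam : G →* ℂˣ, ∀ x : ↥(P : Subgroup G), lam x = μ x := by
  classical
  haveI : Fintype G := Fintype.ofFinite G
  haveI : Fintype ↥(P : Subgroup G) := Fintype.ofFinite _
  haveI : Fintype (Cfsg.IrrCharacter G) := Fintype.ofFinite _
  have hp : p.Prime := Fact.out
  set B := Cfsg.principalBlock M G with hBdef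
  have hB : Cfsg.IsPBlock M B := isPBlock_principalBlock
  set μ' : ↥(P : Subgroup G) → ℂ := fun x => (μ x : ℂ) with hμ'
  have hμirr : Cfsg.IsIrrCharacter ↥(P : Subgroup G) μ' := isIrrCharacter_of_monoidHom μ
  have hm : ∀ ξ : Cfsg.IrrCharacter G, ∃ n : ℕ,
      Cfsg.classInner (fun u : ↥(P : Subgroup G) => (ξ : G → ℂ) u) μ' = n :=
    fun ξ => classInner_isCharacter_nat
      (IsCharacter.restrict (IsIrrCharacter.isCharacter ξ.2) (P : Subgroup G))
      (IsIrrCharacter.isCharacter hμirr)
  choose m hm using hm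
  set d : Cfsg.IrrCharacter G → ℕ := fun ξ => Cfsg.charDegree (ξ : G → ℂ) with hd
  have hd1 : ∀ ξ : Cfsg.IrrCharacter G, (ξ : G → ℂ) 1 = (d ξ : ℂ) := fun ξ =>
    apply_one_eq_charDegree ξ
  -- the block part of the regular character vanishes at `p`-singular elements
  set f : G → ℂ := fun g => ∑ ξ : Cfsg.IrrCharacter G,
    (if ξ ∈ B then (ξ : G → ℂ) 1 * (ξ : G → ℂ) g else 0) with hf
  have hG0 : (Nat.card G : ℂ) ≠ 0 := Nat.cast_ne_zero.mpr Nat.card_pos.ne'
  have hsing : ∀ g : G, p ∣ orderOf g → f g = 0 := by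
    intro g hg
    have h0 := blockCoeff_eq_zero_of_singular hM B hB g hg
    rw [blockCoeff_eq_sum] at h0
    have h1 : (∑ ξ : Cfsg.IrrCharacter G,
        if ξ ∈ B then (ξ : G → ℂ) 1 * conj ((ξ : G → ℂ) g) else 0) = 0 := by
      rcases mul_eq_zero.mp h0 with h | h
      · exact absurd (inv_eq_zero.mp h) hG0
      · exact h
    have h2 := congrArg conj h1
    rw [map_sum, map_zero] at h2
    refine Eq.trans ?_ h2
    apply Finset.sum_congr rfl
    intro ξ _
    by_cases hξ : ξ ∈ B
    · rw [if_pos hξ, if_pos hξ, map_mul, Complex.conj_conj, hd1, Complex.conj_natCast]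
    · rw [if_neg hξ, if_neg hξ, map_zero]
  -- summing against `μ` over `P`
  have hPg : IsPGroup p (P : Subgroup G) := P.isPGroup'
  have hsumP : ∑ u : ↥(P : Subgroup G), f u * conj (μ' u) = f 1 := by
    rw [Finset.sum_eq_single (1 : ↥(P : Subgroup G))]
    · have : μ' 1 = 1 := by simp [hμ']
      rw [this, map_one, mul_one]
      rfl
    · intro u _ hu
      have : f (u : G) = 0 := by
        apply hsing
        obtain ⟨k, hk⟩ := (IsPGroup.iff_orderOf.1 hPg) u
        rw [Subgroup.orderOf_coe, hk]
        have hk0 : k ≠ 0 := by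
          rintro rfl
          rw [pow_zero, orderOf_eq_one_iff] at hk
          exact hu hk
        exact dvd_pow_self p hk0
      rw [this, zero_mul]
    · intro h
      exact absurd (Finset.mem_univ _) h
  have hPcard : Nat.card (P : Subgroup G) = p ^ (Nat.card G).factorization p :=
    P.card_eq_multiplicity
  have hP0 : (Nat.card (P : Subgroup G) : ℂ) ≠ 0 := Nat.cast_ne_zero.mpr Nat.card_pos.ne'
  have hsumP' : ∑ u : ↥(P : Subgroup G), f u * conj (μ' u)
      = ((Nat.card (P : Subgroup G) * ∑ ξ : Cfsg.IrrCharacter G,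
          (if ξ ∈ B then d ξ * m ξ else 0) : ℕ) : ℂ) := by
    have h1 : ∀ u : ↥(P : Subgroup G), f u * conj (μ' u)
        = ∑ ξ : Cfsg.IrrCharacter G,
          (if ξ ∈ B then (ξ : G → ℂ) 1 * ((ξ : G → ℂ) u * conj (μ' u)) else 0) := by
      intro u
      rw [hf]
      simp only
      rw [Finset.sum_mul]
      apply Finset.sum_congr rfl
      intro ξ _
      by_cases hξ : ξ ∈ B
      · rw [if_pos hξ, if_pos hξ]; ring
      · rw [if_neg hξ, if_neg hξ, zero_mul]
    rw [Finset.sum_congr rfl (fun u _ => h1 u), Finset.sum_comm]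
    push_cast
    rw [Finset.mul_sum]
    apply Finset.sum_congr rfl
    intro ξ _
    by_cases hξ : ξ ∈ B
    · simp only [if_pos hξ]
      rw [← Finset.mul_sum, hd1]
      have h2 := hm ξ
      rw [classInner_def] at h2
      have h3 : ∑ u : ↥(P : Subgroup G), (ξ : G → ℂ) u * conj (μ' u)
          = (Nat.card (P : Subgroup G) : ℂ) * (m ξ : ℂ) := by
        rw [← h2]
        field_simp
      rw [h3]
      ring
    · simp only [if_neg hξ]
      rw [Finset.sum_const_zero, mul_zero]
  have hf1 : f 1 = ((∑ ξ : Cfsg.IrrCharacter G, (if ξ ∈ B then d ξ ^ 2 else 0) : ℕ) : ℂ) := by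
    rw [hf]
    simp only
    push_cast
    apply Finset.sum_congr rfl
    intro ξ _
    by_cases hξ : ξ ∈ B
    · rw [if_pos hξ, if_pos hξ, hd1, sq]
    · rw [if_neg hξ, if_neg hξ]
  set S := ∑ ξ : Cfsg.IrrCharacter G, (if ξ ∈ B then d ξ ^ 2 else 0) with hS
  have hSeq : Nat.card (P : Subgroup G) * ∑ ξ : Cfsg.IrrCharacter G,
      (if ξ ∈ B then d ξ * m ξ else 0) = S := by
    have : ((Nat.card (P : Subgroup G) * ∑ ξ : Cfsg.IrrCharacter G,
        (if ξ ∈ B then d ξ * m ξ else 0) : ℕ) : ℂ) = (S : ℂ) := by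
      rw [← hsumP', hsumP, hf1]
    exact_mod_cast this
  have hSfac : S.factorization p = (Nat.card G).factorization p := by
    have := factorization_sum_sq hM B hB
    rw [blockDefect_principalBlock_eq_factorization hM] at this
    rw [hS]
    simp only [hd]
    rw [this]
    omega
  have hSpos : S ≠ 0 := by
    rw [hS]
    intro h0
    rw [Finset.sum_eq_zero_iff] at h0
    have h1 := h0 (trivIrr G) (Finset.mem_univ _)
    rw [if_pos (trivIrr_mem_principalBlock hM)] at h1
    have : d (trivIrr G) ≠ 0 := charDegree_ne_zero (trivIrr G)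
    exact this (by simpa using h1)
  -- the sum of multiplicities is prime to `p`
  have hnd : ¬ p ∣ ∑ ξ : Cfsg.IrrCharacter G, (if ξ ∈ B then d ξ * m ξ else 0) := by
    intro hdvd
    obtain ⟨c, hc⟩ := hdvd
    have h1 : p ^ ((Nat.card G).factorization p + 1) ∣ S := by
      rw [← hSeq, hPcard, hc, pow_succ]
      exact ⟨c, by ring⟩
    have h2 := (hp.pow_dvd_iff_le_factorization hSpos).mp h1
    omega
  have hex : ∃ ξ : Cfsg.IrrCharacter G, ξ ∈ B ∧ ¬ p ∣ d ξ ∧ m ξ ≠ 0 := by
    by_contra hcon
    push Not at hcon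
    apply hnd
    apply Finset.dvd_sum
    intro ξ _
    by_cases hξ : ξ ∈ B
    · rw [if_pos hξ]
      by_cases hdξ : p ∣ d ξ
      · exact Dvd.dvd.mul_right hdξ _
      · rw [hcon ξ hξ hdξ, mul_zero]
        exact dvd_zero p
    · rw [if_neg hξ]
      exact dvd_zero p
  obtain ⟨ξ, hξB, hξd, hξm⟩ := hex
  have hξ1 : (ξ : G → ℂ) 1 = 1 := by
    have h0 : d ξ = 1 := hlin ξ hξB hξd
    rw [hd1, h0]
    simp
  obtain ⟨lam, hlam⟩ := exists_monoidHom_of_isIrrCharacter_of_apply_one ξ.2 hξ1
  refine ⟨lam, ?_⟩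
  have hres : (fun h : ↥(P : Subgroup G) => (ξ : G → ℂ) h) =
      fun h => ((lam.comp (P : Subgroup G).subtype) h : ℂ) := by
    funext h
    rw [hlam]
    rfl
  have hresirr : Cfsg.IsIrrCharacter ↥(P : Subgroup G)
      (fun h : ↥(P : Subgroup G) => (ξ : G → ℂ) h) := by
    rw [hres]
    exact isIrrCharacter_of_monoidHom _
  have hne : Cfsg.classInner (fun h : ↥(P : Subgroup G) => (ξ : G → ℂ) h) μ' ≠ 0 := by
    rw [hm ξ]
    exact_mod_cast hξm
  have heq : (fun h : ↥(P : Subgroup G) => (ξ : G → ℂ) h) = μ' := by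
    by_contra hne'
    apply hne
    exact classInner_irrCharacter_ne (χ := ⟨_, hresirr⟩) (ψ := ⟨μ', hμirr⟩)
      (by intro h; exact hne' (congrArg Subtype.val h))
  intro x
  have h1 : (ξ : G → ℂ) (x : G) = μ' x := congrFun heq x
  rw [hlam] at h1
  exact Units.ext h1

/-- **Isaacs–Smith**: if every member of the principal block of degree prime to `p` is linear then
`G` has a normal `p`-complement -/
theorem hasNormalPComplement_of_principalBlock_linear [Fact p.Prime] (hM : Cfsg.IsPModular p M)
    (hlin : ∀ χ : Cfsg.IrrCharacter G, χ ∈ Cfsg.principalBlock M G →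
      ¬ p ∣ Cfsg.charDegree (χ : G → ℂ) → Cfsg.charDegree (χ : G → ℂ) = 1) :
    Cfsg.HasNormalPComplement p G := by
  obtain ⟨h1, h2, h3⟩ := normal_pcomplement_of_linear_extension (G := G) p
    (fun P μ => exists_linear_extension_of_principalBlock hM hlin P μ)
  haveI := h1
  exact hasNormalPComplement_of_normal p _ h2 h3

/-- with a normal `p`-complement, the members of the principal block have `p`-power degree -/
theorem charDegree_dvd_of_hasNormalPComplement [Fact p.Prime] (hM : Cfsg.IsPModular p M)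
    (h : Cfsg.HasNormalPComplement p G) (χ : Cfsg.IrrCharacter G)
    (hχ : χ ∈ Cfsg.principalBlock M G) :
    Cfsg.charDegree (χ : G → ℂ) ∣ p ^ (Nat.card G).factorization p := by
  classical
  haveI : Fintype G := Fintype.ofFinite G
  have hp : p.Prime := Fact.out
  obtain ⟨P, N, hN, hc⟩ := h
  haveI := hN
  haveI : Fintype N := Fintype.ofFinite _
  have hcard := hc.card_mul_card
  have hPcard : Nat.card (P : Subgroup G) = p ^ (Nat.card G).factorization p :=
    P.card_eq_multiplicity
  have hidx : N.index = p ^ (Nat.card G).factorization p := by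
    have h1 := Subgroup.card_mul_index N
    rw [← hcard] at h1
    have := Nat.eq_of_mul_eq_mul_left Nat.card_pos h1
    rw [this, hPcard]
  have hNp : ¬ p ∣ Nat.card N := by
    intro hdvd
    have h1 : p ∣ (P : Subgroup G).index := by
      have h2 := Subgroup.card_mul_index (P : Subgroup G)
      rw [← hcard, mul_comm (Nat.card N)] at h2
      have := Nat.eq_of_mul_eq_mul_left Nat.card_pos h2
      rw [this]
      exact hdvd
    exact P.not_dvd_index h1
  have hχ' : Cfsg.SameBlock M ((trivIrr G : Cfsg.IrrCharacter G) : G → ℂ) (χ : G → ℂ) := hχ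
  have hker := kernel_of_sameBlock N hM hNp (trivIrr G) χ (fun n _ => rfl) hχ'
  obtain ⟨ψ, hψ, hχψ⟩ := Cfsg.Agent.Lib.Helper25.exists_deflation N χ.2 hker
  have h1 := Cfsg.Agent.Lib.Helper25.charDegree_dvd_card hψ
  have h2 : Cfsg.charDegree (χ : G → ℂ) = Cfsg.charDegree ψ := by
    unfold Cfsg.charDegree
    rw [hχψ 1]
    rfl
  rw [h2, ← hidx, Subgroup.index_eq_card]
  exact h1

end Block

end Cfsg.Agent.Lib.Helper7
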