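import Mathlib
import Cfsg.Prelude.Def_Blocks
import Cfsg.Agent.Lib.Helper24.LocalRing

/-!
# Roots of unity of order prime to `p` and the residue field (helper7 library)

* `finite_order_of_isIntegral`: a nonzero element of a field, integral over `ZMod p`, has finite
  multiplicative order prime to `p`.
* `eq_of_root_sub_mem`: reduction modulo `M` is injective on roots of unity of order prime to `p`.
* `exists_root_sub_mem`: every algebraic integer outside `M` is congruent modulo `M` to a root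
  of unity of order prime to `p`.
-/

set_option autoImplicit false

namespace Cfsg.Agent.Lib.Helper7

open Cfsg.Agent.Lib.Helper24 Polynomial

theorem finite_order_of_isIntegral (p : ℕ) [Fact p.Prime] (k : Type*) [Field k] (x : k)
    (hx : x ≠ 0) [Algebra (ZMod p) k] (hint : IsIntegral (ZMod p) x) :
    ∃ n : ℕ, 0 < n ∧ ¬ p ∣ n ∧ x ^ n = 1 := by
  classical
  have hp : p.Prime := Fact.out
  haveI : FiniteDimensional (ZMod p) (IntermediateField.adjoin (ZMod p) {x}) :=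
    IntermediateField.adjoin.finiteDimensional hint
  haveI : Finite (IntermediateField.adjoin (ZMod p) {x}) :=
    Module.finite_of_finite (ZMod p)
  letI : Fintype (IntermediateField.adjoin (ZMod p) {x}) := Fintype.ofFinite _
  have hcard := Module.natCard_eq_pow_finrank (K := ZMod p)
    (V := IntermediateField.adjoin (ZMod p) {x})
  rw [Nat.card_zmod] at hcard
  set d := Module.finrank (ZMod p) (IntermediateField.adjoin (ZMod p) {x}) with hd
  have hdpos : 0 < d := Module.finrank_pos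
  have hx' : (⟨x, IntermediateField.mem_adjoin_simple_self (ZMod p) x⟩ :
      IntermediateField.adjoin (ZMod p) {x}) ≠ 0 := by
    intro h
    apply hx
    exact congrArg Subtype.val h
  have h1 := FiniteField.pow_card_sub_one_eq_one _ hx'
  rw [← Nat.card_eq_fintype_card, hcard] at h1
  refine ⟨p ^ d - 1, ?_, ?_, ?_⟩
  · have : 1 < p ^ d := Nat.one_lt_pow hdpos.ne' hp.one_lt
    omega
  · intro hdvd
    have h2 : p ∣ p ^ d := dvd_pow_self p hdpos.ne'
    have h3 : 1 ≤ p ^ d := Nat.one_le_pow _ _ hp.pos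
    have h4 : p ∣ p ^ d - (p ^ d - 1) := Nat.dvd_sub h2 hdvd
    have h5 : p ^ d - (p ^ d - 1) = 1 := by omega
    rw [h5] at h4
    exact hp.one_lt.ne' (Nat.dvd_one.mp h4)
  · have := congrArg Subtype.val h1
    simpa using this

variable {p : ℕ} {M : Ideal Cfsg.AlgInt}

/-- reduction modulo `M` is injective on roots of unity of order prime to `p` -/
theorem eq_of_root_sub_mem (hM : Cfsg.IsPModular p M) (ε₁ ε₂ : Cfsg.AlgInt)
    (h₁ : ∃ m : ℕ, ¬ p ∣ m ∧ (ε₁ : ℂ) ^ m = 1) (h₂ : ∃ m : ℕ, ¬ p ∣ m ∧ (ε₂ : ℂ) ^ m = 1)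
    (h : ε₁ - ε₂ ∈ M) : ε₁ = ε₂ := by
  obtain ⟨m₁, hm₁, he₁⟩ := h₁
  obtain ⟨m₂, hm₂, he₂⟩ := h₂
  have hp := hM.1
  set m := m₁ * m₂ with hm
  have hpm : ¬ p ∣ m := by
    intro hd
    rcases (Nat.Prime.dvd_mul hp).mp hd with h | h
    · exact hm₁ h
    · exact hm₂ h
  have hmpos : 0 < m := by
    rcases Nat.eq_zero_or_pos m with h0 | h0
    · rw [h0] at hpm; exact absurd (dvd_zero p) hpm
    · exact h0
  have e1 : ε₁ ^ m = 1 := by
    apply Subtype.ext
    push_cast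
    rw [hm, pow_mul, he₁, one_pow]
  have e2 : ε₂ ^ m = 1 := by
    apply Subtype.ext
    push_cast
    rw [hm, mul_comm, pow_mul, he₂, one_pow]
  -- ζ = ε₁ * ε₂ ^ (m - 1)
  have e2' : ε₂ * ε₂ ^ (m - 1) = 1 := by
    rw [← pow_succ', Nat.sub_add_cancel hmpos, e2]
  set ζ := ε₁ * ε₂ ^ (m - 1) with hζ
  have hζ1 : ζ - 1 ∈ M := by
    have : ζ - 1 = (ε₁ - ε₂) * ε₂ ^ (m - 1) := by
      rw [hζ, sub_mul, e2']
    rw [this]
    exact Ideal.mul_mem_right _ _ h
  have hζm : ζ ^ m = 1 := by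
    rw [hζ, mul_pow, e1, one_mul, ← pow_mul, mul_comm, pow_mul, e2, one_pow]
  have hgeom := mul_geom_sum ζ m
  rw [hζm, sub_self] at hgeom
  rcases mul_eq_zero.mp hgeom with h0 | h0
  · -- ζ = 1
    have h3 : ζ = 1 := sub_eq_zero.mp h0
    have h4 : ε₁ * ε₂ ^ (m - 1) = ε₂ * ε₂ ^ (m - 1) := by rw [← hζ, h3, e2']
    have hunit : ε₂ ^ (m - 1) ≠ 0 := by
      intro hz
      rw [hz, mul_zero] at e2'
      exact zero_ne_one e2'
    exact mul_right_cancel₀ hunit h4
  · -- the geometric sum vanishes, so `m ∈ M`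
    exfalso
    apply natCast_notMem hM hpm
    have h5 : Ideal.Quotient.mk M ζ = 1 := by
      rw [← sub_eq_zero, ← map_one (Ideal.Quotient.mk M), ← map_sub,
        Ideal.Quotient.eq_zero_iff_mem]
      exact hζ1
    have h6 : Ideal.Quotient.mk M (∑ i ∈ Finset.range m, ζ ^ i) = (m : Cfsg.AlgInt ⧸ M) := by
      rw [map_sum]
      simp only [map_pow, h5, one_pow, Finset.sum_const, Finset.card_range, nsmul_eq_mul, mul_one]
    rw [h0, map_zero] at h6
    rw [← Ideal.Quotient.eq_zero_iff_mem, map_natCast]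
    exact h6.symm

/-- every algebraic integer outside `M` is congruent modulo `M` to a root of unity of order
prime to `p` -/
theorem exists_root_sub_mem [Fact p.Prime] (hM : Cfsg.IsPModular p M) (a : Cfsg.AlgInt)
    (ha : a ∉ M) : ∃ ε : Cfsg.AlgInt, (∃ m : ℕ, ¬ p ∣ m ∧ (ε : ℂ) ^ m = 1) ∧ a - ε ∈ M := by
  classical
  have hp := hM.1
  haveI : M.IsMaximal := hM.2.1
  letI : Field (Cfsg.AlgInt ⧸ M) := Ideal.Quotient.field M
  haveI : CharP (Cfsg.AlgInt ⧸ M) p := by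
    rw [CharP.charP_iff_prime_eq_zero hp]
    have : ((p : Cfsg.AlgInt) : Cfsg.AlgInt ⧸ M) = 0 :=
      Ideal.Quotient.eq_zero_iff_mem.mpr hM.2.2
    rw [← this]
    simp
  letI : Algebra (ZMod p) (Cfsg.AlgInt ⧸ M) := ZMod.algebra _ p
  have hne : Ideal.Quotient.mk M a ≠ 0 := by
    intro h0
    exact ha (Ideal.Quotient.eq_zero_iff_mem.mp h0)
  have hintZ : IsIntegral ℤ a := integralClosure.isIntegral a
  have hint1 : IsIntegral ℤ (Ideal.Quotient.mk M a) :=
    hintZ.map (Ideal.Quotient.mkₐ ℤ M)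
  have hint2 : IsIntegral (ZMod p) (Ideal.Quotient.mk M a) := hint1.tower_top
  obtain ⟨n, hnpos, hpn, hn⟩ := finite_order_of_isIntegral p _ _ hne hint2
  -- the `n`-th roots of unity
  have hprim := Complex.isPrimitiveRoot_exp n hnpos.ne'
  have hprod := X_pow_sub_one_eq_prod hnpos hprim
  have heval := congrArg (Polynomial.eval (a : ℂ)) hprod
  rw [Polynomial.eval_prod] at heval
  simp only [eval_sub, eval_pow, eval_X, eval_one, eval_C] at heval
  have hroot_int : ∀ ζ ∈ nthRootsFinset n (1 : ℂ), ζ ∈ Cfsg.AlgInt := by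
    intro ζ hζ
    have hζn : ζ ^ n = 1 := (mem_nthRootsFinset hnpos (1 : ℂ)).mp hζ
    show IsIntegral ℤ ζ
    exact ⟨X ^ n - 1, monic_X_pow_sub_C 1 hnpos.ne', by simp [hζn]⟩
  have hcoe : ∀ (s : Finset {ζ // ζ ∈ nthRootsFinset n (1 : ℂ)})
      (f : {ζ // ζ ∈ nthRootsFinset n (1 : ℂ)} → Cfsg.AlgInt),
      ((∏ i ∈ s, f i : Cfsg.AlgInt) : ℂ) = ∏ i ∈ s, (f i : ℂ) :=
    fun s f => map_prod (Subalgebra.val Cfsg.AlgInt) f s
  have hprodA : a ^ n - 1 = ∏ ζ ∈ (nthRootsFinset n (1 : ℂ)).attach,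
      (a - (⟨ζ.1, hroot_int ζ.1 ζ.2⟩ : Cfsg.AlgInt)) := by
    apply Subtype.ext
    rw [hcoe]
    have e0 : ((a ^ n - 1 : Cfsg.AlgInt) : ℂ) = (a : ℂ) ^ n - 1 := by push_cast; rfl
    rw [e0, heval, ← Finset.prod_attach]
    apply Finset.prod_congr rfl
    intro ζ _
    rfl
  have hmem : a ^ n - 1 ∈ M := by
    rw [← Ideal.Quotient.eq_zero_iff_mem, map_sub, map_pow, map_one, hn, sub_self]
  rw [hprodA] at hmem
  haveI : M.IsPrime := Ideal.IsMaximal.isPrime hM.2.1
  obtain ⟨ζ, _, hζ⟩ := Ideal.IsPrime.prod_mem_iff.mp hmem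
  refine ⟨⟨ζ.1, hroot_int ζ.1 ζ.2⟩, ⟨n, hpn, ?_⟩, hζ⟩
  exact (mem_nthRootsFinset hnpos (1 : ℂ)).mp ζ.2

end Cfsg.Agent.Lib.Helper7
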