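import Mathlib
import Cfsg.Prelude.Def_Characters
import Cfsg.Agent.Lib.Helper7.BrauerApp
import Cfsg.Agent.Lib.Helper7.ElemProd

/-!
# `π`-parts of elements and the Hall decomposition of elementary groups (helper7 library)

For coprime `m n`:
* `piExp`: an exponent `k` with `m ∣ k` and `k ≡ 1 [MOD n]`.
* `pow_piExp_eq`: if `x = u * v` with `u`, `v` commuting, `u ^ m = 1`, `v ^ n = 1` then
  `x ^ piExp = v`.
* `exists_pi_decomp`: existence of the decomposition for `x` with `orderOf x ∣ m * n`.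
* `exists_hall_decomp_of_isElementary`: an elementary group whose order divides `m * n` is the
  direct product of the set `A` of elements of order prime to `n` and the set `B` of elements
  of order prime to `m`.
-/

set_option autoImplicit false

namespace Cfsg.Agent.Lib.Helper7

section Exp

/-- an exponent divisible by `m` and congruent to `1` modulo `n` -/
noncomputable def piExp {m n : ℕ} (h : Nat.Coprime m n) : ℕ := (Nat.chineseRemainder h 0 1 : ℕ)

theorem dvd_piExp {m n : ℕ} (h : Nat.Coprime m n) : m ∣ piExp h :=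
  (Nat.modEq_zero_iff_dvd).mp (Nat.chineseRemainder h 0 1).2.1

theorem piExp_modEq {m n : ℕ} (h : Nat.Coprime m n) : piExp h ≡ 1 [MOD n] :=
  (Nat.chineseRemainder h 0 1).2.2

variable {G : Type*} [Group G]

theorem pow_piExp_eq {m n : ℕ} (h : Nat.Coprime m n) {x u v : G} (hx : x = u * v)
    (hc : Commute u v) (hu : orderOf u ∣ m) (hv : orderOf v ∣ n) : x ^ piExp h = v := by
  rw [hx, hc.mul_pow]
  have h1 : u ^ piExp h = 1 := orderOf_dvd_iff_pow_eq_one.mp (hu.trans (dvd_piExp h))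
  have h2 : v ^ piExp h = v ^ 1 := by
    rw [pow_eq_pow_iff_modEq]
    exact (piExp_modEq h).of_dvd hv
  rw [h1, h2, one_mul, pow_one]

theorem exists_pi_decomp {m n : ℕ} (h : Nat.Coprime m n) (x : G) (hx : orderOf x ∣ m * n) :
    ∃ u v : G, x = u * v ∧ Commute u v ∧ orderOf u ∣ m ∧ orderOf v ∣ n ∧
      u ∈ Subgroup.zpowers x ∧ v ∈ Subgroup.zpowers x := by
  have hb := Int.gcd_eq_gcd_ab (n : ℤ) (m : ℤ)
  have hg : Int.gcd (n : ℤ) (m : ℤ) = 1 := by
    rw [Int.gcd_natCast_natCast]; exact h.symm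
  rw [hg] at hb
  set s := Int.gcdA (n : ℤ) (m : ℤ)
  set t := Int.gcdB (n : ℤ) (m : ℤ)
  refine ⟨(x ^ n) ^ s, (x ^ m) ^ t, ?_, ?_, ?_, ?_, ?_, ?_⟩
  · have : x = x ^ ((1 : ℕ) : ℤ) := by simp
    conv_lhs => rw [this, hb, zpow_add, zpow_mul, zpow_mul, zpow_natCast, zpow_natCast]
  · exact ((Commute.refl x).pow_pow n m).zpow_zpow s t
  · apply orderOf_dvd_of_pow_eq_one
    rw [← zpow_natCast, ← zpow_mul, ← zpow_natCast, ← zpow_mul, mul_comm s, ← mul_assoc,
      zpow_mul]
    have : x ^ ((n : ℤ) * (m : ℤ)) = 1 := by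
      rw [← Nat.cast_mul, zpow_natCast, mul_comm]
      exact orderOf_dvd_iff_pow_eq_one.mp hx
    rw [this, one_zpow]
  · apply orderOf_dvd_of_pow_eq_one
    rw [← zpow_natCast, ← zpow_mul, ← zpow_natCast, ← zpow_mul, mul_comm t, ← mul_assoc,
      zpow_mul]
    have : x ^ ((m : ℤ) * (n : ℤ)) = 1 := by
      rw [← Nat.cast_mul, zpow_natCast]
      exact orderOf_dvd_iff_pow_eq_one.mp hx
    rw [this, one_zpow]
  · exact Subgroup.zpow_mem _ (Subgroup.pow_mem _ (Subgroup.mem_zpowers x) n) s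
  · exact Subgroup.zpow_mem _ (Subgroup.pow_mem _ (Subgroup.mem_zpowers x) m) t

end Exp

section Hall

variable {E : Type*} [Group E] [Finite E]

/-- in an elementary group, the elements of order prime to `m` form a normal subgroup -/
theorem exists_normal_prime_to {q : ℕ} (hq : q.Prime) (hE : Cfsg.IsElementary q E) (m : ℕ) :
    ∃ B : Subgroup E, B.Normal ∧ (∀ e : E, e ∈ B ↔ Nat.Coprime (orderOf e) m) := by
  classical
  have hK : ∀ p : {p : ℕ // p.Prime ∧ p ∣ m}, ∃ K : Subgroup E, K.Normal ∧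
      ¬ (p : ℕ) ∣ Nat.card K ∧ ∃ j : ℕ, K.index = (p : ℕ) ^ j := fun p =>
    exists_normal_pcomplement_of_isElementary hq p.2.1 hE
  choose K hKn hKc hKi using hK
  refine ⟨⨅ p, K p, ?_, ?_⟩
  · haveI : ∀ p, (K p).Normal := hKn
    exact Subgroup.normal_iInf_normal this
  · intro e
    rw [Subgroup.mem_iInf]
    constructor
    · intro he
      by_contra hcop
      obtain ⟨p, hp, hp1, hp2⟩ := Nat.Prime.not_coprime_iff_dvd.mp hcop
      apply hKc ⟨p, hp, hp2⟩
      have h1 : orderOf (⟨e, he ⟨p, hp, hp2⟩⟩ : K ⟨p, hp, hp2⟩) ∣ Nat.card (K ⟨p, hp, hp2⟩) :=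
        orderOf_dvd_natCard _
      rw [Subgroup.orderOf_mk] at h1
      exact dvd_trans hp1 h1
    · intro hcop p
      apply mem_of_regular_of_index_pow (K p) p.2.1 (hKi p) e
      intro hd
      have h1 : (p : ℕ) ∣ Nat.gcd (orderOf e) m := Nat.dvd_gcd hd p.2.2
      rw [Nat.Coprime] at hcop
      rw [hcop] at h1
      exact p.2.1.one_lt.ne' (Nat.dvd_one.mp h1)

theorem coprime_card_of_forall_orderOf {X : Type*} [Group X] [Finite X] (m : ℕ)
    (h : ∀ x : X, Nat.Coprime (orderOf x) m) : Nat.Coprime (Nat.card X) m := by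
  by_contra hcop
  obtain ⟨p, hp, hp1, hp2⟩ := Nat.Prime.not_coprime_iff_dvd.mp hcop
  haveI : Fact p.Prime := ⟨hp⟩
  obtain ⟨x, hx⟩ := exists_prime_orderOf_dvd_card' p hp1
  have h1 : p ∣ Nat.gcd (orderOf x) m := Nat.dvd_gcd (by rw [hx]) hp2
  rw [h x] at h1
  exact hp.one_lt.ne' (Nat.dvd_one.mp h1)

/-- the Hall decomposition of an elementary group whose order divides `m * n` -/
theorem exists_hall_decomp_of_isElementary {q : ℕ} (hq : q.Prime) (hE : Cfsg.IsElementary q E)
    {m n : ℕ} (hcop : Nat.Coprime m n) (hcard : Nat.card E ∣ m * n) :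
    ∃ A B : Subgroup E, A.Normal ∧ B.Normal ∧
      (∀ e : E, e ∈ A ↔ Nat.Coprime (orderOf e) n) ∧
      (∀ e : E, e ∈ B ↔ Nat.Coprime (orderOf e) m) ∧
      (∀ a ∈ A, ∀ b ∈ B, a * b = b * a) ∧ A ⊓ B = ⊥ ∧
      Nat.card A * Nat.card B = Nat.card E ∧
      Nat.Coprime (Nat.card A) n ∧ Nat.Coprime (Nat.card B) m := by
  obtain ⟨A, hAn, hA⟩ := exists_normal_prime_to hq hE n
  obtain ⟨B, hBn, hB⟩ := exists_normal_prime_to hq hE m
  have hdisj : A ⊓ B = ⊥ := by
    rw [eq_bot_iff]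
    intro e he
    rw [Subgroup.mem_bot]
    have h1 := (hA e).mp he.1
    have h2 := (hB e).mp he.2
    have h3 : Nat.Coprime (orderOf e) (m * n) := Nat.Coprime.mul_right h2 h1
    have h4 : orderOf e ∣ m * n := (orderOf_dvd_natCard e).trans hcard
    have h5 : orderOf e = 1 := Nat.Coprime.eq_one_of_dvd h3 h4
    exact orderOf_eq_one_iff.mp h5
  have hc : ∀ a ∈ A, ∀ b ∈ B, a * b = b * a := by
    intro a ha b hb
    exact Subgroup.commute_of_normal_of_disjoint A B hAn hBn (disjoint_iff.mpr hdisj) a b ha hb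
  have hsurj : Function.Surjective (prodHomOfCommute A B hc) := by
    intro e
    obtain ⟨u, v, huv, -, hu, hv, -, -⟩ := exists_pi_decomp hcop e
      ((orderOf_dvd_natCard e).trans hcard)
    have huA : u ∈ A := (hA u).mpr (Nat.Coprime.coprime_dvd_left hu hcop)
    have hvB : v ∈ B := (hB v).mpr (Nat.Coprime.coprime_dvd_left hv hcop.symm)
    refine ⟨(⟨u, huA⟩, ⟨v, hvB⟩), ?_⟩
    rw [prodHomOfCommute_apply]
    exact huv.symm
  have hinj : Function.Injective (prodHomOfCommute A B hc) := by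
    rw [injective_iff_map_eq_one]
    rintro ⟨s, k⟩ h
    rw [prodHomOfCommute_apply] at h
    simp only at h
    have hs : (s : E) = (k : E)⁻¹ := eq_inv_of_mul_eq_one_left h
    have hmem : (s : E) ∈ A ⊓ B := by
      refine ⟨s.2, ?_⟩
      rw [hs]; exact B.inv_mem k.2
    rw [hdisj, Subgroup.mem_bot] at hmem
    have hk1 : (k : E) = 1 := by
      rw [hmem, one_mul] at h; exact h
    apply Prod.ext
    · exact Subtype.ext hmem
    · exact Subtype.ext hk1
  have hcardAB : Nat.card A * Nat.card B = Nat.card E := by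
    rw [← Nat.card_prod]
    exact Nat.card_eq_of_bijective _ ⟨hinj, hsurj⟩
  refine ⟨A, B, hAn, hBn, hA, hB, hc, hdisj, hcardAB, ?_, ?_⟩
  · apply coprime_card_of_forall_orderOf
    intro a
    rw [← Subgroup.orderOf_coe]
    exact (hA a).mp a.2
  · apply coprime_card_of_forall_orderOf
    intro b
    rw [← Subgroup.orderOf_coe]
    exact (hB b).mp b.2

end Hall

end Cfsg.Agent.Lib.Helper7
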