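import Mathlib
import Cfsg.Agent.Lib.Helper27.SpOBDefs
import Cfsg.Agent.Lib.Helper1.S5666BGEO

/-!
# S5681 / S5709 (architect helper28), step (4) END: the geometry of `W`  (helper7)

`W = F^b` with the symmetric non-degenerate form `bf J2` (`SymG J2`), `F` finite of odd characteristic, `b ≥ 5`.

* `IsTSLine J π` : `π` is a totally singular line (2-dimensional, `bf J` vanishes on it);
* `isTSLine_pair` : two independent perpendicular singular vectors span a totally singular line;
* `exists_tsline_through` : every non-zero singular vector lies on a totally singular line (`b ≥ 5`);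
* `span_singular_sub` : a subspace of dimension `≥ 3` on which the form is non-degenerate is spanned by its singular
  vectors; `span_singular_top` : the whole space;
* `exists_singular_not_mem` : a proper subspace misses some singular vector;
* `support_contra` : no subspace `W'` has `dim (W' + π) = 4` for EVERY totally singular line `π`
  (when `W'` is itself totally singular if it is 2-dimensional).
-/

set_option autoImplicit false
set_option linter.unusedSectionVars false
set_option linter.unusedVariables false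

namespace Cfsg.Agent.Lib.Helper7.OTEnd

open Matrix Module
open Cfsg.Agent.Lib.Helper3.SpT
open Cfsg.Agent.Lib.Helper27.SpOB
open Cfsg.Agent.Lib.Helper1.S5666BGEO

variable {F : Type*} [Field F] {b : ℕ} {J2 : Matrix (Fin b) (Fin b) F}

/-- a totally singular line of `W` -/
def IsTSLine (J : Matrix (Fin b) (Fin b) F) (π : Submodule F (Fin b → F)) : Prop :=
  finrank F ↥π = 2 ∧ ∀ x ∈ π, ∀ y ∈ π, bf J x y = 0

theorem finrank_span_pair_of_indep {x y : Fin b → F}
    (h : ∀ s t : F, s • x + t • y = 0 → s = 0 ∧ t = 0) :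
    finrank F ↥(Submodule.span F ({x, y} : Set (Fin b → F))) = 2 := by
  have hli : LinearIndependent F ![x, y] := LinearIndependent.pair_iff.mpr h
  have h1 := finrank_span_eq_card hli
  rw [Fintype.card_fin, Matrix.range_cons_cons_empty] at h1
  exact h1

theorem finrank_span_pair_le (x y : Fin b → F) :
    finrank F ↥(Submodule.span F ({x, y} : Set (Fin b → F))) ≤ 2 := by
  classical
  have h1 := finrank_span_le_card (R := F) ({x, y} : Set (Fin b → F))
  have h2 : ({x, y} : Set (Fin b → F)).toFinset.card ≤ 2 := by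
    have : ({x, y} : Set (Fin b → F)).toFinset = ({x, y} : Finset (Fin b → F)) := by
      ext z; simp
    rw [this]
    exact Finset.card_le_two
  exact h1.trans h2

theorem finrank_span_singleton_le (x : Fin b → F) :
    finrank F ↥(Submodule.span F ({x} : Set (Fin b → F))) ≤ 1 := by
  have := finrank_span_le_card (R := F) ({x} : Set (Fin b → F))
  simpa using this

/-- two independent perpendicular singular vectors span a totally singular line -/
theorem isTSLine_pair (hJ : SymG J2) {k y : Fin b → F} (hkk : bf J2 k k = 0) (hyy : bf J2 y y = 0)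
    (hky : bf J2 k y = 0) (hind : ∀ s t : F, s • k + t • y = 0 → s = 0 ∧ t = 0) :
    IsTSLine J2 (Submodule.span F ({k, y} : Set (Fin b → F))) := by
  refine ⟨finrank_span_pair_of_indep hind, ?_⟩
  intro u hu v hv
  obtain ⟨a, c, rfl⟩ := Submodule.mem_span_pair.mp hu
  obtain ⟨a', c', rfl⟩ := Submodule.mem_span_pair.mp hv
  have hyk : bf J2 y k = 0 := by rw [hJ.symm, hky]
  simp only [bf_add_left, bf_add_right, bf_smul_left, bf_smul_right, hkk, hyy, hky, hyk]
  ring

/-- the perp of a hyperbolic pair has dimension at least `b - 2` -/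
theorem finrank_perp_pair_ge (hJ : SymG J2) (p p' : Fin b → F) :
    b - 2 ≤ finrank F ↥(perp J2 (Submodule.span F ({p, p'} : Set (Fin b → F)))) := by
  rw [finrank_perp hJ]
  have := finrank_span_pair_le p p'
  omega

theorem mem_perp_pair_iff (p p' x : Fin b → F) :
    x ∈ perp J2 (Submodule.span F ({p, p'} : Set (Fin b → F))) ↔ bf J2 p x = 0 ∧ bf J2 p' x = 0 := by
  rw [mem_perp_iff]
  constructor
  · intro h
    exact ⟨h p (Submodule.subset_span (by simp)), h p' (Submodule.subset_span (by simp))⟩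
  · rintro ⟨h1, h2⟩ z hz
    obtain ⟨a, c, rfl⟩ := Submodule.mem_span_pair.mp hz
    rw [bf_add_left, bf_smul_left, bf_smul_left, h1, h2]
    ring

/-- every non-zero singular vector lies on a totally singular line (`b ≥ 5`): explicit second vector -/
theorem exists_tsline_vec [Fintype F] (h2 : (2 : F) ≠ 0) (hJ : SymG J2) (hb : 5 ≤ b) (k : Fin b → F)
    (hk0 : k ≠ 0) (hk : bf J2 k k = 0) :
    ∃ y : Fin b → F, bf J2 y y = 0 ∧ bf J2 k y = 0 ∧ ∀ s t : F, s • k + t • y = 0 → s = 0 ∧ t = 0 := by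
  obtain ⟨k', hk', hkk'⟩ := exists_partner' h2 hJ k hk0 hk
  obtain ⟨y, hyX, hy0, hy⟩ := exists_singular_sub J2
    (perp J2 (Submodule.span F ({k, k'} : Set (Fin b → F))))
    (by have := finrank_perp_pair_ge hJ k k'; omega)
  rw [mem_perp_pair_iff] at hyX
  refine ⟨y, hy, hyX.1, ?_⟩
  intro s t hst
  have h1 : bf J2 k' (s • k + t • y) = 0 := by rw [hst, bf_zero_right]
  rw [bf_add_right, bf_smul_right, bf_smul_right, hyX.2, hJ.symm k' k, hkk'] at h1
  have hs : s = 0 := by linear_combination h1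
  refine ⟨hs, ?_⟩
  rw [hs, zero_smul, zero_add] at hst
  rcases smul_eq_zero.mp hst with h | h
  · exact h
  · exact absurd h hy0

theorem exists_tsline_through [Fintype F] (h2 : (2 : F) ≠ 0) (hJ : SymG J2) (hb : 5 ≤ b)
    (k : Fin b → F) (hk0 : k ≠ 0) (hk : bf J2 k k = 0) :
    ∃ π, IsTSLine J2 π ∧ k ∈ π := by
  obtain ⟨y, hy, hky, hind⟩ := exists_tsline_vec h2 hJ hb k hk0 hk
  exact ⟨_, isTSLine_pair hJ hk hy hky hind, Submodule.subset_span (by simp)⟩

/-- a subspace of dimension `≥ 3` on which the form is non-degenerate is spanned by its singular vectors -/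
theorem span_singular_sub [Fintype F] (h2 : (2 : F) ≠ 0) (hJ : SymG J2) (X : Submodule F (Fin b → F))
    (hX : ∀ x ∈ X, (∀ y ∈ X, bf J2 x y = 0) → x = 0) (h3 : 3 ≤ finrank F ↥X) :
    X ≤ Submodule.span F {x | x ∈ X ∧ bf J2 x x = 0} := by
  obtain ⟨x₀, hx₀X, hx₀0, hx₀⟩ := exists_singular_sub J2 X h3
  obtain ⟨y, hyX, hy⟩ : ∃ y ∈ X, bf J2 x₀ y ≠ 0 := by
    by_contra hcon
    push Not at hcon
    exact hx₀0 (hX x₀ hx₀X hcon)
  obtain ⟨y₁, hy₁⟩ : ∃ y₁, y₁ = (bf J2 x₀ y)⁻¹ • y := ⟨_, rfl⟩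
  have hy₁X : y₁ ∈ X := by rw [hy₁]; exact X.smul_mem _ hyX
  have h01 : bf J2 x₀ y₁ = 1 := by rw [hy₁, bf_smul_right, inv_mul_cancel₀ hy]
  have h10 : bf J2 y₁ x₀ = 1 := by rw [hJ.symm, h01]
  obtain ⟨x₁, hx₁⟩ : ∃ x₁, x₁ = y₁ - (bf J2 y₁ y₁ / 2) • x₀ := ⟨_, rfl⟩
  have hx₁X : x₁ ∈ X := by rw [hx₁]; exact X.sub_mem hy₁X (X.smul_mem _ hx₀X)
  have hx₁ : bf J2 x₁ x₁ = 0 := by
    rw [hx₁]
    simp only [bf_sub_left, bf_sub_right, bf_smul_left, bf_smul_right, hx₀, h01, h10]
    field_simp
    ring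
  have hx₀x₁ : bf J2 x₀ x₁ = 1 := by
    rw [‹x₁ = _›, bf_sub_right, bf_smul_right, hx₀, h01]
    ring
  have hx₁x₀ : bf J2 x₁ x₀ = 1 := by rw [hJ.symm, hx₀x₁]
  set S := Submodule.span F {x | x ∈ X ∧ bf J2 x x = 0} with hS
  have hx₀S : x₀ ∈ S := Submodule.subset_span ⟨hx₀X, hx₀⟩
  have hx₁S : x₁ ∈ S := Submodule.subset_span ⟨hx₁X, hx₁⟩
  intro v hv
  obtain ⟨v₀, hv₀⟩ : ∃ v₀, v₀ = v - bf J2 v x₁ • x₀ - bf J2 v x₀ • x₁ := ⟨_, rfl⟩
  have hv₀X : v₀ ∈ X := by
    rw [hv₀]; exact X.sub_mem (X.sub_mem hv (X.smul_mem _ hx₀X)) (X.smul_mem _ hx₁X)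
  have hv₀x₀ : bf J2 v₀ x₀ = 0 := by
    rw [hv₀]
    simp only [bf_sub_left, bf_smul_left, hx₀, hx₁x₀]
    ring
  have hv₀x₁ : bf J2 v₀ x₁ = 0 := by
    rw [hv₀]
    simp only [bf_sub_left, bf_smul_left, hx₁, hx₀x₁]
    ring
  have hx₀v₀ : bf J2 x₀ v₀ = 0 := by rw [hJ.symm, hv₀x₀]
  have hx₁v₀ : bf J2 x₁ v₀ = 0 := by rw [hJ.symm, hv₀x₁]
  obtain ⟨s, hs⟩ : ∃ s, s = v₀ + x₀ - (bf J2 v₀ v₀ / 2) • x₁ := ⟨_, rfl⟩
  have hsX : s ∈ X := by
    rw [hs]; exact X.sub_mem (X.add_mem hv₀X hx₀X) (X.smul_mem _ hx₁X)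
  have hss : bf J2 s s = 0 := by
    rw [hs]
    simp only [bf_sub_left, bf_sub_right, bf_add_left, bf_add_right, bf_smul_left, bf_smul_right,
      hx₀, hx₁, hx₀x₁, hx₁x₀, hv₀x₀, hv₀x₁, hx₀v₀, hx₁v₀]
    field_simp
    ring
  have hsS : s ∈ S := Submodule.subset_span ⟨hsX, hss⟩
  have hv : v = s - x₀ + (bf J2 v₀ v₀ / 2) • x₁ + bf J2 v x₁ • x₀ + bf J2 v x₀ • x₁ := by
    rw [hs, hv₀]
    abel
  rw [hv]
  exact S.add_mem (S.add_mem (S.add_mem (S.sub_mem hsS hx₀S) (S.smul_mem _ hx₁S)) (S.smul_mem _ hx₀S))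
    (S.smul_mem _ hx₁S)

/-- the whole space is spanned by its singular vectors (`b ≥ 3`) -/
theorem span_singular_top [Fintype F] (h2 : (2 : F) ≠ 0) (hJ : SymG J2) (hb : 3 ≤ b) :
    Submodule.span F {x : Fin b → F | bf J2 x x = 0} = ⊤ := by
  have h := span_singular_sub h2 hJ (⊤ : Submodule F (Fin b → F))
    (fun x _ hx => hJ.nondeg x (fun y => hx y Submodule.mem_top))
    (by rw [finrank_top, Module.finrank_fintype_fun_eq_card, Fintype.card_fin]; exact hb)
  rw [eq_top_iff]
  refine h.trans (Submodule.span_mono ?_)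
  rintro x ⟨-, hx⟩
  exact hx

/-- a subspace containing all singular vectors is everything -/
theorem eq_top_of_singular_le [Fintype F] (h2 : (2 : F) ≠ 0) (hJ : SymG J2) (hb : 3 ≤ b)
    (T : Submodule F (Fin b → F)) (hT : ∀ x : Fin b → F, bf J2 x x = 0 → x ∈ T) : T = ⊤ := by
  rw [eq_top_iff, ← span_singular_top h2 hJ hb, Submodule.span_le]
  intro x hx
  exact hT x hx

/-- a proper subspace misses some singular vector -/
theorem exists_singular_not_mem [Fintype F] (h2 : (2 : F) ≠ 0) (hJ : SymG J2) (hb : 3 ≤ b)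
    (T : Submodule F (Fin b → F)) (hT : finrank F ↥T < b) :
    ∃ p : Fin b → F, bf J2 p p = 0 ∧ p ∉ T := by
  by_contra hcon
  push Not at hcon
  have h := eq_top_of_singular_le h2 hJ hb T hcon
  rw [h, finrank_top, Module.finrank_fintype_fun_eq_card, Fintype.card_fin] at hT
  exact lt_irrefl _ hT

/-- the form is non-degenerate on the perp of a hyperbolic pair -/
theorem nondeg_perp_pair (hJ : SymG J2) {p p' : Fin b → F} (hpp' : bf J2 p p' = 1) (hp : bf J2 p p = 0)
    (hp' : bf J2 p' p' = 0) (x : Fin b → F)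
    (hx : x ∈ perp J2 (Submodule.span F ({p, p'} : Set (Fin b → F))))
    (h : ∀ y ∈ perp J2 (Submodule.span F ({p, p'} : Set (Fin b → F))), bf J2 x y = 0) : x = 0 := by
  apply hJ.nondeg
  intro w
  rw [mem_perp_pair_iff] at hx
  have hp'p : bf J2 p' p = 1 := by rw [hJ.symm, hpp']
  obtain ⟨w₀, hw₀⟩ : ∃ w₀, w₀ = w - bf J2 p' w • p - bf J2 p w • p' := ⟨_, rfl⟩
  have hw₀X : w₀ ∈ perp J2 (Submodule.span F ({p, p'} : Set (Fin b → F))) := by
    rw [mem_perp_pair_iff, hw₀]
    constructor
    · simp only [bf_sub_right, bf_smul_right, hp, hpp']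
      ring
    · simp only [bf_sub_right, bf_smul_right, hp', hp'p]
      ring
  have h1 := h w₀ hw₀X
  have hxp : bf J2 x p = 0 := by rw [hJ.symm, hx.1]
  have hxp' : bf J2 x p' = 0 := by rw [hJ.symm, hx.2]
  rw [hw₀, bf_sub_right, bf_sub_right, bf_smul_right, bf_smul_right, hxp, hxp'] at h1
  linear_combination h1

/-- **END**: no subspace `W'` has `dim (W' + π) = 4` for every totally singular line `π` -/
theorem support_contra [Fintype F] (h2 : (2 : F) ≠ 0) (hJ2 : SymG J2) (hb : 5 ≤ b)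
    (W' : Submodule F (Fin b → F))
    (h : ∀ π, IsTSLine J2 π → finrank F ↥(W' ⊔ π) = 4)
    (hW2 : finrank F ↥W' = 2 → ∀ x ∈ W', ∀ y ∈ W', bf J2 x y = 0) : False := by
  -- some totally singular line
  obtain ⟨k₀, hk₀0, hk₀⟩ := exists_singular hJ2 (by omega : 3 ≤ b)
  obtain ⟨π₀, hπ₀, -⟩ := exists_tsline_through h2 hJ2 hb k₀ hk₀0 hk₀
  have h4 := h π₀ hπ₀
  have hle4 : finrank F ↥W' ≤ 4 := by
    rw [← h4]; exact Submodule.finrank_mono le_sup_left
  have hge2 : 2 ≤ finrank F ↥W' := by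
    have := Submodule.finrank_add_le_finrank_add_finrank W' π₀
    rw [h4, hπ₀.1] at this
    omega
  have hlt : finrank F ↥W' < b := by omega
  -- dimension 2
  by_cases hd2 : finrank F ↥W' = 2
  · have := h W' ⟨hd2, hW2 hd2⟩
    rw [sup_idem, hd2] at this
    omega
  -- dimension 4: every totally singular line lies in `W'`
  by_cases hd4 : finrank F ↥W' = 4
  · have hall : ∀ x : Fin b → F, bf J2 x x = 0 → x ∈ W' := by
      intro x hx
      by_cases hx0 : x = 0
      · rw [hx0]; exact W'.zero_mem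
      obtain ⟨π, hπ, hxπ⟩ := exists_tsline_through h2 hJ2 hb x hx0 hx
      have h5 := h π hπ
      have heq : W' = W' ⊔ π :=
        Submodule.eq_of_le_of_finrank_le le_sup_left (by rw [h5, hd4])
      rw [heq]
      exact Submodule.mem_sup_right hxπ
    have := eq_top_of_singular_le h2 hJ2 (by omega) W' hall
    rw [this, finrank_top, Module.finrank_fintype_fun_eq_card, Fintype.card_fin] at hlt
    exact lt_irrefl _ hlt
  -- dimension 3
  have hd3 : finrank F ↥W' = 3 := by omega
  -- every totally singular line meets `W'`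
  have hmeet : ∀ π, IsTSLine J2 π → ∃ v, v ∈ W' ∧ v ∈ π ∧ v ≠ 0 := by
    intro π hπ
    have h5 := h π hπ
    have h6 := Submodule.finrank_sup_add_finrank_inf_eq W' π
    rw [h5, hd3, hπ.1] at h6
    have h7 : finrank F ↥(W' ⊓ π) = 1 := by omega
    have h8 : (W' ⊓ π) ≠ ⊥ := by
      intro hbot
      rw [hbot, finrank_bot] at h7
      exact absurd h7 (by norm_num)
    obtain ⟨v, hv, hv0⟩ := (Submodule.ne_bot_iff _).mp h8
    exact ⟨v, hv.1, hv.2, hv0⟩
  -- (★) every singular vector outside `W'` is perpendicular to `W'`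
  have hstar : ∀ p : Fin b → F, bf J2 p p = 0 → p ∉ W' → ∀ w ∈ W', bf J2 p w = 0 := by
    intro p hp hpW
    have hp0 : p ≠ 0 := fun h0 => hpW (by rw [h0]; exact W'.zero_mem)
    obtain ⟨p', hp', hpp'⟩ := exists_partner' h2 hJ2 p hp0 hp
    set W₀ := perp J2 (Submodule.span F ({p, p'} : Set (Fin b → F))) with hW₀
    set T := W' ⊔ Submodule.span F ({p} : Set (Fin b → F)) with hT
    have hpT : p ∈ T := Submodule.mem_sup_right (Submodule.subset_span (Set.mem_singleton p))
    -- singular vectors of `W₀` lie in `T`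
    have hA : ∀ y : Fin b → F, y ∈ W₀ → bf J2 y y = 0 → y ∈ T := by
      intro y hyW hy
      by_cases hy0 : y = 0
      · rw [hy0]; exact T.zero_mem
      rw [hW₀, mem_perp_pair_iff] at hyW
      have hind : ∀ s t : F, s • p + t • y = 0 → s = 0 ∧ t = 0 := by
        intro s t hst
        have h1 : bf J2 p' (s • p + t • y) = 0 := by rw [hst, bf_zero_right]
        rw [bf_add_right, bf_smul_right, bf_smul_right, hyW.2, hJ2.symm p' p, hpp'] at h1
        have hs : s = 0 := by linear_combination h1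
        refine ⟨hs, ?_⟩
        rw [hs, zero_smul, zero_add] at hst
        rcases smul_eq_zero.mp hst with h | h
        · exact h
        · exact absurd h hy0
      obtain ⟨v, hvW, hvπ, hv0⟩ := hmeet _ (isTSLine_pair hJ2 hp hy hyW.1 hind)
      obtain ⟨α, β, rfl⟩ := Submodule.mem_span_pair.mp hvπ
      have hβ : β ≠ 0 := by
        intro hβ0
        rw [hβ0, zero_smul, add_zero] at hvW hv0
        have hα : α ≠ 0 := by
          intro hα0; rw [hα0, zero_smul] at hv0; exact hv0 rfl
        apply hpW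
        have : p = α⁻¹ • (α • p) := by rw [smul_smul, inv_mul_cancel₀ hα, one_smul]
        rw [this]
        exact W'.smul_mem _ hvW
      have : y = β⁻¹ • (α • p + β • y) - (β⁻¹ * α) • p := by
        rw [smul_add, smul_smul, smul_smul, inv_mul_cancel₀ hβ, one_smul]
        abel
      rw [this]
      exact T.sub_mem (T.smul_mem _ (Submodule.mem_sup_left hvW)) (T.smul_mem _ hpT)
    -- `W₀ ≤ T`
    have hW₀ge : b - 2 ≤ finrank F ↥W₀ := finrank_perp_pair_ge hJ2 p p'
    have hW₀3 : 3 ≤ finrank F ↥W₀ := by omega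
    have hB : W₀ ≤ T := by
      refine (span_singular_sub h2 hJ2 W₀ (fun x hx hxy => nondeg_perp_pair hJ2 hpp' hp hp' x hx hxy)
        hW₀3).trans ?_
      rw [Submodule.span_le]
      rintro y ⟨hyW, hy⟩
      exact hA y hyW hy
    -- dimensions
    have hpW₀ : p ∉ W₀ := by
      intro hmem
      rw [hW₀, mem_perp_pair_iff] at hmem
      have := hmem.2
      rw [hJ2.symm, hpp'] at this
      exact one_ne_zero this
    have hTle : finrank F ↥T ≤ 4 := by
      have h1 : finrank F ↥T ≤ finrank F ↥W' + finrank F ↥(Submodule.span F ({p} : Set (Fin b → F))) :=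
        Submodule.finrank_add_le_finrank_add_finrank W' (Submodule.span F ({p} : Set (Fin b → F)))
      have h2' := finrank_span_singleton_le p
      omega
    set R := W₀ ⊔ Submodule.span F ({p} : Set (Fin b → F)) with hR
    have hRT : R ≤ T := sup_le hB (by rw [Submodule.span_le, Set.singleton_subset_iff]; exact hpT)
    have hRge : finrank F ↥W₀ + 1 ≤ finrank F ↥R := by
      have hlt : W₀ < R := by
        refine lt_of_le_of_ne le_sup_left ?_
        intro heq
        apply hpW₀
        rw [heq]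
        exact Submodule.mem_sup_right (Submodule.subset_span (Set.mem_singleton p))
      exact Submodule.finrank_lt_finrank_of_lt hlt
    have hRT' : finrank F ↥R ≤ finrank F ↥T := Submodule.finrank_mono hRT
    have hReq : R = T := Submodule.eq_of_le_of_finrank_le hRT (by omega)
    -- `W' ≤ T = R ≤ p^⊥`
    intro w hw
    have hwR : w ∈ R := by rw [hReq]; exact Submodule.mem_sup_left hw
    obtain ⟨w₀, hw₀, u, hu, rfl⟩ := Submodule.mem_sup.mp hwR
    obtain ⟨c, rfl⟩ := Submodule.mem_span_singleton.mp hu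
    rw [hW₀, mem_perp_pair_iff] at hw₀
    rw [bf_add_right, bf_smul_right, hw₀.1, hp]
    ring
  -- a singular vector outside `W'`
  obtain ⟨p, hp, hpW⟩ := exists_singular_not_mem h2 hJ2 (by omega) W' hlt
  -- a singular vector of `W'` not perpendicular to `W'`
  obtain ⟨r, hr, hrW, hrperp⟩ : ∃ r : Fin b → F, bf J2 r r = 0 ∧ r ∈ W' ∧ r ∉ perp J2 W' := by
    by_contra hcon
    push Not at hcon
    have hall : ∀ x : Fin b → F, bf J2 x x = 0 → x ∈ perp J2 W' := by
      intro x hx
      by_cases hxW : x ∈ W'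
      · exact hcon x hx hxW
      · rw [mem_perp_iff]
        intro z hz
        rw [hJ2.symm]
        exact hstar x hx hxW z hz
    have htop := eq_top_of_singular_le h2 hJ2 (by omega) (perp J2 W') hall
    have hfr := finrank_perp hJ2 W'
    rw [htop, finrank_top, Module.finrank_fintype_fun_eq_card, Fintype.card_fin, hd3] at hfr
    omega
  have hpr : bf J2 p r = 0 := hstar p hp hpW r hrW
  have hsum : bf J2 (p + r) (p + r) = 0 := by
    rw [bf_add_left, bf_add_right, bf_add_right, hp, hr, hJ2.symm r p, hpr]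
    ring
  have hsumW : p + r ∉ W' := by
    intro hmem
    apply hpW
    have : p = (p + r) - r := by abel
    rw [this]
    exact W'.sub_mem hmem hrW
  apply hrperp
  rw [mem_perp_iff]
  intro z hz
  have h1 := hstar (p + r) hsum hsumW z hz
  have h2' := hstar p hp hpW z hz
  rw [bf_add_left, h2', zero_add] at h1
  rw [hJ2.symm]
  exact h1

end Cfsg.Agent.Lib.Helper7.OTEnd
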