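import Mathlib
import Cfsg.Agent.Lib.Helper28.OTDefs
import Cfsg.Agent.Lib.Helper7.OTEnd

/-!
# S5681 / S5709 (architect helper28): END-GEO `end_contra` and EXISTS-TS2 `exists_ts2` in the `Ts2` vocabulary  (helper7)

Translation of `Helper7.OTEnd.support_contra` (stated with `IsTSLine`) to helper28's `Ts2 J2 k1 k2` and `OrthG J2`.
-/

set_option autoImplicit false
set_option linter.unusedSectionVars false
set_option linter.unusedVariables false

namespace Cfsg.Agent.Lib.Helper7.OTEndGeo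

open Matrix Module
open Cfsg.Agent.Lib.Helper16.Tens Cfsg.Agent.Lib.Helper10.TensFund
open Cfsg.Agent.Lib.Helper3.SpT (bf E adj uni Over)
open Cfsg.Agent.Lib.Helper13.TensSO (OrthG IsoG)
open Cfsg.Agent.Lib.Helper28.OT
open Cfsg.Agent.Lib.Helper7.OTEnd
open scoped Kronecker

variable {F : Type*} [Field F] {a b : ℕ}
variable {J1 : Matrix (Fin a) (Fin a) F} {J2 : Matrix (Fin b) (Fin b) F}

theorem symG_of_orthG (hJ2 : OrthG J2) : Cfsg.Agent.Lib.Helper27.SpOB.SymG J2 :=
  ⟨hJ2.symm, hJ2.nondeg⟩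

/-- a 2-dimensional subspace is spanned by an independent pair -/
theorem exists_pair_of_finrank_two (π : Submodule F (Fin b → F)) (h : finrank F ↥π = 2) :
    ∃ k1 k2 : Fin b → F, (∀ c1 c2 : F, c1 • k1 + c2 • k2 = 0 → c1 = 0 ∧ c2 = 0) ∧
      Submodule.span F ({k1, k2} : Set (Fin b → F)) = π := by
  let v := Module.finBasisOfFinrankEq F ↥π h
  refine ⟨(v 0 : Fin b → F), (v 1 : Fin b → F), ?_, ?_⟩
  · intro c1 c2 hc
    have hli' : LinearIndependent F ![v 0, v 1] := by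
      have hli := v.linearIndependent
      have : (⇑v : Fin 2 → ↥π) = ![v 0, v 1] := by
        ext i; fin_cases i <;> rfl
      rw [this] at hli
      exact hli
    have hc' : c1 • v 0 + c2 • v 1 = 0 := by
      apply Subtype.ext
      simpa using hc
    exact LinearIndependent.pair_iff.mp hli' c1 c2 hc'
  · apply le_antisymm
    · rw [Submodule.span_le]
      rintro x hx
      rcases hx with rfl | rfl
      · exact (v 0).2
      · exact (v 1).2
    · intro x hx
      have h2 := v.sum_repr ⟨x, hx⟩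
      rw [Fin.sum_univ_two] at h2
      have h3 : x = (v.repr ⟨x, hx⟩ 0) • (v 0 : Fin b → F) + (v.repr ⟨x, hx⟩ 1) • (v 1 : Fin b → F) := by
        have := congrArg Subtype.val h2
        simpa using this.symm
      rw [h3]
      exact Submodule.add_mem _
        (Submodule.smul_mem _ _ (Submodule.subset_span (by simp)))
        (Submodule.smul_mem _ _ (Submodule.subset_span (by simp)))

/-- `Ts2` pairs span totally singular lines -/
theorem isTSLine_of_ts2 (hJ2 : OrthG J2) {k1 k2 : Fin b → F} (h : Ts2 J2 k1 k2) :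
    IsTSLine J2 (Submodule.span F ({k1, k2} : Set (Fin b → F))) :=
  isTSLine_pair (symG_of_orthG hJ2) h.h11 h.h22 h.h12 h.indep

/-- every totally singular line is spanned by a `Ts2` pair -/
theorem exists_ts2_of_isTSLine {π : Submodule F (Fin b → F)} (hπ : IsTSLine J2 π) :
    ∃ k1 k2 : Fin b → F, Ts2 J2 k1 k2 ∧ Submodule.span F ({k1, k2} : Set (Fin b → F)) = π := by
  obtain ⟨k1, k2, hind, hspan⟩ := exists_pair_of_finrank_two π hπ.1
  have hk1 : k1 ∈ π := by rw [← hspan]; exact Submodule.subset_span (by simp)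
  have hk2 : k2 ∈ π := by rw [← hspan]; exact Submodule.subset_span (by simp)
  exact ⟨k1, k2, ⟨hind, hπ.2 k1 hk1 k1 hk1, hπ.2 k1 hk1 k2 hk2, hπ.2 k2 hk2 k2 hk2⟩, hspan⟩

/-- **END-GEO** (exact statement of `notes/S5681Skel_helper28.lean.txt`, PART 3) -/
theorem end_contra [Fintype F] (hJ2 : OrthG J2) (h2 : (2 : F) ≠ 0) (hb : 5 ≤ b) (W' : Submodule F (Fin b → F))
    (h : ∀ k1 k2 : Fin b → F, Ts2 J2 k1 k2 → finrank F ↥(W' ⊔ Submodule.span F {k1, k2}) = 4)
    (hW2 : finrank F W' = 2 → ∀ x ∈ W', ∀ y ∈ W', bf J2 x y = 0) : False := by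
  refine support_contra h2 (symG_of_orthG hJ2) hb W' ?_ hW2
  intro π hπ
  obtain ⟨k1, k2, hts, hspan⟩ := exists_ts2_of_isTSLine hπ
  rw [← hspan]
  exact h k1 k2 hts

/-- **EXISTS-TS2** (exact statement of `notes/S5681Skel_helper28.lean.txt`, PART 6) -/
theorem exists_ts2 [Fintype F] (hJ2 : OrthG J2) (h2 : (2 : F) ≠ 0) (hb : 5 ≤ b) :
    ∃ k1 k2 : Fin b → F, Ts2 J2 k1 k2 := by
  obtain ⟨k, hk0, hk⟩ := Cfsg.Agent.Lib.Helper1.S5666BGEO.exists_singular (symG_of_orthG hJ2) (by omega : 3 ≤ b)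
  obtain ⟨y, hy, hky, hind⟩ := exists_tsline_vec h2 (symG_of_orthG hJ2) hb k hk0 hk
  exact ⟨k, y, ⟨hind, hk, hky, hy⟩⟩

/-- every non-zero singular vector is the first member of a `Ts2` pair -/
theorem exists_ts2_through [Fintype F] (hJ2 : OrthG J2) (h2 : (2 : F) ≠ 0) (hb : 5 ≤ b) (k : Fin b → F)
    (hk0 : k ≠ 0) (hk : bf J2 k k = 0) : ∃ k2 : Fin b → F, Ts2 J2 k k2 := by
  obtain ⟨y, hy, hky, hind⟩ := exists_tsline_vec h2 (symG_of_orthG hJ2) hb k hk0 hk
  exact ⟨y, ⟨hind, hk, hky, hy⟩⟩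

end Cfsg.Agent.Lib.Helper7.OTEndGeo
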