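import Cfsg.Agent.Lib.Helper7.L34CertOk

/-!
# S2088: the Todd–Coxeter bounds (helper7)
-/

set_option autoImplicit false

namespace Cfsg.Agent.Lib.Helper7.L34

open Cfsg.H5.TCk

universe u

namespace Card

theorem ev_congr_lt {Γ : Type*} [Group Γ] (g g' : ℕ → Γ) (t : ℕ) (h : ∀ i < t, g i = g' i) (w : List ℕ)
    (hw : w.all (fun l => decide (l < 2 * t)) = true) : ev g w = ev g' w := by
  induction w with
  | nil => rfl
  | cons l w ih =>
    rw [List.all_cons, Bool.and_eq_true] at hw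
    have hl : l < 2 * t := of_decide_eq_true hw.1
    have h2 : l / 2 < t := by omega
    simp only [ev, ih hw.2]
    congr 1
    unfold gl
    rw [h _ h2]

theorem ev_single {Γ : Type*} [Group Γ] (g : ℕ → Γ) (i : ℕ) : ev g [2 * i] = g i := by
  simp only [ev, mul_one]
  exact Cfsg.H5.TCk.gl_even g i

theorem ev_replicate_even {Γ : Type*} [Group Γ] (g : ℕ → Γ) (i n : ℕ) :
    ev g (List.replicate n (2 * i)) = g i ^ n := by
  induction n with
  | zero => simp [ev]
  | succ n ih => rw [List.replicate_succ, ev, ih, pow_succ', Cfsg.H5.TCk.gl_even]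

theorem card_zpowers_le {Γ : Type*} [Group Γ] (x : Γ) (n : ℕ) (hn : 0 < n) (h : x ^ n = 1) :
    Finite (Subgroup.zpowers x) ∧ Nat.card (Subgroup.zpowers x) ≤ n := by
  have hfin : IsOfFinOrder x := isOfFinOrder_iff_pow_eq_one.mpr ⟨n, hn, h⟩
  refine ⟨?_, ?_⟩
  · exact Nat.finite_of_card_ne_zero (by rw [Nat.card_zpowers]; exact (orderOf_pos_iff.mpr hfin).ne')
  · rw [Nat.card_zpowers]
    exact Nat.le_of_dvd hn (orderOf_dvd_of_pow_eq_one h)

/-- the subgroup generated by the first `k` generators, with its own generators -/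
noncomputable def subGen {Q : Type u} [Group Q] (q : ℕ → Q) (k : ℕ) (i : ℕ) :
    ↥(Subgroup.closure (Set.range fun i : Fin k => q i.val) : Subgroup Q) :=
  if h : i < k then ⟨q i, Subgroup.subset_closure ⟨⟨i, h⟩, rfl⟩⟩ else 1

theorem subGen_coe {Q : Type u} [Group Q] (q : ℕ → Q) (k : ℕ) :
    ∀ i < k, (subGen q k i : Q) = q i := by
  intro i hi
  unfold subGen
  rw [dif_pos hi]

theorem subGen_gen {Q : Type u} [Group Q] (q : ℕ → Q) (k : ℕ) :
    Subgroup.closure (Set.range fun i : Fin k => subGen q k i.val) = ⊤ := by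
  have h := Subgroup.closure_closure_coe_preimage (k := (Set.range fun i : Fin k => q i.val))
  rw [← h]
  congr 1
  ext x
  simp only [Set.mem_range, Set.mem_preimage]
  constructor
  · rintro ⟨i, rfl⟩
    exact ⟨i, (subGen_coe q k i.val i.isLt).symm⟩
  · rintro ⟨i, hi⟩
    exact ⟨i, Subtype.ext ((subGen_coe q k i.val i.isLt).trans hi)⟩

theorem ev_subGen {Q : Type u} [Group Q] (q : ℕ → Q) (k : ℕ) (r : List ℕ)
    (hr : r.all (fun l => decide (l < 2 * k)) = true) :
    ((ev (subGen q k) r : ↥(Subgroup.closure (Set.range fun i : Fin k => q i.val) : Subgroup Q)) : Q) =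
      ev q r := by
  have h1 := Cfsg.H5.StemTC.map_ev
    (Subgroup.closure (Set.range fun i : Fin k => q i.val) : Subgroup Q).subtype (subGen q k) r
  rw [Subgroup.coe_subtype] at h1
  rw [h1]
  exact ev_congr_lt _ q k (fun i hi => subGen_coe q k i hi) r hr

theorem single_mem {Q : Type u} [Group Q] (q : ℕ → Q) (k i : ℕ) (hi : i < k) :
    ev q [2 * i] ∈ (Subgroup.closure (Set.range fun i : Fin k => q i.val) : Subgroup Q) := by
  rw [ev_single]
  exact Subgroup.subset_closure ⟨⟨i, hi⟩, rfl⟩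

theorem relsB_letters : ∀ r ∈ relsB, r.all (fun l => decide (l < 2 * 2)) = true := by decide

theorem relsL_letters : ∀ r ∈ relsL, r.all (fun l => decide (l < 2 * 3)) = true := by decide

theorem relsL_sub : ∀ r ∈ relsL, r ∈ rels2 := by
  intro r hr
  unfold rels2
  exact List.mem_append_left _ hr

end Card

/-- `⟨y, v | relsB⟩` has order at most `21` -/
theorem card_le_of_relsB {Δ : Type u} [Group Δ] (δ : ℕ → Δ) (hrel : ∀ r ∈ relsB, ev δ r = 1)
    (hgen : Subgroup.closure (Set.range fun i : Fin 2 => δ i.val) = ⊤) :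
    Finite Δ ∧ Nat.card Δ ≤ 21 := by
  have h7 : δ 0 ^ 7 = 1 := by
    have := hrel (List.replicate 7 (2 * 0)) (by decide)
    rwa [Card.ev_replicate_even] at this
  obtain ⟨hf, hc⟩ := Card.card_zpowers_le (δ 0) 7 (by norm_num) h7
  have hsg : ∀ g ∈ [[0]], ev δ g ∈ Subgroup.zpowers (δ 0) := by
    intro g hg
    rw [List.mem_singleton] at hg
    subst hg
    have := Card.ev_single δ 0
    rw [Nat.mul_zero] at this
    rw [this]
    exact Subgroup.mem_zpowers _
  obtain ⟨h1, h2⟩ := tc_sound (Subgroup.zpowers (δ 0)) δ tcDefsB relsB [[0]] 24 6 2 3 3 tcLogB hrel hsg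
    hgen tcB_ok
  refine ⟨h1, h2.trans ?_⟩
  calc 3 * Nat.card (Subgroup.zpowers (δ 0)) ≤ 3 * 7 := Nat.mul_le_mul_left _ hc
    _ = 21 := by norm_num

/-- `⟨y, v, s | relsL⟩` (the lift of `L₃(2)`) has order at most `336` -/
theorem card_le_of_relsL {Δ : Type u} [Group Δ] (δ : ℕ → Δ) (hrel : ∀ r ∈ relsL, ev δ r = 1)
    (hgen : Subgroup.closure (Set.range fun i : Fin 3 => δ i.val) = ⊤) :
    Finite Δ ∧ Nat.card Δ ≤ 336 := by
  obtain ⟨hf, hc⟩ := card_le_of_relsB (Card.subGen δ 2)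
    (fun r hr => Subtype.ext (by
      rw [Card.ev_subGen δ 2 r (Card.relsB_letters r hr), Subgroup.coe_one]
      exact hrel r (relsB_sub r hr)))
    (Card.subGen_gen δ 2)
  have hsg : ∀ g ∈ [[0], [2]], ev δ g ∈
      (Subgroup.closure (Set.range fun i : Fin 2 => δ i.val) : Subgroup Δ) := by
    intro g hg
    simp only [List.mem_cons, List.not_mem_nil, or_false] at hg
    rcases hg with rfl | rfl
    · exact Card.single_mem δ 2 0 (by norm_num)
    · exact Card.single_mem δ 2 1 (by norm_num)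
  obtain ⟨h1, h2⟩ := tc_sound (Subgroup.closure (Set.range fun i : Fin 2 => δ i.val) : Subgroup Δ) δ
    tcDefsL relsL [[0], [2]] 24 6 3 16 16 tcLogL hrel hsg hgen tcL_ok
  refine ⟨h1, h2.trans ?_⟩
  calc 16 * Nat.card (Subgroup.closure (Set.range fun i : Fin 2 => δ i.val) : Subgroup Δ) ≤ 16 * 21 :=
        Nat.mul_le_mul_left _ hc
    _ = 336 := by norm_num

/-- `⟨y, v, s, t | rels2⟩` (the cover `4² · L₃(4)`) has order at most `322560 = 16 · 20160` -/
theorem card_le_of_rels2 {Δ : Type u} [Group Δ] (δ : ℕ → Δ) (hrel : ∀ r ∈ rels2, ev δ r = 1)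
    (hgen : Subgroup.closure (Set.range fun i : Fin 4 => δ i.val) = ⊤) :
    Finite Δ ∧ Nat.card Δ ≤ 322560 := by
  obtain ⟨hf, hc⟩ := card_le_of_relsL (Card.subGen δ 3)
    (fun r hr => Subtype.ext (by
      rw [Card.ev_subGen δ 3 r (Card.relsL_letters r hr), Subgroup.coe_one]
      exact hrel r (Card.relsL_sub r hr)))
    (Card.subGen_gen δ 3)
  have hsg : ∀ g ∈ [[0], [2], [4]], ev δ g ∈
      (Subgroup.closure (Set.range fun i : Fin 3 => δ i.val) : Subgroup Δ) := by
    intro g hg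
    simp only [List.mem_cons, List.not_mem_nil, or_false] at hg
    rcases hg with rfl | rfl | rfl
    · exact Card.single_mem δ 3 0 (by norm_num)
    · exact Card.single_mem δ 3 1 (by norm_num)
    · exact Card.single_mem δ 3 2 (by norm_num)
  obtain ⟨h1, h2⟩ := Cfsg.H5.TCk2.tc_bound
    (Subgroup.closure (Set.range fun i : Fin 3 => δ i.val) : Subgroup Δ) δ
    tcDefsP rels2 [[0], [2], [4]] 12 6 4 1014 960 tcLogP hrel hsg hgen tcP_ok
  refine ⟨h1, h2.trans ?_⟩
  calc 960 * Nat.card (Subgroup.closure (Set.range fun i : Fin 3 => δ i.val) : Subgroup Δ) ≤ 960 * 336 :=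
        Nat.mul_le_mul_left _ hc
    _ = 322560 := by norm_num

/-- `⟨i, j | relsQ⟩` (the lift of `Q₈`) has order at most `8` -/
theorem card_le_of_relsQ {Δ : Type u} [Group Δ] (δ : ℕ → Δ) (hrel : ∀ r ∈ relsQ, ev δ r = 1)
    (hgen : Subgroup.closure (Set.range fun i : Fin 2 => δ i.val) = ⊤) :
    Finite Δ ∧ Nat.card Δ ≤ 8 := by
  have h4 : δ 0 ^ 4 = 1 := by
    have := hrel (List.replicate 4 (2 * 0)) (by decide)
    rwa [Card.ev_replicate_even] at this
  obtain ⟨hf, hc⟩ := Card.card_zpowers_le (δ 0) 4 (by norm_num) h4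
  have hsg : ∀ g ∈ [[0]], ev δ g ∈ Subgroup.zpowers (δ 0) := by
    intro g hg
    rw [List.mem_singleton] at hg
    subst hg
    have := Card.ev_single δ 0
    rw [Nat.mul_zero] at this
    rw [this]
    exact Subgroup.mem_zpowers _
  obtain ⟨h1, h2⟩ := tc_sound (Subgroup.zpowers (δ 0)) δ tcDefsQ relsQ [[0]] 24 6 2 2 2 tcLogQ hrel hsg
    hgen tcQ_ok
  refine ⟨h1, h2.trans ?_⟩
  calc 2 * Nat.card (Subgroup.zpowers (δ 0)) ≤ 2 * 4 := Nat.mul_le_mul_left _ hc
    _ = 8 := by norm_num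

end Cfsg.Agent.Lib.Helper7.L34
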