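import Cfsg.Agent.Lib.Helper7.L34ModelChk

/-!
# S2088: the permutation model of the cover `4² · L₃(4)` on `480 + 480` points (helper7)

Only the relators of `relsCov` are checked on the tables (`L34ModelChk`), and that the sixteen products
`k_a ^ i * k_b ^ j` are told apart by the images of the points `0` and `480`.
-/

set_option autoImplicit false

namespace Cfsg.Agent.Lib.Helper7.L34

open Cfsg.H5.TCk Cfsg.Agent.Lib.Helper28.BSGS

namespace Model

/-- a list all of whose chunks of length `c` pass a Boolean test passes it -/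
theorem all_of_chunks {α : Type*} (l : List α) (p : α → Bool) (c n : ℕ) (hc : 0 < c)
    (hlen : l.length ≤ c * n) (h : ∀ k < n, ((l.drop (c * k)).take c).all p = true) :
    l.all p = true := by
  rw [List.all_eq_true]
  intro x hx
  obtain ⟨i, hi, rfl⟩ := List.mem_iff_getElem.mp hx
  have hk : i / c < n := by
    rw [Nat.div_lt_iff_lt_mul hc]
    calc i < l.length := hi
      _ ≤ c * n := hlen
      _ = n * c := Nat.mul_comm _ _
  have h1 := h (i / c) hk
  rw [List.all_eq_true] at h1
  apply h1
  have hdm : c * (i / c) + i % c = i := Nat.div_add_mod i c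
  have hm : i % c < c := Nat.mod_lt _ hc
  have hi2 : i % c < ((l.drop (c * (i / c))).take c).length := by
    rw [List.length_take, List.length_drop]
    omega
  have : ((l.drop (c * (i / c))).take c)[i % c]'hi2 = l[i]'hi := by
    rw [List.getElem_take, List.getElem_drop]
    congr 1
  rw [← this]
  exact List.getElem_mem _

set_option maxRecDepth 100000 in
theorem relsCov_length : relsCov.length ≤ 50 * 11 := by decide +kernel

theorem relsCov_ok : relsCov.all fixAll = true := by
  apply all_of_chunks relsCov fixAll 50 11 (by norm_num) relsCov_length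
  intro k hk
  interval_cases k
  · exact chunk0
  · exact chunk1
  · exact chunk2
  · exact chunk3
  · exact chunk4
  · exact chunk5
  · exact chunk6
  · exact chunk7
  · exact chunk8
  · exact chunk9
  · exact chunk10

/-- the word `k_a ^ i * k_b ^ j` -/
def kw (i j : ℕ) : List ℕ := (List.replicate i wordKa).flatten ++ (List.replicate j wordKb).flatten

theorem ev_flatten_replicate {Γ : Type*} [Group Γ] (γ : ℕ → Γ) (w : List ℕ) (i : ℕ) :
    ev γ (List.replicate i w).flatten = ev γ w ^ i := by
  induction i with
  | zero => simp [ev]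
  | succ i ih => rw [List.replicate_succ, List.flatten_cons, ev_append, ih, pow_succ']

theorem ev_kw {Γ : Type*} [Group Γ] (γ : ℕ → Γ) (i j : ℕ) :
    ev γ (kw i j) = ev γ wordKa ^ i * ev γ wordKb ^ j := by
  unfold kw
  rw [ev_append, ev_flatten_replicate, ev_flatten_replicate]

/-- the images of the points `0` and `480` -/
def sig (i j : ℕ) : ℕ × ℕ :=
  (evalW 10 ((kw i j).map mtab) 0, evalW 10 ((kw i j).map mtab) 480)

theorem kw_all : ∀ i j : Fin 4, (kw i.val j.val).all (fun l => decide (l < 8)) = true := by decide

set_option maxRecDepth 100000 in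
theorem sig_inj : ∀ i j i' j' : Fin 4, sig i.val j.val = sig i'.val j'.val → i = i' ∧ j = j' := by
  decide +kernel

end Model

/-- [M] four permutations of `Fin 960` satisfying `relsCov` on which the sixteen `k_a ^ i * k_b ^ j` are distinct -/
theorem exists_model : ∃ m : ℕ → Equiv.Perm (Fin 960), (∀ r ∈ relsCov, ev m r = 1) ∧
    ∀ i j i' j' : Fin 4, ev m wordKa ^ i.val * ev m wordKb ^ j.val =
      ev m wordKa ^ i'.val * ev m wordKb ^ j'.val → i = i' ∧ j = j' := by
  refine ⟨Model.mp, ?_, ?_⟩
  · intro r hr
    exact Model.ev_eq_one r (List.all_eq_true.mp Model.relsCov_ok r hr)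
  · intro i j i' j' h
    rw [← Model.ev_kw, ← Model.ev_kw] at h
    apply Model.sig_inj
    unfold Model.sig
    have h0 := Model.ev_acts _ (Model.kw_all i j) (⟨0, by norm_num⟩ : Fin 960)
    have h0' := Model.ev_acts _ (Model.kw_all i' j') (⟨0, by norm_num⟩ : Fin 960)
    have h1 := Model.ev_acts _ (Model.kw_all i j) (⟨480, by norm_num⟩ : Fin 960)
    have h1' := Model.ev_acts _ (Model.kw_all i' j') (⟨480, by norm_num⟩ : Fin 960)
    rw [h] at h0 h1
    simp only at h0 h0' h1 h1'
    rw [← h0, ← h1, h0', h1']

end Cfsg.Agent.Lib.Helper7.L34
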