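import Mathlib

/-!
# S4130 farm-out (architect helper3): conjugation action of a subgroup of `N(P)` on `P`
-/

set_option autoImplicit false

namespace Cfsg.Agent.Lib.Helper7.S4130

open Subgroup

variable {G : Type*} [Group G]

/-- conjugation action of a subgroup `H ≤ N(P)` on `P` -/
@[reducible] def conjOn (H P : Subgroup G) (hH : H ≤ normalizer (P : Set G)) :
    MulAction ↥H ↥P where
  smul g x := ⟨(g : G) * x * (g : G)⁻¹, (mem_normalizer_iff.mp (hH g.2) x).mp x.2⟩
  one_smul x := by
    apply Subtype.ext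
    show ((1 : H) : G) * x * ((1 : H) : G)⁻¹ = x
    simp
  mul_smul g h x := by
    apply Subtype.ext
    show ((g * h : H) : G) * x * ((g * h : H) : G)⁻¹ = (g : G) * ((h : G) * x * (h : G)⁻¹) * (g : G)⁻¹
    simp [mul_assoc]

theorem conjOn_smul_coe (H P : Subgroup G) (hH : H ≤ normalizer (P : Set G)) (g : H) (x : P) :
    letI := conjOn H P hH
    ((g • x : P) : G) = (g : G) * x * (g : G)⁻¹ := rfl

/-- the fixed points of `g` in the conjugation action are `P ⊓ C(g)` -/
theorem card_fixedBy_conjOn (H P : Subgroup G) (hH : H ≤ normalizer (P : Set G)) (g : H) :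
    letI := conjOn H P hH
    Nat.card (MulAction.fixedBy ↥P g) = Nat.card ↥(P ⊓ centralizer ({(g : G)} : Set G)) := by
  let _ := conjOn H P hH
  refine Nat.card_congr
    { toFun := fun x => ⟨(x.1 : G), x.1.2, ?_⟩
      invFun := fun y => ⟨⟨(y : G), y.2.1⟩, ?_⟩
      left_inv := fun x => rfl
      right_inv := fun y => rfl }
  · have hx : g • x.1 = x.1 := x.2
    have hx' : (g : G) * (x.1 : G) * (g : G)⁻¹ = (x.1 : G) := congrArg Subtype.val hx
    show (x.1 : G) ∈ centralizer ({(g : G)} : Set G)
    rw [mem_centralizer_iff]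
    intro z hz
    rw [Set.mem_singleton_iff] at hz
    subst hz
    calc (g : G) * (x.1 : G) = ((g : G) * (x.1 : G) * (g : G)⁻¹) * g := by group
      _ = (x.1 : G) * g := by rw [hx']
  · have hy : (y : G) ∈ centralizer ({(g : G)} : Set G) := y.2.2
    rw [mem_centralizer_iff] at hy
    have hy' := hy (g : G) rfl
    show g • (⟨(y : G), y.2.1⟩ : P) = ⟨(y : G), y.2.1⟩
    apply Subtype.ext
    show (g : G) * (y : G) * (g : G)⁻¹ = (y : G)
    rw [hy', mul_inv_cancel_right]

end Cfsg.Agent.Lib.Helper7.S4130
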