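import Mathlib
import Cfsg.Agent.Lib.Helper7.S4130Conj

/-!
# S4130 farm-out (architect helper3): FO-2a (`FO2a_card_fixed_le`)
-/

set_option autoImplicit false

namespace Cfsg.Agent.Lib.Helper7.S4130

open Subgroup

section
variable {G : Type*} [Group G]

/-- if `g ∉ C` then some power of `g` of prime power order is not in `C` -/
theorem exists_prime_pow_part [Finite G] (C : Subgroup G) :
    ∀ (m : ℕ) (g : G), orderOf g = m → g ∉ C →
      ∃ (q k : ℕ) (y : G), q.Prime ∧ orderOf y = q ^ k ∧ y ∈ zpowers g ∧ y ∉ C := by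
  intro m
  induction m using Nat.strong_induction_on with
  | _ m ih =>
    intro g hgm hgC
    have hm0 : 0 < m := hgm ▸ orderOf_pos g
    have hm1 : m ≠ 1 := by
      rintro rfl
      rw [orderOf_eq_one_iff] at hgm
      exact hgC (hgm ▸ C.one_mem)
    set q := m.minFac with hqdef
    have hq : q.Prime := Nat.minFac_prime hm1
    obtain ⟨v, b, hqb, hmb⟩ := Nat.exists_eq_pow_mul_and_not_dvd hm0.ne' q hq.ne_one
    by_cases hb1 : b = 1
    · exact ⟨q, v, g, hq, by rw [hgm, hmb, hb1, mul_one], mem_zpowers g, hgC⟩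
    · have hb0 : b ≠ 0 := by
        rintro rfl
        rw [mul_zero] at hmb
        omega
      have hv : v ≠ 0 := by
        rintro rfl
        rw [pow_zero, one_mul] at hmb
        exact hqb (hmb ▸ Nat.minFac_dvd m)
      have hqv0 : q ^ v ≠ 0 := pow_ne_zero _ hq.pos.ne'
      have hcop : Nat.Coprime (q ^ v) b :=
        Nat.Coprime.pow_left v ((Nat.Prime.coprime_iff_not_dvd hq).mpr hqb)
      have ho1 : orderOf (g ^ (q ^ v)) = b := by
        rw [orderOf_pow_of_dvd hqv0 (by rw [hgm, hmb]; exact dvd_mul_right _ _), hgm, hmb]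
        exact Nat.mul_div_cancel_left b (pow_pos hq.pos v)
      have ho2 : orderOf (g ^ b) = q ^ v := by
        rw [orderOf_pow_of_dvd hb0 (by rw [hgm, hmb]; exact dvd_mul_left _ _), hgm, hmb]
        exact Nat.mul_div_cancel (q ^ v) (Nat.pos_of_ne_zero hb0)
      by_cases h2 : g ^ b ∈ C
      · by_cases h1 : g ^ (q ^ v) ∈ C
        · exfalso
          apply hgC
          have hbez := Nat.gcd_eq_gcd_ab (q ^ v) b
          rw [hcop.gcd_eq_one] at hbez
          have : g = (g ^ (q ^ v)) ^ (Nat.gcdA (q ^ v) b) * (g ^ b) ^ (Nat.gcdB (q ^ v) b) := by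
            rw [← zpow_natCast g (q ^ v), ← zpow_natCast g b, ← zpow_mul, ← zpow_mul, ← zpow_add,
              ← hbez]
            simp
          rw [this]
          exact C.mul_mem (C.zpow_mem h1 _) (C.zpow_mem h2 _)
        · have hblt : b < m := by
            rw [hmb]
            have : 2 ≤ q ^ v := by
              calc 2 ≤ q := hq.two_le
                _ = q ^ 1 := (pow_one q).symm
                _ ≤ q ^ v := Nat.pow_le_pow_right hq.pos (Nat.pos_of_ne_zero hv)
            nlinarith [Nat.pos_of_ne_zero hb0]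
          obtain ⟨q', k, y, hq', hyo, hyg, hyC⟩ := ih b hblt (g ^ (q ^ v)) ho1 h1
          refine ⟨q', k, y, hq', hyo, ?_, hyC⟩
          exact (zpowers_le.mpr (pow_mem (mem_zpowers g) _)) hyg
      · exact ⟨q, v, g ^ b, hq, ho2, pow_mem (mem_zpowers g) _, h2⟩

/-- a `p`-element normalizing a Sylow `p`-subgroup lies in it -/
theorem mem_sylow_of_mem_normalizer [Finite G] (p : ℕ) [Fact p.Prime] (P : Sylow p G) (y : G) (k : ℕ)
    (hyo : orderOf y = p ^ k) (hyN : y ∈ normalizer ((P : Subgroup G) : Set G)) :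
    y ∈ (P : Subgroup G) := by
  have hzy : IsPGroup p (zpowers y) :=
    IsPGroup.of_card (n := k) (by rw [Nat.card_zpowers, hyo])
  have hsup : IsPGroup p (zpowers y ⊔ (P : Subgroup G) : Subgroup G) :=
    IsPGroup.to_sup_of_normal_right' hzy P.2 (zpowers_le.mpr hyN)
  have h1 := P.is_maximal' hsup le_sup_right
  have h2 : y ∈ zpowers y ⊔ (P : Subgroup G) := (le_sup_left : zpowers y ≤ _) (mem_zpowers y)
  rw [h1] at h2
  exact h2

/-- fixed points of `⟨y⟩` acting on `P` by conjugation -/
theorem card_fixedPoints_conjOn_zpowers (P : Subgroup G) (y : G)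
    (hy : zpowers y ≤ normalizer (P : Set G)) :
    letI := conjOn (zpowers y) P hy
    Nat.card (MulAction.fixedPoints ↥(zpowers y) ↥P) =
      Nat.card ↥(P ⊓ centralizer ({y} : Set G)) := by
  let _ := conjOn (zpowers y) P hy
  refine Nat.card_congr
    { toFun := fun x => ⟨(x.1 : G), x.1.2, ?_⟩
      invFun := fun z => ⟨⟨(z : G), z.2.1⟩, ?_⟩
      left_inv := fun x => rfl
      right_inv := fun z => rfl }
  · have hx : (⟨y, mem_zpowers y⟩ : zpowers y) • x.1 = x.1 := x.2 _
    have hx' : y * (x.1 : G) * y⁻¹ = (x.1 : G) := congrArg Subtype.val hx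
    show (x.1 : G) ∈ centralizer ({y} : Set G)
    rw [mem_centralizer_iff]
    intro z hz
    rw [Set.mem_singleton_iff] at hz
    subst hz
    calc z * (x.1 : G) = (z * (x.1 : G) * z⁻¹) * z := by group
      _ = (x.1 : G) * z := by rw [hx']
  · have hz : (z : G) ∈ centralizer ({y} : Set G) := z.2.2
    rw [mem_centralizer_iff] at hz
    have hz' : Commute y (z : G) := hz y rfl
    intro w
    apply Subtype.ext
    show (w : G) * (z : G) * (w : G)⁻¹ = (z : G)
    obtain ⟨j, hj⟩ := mem_zpowers_iff.mp w.2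
    have hc : Commute (w : G) (z : G) := by
      rw [← hj]
      exact hz'.zpow_left j
    rw [hc.eq, mul_inv_cancel_right]

end

theorem FO2a_card_fixed_le {G : Type*} [Group G] [Finite G] (p : ℕ) [Fact p.Prime]
    (hmin : ∀ q : ℕ, q.Prime → q ∣ Nat.card G → p ≤ q) (P : Sylow p G)
    (hab : ∀ a ∈ (P : Subgroup G), ∀ b ∈ (P : Subgroup G), a * b = b * a)
    (g : G) (hg : g ∈ normalizer ((P : Subgroup G) : Set G))
    (hgc : g ∉ centralizer ((P : Subgroup G) : Set G)) :
    p ^ 2 * Nat.card ↥((P : Subgroup G) ⊓ centralizer ({g} : Set G)) ≤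
      Nat.card (P : Subgroup G) := by
  classical
  have hp : p.Prime := Fact.out
  set C := centralizer ((P : Subgroup G) : Set G) with hC
  obtain ⟨q, k, y, hq, hyo, hyg, hyC⟩ := exists_prime_pow_part C (orderOf g) g rfl hgc
  have hyN : y ∈ normalizer ((P : Subgroup G) : Set G) := (zpowers_le.mpr hg) hyg
  have hPC : (P : Subgroup G) ≤ C := fun a ha =>
    mem_centralizer_iff.mpr (fun b hb => hab b hb a ha)
  have hqp : q ≠ p := by
    rintro rfl
    exact hyC (hPC (mem_sylow_of_mem_normalizer q P y k hyo hyN))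
  have hk : k ≠ 0 := by
    rintro rfl
    rw [pow_zero, orderOf_eq_one_iff] at hyo
    exact hyC (hyo ▸ C.one_mem)
  have hqG : q ∣ Nat.card G := (dvd_pow_self q hk).trans (hyo ▸ orderOf_dvd_natCard y)
  have hpq : p < q := lt_of_le_of_ne (hmin q hq hqG) (Ne.symm hqp)
  have hyle : zpowers y ≤ normalizer ((P : Subgroup G) : Set G) := zpowers_le.mpr hyN
  letI : MulAction ↥(zpowers y) ↥(P : Subgroup G) := conjOn (zpowers y) (P : Subgroup G) hyle
  have hqgrp : IsPGroup q (zpowers y) :=
    IsPGroup.of_card (n := k) (by rw [Nat.card_zpowers, hyo])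
  haveI : Fact q.Prime := ⟨hq⟩
  have hmod := hqgrp.card_modEq_card_fixedPoints (↥(P : Subgroup G))
  rw [card_fixedPoints_conjOn_zpowers (P : Subgroup G) y hyle] at hmod
  -- cardinalities as `p`-powers
  obtain ⟨n, hn⟩ := IsPGroup.iff_card.mp P.2
  have hDp : IsPGroup p ↥((P : Subgroup G) ⊓ centralizer ({y} : Set G)) :=
    P.2.to_le inf_le_left
  obtain ⟨j, hj⟩ := IsPGroup.iff_card.mp hDp
  rw [hn, hj] at hmod
  have hjn : j ≤ n := by
    have h1 : Nat.card ↥((P : Subgroup G) ⊓ centralizer ({y} : Set G)) ≤ Nat.card (P : Subgroup G) :=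
      Subgroup.card_le_of_le inf_le_left
    rw [hn, hj] at h1
    exact (Nat.pow_le_pow_iff_right hp.one_lt).mp h1
  have hjne : j ≠ n := by
    rintro rfl
    have heq : (P : Subgroup G) ⊓ centralizer ({y} : Set G) = (P : Subgroup G) :=
      Subgroup.eq_of_le_of_card_ge inf_le_left (by rw [hn, hj])
    apply hyC
    rw [mem_centralizer_iff]
    intro a ha
    have ha' : a ∈ (P : Subgroup G) ⊓ centralizer ({y} : Set G) := by
      rw [heq]; exact ha
    have := mem_centralizer_iff.mp ha'.2 y rfl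
    exact this.symm
  have hjn2 : j + 2 ≤ n := by
    by_contra hcon
    have hj1 : n = j + 1 := by omega
    rw [hj1] at hmod
    have hdvd : q ∣ p ^ (j + 1) - p ^ j :=
      (Nat.modEq_iff_dvd' (Nat.pow_le_pow_right hp.pos (Nat.le_succ j))).mp hmod.symm
    have hfac : p ^ (j + 1) - p ^ j = p ^ j * (p - 1) := by
      rw [pow_succ, Nat.mul_sub, mul_one]
    rw [hfac] at hdvd
    rcases (Nat.Prime.dvd_mul hq).mp hdvd with h1 | h1
    · have := (Nat.prime_dvd_prime_iff_eq hq hp).mp (hq.dvd_of_dvd_pow h1)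
      exact hqp this
    · have := Nat.le_of_dvd (by have := hp.two_le; omega) h1
      omega
  -- conclude
  have hle : Nat.card ↥((P : Subgroup G) ⊓ centralizer ({g} : Set G)) ≤
      Nat.card ↥((P : Subgroup G) ⊓ centralizer ({y} : Set G)) := by
    apply Subgroup.card_le_of_le
    intro x hx
    refine ⟨hx.1, ?_⟩
    have hxg := mem_centralizer_iff.mp hx.2 g rfl
    show x ∈ centralizer ({y} : Set G)
    rw [mem_centralizer_iff]
    intro z hz
    rw [Set.mem_singleton_iff] at hz
    subst hz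
    obtain ⟨i, hi⟩ := mem_zpowers_iff.mp hyg
    rw [← hi]
    have hc : Commute g x := hxg
    exact (hc.zpow_left i).eq
  calc p ^ 2 * Nat.card ↥((P : Subgroup G) ⊓ centralizer ({g} : Set G))
      ≤ p ^ 2 * p ^ j := Nat.mul_le_mul_left _ (hj ▸ hle)
    _ = p ^ (j + 2) := by rw [← pow_add, add_comm]
    _ ≤ p ^ n := Nat.pow_le_pow_right hp.pos hjn2
    _ = Nat.card (P : Subgroup G) := hn.symm

end Cfsg.Agent.Lib.Helper7.S4130
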