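import Mathlib

/-!
# S4130 farm-out (architect helper3): FO-2b (`FO2b_exists_nonconj`)
Burnside's lemma for `G` acting by conjugation on `{t | t ^ p = 1}`.
-/

set_option autoImplicit false

namespace Cfsg.Agent.Lib.Helper7.S4130

open Subgroup

section
variable {G : Type*} [Group G]

/-- conjugation action of `G` on `{t // t ^ p = 1}` -/
@[reducible] def conjPow (p : ℕ) : MulAction G {t : G // t ^ p = 1} where
  smul g x := ⟨g * x.1 * g⁻¹, by rw [conj_pow, x.2, mul_one, mul_inv_cancel]⟩
  one_smul x := by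
    apply Subtype.ext
    show (1 : G) * x.1 * (1 : G)⁻¹ = x.1
    simp
  mul_smul g h x := by
    apply Subtype.ext
    show (g * h) * x.1 * (g * h)⁻¹ = g * (h * x.1 * h⁻¹) * g⁻¹
    simp [mul_assoc]

/-- a `p`-element of `G` has `x ^ p = 1` if the Sylow `p`-subgroup `P` has exponent `p` -/
theorem pow_eq_one_of_sylow_exp [Finite G] (p : ℕ) [Fact p.Prime] (P : Sylow p G)
    (hexp : ∀ a ∈ (P : Subgroup G), a ^ p = 1) (x : G) (k : ℕ) (hx : x ^ p ^ k = 1) :
    x ^ p = 1 := by
  have hz : IsPGroup p (zpowers x) := by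
    rw [IsPGroup.iff_orderOf]
    intro y
    obtain ⟨j, hj⟩ := mem_zpowers_iff.mp y.2
    have h1 : (y : G) ^ p ^ k = 1 := by
      rw [← hj, ← zpow_natCast, ← zpow_mul, mul_comm, zpow_mul, zpow_natCast, hx, one_zpow]
    have h2 : y ^ p ^ k = 1 := Subtype.ext (by simpa using h1)
    obtain ⟨m, -, hm⟩ := (Nat.dvd_prime_pow Fact.out).mp (orderOf_dvd_of_pow_eq_one h2)
    exact ⟨m, hm⟩
  obtain ⟨Q, hQ⟩ := hz.exists_le_sylow
  obtain ⟨g, hg⟩ := MulAction.exists_smul_eq G Q P
  have hxQ : x ∈ (Q : Subgroup G) := hQ (mem_zpowers x)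
  have hxP : g * x * g⁻¹ ∈ (P : Subgroup G) := by
    rw [← hg, Sylow.coe_subgroup_smul]
    exact ⟨x, hxQ, rfl⟩
  have h1 := hexp _ hxP
  rw [conj_pow] at h1
  have : x ^ p = g⁻¹ * (g * x ^ p * g⁻¹) * g := by group
  rw [this, h1]
  group

end

theorem FO2b_exists_nonconj {G : Type*} [Group G] [Finite G] (p n : ℕ) [Fact p.Prime]
    (hn : 1 ≤ n) (P : Sylow p G) (hcard : Nat.card (P : Subgroup G) = p ^ n)
    (hexp : ∀ a ∈ (P : Subgroup G), a ^ p = 1)
    (h : ∀ x : G, ¬ p ^ 2 ∣ (centralizer ({x} : Set G)).index) :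
    ∃ R : Finset G, p ^ (n - 1) < R.card ∧ (∀ t ∈ R, t ^ p = 1) ∧
      ∀ s ∈ R, ∀ t ∈ R, IsConj s t → s = t := by
  classical
  have hp : p.Prime := Fact.out
  let I := {t : G // t ^ p = 1}
  letI : MulAction G I := conjPow p
  haveI : Fintype G := Fintype.ofFinite _
  haveI : Fintype I := Fintype.ofFinite _
  have hB := MulAction.sum_card_fixedBy_eq_card_orbits_mul_card_group G I
  set Ω := Quotient (MulAction.orbitRel G I) with hΩ
  -- `n` is the `p`-adic valuation of `|G|`
  have hnv : n = (Nat.card G).factorization p := by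
    have h1 := P.card_eq_multiplicity
    rw [hcard] at h1
    exact Nat.pow_right_injective hp.two_le h1
  -- lower bound for each `g`
  have hlow : ∀ g : G, p ^ (n - 1) ≤ Fintype.card (MulAction.fixedBy I g) := by
    intro g
    set Cg := centralizer ({g} : Set G) with hCg
    obtain T : Sylow p Cg := default
    have hT := T.card_eq_multiplicity
    have hidx : Nat.card Cg * Cg.index = Nat.card G := Subgroup.card_mul_index Cg
    have hfac : (Nat.card G).factorization p =
        (Nat.card Cg).factorization p + Cg.index.factorization p := by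
      rw [← hidx, Nat.factorization_mul Nat.card_pos.ne' (Subgroup.index_ne_zero_of_finite)]
      rfl
    have hi1 : Cg.index.factorization p ≤ 1 := by
      by_contra hcon
      push Not at hcon
      apply h g
      exact (pow_dvd_pow p hcon).trans (Nat.ordProj_dvd _ _)
    have hge : n - 1 ≤ (Nat.card Cg).factorization p := by omega
    calc p ^ (n - 1) ≤ p ^ (Nat.card Cg).factorization p := Nat.pow_le_pow_right hp.pos hge
      _ = Nat.card T := hT.symm
      _ = Fintype.card T := Nat.card_eq_fintype_card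
      _ ≤ Fintype.card (MulAction.fixedBy I g) := by
        refine Fintype.card_le_of_injective (fun t => ⟨⟨((t : Cg) : G), ?_⟩, ?_⟩) ?_
        · obtain ⟨k, hk⟩ := T.2 t
          have hk' : ((t : Cg) : G) ^ p ^ k = 1 := by
            have := congrArg (fun z : T => ((z : Cg) : G)) hk
            simpa using this
          exact pow_eq_one_of_sylow_exp p P hexp _ k hk'
        · show g • (⟨((t : Cg) : G), _⟩ : I) = ⟨((t : Cg) : G), _⟩
          apply Subtype.ext
          show g * ((t : Cg) : G) * g⁻¹ = ((t : Cg) : G)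
          have ht : ((t : Cg) : G) ∈ centralizer ({g} : Set G) := (t : Cg).2
          rw [mem_centralizer_iff] at ht
          rw [ht g rfl, mul_inv_cancel_right]
        · intro s t hst
          have := congrArg (fun z => ((z : MulAction.fixedBy I g) : I).1) hst
          exact Subtype.ext (Subtype.ext this)
  -- bound for `g = 1`
  have hone : p ^ n ≤ Fintype.card (MulAction.fixedBy I (1 : G)) := by
    rw [← hcard, Nat.card_eq_fintype_card]
    refine Fintype.card_le_of_injective
      (fun t : (P : Subgroup G) => ⟨⟨(t : G), hexp t t.2⟩, one_smul G _⟩) ?_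
    intro s t hst
    have := congrArg (fun z => ((z : MulAction.fixedBy I (1 : G)) : I).1) hst
    exact Subtype.ext this
  -- the sum
  have hsum : Fintype.card G * p ^ (n - 1) <
      ∑ g : G, Fintype.card (MulAction.fixedBy I g) := by
    have hlt : p ^ (n - 1) < p ^ n := Nat.pow_lt_pow_right hp.one_lt (by omega)
    calc Fintype.card G * p ^ (n - 1) = ∑ _g : G, p ^ (n - 1) := by
          rw [Finset.sum_const, Finset.card_univ, smul_eq_mul]
      _ < ∑ g : G, Fintype.card (MulAction.fixedBy I g) := by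
          refine Finset.sum_lt_sum (fun g _ => hlow g) ⟨1, Finset.mem_univ _, ?_⟩
          exact lt_of_lt_of_le hlt hone
  rw [hB, mul_comm] at hsum
  have hΩcard : p ^ (n - 1) < Fintype.card Ω := Nat.lt_of_mul_lt_mul_right hsum
  -- representatives
  refine ⟨Finset.univ.image (fun ω : Ω => ((Quotient.out ω : I) : G)), ?_, ?_, ?_⟩
  · rw [Finset.card_image_of_injective, Finset.card_univ]
    · exact hΩcard
    · intro ω₁ ω₂ h12
      exact Quotient.out_injective (Subtype.ext h12)
  · intro t ht
    rw [Finset.mem_image] at ht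
    obtain ⟨ω, -, rfl⟩ := ht
    exact (Quotient.out ω : I).2
  · intro s hs t ht hst
    rw [Finset.mem_image] at hs ht
    obtain ⟨ω₁, -, rfl⟩ := hs
    obtain ⟨ω₂, -, rfl⟩ := ht
    obtain ⟨c, hc⟩ := isConj_iff.mp hst
    have hrel : MulAction.orbitRel G I (Quotient.out ω₂) (Quotient.out ω₁) := by
      rw [MulAction.orbitRel_apply, MulAction.mem_orbit_iff]
      exact ⟨c, Subtype.ext hc⟩
    have : ω₂ = ω₁ := by
      rw [← Quotient.out_eq ω₂, ← Quotient.out_eq ω₁]
      exact Quotient.sound hrel
    rw [this]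

end Cfsg.Agent.Lib.Helper7.S4130
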