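import Mathlib
import Cfsg.Agent.Lib.Helper7.S4130Conj

/-!
# S4130 farm-out (architect helper3): FO-2c (`FO2c_card_mul_le`)
Burnside's lemma for `N(P)` acting on `P` by conjugation.
-/

set_option autoImplicit false

namespace Cfsg.Agent.Lib.Helper7.S4130

open Subgroup

theorem FO2c_card_mul_le {G : Type*} [Group G] [Finite G] (p n : ℕ) [Fact p.Prime]
    (hn : 2 ≤ n) (P : Sylow p G) (hcard : Nat.card (P : Subgroup G) = p ^ n)
    (hfix : ∀ g ∈ normalizer ((P : Subgroup G) : Set G), g ∉ centralizer ((P : Subgroup G) : Set G) →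
      p ^ 2 * Nat.card ↥((P : Subgroup G) ⊓ centralizer ({g} : Set G)) ≤ p ^ n)
    (R : Finset G) (hRP : ∀ t ∈ R, t ∈ (P : Subgroup G))
    (hR : ∀ s ∈ R, ∀ t ∈ R, (∃ g ∈ normalizer ((P : Subgroup G) : Set G), g * s * g⁻¹ = t) → s = t) :
    R.card * (centralizer ((P : Subgroup G) : Set G)).relIndex (normalizer ((P : Subgroup G) : Set G)) ≤
      p ^ n + ((centralizer ((P : Subgroup G) : Set G)).relIndex (normalizer ((P : Subgroup G) : Set G)) - 1)
        * p ^ (n - 2) := by
  classical
  have hp : p.Prime := Fact.out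
  set N := normalizer ((P : Subgroup G) : Set G) with hN
  set C := centralizer ((P : Subgroup G) : Set G) with hC
  set a := C.relIndex N with ha
  letI : MulAction ↥N ↥(P : Subgroup G) := conjOn N (P : Subgroup G) le_rfl
  haveI : Fintype ↥N := Fintype.ofFinite _
  haveI : Fintype ↥(P : Subgroup G) := Fintype.ofFinite _
  -- Burnside
  have hB := MulAction.sum_card_fixedBy_eq_card_orbits_mul_card_group ↥N ↥(P : Subgroup G)
  set Ω := Quotient (MulAction.orbitRel ↥N ↥(P : Subgroup G)) with hΩ
  -- `|R| ≤ #orbits`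
  have hRle : R.card ≤ Fintype.card Ω := by
    rw [← Fintype.card_coe]
    refine Fintype.card_le_of_injective
      (fun t : R => (Quotient.mk'' (⟨(t : G), hRP t t.2⟩ : (P : Subgroup G)) : Ω)) ?_
    intro s t hst
    have h1 : MulAction.orbitRel ↥N ↥(P : Subgroup G) ⟨(s : G), hRP s s.2⟩ ⟨(t : G), hRP t t.2⟩ :=
      Quotient.exact hst
    rw [MulAction.orbitRel_apply, MulAction.mem_orbit_iff] at h1
    obtain ⟨g, hg⟩ := h1
    have hg' : (g : G) * (t : G) * (g : G)⁻¹ = (s : G) := congrArg Subtype.val hg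
    exact Subtype.ext (hR t t.2 s s.2 ⟨g, g.2, hg'⟩).symm
  -- fixed points
  have hfixC : ∀ g : N, (g : G) ∈ C → Fintype.card (MulAction.fixedBy ↥(P : Subgroup G) g) = p ^ n := by
    intro g hg
    rw [← Nat.card_eq_fintype_card, card_fixedBy_conjOn N (P : Subgroup G) le_rfl g, ← hcard]
    have : (P : Subgroup G) ⊓ centralizer ({(g : G)} : Set G) = (P : Subgroup G) := by
      apply inf_eq_left.mpr
      intro x hx
      rw [mem_centralizer_iff]
      intro z hz
      rw [Set.mem_singleton_iff] at hz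
      subst hz
      exact ((mem_centralizer_iff.mp hg) x hx).symm
    rw [this]
  have hfixN : ∀ g : N, (g : G) ∉ C →
      Fintype.card (MulAction.fixedBy ↥(P : Subgroup G) g) ≤ p ^ (n - 2) := by
    intro g hg
    rw [← Nat.card_eq_fintype_card, card_fixedBy_conjOn N (P : Subgroup G) le_rfl g]
    have h1 := hfix g g.2 hg
    have h2 : p ^ n = p ^ 2 * p ^ (n - 2) := by rw [← pow_add]; congr 1; omega
    rw [h2] at h1
    exact Nat.le_of_mul_le_mul_left h1 (pow_pos hp.pos 2)
  -- `|N| = a * c`
  set c := Nat.card ↥(C.subgroupOf N) with hc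
  have hac : a * c = Fintype.card ↥N := by
    rw [← Nat.card_eq_fintype_card, ha, hc, Subgroup.relIndex, mul_comm]
    exact Subgroup.card_mul_index _
  have hcpos : 0 < c := Nat.card_pos
  have hapos : 1 ≤ a := by
    rcases Nat.eq_zero_or_pos a with h0 | h0
    · rw [h0, zero_mul] at hac
      have : 0 < Fintype.card ↥N := Fintype.card_pos
      omega
    · exact h0
  have hcfilter : (Finset.univ.filter (fun g : N => (g : G) ∈ C)).card = c := by
    rw [hc, Nat.card_eq_fintype_card, Fintype.card_subtype]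
    rfl
  -- the sum
  have hsum : (∑ g : N, Fintype.card (MulAction.fixedBy ↥(P : Subgroup G) g)) ≤
      c * p ^ n + (Fintype.card ↥N - c) * p ^ (n - 2) := by
    rw [← Finset.sum_filter_add_sum_filter_not Finset.univ (fun g : N => (g : G) ∈ C)]
    refine add_le_add ?_ ?_
    · rw [← hcfilter, ← smul_eq_mul, ← Finset.sum_const]
      refine Finset.sum_le_sum ?_
      intro g hg
      rw [Finset.mem_filter] at hg
      exact (hfixC g hg.2).le
    · have hcard2 : (Finset.univ.filter (fun g : N => ¬ (g : G) ∈ C)).card = Fintype.card ↥N - c := by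
        rw [← hcfilter, ← Finset.card_univ, Finset.filter_not, Finset.card_sdiff_of_subset (Finset.filter_subset _ _)]
      rw [← hcard2, ← smul_eq_mul, ← Finset.sum_const]
      refine Finset.sum_le_sum ?_
      intro g hg
      rw [Finset.mem_filter] at hg
      exact hfixN g hg.2
  rw [hB, ← hac] at hsum
  have h3 : a * c - c = (a - 1) * c := by rw [Nat.sub_mul, one_mul]
  rw [h3] at hsum
  have h4 : R.card * a * c ≤ (p ^ n + (a - 1) * p ^ (n - 2)) * c := by
    calc R.card * a * c = R.card * (a * c) := by ring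
      _ ≤ Fintype.card Ω * (a * c) := Nat.mul_le_mul_right _ hRle
      _ ≤ c * p ^ n + (a - 1) * c * p ^ (n - 2) := hsum
      _ = (p ^ n + (a - 1) * p ^ (n - 2)) * c := by ring
  exact Nat.le_of_mul_le_mul_right h4 hcpos

end Cfsg.Agent.Lib.Helper7.S4130
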