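import Mathlib
import Cfsg.Agent.Lib.Helper3.SpTDefs
import Cfsg.Agent.Lib.Helper3.SpTL1
import Cfsg.Agent.Lib.Helper3.SpTL2
import Cfsg.Agent.Lib.Helper3.SpTL3
import Cfsg.Agent.Lib.Helper3.SpTL3T

/-!
# S5704, piece FO-T3A (helper7): a radical element of `M` outside `N0` yields a short root element
`gE C w w'` in `M` with `C` non-scalar.
-/

set_option autoImplicit false

namespace Cfsg.Agent.Lib.Helper7.S5704T3A

open Matrix Module QuadraticMap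
open scoped Kronecker commutatorElement
open Cfsg.Agent.Lib.Helper16.Tens
open Cfsg.Agent.Lib.Helper23.S5637T3b (kronGL kronGL_mem_kron)
open Cfsg.Agent.Lib.Helper3.SpT

variable {F : Type*} [Field F] {a b : ℕ} {J1 : Matrix (Fin a) (Fin a) F} {J2 : Matrix (Fin b) (Fin b) F}
  {Q : QuadraticForm F (Fin a × Fin b → F)}

/-- `x ↦ f(x, v)` as a linear map -/
def bfL (J : Matrix (Fin b) (Fin b) F) (v : Fin b → F) : (Fin b → F) →ₗ[F] F where
  toFun x := bf J x v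
  map_add' x x' := bf_add_left J x x' v
  map_smul' c x := by
    rw [bf_smul_left]; rfl

/-- a non-zero vector orthogonal to a small family -/
theorem exists_perp_family {n : ℕ} (J : Matrix (Fin b) (Fin b) F) (v : Fin n → (Fin b → F)) (hn : n < b) :
    ∃ x : Fin b → F, x ≠ 0 ∧ ∀ i, bf J x (v i) = 0 := by
  let φ : (Fin b → F) →ₗ[F] (Fin n → F) := LinearMap.pi (fun i => bfL J (v i))
  have h : LinearMap.ker φ ≠ ⊥ := LinearMap.ker_ne_bot_of_finrank_lt (by simp [hn])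
  obtain ⟨x, hx, hx0⟩ := Submodule.exists_mem_ne_zero_of_ne_bot h
  refine ⟨x, hx0, fun i => ?_⟩
  have := congrFun (LinearMap.mem_ker.1 hx) i
  simpa [φ, bfL] using this

/-- `(1 ⊗ f₂(·, w0')) ∘ (z - 1)` -/
def Nl (J2 : Matrix (Fin b) (Fin b) F) (w0' : Fin b → F) (z : GL (Fin a × Fin b) F) :
    (Fin a × Fin b → F) →ₗ[F] (Fin a → F) :=
  (ctr (a := a) (J2 *ᵥ w0')).comp ((act z).toLinearMap - LinearMap.id)

theorem Nl_apply (w0' : Fin b → F) (z : GL (Fin a × Fin b) F) (v : Fin a × Fin b → F) :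
    Nl J2 w0' z v = ctr (J2 *ᵥ w0') (act z v - v) := rfl

/-- the matrix `C_w` : `u ↦ U-component of z (u ⊗ w) - u ⊗ w` -/
noncomputable def Cw (J2 : Matrix (Fin b) (Fin b) F) (w0' : Fin b → F) (z : GL (Fin a × Fin b) F)
    (w : Fin b → F) : Matrix (Fin a) (Fin a) F :=
  LinearMap.toMatrix' ((Nl J2 w0' z).comp (purL w))

theorem Cw_mulVec (w0' : Fin b → F) (z : GL (Fin a × Fin b) F) (w : Fin b → F) (u : Fin a → F) :
    Cw J2 w0' z w *ᵥ u = Nl J2 w0' z (pur u w) := by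
  unfold Cw
  rw [LinearMap.toMatrix'_mulVec]
  rfl

theorem Cw_add (w0' : Fin b → F) (z : GL (Fin a × Fin b) F) (w w' : Fin b → F) :
    Cw J2 w0' z (w + w') = Cw J2 w0' z w + Cw J2 w0' z w' := by
  apply mat_ext_mulVec
  intro u
  rw [Matrix.add_mulVec, Cw_mulVec, Cw_mulVec, Cw_mulVec, pur_add_right, map_add]

theorem Cw_smul (w0' : Fin b → F) (z : GL (Fin a × Fin b) F) (c : F) (w : Fin b → F) :
    Cw J2 w0' z (c • w) = c • Cw J2 w0' z w := by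
  apply mat_ext_mulVec
  intro u
  rw [Matrix.smul_mulVec, Cw_mulVec, Cw_mulVec, pur_smul_right, map_smul]

/-- the action of a radical element on `Pk w0` -/
theorem rad_act {w0 w0' : Fin b → F} (h00' : bf J2 w0 w0' = 1) {z : GL (Fin a × Fin b) F}
    (hr : InRad J2 w0 z) (x : Fin a × Fin b → F) (hx : x ∈ Pk (a := a) J2 w0) :
    act z x = x + pur (Nl J2 w0' z x) w0 := by
  obtain ⟨u', hu'⟩ := (mem_Lk_iff _ _).1 (hr.modL x hx)
  rw [Nl_apply, hu', ctr_J_pur, h00', one_smul, ← hu']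
  abel

theorem Nl_Lk {w0 w0' : Fin b → F} {z : GL (Fin a × Fin b) F}
    (hr : InRad J2 w0 z) (u : Fin a → F) : Nl J2 w0' z (pur u w0) = 0 := by
  rw [Nl_apply, hr.fixL _ (pur_mem_Lk u w0), sub_self, map_zero]

theorem Cw_w0 {w0 w0' : Fin b → F} {z : GL (Fin a × Fin b) F}
    (hr : InRad J2 w0 z) : Cw (a := a) J2 w0' z w0 = 0 := by
  apply mat_ext_mulVec
  intro u
  rw [Cw_mulVec, Nl_Lk hr, Matrix.zero_mulVec]

theorem rad_act_inv {w0 w0' : Fin b → F} (h00' : bf J2 w0 w0' = 1) {z : GL (Fin a × Fin b) F}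
    (hr : InRad J2 w0 z) (x : Fin a × Fin b → F) (hx : x ∈ Pk (a := a) J2 w0) :
    act z⁻¹ x = x - pur (Nl J2 w0' z x) w0 := by
  apply (act z).injective
  rw [act_act_inv, map_sub, rad_act h00' hr x hx, hr.fixL _ (pur_mem_Lk _ w0)]
  abel


theorem ctr_pur_J (k : Fin b → F) (u : Fin a → F) (x : Fin b → F) :
    ctr (J2 *ᵥ k) (pur u x) = bf J2 x k • u := ctr_J_pur k u x

/-- the commutator `⁅rootW w 1, z⁆` acts on `Pk w0` as `gE (-C_w) w0 w` -/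
theorem comm_on_Pk (hJ2 : SympG J2) {w0 w0' : Fin b → F} (h00' : bf J2 w0 w0' = 1)
    {z : GL (Fin a × Fin b) F} (hr : InRad J2 w0 z) (w : Fin b → F) (hw : bf J2 w0 w = 0)
    (x : Fin a × Fin b → F) (hx : x ∈ Pk (a := a) J2 w0) :
    act ⁅rootW (a := a) J2 hJ2 w 1, z⁆ x = act (gE J1 J2 hJ2 (-Cw J2 w0' z w) w0 w hw) x := by
  have hw' : bf J2 w w0 = 0 := hJ2.eq_zero_comm hw
  have hx0 : ctr (J2 *ᵥ w0) x = 0 := (mem_Pk_iff _ _).1 hx
  set n := Nl J2 w0' z x with hn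
  set cw := ctr (J2 *ᵥ w) x with hcw
  -- step 1
  have e1 : act z⁻¹ x = x - pur n w0 := rad_act_inv h00' hr x hx
  -- step 2
  have hyinv : (rootW (a := a) J2 hJ2 w 1)⁻¹ = zA J2 hJ2 (-((1 : F) • (1 : Matrix (Fin a) (Fin a) F))) w := by
    unfold rootW
    rw [zA_inv]
  have e2 : act (rootW (a := a) J2 hJ2 w 1)⁻¹ (x - pur n w0) = x - pur n w0 - pur cw w := by
    rw [hyinv, act_zA, map_sub, ctr_pur_J, hw, zero_smul, sub_zero, one_smul, Matrix.neg_mulVec,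
      Matrix.one_mulVec, pur_neg_left]
    abel
  -- step 3
  have hx2 : x - pur n w0 - pur cw w ∈ Pk (a := a) J2 w0 :=
    Submodule.sub_mem _ (Submodule.sub_mem _ hx (Lk_le_Pk hJ2 w0 (pur_mem_Lk n w0))) (pur_mem_Pk cw hw')
  have e3 : act z (x - pur n w0 - pur cw w) = x - pur cw w - pur (Cw J2 w0' z w *ᵥ cw) w0 := by
    rw [rad_act h00' hr _ hx2, map_sub, map_sub, Nl_Lk hr, ← Cw_mulVec, ← hn, sub_zero, sub_eq_add_neg n,
      pur_add_left, pur_neg_left]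
    abel
  -- step 4
  have e4 : act (rootW (a := a) J2 hJ2 w 1) (x - pur cw w - pur (Cw J2 w0' z w *ᵥ cw) w0) =
      x - pur (Cw J2 w0' z w *ᵥ cw) w0 := by
    unfold rootW
    rw [act_zA, map_sub, map_sub, ctr_pur_J, ctr_pur_J, hw, hJ2.alt, zero_smul, zero_smul, sub_zero, sub_zero,
      one_smul, Matrix.one_mulVec]
    abel
  rw [commutatorElement_def, act_mul, act_mul, act_mul, e1, e2, e3, e4, act_gE', hx0, Matrix.mulVec_zero,
    pur_zero_left, add_zero, Matrix.neg_mulVec, pur_neg_left]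
  abel


theorem comm_mul_of_commute {G : Type*} [Group G] (g ζ y : G) (h : ζ * y = y * ζ) : ⁅g * ζ, y⁆ = ⁅g, y⁆ := by
  rw [commutatorElement_def, commutatorElement_def, _root_.mul_inv_rev]
  have e : g * ζ * y * (ζ⁻¹ * g⁻¹) = g * (ζ * y) * ζ⁻¹ * g⁻¹ := by group
  rw [e, h]
  group

theorem linInd_pair_of_perp {w0 w0' w2 : Fin b → F} (h00' : bf J2 w0 w0' = 1)
    (h2 : bf J2 w2 w0' = 0) (hw2 : w2 ≠ 0) : LinearIndependent F ![w0, w2] := by
  rw [LinearIndependent.pair_iff]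
  intro s t hst
  have h := congrArg (fun v => bf J2 v w0') hst
  simp only [bf_add_left, bf_smul_left, h00', h2, mul_one, mul_zero, add_zero, bf_zero_left] at h
  subst h
  rw [zero_smul, zero_add] at hst
  rcases smul_eq_zero.1 hst with h | h
  · exact ⟨rfl, h⟩
  · exact absurd h hw2

/-- case (i): some `C_w` is non-scalar -/
theorem case_i [Fintype F] (hS : Setup J1 J2 Q) (hb : 6 ≤ b)
    (M : Subgroup (GL (Fin a × Fin b) F)) (hM : Over Q M) (w0 w0' : Fin b → F) (hw0 : w0 ≠ 0)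
    (h00' : bf J2 w0 w0' = 1)
    (z : GL (Fin a × Fin b) F) (hz : z ∈ M) (hr : InRad J2 w0 z)
    (w : Fin b → F) (hw : bf J2 w0 w = 0) (hns : ¬ IsScal (Cw J2 w0' z w)) :
    ∃ (C : Matrix (Fin a) (Fin a) F) (w w' : Fin b → F) (h : bf J2 w w' = 0), ¬ IsScal C ∧
      LinearIndependent F ![w, w'] ∧ gE J1 J2 hS.h2 C w w' h ∈ M := by
  have hJ2 := hS.h2
  have hli : LinearIndependent F ![w, w0] := by
    rw [LinearIndependent.pair_iff]
    intro s t hst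
    by_cases hs : s = 0
    · subst hs
      rw [zero_smul, zero_add] at hst
      rcases smul_eq_zero.1 hst with h | h
      · exact ⟨rfl, h⟩
      · exact absurd h hw0
    · exfalso
      apply hns
      have h1 : s • w = -(t • w0) := eq_neg_of_add_eq_zero_left hst
      have : w = (-(s⁻¹ * t)) • w0 := by
        calc w = s⁻¹ • (s • w) := by rw [smul_smul, inv_mul_cancel₀ hs, one_smul]
          _ = _ := by rw [h1, smul_neg, smul_smul, neg_smul]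
      refine ⟨0, ?_⟩
      rw [this, Cw_smul, Cw_w0 hr, smul_zero, zero_smul]
  obtain ⟨w', hww', hw0w'⟩ := exists_dual_pair hJ2 w w0 hli
  obtain ⟨w2, hw2, hperp⟩ := exists_perp_family J2 ![w0, w0', w, w'] (by omega)
  have p0 : bf J2 w2 w0 = 0 := hperp 0
  have p1 : bf J2 w2 w0' = 0 := hperp 1
  have p2 : bf J2 w2 w = 0 := hperp 2
  have p3 : bf J2 w2 w' = 0 := hperp 3
  have h1'2 : bf J2 w' w2 = 0 := hJ2.eq_zero_comm p3
  have h02 : bf J2 w0 w2 = 0 := hJ2.eq_zero_comm p0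
  have h12 : bf J2 w w2 = 0 := hJ2.eq_zero_comm p2
  have hy : rootW (a := a) J2 hJ2 w 1 ∈ M :=
    hM.kron_mem _ (rootW_mem_kron hJ2 w 1) (rootW_mem_Om hS hb w 1)
  have hz'M : ⁅rootW (a := a) J2 hJ2 w 1, z⁆ ∈ M := by
    rw [commutatorElement_def]
    exact M.mul_mem (M.mul_mem (M.mul_mem hy hz) (M.inv_mem hy)) (M.inv_mem hz)
  have hgi : gE J1 J2 hJ2 (-Cw J2 w0' z w) w0 w hw ∈ Cfsg.isometryGroup F (⇑Q) := gE_mem_iso hS _ _ _ _
  have hζi : (gE J1 J2 hJ2 (-Cw J2 w0' z w) w0 w hw)⁻¹ * ⁅rootW (a := a) J2 hJ2 w 1, z⁆ ∈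
      Cfsg.isometryGroup F (⇑Q) :=
    (Cfsg.isometryGroup F (⇑Q)).mul_mem ((Cfsg.isometryGroup F (⇑Q)).inv_mem hgi) (Om_le_iso (hM.le_Om hz'M))
  have hfix : ∀ x ∈ Pk (a := a) J2 w0,
      act ((gE J1 J2 hJ2 (-Cw J2 w0' z w) w0 w hw)⁻¹ * ⁅rootW (a := a) J2 hJ2 w 1, z⁆) x = x := by
    intro x hx
    rw [act_mul, comm_on_Pk hJ2 h00' hr w hw x hx, act_inv_act]
  obtain ⟨α, -, -, hζ⟩ := eq_zA_of_fix_Pk hS w0 hw0 _ hζi hfix
  have hz'eq : ⁅rootW (a := a) J2 hJ2 w 1, z⁆ = gE J1 J2 hJ2 (-Cw J2 w0' z w) w0 w hw * zA J2 hJ2 α w0 := by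
    rw [← hζ, mul_inv_cancel_left]
  have hy2 : gE J1 J2 hJ2 1 w' w2 h1'2 ∈ M := by
    have := hM.kron_mem _ (gE_smul_one_mem_kron hS.h1 hJ2 1 w' w2 h1'2) (gE_mem_Om hS hb _ w' w2 h1'2)
    rwa [one_smul] at this
  have hcomm : ⁅⁅rootW (a := a) J2 hJ2 w 1, z⁆, gE J1 J2 hJ2 1 w' w2 h1'2⁆ ∈ M := by
    rw [commutatorElement_def ⁅rootW (a := a) J2 hJ2 w 1, z⁆]
    exact M.mul_mem (M.mul_mem (M.mul_mem hz'M hy2) (M.inv_mem hz'M)) (M.inv_mem hy2)
  rw [hz'eq, comm_mul_of_commute _ _ _ (zA_comm_gE_perp hJ2 α 1 w0 w' w2 h1'2 hw0w' h02),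
    comm1 (J1 := J1) hS.h1 hJ2 (-Cw J2 w0' z w) 1 w0 w w' w2 hw h1'2 h02 hww' hw0w' h12] at hcomm
  refine ⟨_, w0, w2, h02, ?_, linInd_pair_of_perp h00' p1 hw2, hcomm⟩
  rwa [neg_mul, mul_one, neg_neg]


/-- the projection of `W` onto `w0^⊥` along `w0'` -/
def prj (J2 : Matrix (Fin b) (Fin b) F) (w0 w0' : Fin b → F) (x : Fin b → F) : Fin b → F :=
  x + bf J2 x w0 • w0'

theorem bf_w0_prj (hJ2 : SympG J2) {w0 w0' : Fin b → F} (h00' : bf J2 w0 w0' = 1) (x : Fin b → F) :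
    bf J2 w0 (prj J2 w0 w0' x) = 0 := by
  unfold prj
  rw [bf_add_right, bf_smul_right, h00', mul_one, hJ2.skew w0 x]
  ring

theorem eq_sum_pur_prj {w0 w0' : Fin b → F} (x : Fin a × Fin b → F) (hx : x ∈ Pk (a := a) J2 w0) :
    x = ∑ j : Fin b, pur (fun i => x (i, j)) (prj J2 w0 w0' (Pi.single j 1)) := by
  have hx0 : ctr (J2 *ᵥ w0) x = 0 := (mem_Pk_iff _ _).1 hx
  let T : (Fin a × Fin b → F) →ₗ[F] (Fin a × Fin b → F) :=
    LinearMap.id + (purL w0').comp (ctr (a := a) (J2 *ᵥ w0))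
  have hT : T x = x := by
    simp only [T, LinearMap.add_apply, LinearMap.id_apply, LinearMap.comp_apply, purL_apply, hx0, pur_zero_left,
      add_zero]
  have hTp : ∀ (u : Fin a → F) (e : Fin b → F), T (pur u e) = pur u (prj J2 w0 w0' e) := by
    intro u e
    simp only [T, LinearMap.add_apply, LinearMap.id_apply, LinearMap.comp_apply, purL_apply]
    rw [ctr_pur_J, prj, pur_add_right, pur_smul_left, pur_smul_right]
  calc x = T x := hT.symm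
    _ = T (∑ j : Fin b, pur (fun i => x (i, j)) (Pi.single j 1)) := by rw [← eq_sum_pur x]
    _ = _ := by
      rw [map_sum]
      exact Finset.sum_congr rfl (fun j _ => hTp _ _)

/-- case (ii): all `C_w` are scalar -/
theorem case_ii [Fintype F] (hS : Setup J1 J2 Q) (ha : 2 ≤ a) (hb : 6 ≤ b)
    (M : Subgroup (GL (Fin a × Fin b) F)) (hM : Over Q M) (w0 w0' : Fin b → F) (hw0 : w0 ≠ 0)
    (h00' : bf J2 w0 w0' = 1)
    (z : GL (Fin a × Fin b) F) (hz : z ∈ M) (hzN : z ∉ Cfsg.Geo.kroneckerSubgroup a b F) (hr : InRad J2 w0 z)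
    (hall : ∀ w : Fin b → F, bf J2 w0 w = 0 → IsScal (Cw (a := a) J2 w0' z w)) :
    ∃ (C : Matrix (Fin a) (Fin a) F) (w w' : Fin b → F) (h : bf J2 w w' = 0), ¬ IsScal C ∧
      LinearIndependent F ![w, w'] ∧ gE J1 J2 hS.h2 C w w' h ∈ M := by
  have hJ2 := hS.h2
  choose lam hlam using fun j : Fin b => hall (prj J2 w0 w0' (Pi.single j 1)) (bf_w0_prj hJ2 h00' _)
  obtain ⟨d, hd⟩ := exists_dual_vec hJ2 lam
  have key : ∀ x ∈ Pk (a := a) J2 w0, Nl J2 w0' z x = ctr (J2 *ᵥ d) x := by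
    intro x hx
    have e1 : Nl J2 w0' z x = ∑ j : Fin b, lam j • (fun i => x (i, j)) := by
      conv_lhs => rw [eq_sum_pur_prj (w0' := w0') x hx]
      rw [map_sum]
      apply Finset.sum_congr rfl
      intro j _
      rw [← Cw_mulVec, hlam j, Matrix.smul_mulVec, Matrix.one_mulVec]
    have e2 : ctr (J2 *ᵥ d) x = ∑ j : Fin b, lam j • (fun i => x (i, j)) := by
      conv_lhs => rw [eq_sum_pur x]
      rw [map_sum]
      apply Finset.sum_congr rfl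
      intro j _
      rw [ctr_pur_J, hd, single_dotProduct, one_mul]
    rw [e1, e2]
  have hd0 : bf J2 w0 d = 0 := by
    have h := key (pur (Pi.single ⟨0, by omega⟩ 1) w0) (Lk_le_Pk hJ2 w0 (pur_mem_Lk _ w0))
    rw [Nl_Lk hr, ctr_pur_J] at h
    rcases smul_eq_zero.1 h.symm with h' | h'
    · exact h'
    · exfalso
      have := congrFun h' ⟨0, by omega⟩
      simp at this
  have hy0 : gE J1 J2 hJ2 1 w0 d hd0 ∈ M := by
    have := hM.kron_mem _ (gE_smul_one_mem_kron hS.h1 hJ2 1 w0 d hd0) (gE_mem_Om hS hb _ w0 d hd0)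
    rwa [one_smul] at this
  have hy0N : gE J1 J2 hJ2 1 w0 d hd0 ∈ Cfsg.Geo.kroneckerSubgroup a b F := by
    have := gE_smul_one_mem_kron hS.h1 hJ2 1 w0 d hd0
    rwa [one_smul] at this
  have hagree : ∀ x ∈ Pk (a := a) J2 w0, act z x = act (gE J1 J2 hJ2 1 w0 d hd0) x := by
    intro x hx
    have hx0 : ctr (J2 *ᵥ w0) x = 0 := (mem_Pk_iff _ _).1 hx
    rw [rad_act h00' hr x hx, act_gE', hx0, Matrix.mulVec_zero, pur_zero_left, add_zero, Matrix.one_mulVec,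
      key x hx]
  have hζi : (gE J1 J2 hJ2 1 w0 d hd0)⁻¹ * z ∈ Cfsg.isometryGroup F (⇑Q) :=
    (Cfsg.isometryGroup F (⇑Q)).mul_mem ((Cfsg.isometryGroup F (⇑Q)).inv_mem (gE_mem_iso hS _ _ _ _))
      (Om_le_iso (hM.le_Om hz))
  have hfix : ∀ x ∈ Pk (a := a) J2 w0, act ((gE J1 J2 hJ2 1 w0 d hd0)⁻¹ * z) x = x := by
    intro x hx
    rw [act_mul, hagree x hx, act_inv_act]
  obtain ⟨α, hα, -, hζ⟩ := eq_zA_of_fix_Pk hS w0 hw0 _ hζi hfix
  have hζM : zA J2 hJ2 α w0 ∈ M := by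
    rw [← hζ]
    exact M.mul_mem (M.inv_mem hy0) hz
  have hαns : ¬ IsScal α := by
    intro hsc
    apply hzN
    have h1 := zA_mem_kron_of_isScal hJ2 α hsc w0
    rw [← hζ] at h1
    have := (Cfsg.Geo.kroneckerSubgroup a b F).mul_mem hy0N h1
    rwa [mul_inv_cancel_left] at this
  obtain ⟨w2, hw2, hperp⟩ := exists_perp_family J2 ![w0, w0'] (by omega)
  have p0 : bf J2 w2 w0 = 0 := hperp 0
  have p1 : bf J2 w2 w0' = 0 := hperp 1
  have h02 : bf J2 w0 w2 = 0 := hJ2.eq_zero_comm p0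
  have h0'2 : bf J2 w0' w2 = 0 := hJ2.eq_zero_comm p1
  have hy2 : gE J1 J2 hJ2 1 w0' w2 h0'2 ∈ M := by
    have := hM.kron_mem _ (gE_smul_one_mem_kron hS.h1 hJ2 1 w0' w2 h0'2) (gE_mem_Om hS hb _ w0' w2 h0'2)
    rwa [one_smul] at this
  have hcomm : ⁅zA J2 hJ2 α w0, gE J1 J2 hJ2 1 w0' w2 h0'2⁆ ∈ M := by
    rw [commutatorElement_def]
    exact M.mul_mem (M.mul_mem (M.mul_mem hζM hy2) (M.inv_mem hζM)) (M.inv_mem hy2)
  rw [comm3 hS.h1 hJ2 α 1 hα w0 w0' w2 h00' h02 h0'2, adj_one hS.h1, one_mul, mul_one] at hcomm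
  have hz2 : zA J2 hJ2 (-α) w2 ∈ M := by
    obtain ⟨β, hβ, hβw, hβO⟩ := transW1 (a := a) hS hb w0 w2 hw0 hw2
    have hβM : kronGL (1 : GL (Fin a) F) β ∈ M := hM.kron_mem _ (kronGL_mem_kron _ _) hβO
    have h1 : zA J2 hJ2 (-α) w0 ∈ M := by
      rw [← zA_inv]
      exact M.inv_mem hζM
    have := M.mul_mem (M.mul_mem hβM h1) (M.inv_mem hβM)
    rwa [conjW_zA hJ2 β hβ, hβw] at this
  have hfin : gE J1 J2 hJ2 (-α) w0 w2 h02 ∈ M := by
    have := M.mul_mem hcomm (M.inv_mem hz2)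
    rwa [mul_inv_cancel_right] at this
  refine ⟨-α, w0, w2, h02, ?_, linInd_pair_of_perp h00' p1 hw2, hfin⟩
  rintro ⟨c, hc⟩
  exact hαns ⟨-c, by rw [neg_smul, ← hc, neg_neg]⟩

/-- **T3A** -/
theorem T3A [Fintype F] (hS : Setup J1 J2 Q) (ha : 2 ≤ a) (hb : 6 ≤ b)
    (M : Subgroup (GL (Fin a × Fin b) F)) (hM : Over Q M) (w0 : Fin b → F) (hw0 : w0 ≠ 0)
    (z : GL (Fin a × Fin b) F) (hz : z ∈ M) (hzN : z ∉ Cfsg.Geo.kroneckerSubgroup a b F) (hr : InRad J2 w0 z) :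
    ∃ (C : Matrix (Fin a) (Fin a) F) (w w' : Fin b → F) (h : bf J2 w w' = 0), ¬ IsScal C ∧
      LinearIndependent F ![w, w'] ∧ gE J1 J2 hS.h2 C w w' h ∈ M := by
  obtain ⟨w0', h00'⟩ := exists_partner hS.h2 w0 hw0
  by_cases hall : ∀ w : Fin b → F, bf J2 w0 w = 0 → IsScal (Cw (a := a) J2 w0' z w)
  · exact case_ii hS ha hb M hM w0 w0' hw0 h00' z hz hzN hr hall
  · push Not at hall
    obtain ⟨w, hw, hns⟩ := hall
    exact case_i hS hb M hM w0 w0' hw0 h00' z hz hr w hw hns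

end Cfsg.Agent.Lib.Helper7.S5704T3A
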