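import Mathlib
import Cfsg.Agent.Lib.Helper3.SpTDefs
import Cfsg.Agent.Lib.Helper3.SpTL1
import Cfsg.Agent.Lib.Helper3.SpTL2
import Cfsg.Agent.Lib.Helper3.SpTL3
import Cfsg.Agent.Lib.Helper3.SpTL3T
import Cfsg.Agent.Lib.Helper7.S5704FOT3A

/-!
# S5704, piece FO-RADOM (helper7): the unipotent radical of the stabiliser of `U ⊗ k` lies in `Ω`.
-/

set_option autoImplicit false

namespace Cfsg.Agent.Lib.Helper7.S5704RADOM

open Matrix Module QuadraticMap
open scoped Kronecker commutatorElement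
open Cfsg.Agent.Lib.Helper16.Tens
open Cfsg.Agent.Lib.Helper23.S5637T3b (kronGL kronGL_mem_kron)
open Cfsg.Agent.Lib.Helper3.SpT
open Cfsg.Agent.Lib.Helper7.S5704T3A

variable {F : Type*} [Field F] {a b : ℕ} {J1 : Matrix (Fin a) (Fin a) F} {J2 : Matrix (Fin b) (Fin b) F}
  {Q : QuadraticForm F (Fin a × Fin b → F)}

/-- products of short root elements `gE (C j) k (v j)` realise every "radical action" on `Pk k` -/
theorem exists_prod [Fintype F] (hS : Setup J1 J2 Q) (hb : 6 ≤ b) (k : Fin b → F)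
    (C : Fin b → Matrix (Fin a) (Fin a) F) (v : Fin b → Fin b → F) (hv : ∀ j, bf J2 k (v j) = 0)
    (S : Finset (Fin b)) :
    ∃ g : GL (Fin a × Fin b) F, g ∈ Cfsg.Geo.omegaGL (⇑Q) ∧ ∀ x ∈ Pk (a := a) J2 k,
      act g x = x + pur (∑ j ∈ S, C j *ᵥ ctr (J2 *ᵥ v j) x) k := by
  classical
  induction S using Finset.induction_on with
  | empty =>
    refine ⟨1, one_mem _, fun x _ => ?_⟩
    rw [act_one, Finset.sum_empty, pur_zero_left, add_zero]
  | insert j S hj ih =>
    obtain ⟨g, hg, hgx⟩ := ih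
    refine ⟨g * gE J1 J2 hS.h2 (C j) k (v j) (hv j), mul_mem hg (gE_mem_Om hS hb _ _ _ _), ?_⟩
    intro x hx
    have hx0 : ctr (J2 *ᵥ k) x = 0 := (mem_Pk_iff _ _).1 hx
    have hL : ∀ u : Fin a → F, act g (pur u k) = pur u k := by
      intro u
      rw [hgx _ (Lk_le_Pk hS.h2 k (pur_mem_Lk u k))]
      have : ∑ j ∈ S, C j *ᵥ ctr (J2 *ᵥ v j) (pur u k) = 0 := by
        apply Finset.sum_eq_zero
        intro j _
        rw [ctr_pur_J, hv j, zero_smul, Matrix.mulVec_zero]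
      rw [this, pur_zero_left, add_zero]
    rw [act_mul, act_gE', hx0, Matrix.mulVec_zero, pur_zero_left, add_zero, map_add, hgx x hx, hL,
      Finset.sum_insert hj, pur_add_left]
    abel

/-- **RADOM** -/
theorem rad_mem_Om [Fintype F] (hS : Setup J1 J2 Q) (hb : 6 ≤ b) (k : Fin b → F) (hk : k ≠ 0)
    (z : GL (Fin a × Fin b) F) (hz : z ∈ Cfsg.isometryGroup F (⇑Q)) (hr : InRad J2 k z) :
    z ∈ Cfsg.Geo.omegaGL (⇑Q) := by
  have hJ2 := hS.h2
  obtain ⟨k', hkk'⟩ := exists_partner hJ2 k hk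
  choose d hd using fun j : Fin b => exists_dual_vec hJ2 (Pi.single j (1 : F))
  have hJd : ∀ j, J2 *ᵥ d j = Pi.single j 1 := by
    intro j
    funext j'
    have := hd j (Pi.single j' 1)
    unfold bf at this
    rwa [single_dotProduct, one_mul, single_dotProduct, one_mul] at this
  have hv : ∀ j, bf J2 k (d j - k j • k') = 0 := by
    intro j
    rw [bf_sub_right, bf_smul_right, hd, hkk', mul_one, dotProduct_single, mul_one, sub_self]
  obtain ⟨g, hgO, hgx⟩ := exists_prod hS hb k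
    (fun j => Cw (a := a) J2 k' z (prj J2 k k' (Pi.single j 1))) (fun j => d j - k j • k') hv Finset.univ
  have hagree : ∀ x ∈ Pk (a := a) J2 k, act g x = act z x := by
    intro x hx
    rw [hgx x hx, rad_act hkk' hr x hx]
    congr 2
    have hterm : ∀ j : Fin b, Cw (a := a) J2 k' z (prj J2 k k' (Pi.single j 1)) *ᵥ
        ctr (J2 *ᵥ (d j - k j • k')) x =
        Nl J2 k' z (pur (fun i => x (i, j)) (prj J2 k k' (Pi.single j 1))) -
        Nl J2 k' z (pur (fun i => pur (ctr (J2 *ᵥ k') x) k (i, j)) (prj J2 k k' (Pi.single j 1))) := by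
      intro j
      have h1 : ctr (J2 *ᵥ (d j - k j • k')) x = (fun i => x (i, j)) - k j • ctr (J2 *ᵥ k') x := by
        rw [Matrix.mulVec_sub, Matrix.mulVec_smul, sub_eq_add_neg, ← neg_smul, ctr_add, ctr_smul, hJd, neg_smul,
          ← sub_eq_add_neg]
        congr 1
        funext i
        rw [ctr_apply, Finset.sum_eq_single j]
        · simp
        · intro j' _ hj'
          simp [hj']
        · simp
      have h2 : (fun i => pur (ctr (J2 *ᵥ k') x) k (i, j)) = k j • ctr (J2 *ᵥ k') x := by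
        funext i
        simp [pur_apply, mul_comm]
      rw [h1, h2, Matrix.mulVec_sub, Cw_mulVec, Cw_mulVec]
    rw [Finset.sum_congr rfl (fun j _ => hterm j), Finset.sum_sub_distrib, ← map_sum, ← map_sum,
      ← eq_sum_pur_prj (w0' := k') x hx,
      ← eq_sum_pur_prj (w0' := k') _ (Lk_le_Pk hJ2 k (pur_mem_Lk (ctr (J2 *ᵥ k') x) k)), Nl_Lk hr, sub_zero]
  have hgi : g ∈ Cfsg.isometryGroup F (⇑Q) := Om_le_iso hgO
  have hζi : g⁻¹ * z ∈ Cfsg.isometryGroup F (⇑Q) :=
    (Cfsg.isometryGroup F (⇑Q)).mul_mem ((Cfsg.isometryGroup F (⇑Q)).inv_mem hgi) hz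
  have hfix : ∀ x ∈ Pk (a := a) J2 k, act (g⁻¹ * z) x = x := by
    intro x hx
    rw [act_mul, ← hagree x hx, act_inv_act]
  obtain ⟨α, hα, halt, hζ⟩ := eq_zA_of_fix_Pk hS k hk _ hζi hfix
  obtain ⟨X, hX⟩ := exists_add_adj hS.h1 α hα halt
  have hzeq : z = g * zA J2 hJ2 α k := by
    rw [← hζ, mul_inv_cancel_left]
  rw [hzeq, hX]
  exact mul_mem hgO (zA_mem_Om hS hb X k)

end Cfsg.Agent.Lib.Helper7.S5704RADOM
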