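import Mathlib
import Cfsg.Prelude.Def_Characters
import Cfsg.Prelude.Def_Blocks
import Cfsg.Agent.Lib.Helper7.BrauerChar
import Cfsg.Agent.Lib.Helper11.Clifford2

/-!
# Combinations of characters with algebraic integer coefficients (helper7 library)

* `aSpan G`: the `AlgInt`-submodule of `G → ℂ` spanned by the characters of `G`.
* closure properties: `aSpan_of_char`, `aSpan_mul_char`, `aSpan_indFun`, `aSpan_comp`.
* `mem_aSpan_of_elementary`: Brauer's characterization for `AlgInt`-combinations.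
* `exists_coeff_of_mem_aSpan`: an element of `aSpan G` is an `AlgInt`-combination of the
  irreducible characters.
* `mem_aSpan_of_classInner`: a class function whose inner products with the irreducible
  characters are algebraic integers lies in `aSpan G`.
-/

set_option autoImplicit false

namespace Cfsg.Agent.Lib.Helper7

open Cfsg.Agent.Lib.Helper2 Cfsg.Agent.Lib.Helper11
open scoped ComplexConjugate

universe u

section Span

variable {G : Type*} [Group G]

/-- the `AlgInt`-span of the characters of `G` -/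
def aSpan (G : Type*) [Group G] : Submodule Cfsg.AlgInt (G → ℂ) :=
  Submodule.span Cfsg.AlgInt {ψ | Cfsg.IsCharacter G ψ}

theorem aSpan_of_char {ψ : G → ℂ} (h : Cfsg.IsCharacter G ψ) : ψ ∈ aSpan G :=
  Submodule.subset_span h

theorem algInt_smul_apply (a : Cfsg.AlgInt) (f : G → ℂ) (g : G) : (a • f) g = (a : ℂ) * f g := by
  rw [Pi.smul_apply]
  rfl

theorem aSpan_smul {θ : G → ℂ} (hθ : θ ∈ aSpan G) {c : ℂ} (hc : c ∈ Cfsg.AlgInt) :
    c • θ ∈ aSpan G := by
  have := (aSpan G).smul_mem (⟨c, hc⟩ : Cfsg.AlgInt) hθ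
  exact this

theorem aSpan_mul_char {θ ψ : G → ℂ} (hθ : θ ∈ aSpan G) (hψ : Cfsg.IsCharacter G ψ) :
    θ * ψ ∈ aSpan G := by
  unfold aSpan at hθ ⊢
  induction hθ using Submodule.span_induction with
  | mem x hx => exact Submodule.subset_span (isCharacter_mul hx hψ)
  | zero => rw [zero_mul]; exact Submodule.zero_mem _
  | add x y _ _ h1 h2 => rw [add_mul]; exact Submodule.add_mem _ h1 h2
  | smul a x _ h1 =>
    have : (a • x) * ψ = a • (x * ψ) := by
      funext g
      rw [Pi.mul_apply, algInt_smul_apply, algInt_smul_apply, Pi.mul_apply, mul_assoc]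
    rw [this]
    exact Submodule.smul_mem _ a h1

theorem aSpan_indFun [Fintype G] (E : Subgroup G) {φ : E → ℂ} (hφ : φ ∈ aSpan E) :
    Cfsg.indFun E φ ∈ aSpan G := by
  unfold aSpan at hφ ⊢
  induction hφ using Submodule.span_induction with
  | mem x hx => exact Submodule.subset_span (indFun_isCharacter E x hx)
  | zero => rw [indFun_zero]; exact Submodule.zero_mem _
  | add x y _ _ h1 h2 => rw [indFun_add]; exact Submodule.add_mem _ h1 h2
  | smul a x _ h1 =>
    have : Cfsg.indFun E (a • x) = a • Cfsg.indFun E x := by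
      have e1 : (a • x) = ((a : ℂ) • x) := rfl
      rw [e1, indFun_smul]
      rfl
    rw [this]
    exact Submodule.smul_mem _ a h1

theorem aSpan_comp {H : Type*} [Group H] {θ : G → ℂ} (hθ : θ ∈ aSpan G) (f : H →* G) :
    (fun h : H => θ (f h)) ∈ aSpan H := by
  unfold aSpan at hθ ⊢
  induction hθ using Submodule.span_induction with
  | mem x hx => exact Submodule.subset_span (IsCharacter.comp hx f)
  | zero => exact Submodule.zero_mem _
  | add x y _ _ h1 h2 => exact Submodule.add_mem _ h1 h2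
  | smul a x _ h1 => exact Submodule.smul_mem _ a h1

end Span

section Brauer

variable {G : Type u} [Group G] [Fintype G]

/-- **Brauer's characterization**, for combinations with algebraic integer coefficients. -/
theorem mem_aSpan_of_elementary {θ : G → ℂ} (hθ : Cfsg.IsClassFunction G θ)
    (h : ∀ q : ℕ, q.Prime → ∀ E : Subgroup G, Cfsg.IsElementary q E →
      (fun e : E => θ e) ∈ aSpan E) :
    θ ∈ aSpan G := by
  have key : ∀ f ∈ elemSpanAll G, f * θ ∈ aSpan G := by
    intro f hf
    unfold elemSpanAll at hf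
    induction hf using AddSubgroup.closure_induction with
    | mem x hx =>
      obtain ⟨q, hq, E, φ, hE, hφ, rfl⟩ := hx
      rw [← indFun_mul_restrict E φ θ hθ]
      apply aSpan_indFun
      rw [mul_comm]
      exact aSpan_mul_char (h q hq E hE) hφ
    | zero => rw [zero_mul]; exact Submodule.zero_mem _
    | add x y hx hy h1 h2 => rw [add_mul]; exact Submodule.add_mem _ h1 h2
    | neg x hx h1 => rw [neg_mul]; exact Submodule.neg_mem _ h1
  have := key _ one_mem_elemSpanAll
  have h1 : (fun _ : G => (1 : ℂ)) * θ = θ := by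
    funext g; simp
  rwa [h1] at this

end Brauer

section Coeff

variable {G : Type*} [Group G] [Finite G]

/-- a class function whose inner products with the irreducible characters are algebraic
integers lies in `aSpan G` -/
theorem mem_aSpan_of_classInner [Fintype G] {θ : G → ℂ} (hθ : Cfsg.IsClassFunction G θ)
    (h : ∀ χ : Cfsg.IrrCharacter G, Cfsg.classInner θ (χ : G → ℂ) ∈ Cfsg.AlgInt) :
    θ ∈ aSpan G := by
  classical
  letI : Fintype (Cfsg.IrrCharacter G) := Fintype.ofFinite _
  rw [classFunction_expansion θ hθ]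
  apply Submodule.sum_mem
  intro χ _
  exact aSpan_smul (aSpan_of_char (IsIrrCharacter.isCharacter χ.2)) (h χ)

/-- a class function with values in `N • AlgInt`, where `|G| ∣ N`, lies in `aSpan G` -/
theorem mem_aSpan_of_values [Fintype G] {θ : G → ℂ} (hθ : Cfsg.IsClassFunction G θ) (N : ℕ)
    (hN : Nat.card G ∣ N) (h : ∀ g : G, ∃ z : ℂ, z ∈ Cfsg.AlgInt ∧ θ g = (N : ℂ) * z) :
    θ ∈ aSpan G := by
  classical
  apply mem_aSpan_of_classInner hθ
  intro χ
  unfold Cfsg.classInner
  rw [Finset.mul_sum]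
  apply sum_mem
  intro g _
  obtain ⟨z, hz, e⟩ := h g
  obtain ⟨d, hd⟩ := hN
  have hne : (Nat.card G : ℂ) ≠ 0 := by exact_mod_cast Nat.card_pos.ne'
  have e2 : (Nat.card G : ℂ)⁻¹ * (θ g * conj ((χ : G → ℂ) g))
      = (d : ℂ) * z * conj ((χ : G → ℂ) g) := by
    rw [e, hd]
    push_cast
    field_simp
  rw [e2]
  apply mul_mem (mul_mem (natCast_mem _ d) hz)
  obtain ⟨n, ρ, _, hρ⟩ := χ.2
  rw [← hρ]
  exact (char_isIntegral ρ g).map (starRingEnd ℂ : ℂ →+* ℂ).toIntAlgHom

/-- an element of `aSpan G` is a combination of the irreducible characters with algebraic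
integer coefficients -/
theorem exists_coeff_of_mem_aSpan [Fintype G] {θ : G → ℂ} (hθ : θ ∈ aSpan G) :
    ∃ c : Cfsg.IrrCharacter G → ℂ, (∀ χ, c χ ∈ Cfsg.AlgInt) ∧
      θ = ∑ᶠ χ : Cfsg.IrrCharacter G, c χ • (χ : G → ℂ) := by
  classical
  letI : Fintype (Cfsg.IrrCharacter G) := Fintype.ofFinite _
  suffices hs : ∃ c : Cfsg.IrrCharacter G → ℂ, (∀ χ, c χ ∈ Cfsg.AlgInt) ∧
      θ = ∑ χ : Cfsg.IrrCharacter G, c χ • (χ : G → ℂ) by
    obtain ⟨c, hc, e⟩ := hs
    refine ⟨c, hc, ?_⟩
    rw [finsum_eq_sum_of_fintype]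
    exact e
  unfold aSpan at hθ
  induction hθ using Submodule.span_induction with
  | mem x hx =>
    refine ⟨fun χ => Cfsg.classInner x (χ : G → ℂ), ?_, ?_⟩
    · intro χ
      obtain ⟨n, hn⟩ := classInner_isCharacter_nat hx (IsIrrCharacter.isCharacter χ.2)
      show Cfsg.classInner x (χ : G → ℂ) ∈ Cfsg.AlgInt
      rw [hn]
      exact natCast_mem _ n
    · exact classFunction_expansion x (IsCharacter.isClassFunction hx)
  | zero =>
    exact ⟨fun _ => 0, fun _ => zero_mem _, by simp⟩
  | add x y _ _ h1 h2 =>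
    obtain ⟨c1, hc1, e1⟩ := h1
    obtain ⟨c2, hc2, e2⟩ := h2
    refine ⟨fun χ => c1 χ + c2 χ, fun χ => add_mem (hc1 χ) (hc2 χ), ?_⟩
    rw [e1, e2, ← Finset.sum_add_distrib]
    apply Finset.sum_congr rfl
    intro χ _
    rw [add_smul]
  | smul a x _ h1 =>
    obtain ⟨c1, hc1, e1⟩ := h1
    refine ⟨fun χ => (a : ℂ) * c1 χ, fun χ => mul_mem a.2 (hc1 χ), ?_⟩
    have e0 : (a • x) = ((a : ℂ) • x) := rfl
    rw [e0, e1, Finset.smul_sum]
    apply Finset.sum_congr rfl
    intro χ _
    rw [smul_smul]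

end Coeff

end Cfsg.Agent.Lib.Helper7
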