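import Mathlib
import Cfsg.Prelude.Def_GeometricClasses
import Cfsg.Agent.Lib.Helper7.AschDefs
import Cfsg.Agent.Lib.Helper7.AschWrap
import Cfsg.Agent.Lib.Helper7.AschCore
import Cfsg.Agent.Lib.Helper8.S5630I1
import Cfsg.Agent.Lib.Helper23.S5630I5
import Cfsg.Agent.Lib.Helper12.S5630I8
import Cfsg.Agent.Lib.Helper16.S5630I6A
import Cfsg.Agent.Lib.Helper3.AschC6B
import Cfsg.Agent.Lib.Helper3.AschC6Reuse
import Cfsg.Agent.Lib.Helper11.AschCliffDefs
import Cfsg.Agent.Lib.Helper11.S5630I4CL2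
import Cfsg.Agent.Lib.Helper7.S5630I4CL3
import Cfsg.Agent.Lib.Helper18.S5630I4CEN
import Cfsg.Agent.Lib.Helper18.S5630I4ED
import Cfsg.Agent.Lib.Helper8.S5630I4TENS
import Cfsg.Agent.Lib.Helper8.S5630I4TENS3
import Cfsg.Agent.Lib.Helper26.S5630I4TENS3c
import Cfsg.Agent.Lib.Helper22.AschC7Top

/-!
# S5630: top level (helper7).  The interface theorems I1, I2, I4..I8 cite / assemble the team's blocks; `main` is the theorem.
-/

set_option autoImplicit false

namespace Cfsg.Agent.Lib.Helper7.Asch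

open Matrix Cfsg.Geo
open scoped commutatorElement

variable {F : Type*} [Field F] {n : ℕ}

/-- **I1** reducible groups lie in a subspace stabiliser (class 1) -/
theorem inClass_of_not_irr [Fintype F] (H : Subgroup (GL (Fin n) F)) (h : ¬ Irr H) : InClass H :=
  Cfsg.Agent.Lib.Helper8.S5630I1.inClass_of_not_irr H h

/-- **I2** irreducible, not absolutely irreducible: class 3 (the centraliser is a proper extension field) -/
theorem inClass_of_not_absIrr [Fintype F] (hn : 3 ≤ n) (H : Subgroup (GL (Fin n) F)) (h1 : Irr H)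
    (h2 : ¬ AbsIrr H) : InClass H := by
  have : Nonempty (Fin n) := ⟨⟨0, by omega⟩⟩
  obtain ⟨r, K, hr, hK, hH⟩ := Cfsg.Agent.Lib.Helper18.AschC3.exists_C3 H h1 h2
  exact InClass.of_field H r K hr hK hH

/-- **I4** Clifford trichotomy -/
theorem clifford [Fintype F] (hn : 3 ≤ n) (H N : Subgroup (GL (Fin n) F)) (hH : AbsIrr H) (hNH : N ≤ H)
    (hnorm : NormBy H N) : InClass H ∨ N ≤ scalars (Fin n) F ∨ AbsIrr N := by
  have hIrr : Irr H := hH.1
  have hss := Cfsg.Agent.Lib.Helper11.CliffCL.isSemisimple_envEnd H N hIrr hnorm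
  rcases Cfsg.Agent.Lib.Helper11.CliffCL.homog_or_decomposition H N hIrr hnorm with hhom | ⟨t, m, D, hD, hHD⟩
  swap
  · exact Or.inl (InClass.of_decomposition H m D hD hHD)
  obtain ⟨d, s, e, P, Y, hY, hNY⟩ :=
    Cfsg.Agent.Lib.Helper7.S5630I4CL3.exists_block_form (by omega) N hss hhom
  have hcard : n = d * s := by simpa using Fintype.card_congr e
  have hs : 1 ≤ s := by
    rcases Nat.eq_zero_or_pos s with h0 | h0
    · rw [h0, Nat.mul_zero] at hcard
      omega
    · exact h0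
  have hd : 1 ≤ d := by
    rcases Nat.eq_zero_or_pos d with h0 | h0
    · rw [h0, Nat.zero_mul] at hcard
      omega
    · exact h0
  by_cases hYabs : AbsIrr Y
  swap
  · exact Or.inl (Cfsg.Agent.Lib.Helper18.S5630I4CEN.inClass_of_not_absIrr_block H N hnorm hs e P Y hY hYabs hNY)
  rcases Nat.lt_or_ge d 2 with hd2 | hd2
  · have hd1 : d = 1 := by omega
    subst hd1
    right; left
    rw [hNY]
    exact Cfsg.Agent.Lib.Helper18.S5630I4ED.map_kronL_le_scalars e P Y
  rcases Nat.lt_or_ge s 2 with hs2 | hs2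
  · have hs1 : s = 1 := by omega
    subst hs1
    right; right
    rw [hNY]
    exact Cfsg.Agent.Lib.Helper18.S5630I4ED.absIrr_map_kronL e P Y hYabs
  left
  have hT : H ≤ tensorProductSubgroup d s e P :=
    Cfsg.Agent.Lib.Helper8.S5630I4TENS.le_tensorProductSubgroup_of_normalizes H N hnorm hd hs e P Y hYabs hNY
  rcases lt_trichotomy d s with h | h | h
  · exact InClass.of_tensor H d s e P hd2 h hT
  · subst h
    rcases Nat.lt_or_ge d 3 with h3 | h3
    · have hd2' : d = 2 := by omega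
      subst hd2'
      exact Cfsg.Agent.Lib.Helper26.S5630I4TENS3c.inClass_of_le_tensor22 hn H e P hT
    · obtain ⟨e', he'⟩ := Cfsg.Agent.Lib.Helper8.S5630I4TENS3.tensorProductSubgroup_le_tensorWreath e P
      exact InClass.of_tensorWreath H d 2 e' P h3 le_rfl (hT.trans he')
  · rw [Cfsg.Agent.Lib.Helper8.S5630I4TENS3.tensorProductSubgroup_swap e P] at hT
    exact InClass.of_tensor H s d _ P hs2 h hT

/-- irreducible groups are not scalar (`n ≥ 2`) -/
theorem not_scalar_of_irr (hn : 2 ≤ n) (H : Subgroup (GL (Fin n) F)) (h : Irr H) : ¬ H ≤ scalars (Fin n) F :=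
  Cfsg.Agent.Lib.Helper8.S5630I1.not_scalar_of_irr hn H h

/-- **I5** the group-theoretic dichotomy (no linear algebra): a minimal `H`-normalised non-scalar subgroup is
"elementary abelian modulo scalars" or the normal closure of a perfect `L`, simple modulo scalars, whose distinct
conjugates commute -/
theorem group_dichotomy [Fintype F] (H : Subgroup (GL (Fin n) F)) (hH : ¬ H ≤ scalars (Fin n) F) :
    (∃ (N : Subgroup (GL (Fin n) F)) (r : ℕ), N ≤ H ∧ NormBy H N ∧ ¬ N ≤ scalars (Fin n) F ∧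
      (∀ K : Subgroup (GL (Fin n) F), K ≤ N → NormBy H K → K ≤ scalars (Fin n) F ∨ K = N) ∧ r.Prime ∧
      (∀ x ∈ N, x ^ r ∈ scalars (Fin n) F) ∧ (∀ x ∈ N, ∀ y ∈ N, ⁅x, y⁆ ∈ scalars (Fin n) F)) ∨
    (∃ L : Subgroup (GL (Fin n) F), L ≤ H ∧ ¬ L ≤ scalars (Fin n) F ∧ ⁅L, L⁆ = L ∧ SimpleModScal L ∧
      (∀ h ∈ H, (∀ x ∈ L, h * x * h⁻¹ ∈ L) ∨ (∀ x ∈ L, ∀ y ∈ L, (h * x * h⁻¹) * y = y * (h * x * h⁻¹)))) :=
  Cfsg.Agent.Lib.Helper23.S5630I5.group_dichotomy H hH

/-- **I6** the symplectic-type case: class 6, or 5, or 8.  (The former hypothesis `hsub` is GONE: use `InClass.of_realisable`.) -/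
theorem c6_case [Fintype F] (hn : 3 ≤ n) (H N : Subgroup (GL (Fin n) F)) (r : ℕ) (hH : AbsIrr H) (hQP : QP H)
    (hNH : N ≤ H) (hnorm : NormBy H N) (hNs : ¬ N ≤ scalars (Fin n) F)
    (hmin : ∀ K : Subgroup (GL (Fin n) F), K ≤ N → NormBy H K → K ≤ scalars (Fin n) F ∨ K = N) (hr : r.Prime)
    (hpow : ∀ x ∈ N, x ^ r ∈ scalars (Fin n) F) (hcomm : ∀ x ∈ N, ∀ y ∈ N, ⁅x, y⁆ ∈ scalars (Fin n) F) :
    InClass H := by
  -- half A (helper16): the symplectic-type core `R`
  obtain ⟨R, hR⟩ := Cfsg.Agent.Lib.Helper16.S5630I6A.halfA hn H N r hQP hNH hnorm hNs hmin hr hpow hcomm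
  -- class 5 exit
  by_cases hex : ∃ F₀ : Subfield F, F₀ ≠ ⊤ ∧ RealisableOver F₀ (matrixSet R)
  · obtain ⟨F₀, h0, hreal⟩ := hex
    exact InClass.of_realisable R H hR.absIrr hR.norm F₀ h0 hreal
  have hreal : ∀ F₀ : Subfield F, F₀ ≠ ⊤ → ¬ RealisableOver F₀ (matrixSet R) := fun F₀ h0 h => hex ⟨F₀, h0, h⟩
  -- half B (helper3): the exits, with `minimal_field'` (hypothesis on `R` instead of `hsub`)
  obtain ⟨p, e, hp, hc, hq, he0⟩ := Cfsg.Agent.Lib.Helper3.AschC6.exists_char_card F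
  by_cases hz : r * Nat.gcd 2 r ∣ Fintype.card F - 1
  · have hmf := Cfsg.Agent.Lib.Helper3.AschC6.minimal_field' (by omega) hreal hR hz p e hp hc hq
    by_cases he : Odd e
    · exact InClass.of_symplecticType H r R
        (Cfsg.Agent.Lib.Helper3.AschC6.linearSymplecticTypeData hn hR p e he0 hmf he)
        (Cfsg.Agent.Lib.Helper3.AschC6.le_subgroupNormalizer hR)
    · exact Cfsg.Agent.Lib.Helper3.AschC6.exit_unitary hn hR hz p e he0 hmf he
  · have hrq := Cfsg.Agent.Lib.Helper16.S5630I6BTau.r_dvd_card_sub_one (by omega) hR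
    have hr2 : r = 2 := by
      by_contra hne
      have hg : Nat.gcd 2 r = 1 := by
        rw [Nat.coprime_comm.mp ((Nat.coprime_primes hR.prime Nat.prime_two).mpr hne)]
      rw [hg, mul_one] at hz
      exact hz hrq
    subst hr2
    exact Cfsg.Agent.Lib.Helper3.AschC6.exit_bilinear hn hR rfl (by simpa using hz)

/-- **I7** the tensor-induced case: class 7 (or 8 when the factors have dimension 2) -/
theorem c7_case [Fintype F] (hn : 3 ≤ n) (H L : Subgroup (GL (Fin n) F)) (hH : AbsIrr H) (hQP : QP H)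
    (hLH : L ≤ H) (hLs : ¬ L ≤ scalars (Fin n) F) (hperf : ⁅L, L⁆ = L) (hqs : SimpleModScal L)
    (hconj : ∀ h ∈ H, (∀ x ∈ L, h * x * h⁻¹ ∈ L) ∨
      (∀ x ∈ L, ∀ y ∈ L, (h * x * h⁻¹) * y = y * (h * x * h⁻¹)))
    (hnn : ¬ NormBy H L) : InClass H :=
  Cfsg.Agent.Lib.Helper22.AschC7.c7_case hn H L hH hQP hLH hLs hperf hqs hconj hnn

/-- **I8** the almost simple case: class 5, class 8 or the residual class.  (The former hypothesis `hsub` is GONE: use
`InClass.of_realisable`.) -/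
theorem s_case [Fintype F] (hn : 3 ≤ n) (H L : Subgroup (GL (Fin n) F)) (hH : AbsIrr H) (hQP : QP H)
    (hLH : L ≤ H) (hLs : ¬ L ≤ scalars (Fin n) F) (hperf : ⁅L, L⁆ = L) (hqs : SimpleModScal L)
    (hnorm : NormBy H L) : InClass H ∨ InLinearResidualClass H := by
  have hLabs : AbsIrr L := (hQP L hLH hnorm).resolve_left hLs
  by_cases hex : ∃ F₀ : Subfield F, F₀ ≠ ⊤ ∧ RealisableOver F₀ (matrixSet L)
  · obtain ⟨F₀, h0, hreal⟩ := hex
    exact Or.inl (InClass.of_realisable L H hLabs hnorm F₀ h0 hreal)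
  by_cases hsym : ∃ f : (Fin n → F) → (Fin n → F) → F, IsSymplecticForm f ∧ FixesForm (matrixSet L) f
  · obtain ⟨f, hf, hfix⟩ := hsym
    left
    have he : Even n := even_of_isSymplecticForm f hf
    have h4 : 4 ≤ n := by
      obtain ⟨k, hk⟩ := he
      omega
    refine InClass.of_symplectic H f hf he h4 (fun h hh => ?_)
    exact mem_similarityGroup_of_normalizes L hLabs f hf.bilinear hf.nondegenerate hfix h
      (fun x hx => hnorm h hh x hx)
  by_cases huni : ∃ (σ : F ≃+* F) (f : (Fin n → F) → (Fin n → F) → F), IsUnitaryForm σ f ∧ FixesForm (matrixSet L) f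
  · obtain ⟨σ, f, hf, hfix⟩ := huni
    left
    refine InClass.of_unitary H σ f hf hn (fun h hh => ?_)
    exact mem_similarityGroup_of_normalizes_unitary L hLabs σ f hf hfix h (fun x hx => hnorm h hh x hx)
  by_cases hquad : ∃ Q : (Fin n → F) → F, IsNondegenerateQuadraticForm Q ∧ FixesQuadForm (matrixSet L) Q
  · obtain ⟨Q, hQ, hfix⟩ := hquad
    by_cases ho : Odd (Fintype.card F)
    · left
      refine InClass.of_quadratic H Q hQ ho hn (fun h hh => ?_)
      exact mem_quadSimilarityGroup_of_normalizes L hLabs Q hQ ho hfix h (fun x hx => hnorm h hh x hx)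
    · exact absurd ⟨QuadraticMap.polar Q, isSymplecticForm_polar Q hQ ho, fixesForm_polar _ Q hfix⟩ hsym
  right
  refine ⟨L, ⟨hLH, hnorm, hperf, Cfsg.Agent.Lib.Helper12.S5630I8.isSimpleGroup_quotient L hLs hqs,
    Cfsg.Agent.Lib.Helper12.S5630I8.not_comm_quotient L hLs hperf, ?_, hLabs, ?_⟩, hquad, hsym, huni⟩
  · intro h _ hh
    exact Cfsg.Agent.Lib.Helper12.S5630I8.mem_scalars_of_comm (by omega) L hLabs h
      (Cfsg.Agent.Lib.Helper12.S5630I8.comm_of_perfect L hperf h hh)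
  · intro F₀ h0 hreal
    exact hex ⟨F₀, h0, hreal⟩

/-- **Aschbacher's theorem for `GL_n(F)`, `n ≥ 3`** -/
theorem main [Fintype F] (hn : 3 ≤ n) (H : Subgroup (GL (Fin n) F)) :
    InClass H ∨ InLinearResidualClass H := by
  by_cases h1 : Irr H
  swap
  · exact Or.inl (inClass_of_not_irr H h1)
  by_cases h2 : AbsIrr H
  swap
  · exact Or.inl (inClass_of_not_absIrr hn H h1 h2)
  by_cases h4 : QP H
  swap
  · unfold QP at h4
    push Not at h4
    obtain ⟨N, hNH, hnorm, hns, hna⟩ := h4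
    rcases clifford hn H N h2 hNH hnorm with h | h | h
    · exact Or.inl h
    · exact absurd h hns
    · exact absurd h hna
  have hHs : ¬ H ≤ scalars (Fin n) F := not_scalar_of_irr (by omega) H h1
  rcases group_dichotomy H hHs with ⟨N, r, hNH, hnorm, hNs, hmin, hr, hpow, hcomm⟩ | ⟨L, hLH, hLs, hperf, hqs, hconj⟩
  · exact Or.inl (c6_case hn H N r h2 h4 hNH hnorm hNs hmin hr hpow hcomm)
  · by_cases hnL : NormBy H L
    · exact s_case hn H L h2 h4 hLH hLs hperf hqs hnL
    · exact Or.inl (c7_case hn H L h2 h4 hLH hLs hperf hqs hconj hnL)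

end Cfsg.Agent.Lib.Helper7.Asch
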