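import Mathlib

/-!
# Brauer–Leonard with `|N : C| = 3`: the arithmetic of the involution argument (helper7 library)
-/

set_option autoImplicit false

namespace Cfsg.Agent.Lib.Helper7

/-- the discriminant argument in signed form -/
theorem bl3_signed_square (X₂ X₃ X₄ T₂ T₃ T₄ : ℤ)
    (F1 : 1 + X₂ + X₃ + X₄ = 0) (F2 : 1 + T₂ + T₃ + T₄ = 0)
    (F3 : X₂ * X₃ * X₄ + T₂ ^ 2 * X₃ * X₄ + T₃ ^ 2 * X₂ * X₄ + T₄ ^ 2 * X₂ * X₃ = 0)
    (h3 : T₃ ≠ X₃) : ∃ q : ℤ, X₂ * X₃ * X₄ = q ^ 2 := by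
  set w₂ := T₂ - X₂ with hw₂
  set w₃ := T₃ - X₃ with hw₃
  have hw₃0 : w₃ ≠ 0 := sub_ne_zero.mpr h3
  have hX₄ : X₄ = -(1 + X₂ + X₃) := by linarith
  have hT₄ : T₄ = -(1 + T₂ + T₃) := by linarith
  have key : X₂ * X₃ * X₄ * w₃ ^ 2 = (X₃ * (1 + X₃) * w₂ - X₂ * X₃ * w₃) ^ 2 := by
    rw [hX₄, hT₄] at F3
    rw [hX₄, hw₂, hw₃]
    linear_combination (X₃ * (1 + X₃)) * F3
  have hdvd : w₃ ^ 2 ∣ (X₃ * (1 + X₃) * w₂ - X₂ * X₃ * w₃) ^ 2 := ⟨X₂ * X₃ * X₄, by rw [← key]; ring⟩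
  have hdvd' : w₃ ∣ X₃ * (1 + X₃) * w₂ - X₂ * X₃ * w₃ :=
    (Int.pow_dvd_pow_iff (by norm_num)).mp hdvd
  obtain ⟨q, hq⟩ := hdvd'
  refine ⟨q, ?_⟩
  rw [hq] at key
  have h2 : w₃ ^ 2 ≠ 0 := pow_ne_zero 2 hw₃0
  apply mul_right_cancel₀ h2
  rw [key]; ring

/-- the core arithmetic for odd `p` -/
theorem bl3_core_odd (x₂ x₃ x₄ : ℕ) (hx₂ : 0 < x₂) (hx₃ : 0 < x₃) (hx₄ : 0 < x₄)
    (t₂ t₃ t₄ a₂ a₃ δ : ℤ) (ha₂ : a₂ = 1 ∨ a₂ = -1) (ha₃ : a₃ = 1 ∨ a₃ = -1)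
    (hδ : δ = 1 ∨ δ = -1)
    (E1 : 1 + a₂ * x₂ + a₃ * x₃ - δ * x₄ = 0)
    (E2 : 1 + a₂ * t₂ + a₃ * t₃ - δ * t₄ = 0)
    (E3 : (x₂ : ℤ) * x₃ * x₄ + a₂ * t₂ ^ 2 * x₃ * x₄ + a₃ * t₃ ^ 2 * x₂ * x₄
      - δ * t₄ ^ 2 * x₂ * x₃ = 0)
    (h3 : t₃ ≠ x₃) :
    IsSquare (x₄ * (x₂ * x₃)) ∧
      (if a₂ = -1 then 1 else 0) + (if a₃ = -1 then 1 else 0) + (if δ = 1 then 1 else 0) = 2 := by
  have ha₂2 : a₂ ^ 2 = 1 := by rcases ha₂ with h | h <;> rw [h] <;> norm_num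
  have ha₃2 : a₃ ^ 2 = 1 := by rcases ha₃ with h | h <;> rw [h] <;> norm_num
  have hδ2 : δ ^ 2 = 1 := by rcases hδ with h | h <;> rw [h] <;> norm_num
  obtain ⟨q, hq⟩ := bl3_signed_square (a₂ * x₂) (a₃ * x₃) (-δ * x₄) (a₂ * t₂) (a₃ * t₃) (-δ * t₄)
    (by linear_combination E1) (by linear_combination E2)
    (by linear_combination (a₂ * a₃ * (-δ)) * E3)
    (by
      intro hc
      apply h3
      have : a₃ * (a₃ * t₃) = a₃ * (a₃ * x₃) := by rw [hc]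
      have h5 : a₃ * a₃ = 1 := by rw [← sq]; exact ha₃2
      rw [← mul_assoc, ← mul_assoc, h5, one_mul, one_mul] at this
      exact this)
  have hpos : (0 : ℤ) < (x₂ : ℤ) * x₃ * x₄ := by positivity
  have hprod : a₂ * x₂ * (a₃ * x₃) * (-δ * x₄) = (a₂ * a₃ * (-δ)) * ((x₂ : ℤ) * x₃ * x₄) := by ring
  rw [hprod] at hq
  have hsign : a₂ * a₃ * (-δ) = 1 := by
    have hq0 : 0 ≤ q ^ 2 := sq_nonneg q
    rcases ha₂ with h2 | h2 <;> rcases ha₃ with h3' | h3' <;> rcases hδ with h4 | h4 <;>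
      rw [h2, h3', h4] at hq ⊢ <;> norm_num at hq ⊢ <;> nlinarith
  rw [hsign, one_mul] at hq
  constructor
  · refine ⟨q.natAbs, ?_⟩
    have : ((x₄ * (x₂ * x₃) : ℕ) : ℤ) = ((q.natAbs * q.natAbs : ℕ) : ℤ) := by
      simp only [Nat.cast_mul, Int.natCast_natAbs]
      rw [← sq, sq_abs, ← hq]
      ring
    exact_mod_cast this
  · have h7 : (0:ℤ) < x₂ := by exact_mod_cast hx₂
    have h8 : (0:ℤ) < x₃ := by exact_mod_cast hx₃
    have h9 : (0:ℤ) < x₄ := by exact_mod_cast hx₄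
    rcases ha₂ with h2 | h2 <;> rcases ha₃ with h3' | h3' <;> rcases hδ with h4 | h4 <;>
      rw [h2, h3', h4] at hsign E1 <;> rw [h2, h3', h4] <;>
      first
        | (norm_num at hsign; done)
        | (norm_num; done)
        | (exfalso; linarith)

/-- the Diophantine system of the case `p = 2` has the unique solution `(15, 6, 10)` -/
theorem bl3_dioph (a b n : ℤ) (ha : 0 < a) (hb : 0 < b) (hn : 0 < n)
    (E1 : 1 + a - b = n) (E3 : a * b * n + b * n - a * n = 9 * a * b) :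
    a = 15 ∧ b = 6 ∧ n = 10 := by
  obtain ⟨c, hc⟩ : ∃ c : ℤ, c = a - b := ⟨_, rfl⟩
  have hn' : n = 1 + c := by linarith
  have ha' : a = b + c := by linarith
  have hc0 : 0 ≤ c := by linarith
  subst hn' ha'
  have key : b * (b + c) * (c - 8) = c * (c + 1) := by linear_combination E3
  have hab : 0 < b * (b + c) := mul_pos hb ha
  have hc9 : 9 ≤ c := by
    by_contra hlt
    push Not at hlt
    have h1 : b * (b + c) * (c - 8) ≤ 0 :=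
      mul_nonpos_of_nonneg_of_nonpos hab.le (by linarith)
    have h2 : 0 ≤ c * (c + 1) := mul_nonneg hc0 (by linarith)
    have h3 : c * (c + 1) = 0 := by linarith
    have h4 : c = 0 := by
      rcases mul_eq_zero.mp h3 with h | h
      · exact h
      · linarith
    rw [h4] at key
    have : b * (b + 0) * (0 - 8) < 0 := by nlinarith
    linarith
  have hb2 : 2 ≤ b := by
    by_contra hlt
    push Not at hlt
    have hb1 : b = 1 := by linarith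
    rw [hb1] at key
    nlinarith
  have h5 : b * (c - 8) ≤ c := by
    have h6 : b * (c - 8) * (b + c) ≤ c * (b + c) := by nlinarith
    exact le_of_mul_le_mul_right h6 ha
  have h7 : (b - 1) * (c - 8) ≤ 8 := by linarith
  have hb9 : b ≤ 9 := by nlinarith
  have hc16 : c ≤ 16 := by nlinarith
  interval_cases b <;> interval_cases c <;> first | omega | (norm_num at key)

/-- the core arithmetic for `p = 2` -/
theorem bl3_core_two (x₂ x₃ x₄ : ℕ) (hx₂ : 0 < x₂) (hx₃ : 0 < x₃) (hx₄ : 0 < x₄)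
    (a₂ a₃ δ : ℤ) (ha₂ : a₂ = 1 ∨ a₂ = -1) (ha₃ : a₃ = 1 ∨ a₃ = -1)
    (hδ : δ = 1 ∨ δ = -1)
    (E1 : 1 + a₂ * x₂ + a₃ * x₃ - δ * x₄ = 0)
    (E3 : (x₂ : ℤ) * x₃ * x₄ + a₂ * x₃ * x₄ + a₃ * x₂ * x₄ - 9 * δ * x₂ * x₃ = 0)
    (h2 : ¬ (x₂ = 1 ∧ a₂ = 1)) (h3 : ¬ (x₃ = 1 ∧ a₃ = 1)) :
    IsSquare (x₄ * (x₂ * x₃)) ∧
      (if a₂ = -1 then 1 else 0) + (if a₃ = -1 then 1 else 0) + (if δ = 1 then 1 else 0) = 2 := by
  have h7 : (0:ℤ) < x₂ := by exact_mod_cast hx₂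
  have h8 : (0:ℤ) < x₃ := by exact_mod_cast hx₃
  have h9 : (0:ℤ) < x₄ := by exact_mod_cast hx₄
  have h7' : (1:ℤ) ≤ x₂ := by linarith
  have h8' : (1:ℤ) ≤ x₃ := by linarith
  rcases hδ with hd | hd
  · -- δ = 1
    rcases ha₂ with h2' | h2' <;> rcases ha₃ with h3' | h3'
    · -- (1, 1)
      exfalso
      rw [h2', h3', hd] at E1 E3
      have hx₄' : (x₄ : ℤ) = 1 + x₂ + x₃ := by linarith
      rw [hx₄'] at E3
      have hsum : (x₃ : ℤ) * (x₂ - 1) ^ 2 + x₂ * (x₃ - 1) ^ 2 + (x₂ - x₃) ^ 2 = 0 := by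
        linear_combination E3
      have hA : 0 ≤ (x₃ : ℤ) * (x₂ - 1) ^ 2 := mul_nonneg h8.le (sq_nonneg _)
      have hB : 0 ≤ (x₂ : ℤ) * (x₃ - 1) ^ 2 := mul_nonneg h7.le (sq_nonneg _)
      have hC : 0 ≤ ((x₂ : ℤ) - x₃) ^ 2 := sq_nonneg _
      have hA0 : (x₃ : ℤ) * (x₂ - 1) ^ 2 = 0 := by linarith
      have hx : ((x₂ : ℤ) - 1) ^ 2 = 0 := by
        rcases mul_eq_zero.mp hA0 with h | h
        · linarith
        · exact h
      have hx' : (x₂ : ℤ) = 1 := by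
        have := pow_eq_zero_iff (n := 2) (by norm_num) |>.mp hx
        linarith
      exact h2 ⟨by exact_mod_cast hx', h2'⟩
    · -- (1, -1)
      rw [h2', h3', hd] at E1 E3
      obtain ⟨e1, e2, e3⟩ := bl3_dioph (x₂ : ℤ) x₃ x₄ h7 h8 h9 (by linarith) (by linarith)
      have e1' : x₂ = 15 := by exact_mod_cast e1
      have e2' : x₃ = 6 := by exact_mod_cast e2
      have e3' : x₄ = 10 := by exact_mod_cast e3
      rw [e1', e2', e3', h2', h3', hd]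
      exact ⟨⟨30, by norm_num⟩, by norm_num⟩
    · -- (-1, 1)
      rw [h2', h3', hd] at E1 E3
      obtain ⟨e1, e2, e3⟩ := bl3_dioph (x₃ : ℤ) x₂ x₄ h8 h7 h9 (by linarith) (by linarith)
      have e1' : x₃ = 15 := by exact_mod_cast e1
      have e2' : x₂ = 6 := by exact_mod_cast e2
      have e3' : x₄ = 10 := by exact_mod_cast e3
      rw [e1', e2', e3', h2', h3', hd]
      exact ⟨⟨30, by norm_num⟩, by norm_num⟩
    · -- (-1, -1)
      exfalso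
      rw [h2', h3', hd] at E1
      linarith
  · -- δ = -1 : impossible
    exfalso
    rcases ha₂ with h2' | h2' <;> rcases ha₃ with h3' | h3' <;> rw [h2', h3', hd] at E1 E3
    · linarith
    · have : 0 ≤ (x₂ : ℤ) * x₄ * (x₃ - 1) := mul_nonneg (mul_nonneg h7.le h9.le) (by linarith)
      nlinarith [mul_pos h8 h9, mul_pos h7 h8]
    · have : 0 ≤ (x₃ : ℤ) * x₄ * (x₂ - 1) := mul_nonneg (mul_nonneg h8.le h9.le) (by linarith)
      nlinarith [mul_pos h7 h9, mul_pos h7 h8]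
    · have hx₄' : (x₄ : ℤ) = x₂ + x₃ - 1 := by linarith
      rw [hx₄'] at E3
      have h10 : 0 ≤ ((x₂ : ℤ) - 1) * (x₃ - 1) := mul_nonneg (by linarith) (by linarith)
      nlinarith [mul_pos h7 h8, mul_nonneg h10 (by linarith : (0:ℤ) ≤ (x₂ : ℤ) + x₃ - 1)]

end Cfsg.Agent.Lib.Helper7
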