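import Mathlib

/-!
# A lattice lemma for exceptional characters (helper7 library)

Integer vectors `m_i` (`i : ι`) whose pairwise differences have square-norm `2` and are
orthogonal to a positive vector have the shape `m_i = β + δ e_{θ i}` for a sign `δ` and an
injective `θ`.
-/

set_option autoImplicit false

namespace Cfsg.Agent.Lib.Helper7

section Lattice

variable {I : Type*} [Fintype I] [DecidableEq I]

/-- an integer vector of square-norm `2` orthogonal to a positive vector is `e_a - e_b` -/
theorem exists_single_sub_single (v : I → ℤ) (deg : I → ℤ) (hdeg : ∀ χ, 0 < deg χ)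
    (hnorm : ∑ χ, (v χ) ^ 2 = 2) (horth : ∑ χ, deg χ * v χ = 0) :
    ∃ a b : I, a ≠ b ∧
      ∀ χ, v χ = (if χ = a then 1 else 0) - (if χ = b then 1 else 0) := by
  classical
  have hle : ∀ χ, (v χ) ^ 2 ≤ 2 := fun χ => by
    rw [← hnorm]
    exact Finset.single_le_sum (f := fun i => (v i) ^ 2) (fun i _ => sq_nonneg (v i))
      (Finset.mem_univ χ)
  have hval : ∀ χ, v χ = -1 ∨ v χ = 0 ∨ v χ = 1 := fun χ => by
    have h := hle χ
    have h1 : -1 ≤ v χ := by nlinarith
    have h2 : v χ ≤ 1 := by nlinarith
    omega
  have hsq : ∀ χ, (v χ) ^ 2 = if v χ ≠ 0 then 1 else 0 := by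
    intro χ
    rcases hval χ with h | h | h <;> simp [h]
  set S : Finset I := Finset.univ.filter (fun χ => v χ ≠ 0) with hS
  have hcard : S.card = 2 := by
    have h1 : ∑ χ, (v χ) ^ 2 = (S.card : ℤ) := by
      simp_rw [hsq]
      rw [Finset.sum_boole]
    rw [hnorm] at h1
    exact_mod_cast h1.symm
  obtain ⟨a, b, hab, hSab⟩ := Finset.card_eq_two.mp hcard
  have haS : a ∈ S := by rw [hSab]; simp
  have hbS : b ∈ S := by rw [hSab]; simp
  have hva : v a ≠ 0 := (Finset.mem_filter.mp haS).2
  have hvb : v b ≠ 0 := (Finset.mem_filter.mp hbS).2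
  have hzero : ∀ χ, χ ≠ a → χ ≠ b → v χ = 0 := by
    intro χ h1 h2
    by_contra h
    have : χ ∈ S := Finset.mem_filter.mpr ⟨Finset.mem_univ _, h⟩
    rw [hSab] at this
    simp at this
    rcases this with h3 | h3
    · exact h1 h3
    · exact h2 h3
  have hsum : ∑ χ, deg χ * v χ = deg a * v a + deg b * v b := by
    have h1 : ∑ χ, deg χ * v χ = ∑ χ ∈ ({a, b} : Finset I), deg χ * v χ := by
      symm
      apply Finset.sum_subset (Finset.subset_univ _)
      intro χ _ hχ
      simp only [Finset.mem_insert, Finset.mem_singleton, not_or] at hχ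
      rw [hzero χ hχ.1 hχ.2, mul_zero]
    rw [h1, Finset.sum_pair hab]
  rw [hsum] at horth
  have hda := hdeg a
  have hdb := hdeg b
  rcases hval a with ha | ha | ha
  · rcases hval b with hb | hb | hb
    · rw [ha, hb] at horth; exfalso; linarith
    · exact absurd hb hvb
    · refine ⟨b, a, hab.symm, ?_⟩
      intro χ
      by_cases h1 : χ = a
      · subst h1; rw [if_neg hab, if_pos rfl, ha]; norm_num
      · by_cases h2 : χ = b
        · subst h2; rw [if_pos rfl, if_neg h1, hb]; norm_num
        · rw [if_neg h2, if_neg h1, hzero χ h1 h2]; norm_num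
  · exact absurd ha hva
  · rcases hval b with hb | hb | hb
    · refine ⟨a, b, hab, ?_⟩
      intro χ
      by_cases h1 : χ = a
      · subst h1; rw [if_pos rfl, if_neg hab, ha]; norm_num
      · by_cases h2 : χ = b
        · subst h2; rw [if_neg h1, if_pos rfl, hb]; norm_num
        · rw [if_neg h1, if_neg h2, hzero χ h1 h2]; norm_num
    · exact absurd hb hvb
    · rw [ha, hb] at horth; exfalso; linarith

/-- **Lattice lemma**: integer vectors `mv i` (`i : ι`, at least two indices) whose pairwise
differences have square-norm `2` and are orthogonal to a positive vector have the shape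
`mv i = β + δ e_{θ i}` with `δ = ±1` and `θ` injective. -/
theorem lattice_structure {ι : Type*} [DecidableEq ι] (i₀ i₁ : ι) (h01 : i₁ ≠ i₀)
    (mv : ι → I → ℤ) (deg : I → ℤ) (hdeg : ∀ χ, 0 < deg χ)
    (hnorm : ∀ i j, i ≠ j → ∑ χ, (mv i χ - mv j χ) ^ 2 = 2)
    (horth : ∀ i j, ∑ χ, deg χ * (mv i χ - mv j χ) = 0) :
    ∃ (δ : ℤ) (θ : ι → I) (β : I → ℤ), (δ = 1 ∨ δ = -1) ∧ Function.Injective θ ∧
      ∀ i χ, mv i χ = β χ + if χ = θ i then δ else 0 := by
  classical
  have key : ∀ i j, i ≠ j → ∃ a b : I, a ≠ b ∧
      ∀ χ, mv i χ - mv j χ = (if χ = a then 1 else 0) - (if χ = b then 1 else 0) :=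
    fun i j hij => exists_single_sub_single _ deg hdeg (hnorm i j hij) (horth i j)
  have key0 : ∀ j, j ≠ i₀ → ∃ a b : I, a ≠ b ∧
      ∀ χ, mv i₀ χ - mv j χ = (if χ = a then 1 else 0) - (if χ = b then 1 else 0) :=
    fun j hj => key i₀ j hj.symm
  have : Nonempty I := by
    obtain ⟨a, _, _, _⟩ := key0 i₁ h01
    exact ⟨a⟩
  choose! u v huv hmv using key0
  -- the exclusive-or property
  have hxor : ∀ j k, j ≠ i₀ → k ≠ i₀ → j ≠ k →
      (u j = u k ∧ v j ≠ v k) ∨ (u j ≠ u k ∧ v j = v k) := by
    intro j k hj hk hjk
    obtain ⟨a, b, hab, hjk'⟩ := key j k hjk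
    have E : ∀ χ, ((if χ = u k then 1 else 0) - (if χ = v k then 1 else 0) : ℤ)
        - ((if χ = u j then 1 else 0) - (if χ = v j then 1 else 0))
        = (if χ = a then 1 else 0) - (if χ = b then 1 else 0) := by
      intro χ
      rw [← hmv k hk χ, ← hmv j hj χ, ← hjk' χ]
      ring
    have hj' := huv j hj
    have hk' := huv k hk
    by_cases h1 : u j = u k
    · by_cases h2 : v j = v k
      · exfalso
        have Ea := E a
        rw [h1, h2, if_pos rfl, if_neg hab] at Ea
        simp at Ea
      · exact Or.inl ⟨h1, h2⟩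
    · by_cases h2 : v j = v k
      · exact Or.inr ⟨h1, h2⟩
      · exfalso
        have Euk := E (u k)
        have Evj := E (v j)
        rw [if_pos rfl, if_neg hk', if_neg (Ne.symm h1)] at Euk
        rw [if_neg h2, if_neg (Ne.symm hj'), if_pos rfl] at Evj
        by_cases h3 : u k = v j
        · rw [if_pos h3] at Euk
          split_ifs at Euk <;> omega
        · rw [if_neg h3] at Euk
          rw [if_neg (Ne.symm h3)] at Evj
          have h4 : u k = a := by
            by_contra h
            rw [if_neg h] at Euk
            split_ifs at Euk <;> omega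
          have h5 : v j = a := by
            by_contra h
            rw [if_neg h] at Evj
            split_ifs at Evj <;> omega
          exact h3 (h4.trans h5.symm)
  have hmv' : ∀ j, j ≠ i₀ → ∀ χ,
      mv j χ = mv i₀ χ - (if χ = u j then 1 else 0) + (if χ = v j then 1 else 0) := by
    intro j hj χ
    have := hmv j hj χ
    linarith
  by_cases hA : ∀ j k, j ≠ i₀ → k ≠ i₀ → u j = u k
  · -- all `u j` equal
    refine ⟨1, fun i => if i = i₀ then u i₁ else v i,
      fun χ => mv i₀ χ - (if χ = u i₁ then 1 else 0), Or.inl rfl, ?_, ?_⟩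
    · intro i j hij
      simp only at hij
      by_cases hi : i = i₀
      · by_cases hj : j = i₀
        · rw [hi, hj]
        · exfalso
          rw [if_pos hi, if_neg hj] at hij
          exact huv j hj ((hA j i₁ hj h01).trans hij)
      · by_cases hj : j = i₀
        · exfalso
          rw [if_neg hi, if_pos hj] at hij
          exact huv i hi ((hA i i₁ hi h01).trans hij.symm)
        · rw [if_neg hi, if_neg hj] at hij
          by_contra hne
          rcases hxor i j hi hj hne with h | h
          · exact h.2 hij
          · exact h.1 (hA i j hi hj)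
    · intro i χ
      by_cases hi : i = i₀
      · subst hi
        simp only [if_true]
        split_ifs <;> ring
      · simp only [if_neg hi]
        rw [hmv' i hi χ, hA i i₁ hi h01]
  · -- all `v j` equal
    push Not at hA
    obtain ⟨j, k, hj, hk, hjk⟩ := hA
    have hjk' : j ≠ k := fun h => hjk (by rw [h])
    have hvjk : v j = v k := by
      rcases hxor j k hj hk hjk' with h | h
      · exact absurd h.1 hjk
      · exact h.2
    have hB : ∀ l, l ≠ i₀ → v l = v j := by
      intro l hl
      by_cases hlj : l = j
      · rw [hlj]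
      by_cases hlk : l = k
      · rw [hlk, hvjk]
      by_contra hne
      have h1 : u l = u j := by
        rcases hxor l j hl hj hlj with h | h
        · exact h.1
        · exact absurd h.2 hne
      have h2 : u l = u k := by
        rcases hxor l k hl hk hlk with h | h
        · exact h.1
        · exact absurd (h.2.trans hvjk.symm) hne
      exact hjk (h1.symm.trans h2)
    refine ⟨-1, fun i => if i = i₀ then v j else u i,
      fun χ => mv i₀ χ + (if χ = v j then 1 else 0), Or.inr rfl, ?_, ?_⟩
    · intro i l hil
      simp only at hil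
      by_cases hi : i = i₀
      · by_cases hl : l = i₀
        · rw [hi, hl]
        · exfalso
          rw [if_pos hi, if_neg hl] at hil
          exact huv l hl (hil.symm.trans (hB l hl).symm)
      · by_cases hl : l = i₀
        · exfalso
          rw [if_neg hi, if_pos hl] at hil
          exact huv i hi (hil.trans (hB i hi).symm)
        · rw [if_neg hi, if_neg hl] at hil
          by_contra hne
          rcases hxor i l hi hl hne with h | h
          · exact h.2 ((hB i hi).trans (hB l hl).symm)
          · exact h.1 hil
    · intro i χ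
      by_cases hi : i = i₀
      · subst hi
        simp only [if_true]
        split_ifs <;> ring
      · simp only [if_neg hi]
        rw [hmv' i hi χ, hB i hi]
        split_ifs <;> ring

end Lattice

end Cfsg.Agent.Lib.Helper7
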