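import Mathlib
import Cfsg.Agent.Lib.Helper11.LinChar

/-!
# Fourier analysis on a finite commutative group (helper7 library)

Dual orthogonality and Fourier inversion for the homomorphisms `A →* ℂˣ` of a finite
commutative group `A` (commutativity given as a hypothesis on a `Group`).
-/

set_option autoImplicit false

namespace Cfsg.Agent.Lib.Helper7

open scoped ComplexConjugate
open Cfsg.Agent.Lib.Helper11

section Dual

variable {A : Type*} [Group A] [Fintype A]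

theorem finite_hom_units : Finite (A →* ℂˣ) := by
  have : NeZero (Monoid.exponent A) := ⟨Monoid.exponent_ne_zero_of_finite⟩
  infer_instance

theorem card_hom_units (hcomm : ∀ a b : A, a * b = b * a) :
    Nat.card (A →* ℂˣ) = Nat.card A := by
  let _ : CommGroup A := { ‹Group A› with mul_comm := hcomm }
  exact CommGroup.card_monoidHom_of_hasEnoughRootsOfUnity A ℂ

theorem exists_hom_apply_ne_one (hcomm : ∀ a b : A, a * b = b * a) {y : A} (hy : y ≠ 1) :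
    ∃ ψ : A →* ℂˣ, ψ y ≠ 1 := by
  let _ : CommGroup A := { ‹Group A› with mul_comm := hcomm }
  exact CommGroup.exists_apply_ne_one_of_hasEnoughRootsOfUnity A ℂ hy

/-- dual orthogonality, first form -/
theorem dual_sum_apply [DecidableEq A] (hcomm : ∀ a b : A, a * b = b * a) [Fintype (A →* ℂˣ)]
    (y : A) :
    ∑ ψ : A →* ℂˣ, ((ψ y : ℂˣ) : ℂ) = if y = 1 then (Fintype.card A : ℂ) else 0 := by
  by_cases hy : y = 1
  · rw [if_pos hy, hy]
    simp only [map_one, Units.val_one, Finset.sum_const, Finset.card_univ, nsmul_eq_mul, mul_one]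
    rw [← Nat.card_eq_fintype_card, card_hom_units hcomm, Nat.card_eq_fintype_card]
  · rw [if_neg hy]
    obtain ⟨ψ₀, hψ₀⟩ := exists_hom_apply_ne_one hcomm hy
    have h1 : ∑ ψ : A →* ℂˣ, ((ψ y : ℂˣ) : ℂ)
        = ((ψ₀ y : ℂˣ) : ℂ) * ∑ ψ : A →* ℂˣ, ((ψ y : ℂˣ) : ℂ) := by
      rw [Finset.mul_sum]
      rw [← Equiv.sum_comp (Equiv.mulLeft ψ₀) (fun ψ : A →* ℂˣ => ((ψ y : ℂˣ) : ℂ))]
      apply Finset.sum_congr rfl
      intro ψ _
      simp [MonoidHom.mul_apply]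
    have h2 : (1 - ((ψ₀ y : ℂˣ) : ℂ)) * ∑ ψ : A →* ℂˣ, ((ψ y : ℂˣ) : ℂ) = 0 := by
      rw [sub_mul, one_mul, ← h1, sub_self]
    rcases mul_eq_zero.mp h2 with h | h
    · exfalso
      apply hψ₀
      have : ((ψ₀ y : ℂˣ) : ℂ) = 1 := (sub_eq_zero.mp h).symm
      exact Units.ext this
    · exact h

/-- dual orthogonality, second form -/
theorem dual_sum_mul_conj [DecidableEq A] (hcomm : ∀ a b : A, a * b = b * a)
    [Fintype (A →* ℂˣ)] (y y' : A) :
    ∑ ψ : A →* ℂˣ, ((ψ y : ℂˣ) : ℂ) * conj ((ψ y' : ℂˣ) : ℂ)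
      = if y = y' then (Fintype.card A : ℂ) else 0 := by
  have h1 : ∀ ψ : A →* ℂˣ, ((ψ y : ℂˣ) : ℂ) * conj ((ψ y' : ℂˣ) : ℂ)
      = ((ψ (y * y'⁻¹) : ℂˣ) : ℂ) := by
    intro ψ
    rw [linChar_conj]
    simp [map_mul, map_inv]
  simp_rw [h1]
  rw [dual_sum_apply hcomm]
  have : y * y'⁻¹ = 1 ↔ y = y' := mul_inv_eq_one
  simp only [this]

/-- Fourier inversion on a finite commutative group -/
theorem dual_fourier_inversion (hcomm : ∀ a b : A, a * b = b * a) [Fintype (A →* ℂˣ)]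
    (f : A → ℂ) (y : A) :
    ∑ ψ : A →* ℂˣ, ((Fintype.card A : ℂ)⁻¹ * ∑ y' : A, f y' * conj ((ψ y' : ℂˣ) : ℂ))
      * ((ψ y : ℂˣ) : ℂ) = f y := by
  classical
  have hA : (Fintype.card A : ℂ) ≠ 0 := by exact_mod_cast Fintype.card_ne_zero
  have h1 : ∀ ψ : A →* ℂˣ,
      ((Fintype.card A : ℂ)⁻¹ * ∑ y' : A, f y' * conj ((ψ y' : ℂˣ) : ℂ)) * ((ψ y : ℂˣ) : ℂ)
      = (Fintype.card A : ℂ)⁻¹ * ∑ y' : A, f y' * (((ψ y : ℂˣ) : ℂ) * conj ((ψ y' : ℂˣ) : ℂ)) := by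
    intro ψ
    rw [mul_assoc, Finset.sum_mul]
    congr 1
    apply Finset.sum_congr rfl
    intro y' _
    ring
  simp_rw [h1]
  rw [← Finset.mul_sum, Finset.sum_comm]
  simp_rw [← Finset.mul_sum, dual_sum_mul_conj hcomm]
  rw [Finset.sum_eq_single y]
  · rw [if_pos rfl]
    field_simp
  · intro y' _ hne
    rw [if_neg (Ne.symm hne), mul_zero]
  · intro h
    exact absurd (Finset.mem_univ y) h

/-- a function on the dual whose transform is supported at the identity is constant -/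
theorem dual_const_of_sum_conj_eq_zero [Fintype (A →* ℂˣ)] (F : (A →* ℂˣ) → ℂ)
    (h : ∀ y : A, y ≠ 1 → ∑ φ : A →* ℂˣ, F φ * conj ((φ y : ℂˣ) : ℂ) = 0) (φ₀ : A →* ℂˣ) :
    (Fintype.card A : ℂ) * F φ₀ = ∑ φ : A →* ℂˣ, F φ := by
  classical
  have h1 : ∑ y : A, ((φ₀ y : ℂˣ) : ℂ) * ∑ φ : A →* ℂˣ, F φ * conj ((φ y : ℂˣ) : ℂ)
      = ∑ φ : A →* ℂˣ, F φ := by
    rw [Finset.sum_eq_single (1 : A)]
    · simp
    · intro y _ hy
      rw [h y hy, mul_zero]
    · intro h'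
      exact absurd (Finset.mem_univ _) h'
  rw [← h1]
  simp_rw [Finset.mul_sum]
  rw [Finset.sum_comm]
  have h2 : ∀ φ : A →* ℂˣ, ∑ y : A, ((φ₀ y : ℂˣ) : ℂ) * (F φ * conj ((φ y : ℂˣ) : ℂ))
      = F φ * if φ₀ = φ then (Fintype.card A : ℂ) else 0 := by
    intro φ
    rw [← sum_linChar_mul_conj φ₀ φ, Finset.mul_sum]
    apply Finset.sum_congr rfl
    intro y _
    ring
  simp_rw [h2]
  rw [Finset.sum_eq_single φ₀]
  · rw [if_pos rfl]; ring
  · intro φ _ hne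
    rw [if_neg (Ne.symm hne), mul_zero]
  · intro h'
    exact absurd (Finset.mem_univ _) h'

end Dual

end Cfsg.Agent.Lib.Helper7
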