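import Mathlib
import Cfsg.Agent.Lib.Helper7.BLDual

/-!
# The action of `N_G(P)` on the dual group of an abelian subgroup `P` (helper7 library)
-/

set_option autoImplicit false

namespace Cfsg.Agent.Lib.Helper7

open scoped ComplexConjugate
open Cfsg.Agent.Lib.Helper11

section DualAction

variable {G : Type*} [Group G] (P : Subgroup G)

/-- the action of `N_G(P)` on the dual group of `P`: `(x • φ) y = φ (x⁻¹ y x)` -/
@[reducible] def dualAction : MulAction (Subgroup.normalizer (P : Set G)) (↥P →* ℂˣ) where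
  smul x φ := φ.comp (MulDistribMulAction.toMonoidHom ↥P x⁻¹)
  one_smul φ := by
    ext y
    show ((φ ((1 : Subgroup.normalizer (P : Set G))⁻¹ • y) : ℂˣ) : ℂ) = φ y
    rw [inv_one, one_smul]
  mul_smul x x' φ := by
    ext y
    show ((φ ((x * x')⁻¹ • y) : ℂˣ) : ℂ) = φ (x'⁻¹ • (x⁻¹ • y))
    rw [mul_inv_rev, mul_smul]

attribute [local instance] dualAction

theorem dualAction_apply (x : Subgroup.normalizer (P : Set G)) (φ : ↥P →* ℂˣ) (y : ↥P) :
    (x • φ) y = φ (x⁻¹ • y) := rfl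

theorem dualAction_one (x : Subgroup.normalizer (P : Set G)) :
    x • (1 : ↥P →* ℂˣ) = 1 := by
  ext y
  rw [dualAction_apply]
  rfl

theorem coe_inv_smul (x : Subgroup.normalizer (P : Set G)) (y : ↥P) :
    ((x⁻¹ • y : ↥P) : G) = (x : G)⁻¹ * (y : G) * (x : G) := by
  show ((x⁻¹ : Subgroup.normalizer (P : Set G)) : G) * (y : G)
    * ((x⁻¹ : Subgroup.normalizer (P : Set G)) : G)⁻¹ = _
  simp

/-- **Brauer's permutation lemma** for the dual group: an element of `N_G(P)` fixes as many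
characters of the abelian group `P` as elements of `P`. -/
theorem card_fixed_dual [Fintype ↥P] [Fintype (↥P →* ℂˣ)] [DecidableEq ↥P]
    [DecidableEq (↥P →* ℂˣ)] (hcomm : ∀ a b : ↥P, a * b = b * a)
    (x : Subgroup.normalizer (P : Set G)) :
    (Finset.univ.filter (fun φ : ↥P →* ℂˣ => x • φ = φ)).card
      = (Finset.univ.filter (fun y : ↥P => x⁻¹ • y = y)).card := by
  have hP : (Fintype.card ↥P : ℂ) ≠ 0 := by exact_mod_cast Fintype.card_ne_zero
  have h1 : ∑ φ : ↥P →* ℂˣ, ∑ y : ↥P, (((x • φ) y : ℂˣ) : ℂ) * conj ((φ y : ℂˣ) : ℂ)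
      = (Fintype.card ↥P : ℂ) * (Finset.univ.filter (fun φ : ↥P →* ℂˣ => x • φ = φ)).card := by
    simp_rw [sum_linChar_mul_conj]
    rw [Finset.sum_ite, Finset.sum_const_zero, add_zero, Finset.sum_const, nsmul_eq_mul]
    ring
  have h2 : ∑ φ : ↥P →* ℂˣ, ∑ y : ↥P, (((x • φ) y : ℂˣ) : ℂ) * conj ((φ y : ℂˣ) : ℂ)
      = (Fintype.card ↥P : ℂ) * (Finset.univ.filter (fun y : ↥P => x⁻¹ • y = y)).card := by
    rw [Finset.sum_comm]
    simp_rw [dualAction_apply, dual_sum_mul_conj hcomm]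
    rw [Finset.sum_ite, Finset.sum_const_zero, add_zero, Finset.sum_const, nsmul_eq_mul]
    ring
  have h3 := h1.symm.trans h2
  have h4 := mul_left_cancel₀ hP h3
  exact_mod_cast h4

/-- if `x⁻¹` fixes only the identity of `P`, then `x` fixes only the trivial character -/
theorem eq_one_of_dualAction_fixed [Finite ↥P] (hcomm : ∀ a b : ↥P, a * b = b * a)
    (x : Subgroup.normalizer (P : Set G)) (hx : ∀ y : ↥P, x⁻¹ • y = y → y = 1)
    (φ : ↥P →* ℂˣ) (hφ : x • φ = φ) : φ = 1 := by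
  classical
  let _ : Fintype ↥P := Fintype.ofFinite _
  have : Finite (↥P →* ℂˣ) := finite_hom_units
  let _ : Fintype (↥P →* ℂˣ) := Fintype.ofFinite _
  have h1 := card_fixed_dual P hcomm x
  have h2 : (Finset.univ.filter (fun y : ↥P => x⁻¹ • y = y)) = {1} := by
    ext y
    simp only [Finset.mem_filter, Finset.mem_univ, true_and, Finset.mem_singleton]
    constructor
    · exact hx y
    · rintro rfl
      simp
  rw [h2, Finset.card_singleton] at h1
  obtain ⟨ψ, hψ⟩ := Finset.card_eq_one.mp h1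
  have h3 : φ ∈ ({ψ} : Finset (↥P →* ℂˣ)) := by
    rw [← hψ]; simp [hφ]
  have h4 : (1 : ↥P →* ℂˣ) ∈ ({ψ} : Finset (↥P →* ℂˣ)) := by
    rw [← hψ]; simp [dualAction_one]
  rw [Finset.mem_singleton] at h3 h4
  rw [h3, h4]

end DualAction

end Cfsg.Agent.Lib.Helper7
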