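import Mathlib
import Cfsg.Prelude.Def_Characters
import Cfsg.Agent.Lib.Helper2.Linear
import Cfsg.Agent.Lib.Helper2.Induction
import Cfsg.Agent.Lib.Helper2.CharBasic
import Cfsg.Agent.Lib.Helper7.BLAction

/-!
# Multiplicities of the linear characters of an abelian subgroup (helper7 library)
-/

set_option autoImplicit false

namespace Cfsg.Agent.Lib.Helper7

open scoped ComplexConjugate
open Cfsg.Agent.Lib.Helper11 Cfsg.Agent.Lib.Helper2

section Mult

variable {G : Type*} [Group G] (P : Subgroup G) [Fintype ↥P]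

attribute [local instance] dualAction

/-- the multiplicity of the linear character `ψ` of `P` in the restriction of `χ` -/
noncomputable def dualMult (χ : G → ℂ) (ψ : ↥P →* ℂˣ) : ℂ :=
  (Fintype.card ↥P : ℂ)⁻¹ * ∑ y : ↥P, χ (y : G) * conj ((ψ y : ℂˣ) : ℂ)

theorem dualMult_eq_classInner (χ : G → ℂ) (ψ : ↥P →* ℂˣ) :
    dualMult P χ ψ = Cfsg.classInner (fun y : ↥P => χ (y : G)) (fun y : ↥P => ((ψ y : ℂˣ) : ℂ)) := by
  unfold dualMult Cfsg.classInner
  rw [Nat.card_eq_fintype_card]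

theorem dualMult_nat {χ : G → ℂ} (hχ : Cfsg.IsCharacter G χ) (ψ : ↥P →* ℂˣ) :
    ∃ n : ℕ, dualMult P χ ψ = (n : ℂ) := by
  rw [dualMult_eq_classInner]
  exact classInner_isCharacter_nat (IsCharacter.restrict hχ P)
    (IsIrrCharacter.isCharacter (isIrrCharacter_of_monoidHom ψ))

theorem dualMult_smul {χ : G → ℂ} (hχ : Cfsg.IsClassFunction G χ)
    (x : Subgroup.normalizer (P : Set G)) (ψ : ↥P →* ℂˣ) :
    dualMult P χ (x • ψ) = dualMult P χ ψ := by
  unfold dualMult
  congr 1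
  rw [← Equiv.sum_comp (MulAction.toPerm x : Equiv.Perm ↥P)]
  apply Finset.sum_congr rfl
  intro y _
  rw [dualAction_apply]
  simp only [MulAction.toPerm_apply, inv_smul_smul]
  congr 1
  have : ((x • y : ↥P) : G) = (x : G) * (y : G) * (x : G)⁻¹ := rfl
  rw [this]
  exact hχ (y : G) (x : G)

/-- Fourier expansion of `χ` on the abelian subgroup `P` -/
theorem dualMult_expansion (hcomm : ∀ a b : ↥P, a * b = b * a) [Fintype (↥P →* ℂˣ)]
    (χ : G → ℂ) (y : ↥P) :
    ∑ ψ : ↥P →* ℂˣ, dualMult P χ ψ * ((ψ y : ℂˣ) : ℂ) = χ (y : G) :=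
  dual_fourier_inversion hcomm (fun y : ↥P => χ (y : G)) y

end Mult

end Cfsg.Agent.Lib.Helper7
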