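import Mathlib
import Cfsg.Prelude.Def_Blocks
import Cfsg.Prelude.Def_Solvable
import Cfsg.Agent.S0947
import Cfsg.Agent.S0942
import Cfsg.Agent.Lib.Helper7.BrauerCount3
import Cfsg.Agent.Lib.Helper1.Cores
import Cfsg.Agent.Lib.Helper25.CharBasic

/-!
# Centralizers with a normal `p`-complement (helper7 library)

For an abelian Sylow `p`-subgroup `P` and `y ∈ P` with `C_G(y) ∩ N_G(P) ≤ C_G(P)`, the centralizer
`C_G(y)` has a normal `p`-complement (Burnside), and the squares of the degrees in its principal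
block sum to `|P|`.
-/

set_option autoImplicit false
open Cfsg

namespace Cfsg.Agent.Lib.Helper7

section Nilp

/-- Burnside: `N_H(Q) ≤ C_H(Q)` for a Sylow `p`-subgroup `Q` gives a normal `p`-complement,
in the form `[H : O_{p'}(H)]` is a power of `p`. -/
theorem exists_index_pPrimeCore_of_normalizer_le_centralizer {H : Type*} [Group H] [Finite H]
    {p : ℕ} [Fact p.Prime] (Q : Sylow p H)
    (hNC : Subgroup.normalizer ((Q : Subgroup H) : Set H)
      ≤ Subgroup.centralizer ((Q : Subgroup H) : Set H)) :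
    ∃ k : ℕ, (Cfsg.pPrimeCore p H).index = p ^ k := by
  have hp : p.Prime := Fact.out
  have hcompl := MonoidHom.ker_transferSylow_isComplement' Q hNC
  have hodd := MonoidHom.not_dvd_card_ker_transferSylow Q hNC
  have hidx : (MonoidHom.transferSylow Q hNC).ker.index = Nat.card (Q : Subgroup H) :=
    hcompl.symm.index_eq_card
  have hle : (MonoidHom.transferSylow Q hNC).ker ≤ Cfsg.pPrimeCore p H := by
    apply Cfsg.Agent.Lib.Helper1.le_pPrimeCore (MonoidHom.normal_ker _)
    exact ((Nat.Prime.coprime_iff_not_dvd hp).mpr hodd).symm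
  have hdvd := Subgroup.index_dvd_of_le hle
  rw [hidx, Q.card_eq_multiplicity] at hdvd
  obtain ⟨k, _, hk⟩ := (Nat.dvd_prime_pow hp).mp hdvd
  exact ⟨k, hk⟩

variable {G : Type*} [Group G] [Finite G] {p : ℕ} [Fact p.Prime]

/-- the centralizer of an element `y` of an abelian Sylow subgroup `P` with
`C_G(y) ∩ N_G(P) ≤ C_G(P)` has a normal `p`-complement -/
theorem exists_index_pPrimeCore_centralizer_of_frob (P : Sylow p G)
    (hcomm : ∀ a ∈ (P : Subgroup G), ∀ b ∈ (P : Subgroup G), a * b = b * a)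
    (y : G) (hy : y ∈ (P : Subgroup G))
    (hfrob : Subgroup.centralizer ({y} : Set G) ⊓ Subgroup.normalizer ((P : Subgroup G) : Set G)
      ≤ Subgroup.centralizer ((P : Subgroup G) : Set G)) :
    ∃ k : ℕ, (Cfsg.pPrimeCore p (Subgroup.centralizer ({y} : Set G))).index = p ^ k := by
  have hPH : (P : Subgroup G) ≤ Subgroup.centralizer ({y} : Set G) := by
    intro g hg
    rw [Subgroup.mem_centralizer_singleton_iff]
    exact hcomm g hg y hy
  apply exists_index_pPrimeCore_of_normalizer_le_centralizer (P.subtype hPH)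
  intro h hh
  rw [Sylow.coe_subtype] at hh ⊢
  have hN : (h : G) ∈ Subgroup.normalizer ((P : Subgroup G) : Set G) := by
    rw [Subgroup.mem_normalizer_iff]
    intro g
    rw [Subgroup.mem_normalizer_iff] at hh
    constructor
    · intro hg
      have := (hh ⟨g, hPH hg⟩).mp (by rw [Subgroup.mem_subgroupOf]; exact hg)
      rw [Subgroup.mem_subgroupOf] at this
      simpa using this
    · intro hg
      have hgH : g ∈ Subgroup.centralizer ({y} : Set G) := by
        have h1 : (h : G)⁻¹ * ((h : G) * g * (h : G)⁻¹) * (h : G)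
            ∈ Subgroup.centralizer ({y} : Set G) :=
          Subgroup.mul_mem _ (Subgroup.mul_mem _ (Subgroup.inv_mem _ h.2) (hPH hg)) h.2
        have h2 : (h : G)⁻¹ * ((h : G) * g * (h : G)⁻¹) * (h : G) = g := by group
        rwa [h2] at h1
      have := (hh ⟨g, hgH⟩).mpr (by rw [Subgroup.mem_subgroupOf]; simpa using hg)
      rw [Subgroup.mem_subgroupOf] at this
      exact this
  have hC := hfrob ⟨h.2, hN⟩
  rw [Subgroup.mem_centralizer_iff]
  intro q hq
  apply Subtype.ext
  have hq' : (q : G) ∈ (P : Subgroup G) := Subgroup.mem_subgroupOf.mp hq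
  exact (Subgroup.mem_centralizer_iff.mp hC) (q : G) hq'

/-- the squares of the degrees in the principal block of such a centralizer sum to `|P|` -/
theorem sum_degree_sq_principal_centralizer_nat (M : Ideal Cfsg.AlgInt)
    (hM : Cfsg.IsPModular p M) (P : Sylow p G)
    (hcomm : ∀ a ∈ (P : Subgroup G), ∀ b ∈ (P : Subgroup G), a * b = b * a)
    (y : G) (hy : y ∈ (P : Subgroup G)) (hy1 : y ≠ 1)
    (hfrob : Subgroup.centralizer ({y} : Set G) ⊓ Subgroup.normalizer ((P : Subgroup G) : Set G)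
      ≤ Subgroup.centralizer ((P : Subgroup G) : Set G)) :
    ∑ᶠ ψ ∈ Cfsg.principalBlock M ↥(Subgroup.centralizer ({y} : Set G)),
      Cfsg.charDegree (ψ : ↥(Subgroup.centralizer ({y} : Set G)) → ℂ) ^ 2
      = Nat.card (P : Subgroup G) := by
  have hp : p.Prime := Fact.out
  have hPH : (P : Subgroup G) ≤ Subgroup.centralizer ({y} : Set G) := by
    intro g hg
    rw [Subgroup.mem_centralizer_singleton_iff]
    exact hcomm g hg y hy
  have hnc := exists_index_pPrimeCore_centralizer_of_frob P hcomm y hy hfrob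
  have hz : ∃ k : ℕ, orderOf y = p ^ k := by
    obtain ⟨k, hk⟩ := (IsPGroup.iff_orderOf.mp P.isPGroup') ⟨y, hy⟩
    refine ⟨k, ?_⟩
    rw [← hk]
    exact (Subgroup.orderOf_mk y hy).symm
  have hone : ¬ p ∣ orderOf (1 : ↥(Subgroup.centralizer ({y} : Set G))) := by
    rw [orderOf_one]
    exact fun h => hp.one_lt.ne' (Nat.dvd_one.mp h)
  obtain ⟨h1, h2⟩ := Cfsg.Agent.S0947.result p M hM y hz hy1 1 hone
  have h3 := h2 hnc
  rw [h1] at h3
  -- the Sylow subgroup of the centralizer
  have hcard : Nat.card (P : Subgroup G)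
      = p ^ (Nat.card ↥(Subgroup.centralizer ({y} : Set G))).factorization p := by
    rw [← (P.subtype hPH).card_eq_multiplicity, Sylow.coe_subtype]
    exact (Nat.card_congr (Subgroup.subgroupOfEquivOfLe hPH).toEquiv).symm
  rw [hcard]
  have hfin : (Cfsg.principalBlock M ↥(Subgroup.centralizer ({y} : Set G))).Finite :=
    Set.toFinite _
  have h4 : ∀ ψ : Cfsg.IrrCharacter ↥(Subgroup.centralizer ({y} : Set G)),
      ‖(ψ : ↥(Subgroup.centralizer ({y} : Set G)) → ℂ)
        ((1 : ↥(Subgroup.centralizer ({y} : Set G))))‖ ^ 2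
      = ((Cfsg.charDegree (ψ : ↥(Subgroup.centralizer ({y} : Set G)) → ℂ) ^ 2 : ℕ) : ℝ) := by
    intro ψ
    rw [Cfsg.Agent.Lib.Helper25.char_one_eq_charDegree
      (Cfsg.Agent.Lib.Helper2.IsIrrCharacter.isCharacter ψ.2)]
    simp
  simp_rw [h4] at h3
  rw [← Nat.cast_finsum_mem hfin] at h3
  exact_mod_cast h3

theorem sum_degree_sq_principal_centralizer (M : Ideal Cfsg.AlgInt)
    (hM : Cfsg.IsPModular p M) (P : Sylow p G)
    (hcomm : ∀ a ∈ (P : Subgroup G), ∀ b ∈ (P : Subgroup G), a * b = b * a)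
    (y : G) (hy : y ∈ (P : Subgroup G)) (hy1 : y ≠ 1)
    (hfrob : Subgroup.centralizer ({y} : Set G) ⊓ Subgroup.normalizer ((P : Subgroup G) : Set G)
      ≤ Subgroup.centralizer ((P : Subgroup G) : Set G)) :
    ((∑ᶠ ψ ∈ Cfsg.principalBlock M ↥(Subgroup.centralizer ({y} : Set G)),
      Cfsg.charDegree (ψ : ↥(Subgroup.centralizer ({y} : Set G)) → ℂ) ^ 2) : ℚ)
      = (Nat.card (P : Subgroup G) : ℚ) := by
  have h := sum_degree_sq_principal_centralizer_nat M hM P hcomm y hy hy1 hfrob
  have hfin : (Cfsg.principalBlock M ↥(Subgroup.centralizer ({y} : Set G))).Finite :=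
    Set.toFinite _
  rw [← h, Nat.cast_finsum_mem hfin]
  simp

/-- a character of the principal block is constant on the `p`-section of such a `y` -/
theorem principal_apply_of_isPPart (M : Ideal Cfsg.AlgInt)
    (hM : Cfsg.IsPModular p M) (P : Sylow p G)
    (hcomm : ∀ a ∈ (P : Subgroup G), ∀ b ∈ (P : Subgroup G), a * b = b * a)
    (y : G) (hy : y ∈ (P : Subgroup G))
    (hfrob : Subgroup.centralizer ({y} : Set G) ⊓ Subgroup.normalizer ((P : Subgroup G) : Set G)
      ≤ Subgroup.centralizer ((P : Subgroup G) : Set G))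
    (χ : Cfsg.IrrCharacter G) (hχ : χ ∈ Cfsg.principalBlock M G) (z : G)
    (hz : Cfsg.IsPPart p z y) : (χ : G → ℂ) z = (χ : G → ℂ) y := by
  obtain ⟨w, hw, hcw, hyo, hwo⟩ := hz
  have hnc := exists_index_pPrimeCore_centralizer_of_frob P hcomm y hy hfrob
  have hwH : w ∈ Subgroup.centralizer ({y} : Set G) := by
    rw [Subgroup.mem_centralizer_singleton_iff]
    exact hcw.eq.symm
  have hwo' : ¬ p ∣ orderOf (⟨w, hwH⟩ : ↥(Subgroup.centralizer ({y} : Set G))) := by
    rw [Subgroup.orderOf_mk]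
    exact hwo
  have h1 := mem_pPrimeCore_of_regular hnc ⟨w, hwH⟩ hwo'
  have h2 : w ∈ Cfsg.centralizerPPrimeCore p y := by
    unfold Cfsg.centralizerPPrimeCore
    rw [Subgroup.mem_map]
    exact ⟨⟨w, hwH⟩, h1, rfl⟩
  rw [← hw]
  exact Cfsg.Agent.S0942.result p M hM y hyo w h2 χ hχ

end Nilp

end Cfsg.Agent.Lib.Helper7
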