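import Mathlib
import Cfsg.Agent.S4720
import Cfsg.Agent.Lib.Helper7.BLNilp
import Cfsg.Agent.Lib.Helper7.BLMult
import Cfsg.Agent.Lib.Helper7.BLLattice
import Cfsg.Agent.Lib.Helper24.BlockOrtho

/-!
# Brauer–Leonard: the column identity for an abelian Sylow subgroup with semiregular
normalizer action (helper7 library)
-/

set_option autoImplicit false
open Cfsg

namespace Cfsg.Agent.Lib.Helper7

open scoped ComplexConjugate
open Cfsg.Agent.Lib.Helper11 Cfsg.Agent.Lib.Helper2 Cfsg.Agent.Lib.Helper24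

attribute [local instance] dualAction

section Core

variable {G : Type*} [Group G] [Fintype G] {p : ℕ} [Fact p.Prime] {M : Ideal Cfsg.AlgInt}

/-- the standing hypotheses of the Brauer–Leonard analysis -/
structure BLHyp (p : ℕ) [Fact p.Prime] (M : Ideal Cfsg.AlgInt) (P : Sylow p G) : Prop where
  hM : Cfsg.IsPModular p M
  hcomm : ∀ a ∈ (P : Subgroup G), ∀ b ∈ (P : Subgroup G), a * b = b * a
  hP1 : Nat.card (P : Subgroup G) ≠ 1
  hfrob : ∀ y : G, y ∈ (P : Subgroup G) → y ≠ 1 →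
    Subgroup.centralizer ({y} : Set G) ⊓ Subgroup.normalizer ((P : Subgroup G) : Set G)
      = Subgroup.centralizer ((P : Subgroup G) : Set G)

variable {P : Sylow p G}

theorem BLHyp.hcomm' (h : BLHyp p M P) : ∀ a b : ↥(P : Subgroup G), a * b = b * a := by
  intro a b
  apply Subtype.ext
  exact h.hcomm a a.2 b b.2

/-- the finite set of characters of the principal block -/
noncomputable def B0 (M : Ideal Cfsg.AlgInt) (G : Type*) [Group G] [Fintype G] :
    Finset (Cfsg.IrrCharacter G) :=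
  (Set.toFinite (Cfsg.principalBlock M G)).toFinset

theorem mem_B0 (χ : Cfsg.IrrCharacter G) : χ ∈ B0 M G ↔ χ ∈ Cfsg.principalBlock M G := by
  simp [B0]

/-- `ψ (y⁻¹) = conj (ψ y)` for a linear character of a finite group -/
theorem linChar_inv_eq_conj {W : Type*} [Group W] [Fintype W] (ψ : W →* ℂˣ) (y : W) :
    ((ψ y⁻¹ : ℂˣ) : ℂ) = conj ((ψ y : ℂˣ) : ℂ) := by
  rw [linChar_conj]
  simp

/-- **the column identity of Brauer–Leonard**, from `S4720` -/
theorem bl_s4720 (h : BLHyp p M P) [Fintype ↥(P : Subgroup G)]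
    [Fintype ↥(Subgroup.normalizer ((P : Subgroup G) : Set G))]
    (ψ₁ ψ₂ φ : ↥(P : Subgroup G) →* ℂˣ) :
    ∑ χ ∈ B0 M G, (dualMult (P : Subgroup G) (χ : G → ℂ) ψ₁ - dualMult (P : Subgroup G) (χ : G → ℂ) ψ₂)
        * conj (dualMult (P : Subgroup G) (χ : G → ℂ) φ)
      = ((Nat.card ↥(Subgroup.centralizer ((P : Subgroup G) : Set G)) : ℂ)⁻¹
          / (Nat.card ↥(P : Subgroup G) : ℂ))
        * ∑ y : ↥(P : Subgroup G), (((ψ₁ y : ℂˣ) : ℂ) - ((ψ₂ y : ℂˣ) : ℂ))
          * conj (∑ x : ↥(Subgroup.normalizer ((P : Subgroup G) : Set G)),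
              ((φ (x • y) : ℂˣ) : ℂ)) := by
  classical
  have hp : p.Prime := Fact.out
  have hPne : ∃ y : G, y ∈ (P : Subgroup G) ∧ y ≠ 1 := by
    by_contra hcon
    push Not at hcon
    apply h.hP1
    have : (P : Subgroup G) = ⊥ := by
      rw [Subgroup.eq_bot_iff_forall]
      exact hcon
    rw [this, Subgroup.card_bot]
  have hCpos : (Nat.card ↥(Subgroup.centralizer ((P : Subgroup G) : Set G)) : ℚ) ≠ 0 := by
    exact_mod_cast Nat.card_pos.ne'
  have hres := Cfsg.Agent.S4720.result p M h.hM (P : Subgroup G) P.isPGroup'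
    (Subgroup.normalizer ((P : Subgroup G) : Set G))
    Subgroup.le_normalizer (le_refl _) {y : G | y ∈ (P : Subgroup G) ∧ y ≠ 1}
    (by obtain ⟨y, hy⟩ := hPne; exact ⟨y, hy⟩) (fun y hy => hy.1)
    (by
      intro n hn u hu
      refine ⟨?_, ?_⟩
      · exact ((Subgroup.mem_normalizer_iff.mp hn) u).mp hu.1
      · intro hcon
        apply hu.2
        have : u = n⁻¹ * (n * u * n⁻¹) * n := by group
        rw [this, hcon]; group)
    (by
      intro u hu g hg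
      haveI : IsMulCommutative ↥(P : Subgroup G) := ⟨⟨h.hcomm'⟩⟩
      have hg' : (g⁻¹)⁻¹ * u * g⁻¹ ∈ (P : Subgroup G) := by rw [inv_inv]; exact hg
      obtain ⟨n, hn, hnu⟩ := P.conj_eq_normalizer_conj_of_mem u g⁻¹ hu.1 hg'
      refine ⟨n⁻¹, Subgroup.inv_mem _ hn, ?_⟩
      simp only [inv_inv] at hnu ⊢
      exact hnu.symm)
    ((Nat.card ↥(P : Subgroup G) : ℚ) / (Nat.card ↥(Subgroup.centralizer ((P : Subgroup G) : Set G)) : ℚ))
    (by
      intro y hy
      have hfr := h.hfrob y hy.1 hy.2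
      rw [sum_degree_sq_principal_centralizer M h.hM P h.hcomm y hy.1 hy.2 (le_of_eq hfr)]
      have : Subgroup.normalizer ((P : Subgroup G) : Set G) ⊓ Subgroup.centralizer ({y} : Set G)
          = Subgroup.centralizer ((P : Subgroup G) : Set G) := by
        rw [inf_comm]; exact hfr
      rw [this]
      field_simp)
    (fun y => ((ψ₁ y : ℂˣ) : ℂ) - ((ψ₂ y : ℂˣ) : ℂ)) (fun y => ((φ y : ℂˣ) : ℂ))
    ⟨fun y => ((ψ₁ y : ℂˣ) : ℂ), fun y => ((ψ₂ y : ℂˣ) : ℂ),
      IsIrrCharacter.isCharacter (isIrrCharacter_of_monoidHom ψ₁),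
      IsIrrCharacter.isCharacter (isIrrCharacter_of_monoidHom ψ₂), rfl⟩
    ⟨fun y => ((φ y : ℂˣ) : ℂ), 0,
      IsIrrCharacter.isCharacter (isIrrCharacter_of_monoidHom φ), isCharacter_zero, by simp⟩
    (by
      intro y hy
      have : (y : G) = 1 := by
        by_contra hne
        exact hy ⟨y.2, hne⟩
      have hy1 : y = 1 := Subtype.ext this
      rw [hy1]; simp)
  rw [finsum_mem_eq_finite_toFinset_sum _ (Set.toFinite _)] at hres
  simp only [finsum_eq_sum_of_fintype] at hres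
  have e1 : ∀ (χ : Cfsg.IrrCharacter G) (ψ : ↥(P : Subgroup G) →* ℂˣ),
      (Nat.card ↥(P : Subgroup G) : ℂ)⁻¹
        * ∑ y : ↥(P : Subgroup G), (χ : G → ℂ) (y : G) * ((ψ y⁻¹ : ℂˣ) : ℂ)
      = dualMult (P : Subgroup G) (χ : G → ℂ) ψ := by
    intro χ ψ
    unfold dualMult
    rw [Nat.card_eq_fintype_card]
    congr 1
    apply Finset.sum_congr rfl
    intro y _
    rw [linChar_inv_eq_conj]
  have e2 : ∀ χ : Cfsg.IrrCharacter G,
      (Nat.card ↥(P : Subgroup G) : ℂ)⁻¹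
        * ∑ y : ↥(P : Subgroup G), (χ : G → ℂ) (y : G)
          * (((ψ₁ y⁻¹ : ℂˣ) : ℂ) - ((ψ₂ y⁻¹ : ℂˣ) : ℂ))
      = dualMult (P : Subgroup G) (χ : G → ℂ) ψ₁ - dualMult (P : Subgroup G) (χ : G → ℂ) ψ₂ := by
    intro χ
    rw [← e1, ← e1, ← mul_sub, ← Finset.sum_sub_distrib]
    congr 1
    apply Finset.sum_congr rfl
    intro y _
    ring
  have e3 : ∀ y : ↥(P : Subgroup G),
      ∑ x : ↥(Subgroup.normalizer ((P : Subgroup G) : Set G)), Cfsg.extendByZero (P : Subgroup G) (fun y => ((φ y : ℂˣ) : ℂ))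
        ((x : G) * (y : G) * (x : G)⁻¹)
      = ∑ x : ↥(Subgroup.normalizer ((P : Subgroup G) : Set G)), ((φ (x • y) : ℂˣ) : ℂ) := by
    intro y
    apply Finset.sum_congr rfl
    intro x _
    have hmem : (x : G) * (y : G) * (x : G)⁻¹ ∈ (P : Subgroup G) := (x • y : ↥(P : Subgroup G)).2
    rw [extendByZero_of_mem _ _ hmem]
    rfl
  simp only [e1, e2, e3] at hres
  have hB0 : (Set.toFinite (Cfsg.principalBlock M G)).toFinset = B0 M G := rfl
  rw [hB0] at hres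
  rw [hres]
  congr 1
  have hPpos : (Nat.card ↥(P : Subgroup G) : ℂ) ≠ 0 := by
    exact_mod_cast Nat.card_pos.ne'
  have hCpos' : (Nat.card ↥(Subgroup.centralizer ((P : Subgroup G) : Set G)) : ℂ) ≠ 0 := by
    exact_mod_cast Nat.card_pos.ne'
  push_cast
  field_simp

open Classical in
/-- `dualCount P ψ φ` counts the `x ∈ N_G(P)` with `x⁻¹ • φ = ψ` -/
noncomputable def dualCount (P : Subgroup G) [Fintype ↥(Subgroup.normalizer (P : Set G))]
    (ψ φ : ↥P →* ℂˣ) : ℕ :=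
  (Finset.univ.filter (fun x : ↥(Subgroup.normalizer (P : Set G)) => x⁻¹ • φ = ψ)).card

theorem sum_mul_conj_sum_smul (Q : Subgroup G) [Fintype ↥Q]
    [Fintype ↥(Subgroup.normalizer (Q : Set G))] (ψ φ : ↥Q →* ℂˣ) :
    ∑ y : ↥Q, ((ψ y : ℂˣ) : ℂ) * conj (∑ x : ↥(Subgroup.normalizer (Q : Set G)),
        ((φ (x • y) : ℂˣ) : ℂ))
      = (Fintype.card ↥Q : ℂ) * (dualCount Q ψ φ : ℂ) := by
  classical
  simp_rw [map_sum, Finset.mul_sum]
  rw [Finset.sum_comm]
  have h1 : ∀ x : ↥(Subgroup.normalizer (Q : Set G)),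
      ∑ y : ↥Q, ((ψ y : ℂˣ) : ℂ) * conj ((φ (x • y) : ℂˣ) : ℂ)
      = if ψ = x⁻¹ • φ then (Fintype.card ↥Q : ℂ) else 0 := by
    intro x
    rw [← sum_linChar_mul_conj ψ (x⁻¹ • φ)]
    apply Finset.sum_congr rfl
    intro y _
    rw [dualAction_apply, inv_inv]
  simp_rw [h1]
  rw [Finset.sum_ite, Finset.sum_const_zero, add_zero, Finset.sum_const, nsmul_eq_mul]
  unfold dualCount
  rw [mul_comm]
  congr 3
  ext x
  simp only [Finset.mem_filter, Finset.mem_univ, true_and]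
  exact eq_comm

/-- **the key identity** -/
theorem bl_key (h : BLHyp p M P) [Fintype ↥(P : Subgroup G)]
    [Fintype ↥(Subgroup.normalizer ((P : Subgroup G) : Set G))]
    (ψ₁ ψ₂ φ : ↥(P : Subgroup G) →* ℂˣ) :
    ∑ χ ∈ B0 M G, (dualMult (P : Subgroup G) (χ : G → ℂ) ψ₁ - dualMult (P : Subgroup G) (χ : G → ℂ) ψ₂)
        * conj (dualMult (P : Subgroup G) (χ : G → ℂ) φ)
      = (Nat.card ↥(Subgroup.centralizer ((P : Subgroup G) : Set G)) : ℂ)⁻¹
        * ((dualCount (P : Subgroup G) ψ₁ φ : ℂ) - (dualCount (P : Subgroup G) ψ₂ φ : ℂ)) := by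
  rw [bl_s4720 h]
  simp_rw [sub_mul]
  rw [Finset.sum_sub_distrib, sum_mul_conj_sum_smul, sum_mul_conj_sum_smul]
  have hPpos : (Nat.card ↥(P : Subgroup G) : ℂ) ≠ 0 := by
    exact_mod_cast Nat.card_pos.ne'
  rw [← Nat.card_eq_fintype_card]
  field_simp

/-- the stabilizer in `N_G(P)` of a nontrivial character of `P` is `C_G(P)` -/
theorem BLHyp.mem_centralizer_of_smul_eq (h : BLHyp p M P)
    (x : ↥(Subgroup.normalizer ((P : Subgroup G) : Set G)))
    (φ : ↥(P : Subgroup G) →* ℂˣ) (hφ : φ ≠ 1) (hx : x • φ = φ) :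
    (x : G) ∈ Subgroup.centralizer ((P : Subgroup G) : Set G) := by
  by_contra hxC
  apply hφ
  apply eq_one_of_dualAction_fixed (P : Subgroup G) h.hcomm' x _ φ hx
  intro y hy
  by_contra hy1
  have hy1' : (y : G) ≠ 1 := fun hc => hy1 (Subtype.ext hc)
  have h1 := congrArg (fun z : ↥(P : Subgroup G) => (z : G)) hy
  simp only [coe_inv_smul] at h1
  have h2 : (x : G) ∈ Subgroup.centralizer ({(y : G)} : Set G) := by
    rw [Subgroup.mem_centralizer_singleton_iff]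
    calc (x : G) * (y : G) = (x : G) * ((x : G)⁻¹ * (y : G) * (x : G)) := by rw [h1]
      _ = (y : G) * (x : G) := by group
  have h3 := h.hfrob (y : G) y.2 hy1'
  have h4 : (x : G) ∈ Subgroup.centralizer ({(y : G)} : Set G)
      ⊓ Subgroup.normalizer ((P : Subgroup G) : Set G) := ⟨h2, x.2⟩
  rw [h3] at h4
  exact hxC h4

theorem smul_eq_of_mem_centralizer (Q : Subgroup G)
    (x : ↥(Subgroup.normalizer (Q : Set G)))
    (hx : (x : G) ∈ Subgroup.centralizer (Q : Set G)) (φ : ↥Q →* ℂˣ) : x • φ = φ := by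
  ext y
  rw [dualAction_apply]
  congr 2
  apply Subtype.ext
  rw [coe_inv_smul]
  have := (Subgroup.mem_centralizer_iff.mp hx) (y : G) y.2
  calc (x : G)⁻¹ * (y : G) * (x : G) = (x : G)⁻¹ * ((y : G) * (x : G)) := by group
    _ = (x : G)⁻¹ * ((x : G) * (y : G)) := by rw [this]
    _ = (y : G) := by group

theorem inv_smul_eq_iff_smul_eq (Q : Subgroup G)
    (x : ↥(Subgroup.normalizer (Q : Set G))) (φ : ↥Q →* ℂˣ) : x⁻¹ • φ = φ ↔ x • φ = φ := by
  constructor
  · intro hx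
    have := congrArg (fun ψ => x • ψ) hx
    simp only [smul_inv_smul] at this
    exact this.symm
  · intro hx
    have := congrArg (fun ψ => x⁻¹ • ψ) hx
    simp only [inv_smul_smul] at this
    exact this.symm

/-- `dualCount φ φ = |C_G(P)|` for nontrivial `φ` -/
theorem BLHyp.dualCount_self (h : BLHyp p M P)
    [Fintype ↥(Subgroup.normalizer ((P : Subgroup G) : Set G))]
    (φ : ↥(P : Subgroup G) →* ℂˣ) (hφ : φ ≠ 1) :
    dualCount (P : Subgroup G) φ φ
      = Nat.card ↥(Subgroup.centralizer ((P : Subgroup G) : Set G)) := by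
  classical
  unfold dualCount
  have hCN : Subgroup.centralizer ((P : Subgroup G) : Set G)
      ≤ Subgroup.normalizer ((P : Subgroup G) : Set G) := Subgroup.centralizer_le_normalizer _
  rw [← Nat.card_congr (Subgroup.subgroupOfEquivOfLe hCN).toEquiv]
  rw [← Fintype.card_subtype, Nat.card_eq_fintype_card]
  apply Fintype.card_congr
  apply Equiv.subtypeEquivRight
  intro x
  rw [inv_smul_eq_iff_smul_eq, Subgroup.mem_subgroupOf]
  exact ⟨h.mem_centralizer_of_smul_eq x φ hφ, fun hx => smul_eq_of_mem_centralizer _ x hx φ⟩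

theorem dualCount_one_one (Q : Subgroup G) [Fintype ↥(Subgroup.normalizer (Q : Set G))] :
    dualCount Q (1 : ↥Q →* ℂˣ) 1 = Nat.card ↥(Subgroup.normalizer (Q : Set G)) := by
  classical
  unfold dualCount
  rw [Finset.filter_true_of_mem, Finset.card_univ, Nat.card_eq_fintype_card]
  intro x _
  exact dualAction_one Q x⁻¹

theorem dualCount_eq_zero_of_forall_ne (Q : Subgroup G)
    [Fintype ↥(Subgroup.normalizer (Q : Set G))] (ψ φ : ↥Q →* ℂˣ)
    (hne : ∀ x : ↥(Subgroup.normalizer (Q : Set G)), x • φ ≠ ψ) : dualCount Q ψ φ = 0 := by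
  classical
  unfold dualCount
  rw [Finset.card_eq_zero, Finset.filter_eq_empty_iff]
  intro x _
  exact hne x⁻¹

theorem dualCount_one_left (Q : Subgroup G) [Fintype ↥(Subgroup.normalizer (Q : Set G))]
    (φ : ↥Q →* ℂˣ) (hφ : φ ≠ 1) : dualCount Q 1 φ = 0 := by
  apply dualCount_eq_zero_of_forall_ne
  intro x hx
  apply hφ
  have := congrArg (fun ψ => x⁻¹ • ψ) hx
  simp only [inv_smul_smul, dualAction_one] at this
  exact this

theorem dualCount_one_right (Q : Subgroup G) [Fintype ↥(Subgroup.normalizer (Q : Set G))]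
    (ψ : ↥Q →* ℂˣ) (hψ : ψ ≠ 1) : dualCount Q ψ 1 = 0 := by
  apply dualCount_eq_zero_of_forall_ne
  intro x hx
  apply hψ
  rw [← hx, dualAction_one]

theorem sum_dualCount (Q : Subgroup G) [Fintype ↥(Subgroup.normalizer (Q : Set G))]
    [Fintype (↥Q →* ℂˣ)] (φ : ↥Q →* ℂˣ) :
    ∑ ψ : ↥Q →* ℂˣ, dualCount Q ψ φ = Nat.card ↥(Subgroup.normalizer (Q : Set G)) := by
  classical
  unfold dualCount
  rw [Nat.card_eq_fintype_card, ← Finset.card_univ]
  exact (Finset.card_eq_sum_card_fiberwise (f := fun x : ↥(Subgroup.normalizer (Q : Set G)) =>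
    x⁻¹ • φ) (s := Finset.univ) (t := Finset.univ) (fun x _ => Finset.mem_univ _)).symm

/-- the multiplicity as a natural number -/
noncomputable def dualMultN (Q : Subgroup G) [Fintype ↥Q] (χ : Cfsg.IrrCharacter G)
    (ψ : ↥Q →* ℂˣ) : ℕ :=
  (dualMult_nat Q (IsIrrCharacter.isCharacter χ.2) ψ).choose

theorem dualMultN_spec (Q : Subgroup G) [Fintype ↥Q] (χ : Cfsg.IrrCharacter G)
    (ψ : ↥Q →* ℂˣ) : dualMult Q (χ : G → ℂ) ψ = (dualMultN Q χ ψ : ℂ) :=
  (dualMult_nat Q (IsIrrCharacter.isCharacter χ.2) ψ).choose_spec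

theorem dualMultN_smul (Q : Subgroup G) [Fintype ↥Q] (χ : Cfsg.IrrCharacter G)
    (x : ↥(Subgroup.normalizer (Q : Set G))) (ψ : ↥Q →* ℂˣ) :
    dualMultN Q χ (x • ψ) = dualMultN Q χ ψ := by
  have h := dualMult_smul Q (IsCharacter.isClassFunction (IsIrrCharacter.isCharacter χ.2)) x ψ
  rw [dualMultN_spec, dualMultN_spec] at h
  exact_mod_cast h

/-- the integer form of the key identity -/
theorem bl_key_int (h : BLHyp p M P) [Fintype ↥(P : Subgroup G)]
    [Fintype ↥(Subgroup.normalizer ((P : Subgroup G) : Set G))]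
    (ψ₁ ψ₂ φ : ↥(P : Subgroup G) →* ℂˣ) :
    (Nat.card ↥(Subgroup.centralizer ((P : Subgroup G) : Set G)) : ℤ)
      * ∑ χ ∈ B0 M G, ((dualMultN (P : Subgroup G) χ ψ₁ : ℤ) - (dualMultN (P : Subgroup G) χ ψ₂ : ℤ))
        * (dualMultN (P : Subgroup G) χ φ : ℤ)
      = (dualCount (P : Subgroup G) ψ₁ φ : ℤ) - (dualCount (P : Subgroup G) ψ₂ φ : ℤ) := by
  have hk := bl_key h ψ₁ ψ₂ φ
  simp only [dualMultN_spec, Complex.conj_natCast] at hk
  have hCpos : (Nat.card ↥(Subgroup.centralizer ((P : Subgroup G) : Set G)) : ℂ) ≠ 0 := by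
    exact_mod_cast Nat.card_pos.ne'
  have h2 : ((Nat.card ↥(Subgroup.centralizer ((P : Subgroup G) : Set G)) : ℤ) : ℂ)
      * ((∑ χ ∈ B0 M G, ((dualMultN (P : Subgroup G) χ ψ₁ : ℤ) - (dualMultN (P : Subgroup G) χ ψ₂ : ℤ))
        * (dualMultN (P : Subgroup G) χ φ : ℤ) : ℤ) : ℂ)
      = (((dualCount (P : Subgroup G) ψ₁ φ : ℤ) - (dualCount (P : Subgroup G) ψ₂ φ : ℤ) : ℤ) : ℂ) := by
    push_cast
    rw [hk]
    field_simp
  exact_mod_cast h2

theorem sum_dualCount_right (Q : Subgroup G) [Fintype ↥(Subgroup.normalizer (Q : Set G))]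
    [Fintype (↥Q →* ℂˣ)] (ψ : ↥Q →* ℂˣ) :
    ∑ φ : ↥Q →* ℂˣ, dualCount Q ψ φ = Nat.card ↥(Subgroup.normalizer (Q : Set G)) := by
  classical
  unfold dualCount
  rw [Nat.card_eq_fintype_card, ← Finset.card_univ]
  rw [Finset.card_eq_sum_card_fiberwise (f := fun x : ↥(Subgroup.normalizer (Q : Set G)) =>
    x • ψ) (s := Finset.univ) (t := Finset.univ) (fun x _ => Finset.mem_univ _)]
  apply Finset.sum_congr rfl
  intro φ _
  congr 1
  ext x
  simp only [Finset.mem_filter, Finset.mem_univ, true_and]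
  constructor
  · intro hx
    rw [← hx, smul_inv_smul]
  · intro hx
    rw [← hx, inv_smul_smul]

/-- square-norm of the difference of the multiplicity vectors of two non-conjugate nontrivial
characters of `P` -/
theorem bl_norm_diff (h : BLHyp p M P) [Fintype ↥(P : Subgroup G)]
    [Fintype ↥(Subgroup.normalizer ((P : Subgroup G) : Set G))]
    (ψ φ : ↥(P : Subgroup G) →* ℂˣ) (hψ : ψ ≠ 1) (hφ : φ ≠ 1)
    (hne : ∀ x : ↥(Subgroup.normalizer ((P : Subgroup G) : Set G)), x • φ ≠ ψ) :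
    ∑ χ ∈ B0 M G, ((dualMultN (P : Subgroup G) χ ψ : ℤ) - (dualMultN (P : Subgroup G) χ φ : ℤ)) ^ 2
      = 2 := by
  have hcpos : (0 : ℤ) < (Nat.card ↥(Subgroup.centralizer ((P : Subgroup G) : Set G)) : ℤ) := by
    exact_mod_cast Nat.card_pos
  have h1 := bl_key_int h ψ φ ψ
  have h2 := bl_key_int h ψ φ φ
  rw [h.dualCount_self ψ hψ, dualCount_eq_zero_of_forall_ne _ φ ψ (by
    intro x hx
    apply hne x⁻¹
    rw [← hx, inv_smul_smul])] at h1
  rw [h.dualCount_self φ hφ, dualCount_eq_zero_of_forall_ne _ ψ φ hne] at h2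
  have h3 : (Nat.card ↥(Subgroup.centralizer ((P : Subgroup G) : Set G)) : ℤ)
      * ∑ χ ∈ B0 M G, ((dualMultN (P : Subgroup G) χ ψ : ℤ) - (dualMultN (P : Subgroup G) χ φ : ℤ)) ^ 2
      = (Nat.card ↥(Subgroup.centralizer ((P : Subgroup G) : Set G)) : ℤ) * 2 := by
    have e : ∀ χ : Cfsg.IrrCharacter G,
        ((dualMultN (P : Subgroup G) χ ψ : ℤ) - (dualMultN (P : Subgroup G) χ φ : ℤ)) ^ 2
        = ((dualMultN (P : Subgroup G) χ ψ : ℤ) - (dualMultN (P : Subgroup G) χ φ : ℤ))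
            * (dualMultN (P : Subgroup G) χ ψ : ℤ)
          - ((dualMultN (P : Subgroup G) χ ψ : ℤ) - (dualMultN (P : Subgroup G) χ φ : ℤ))
            * (dualMultN (P : Subgroup G) χ φ : ℤ) := fun χ => by ring
    simp_rw [e]
    rw [Finset.sum_sub_distrib, mul_sub, h1, h2]
    push_cast
    ring
  exact mul_left_cancel₀ hcpos.ne' h3

/-- square-norm of `m_ψ = a_ψ - a_1` -/
theorem bl_norm_one (h : BLHyp p M P) [Fintype ↥(P : Subgroup G)]
    [Fintype ↥(Subgroup.normalizer ((P : Subgroup G) : Set G))]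
    (ψ : ↥(P : Subgroup G) →* ℂˣ) (hψ : ψ ≠ 1) :
    (Nat.card ↥(Subgroup.centralizer ((P : Subgroup G) : Set G)) : ℤ)
      * ∑ χ ∈ B0 M G, ((dualMultN (P : Subgroup G) χ ψ : ℤ) - (dualMultN (P : Subgroup G) χ 1 : ℤ)) ^ 2
      = (Nat.card ↥(Subgroup.centralizer ((P : Subgroup G) : Set G)) : ℤ)
        + (Nat.card ↥(Subgroup.normalizer ((P : Subgroup G) : Set G)) : ℤ) := by
  have h1 := bl_key_int h ψ 1 ψ
  have h2 := bl_key_int h ψ 1 1
  rw [h.dualCount_self ψ hψ, dualCount_one_left _ ψ hψ] at h1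
  rw [dualCount_one_right _ ψ hψ, dualCount_one_one] at h2
  have e : ∀ χ : Cfsg.IrrCharacter G,
      ((dualMultN (P : Subgroup G) χ ψ : ℤ) - (dualMultN (P : Subgroup G) χ 1 : ℤ)) ^ 2
      = ((dualMultN (P : Subgroup G) χ ψ : ℤ) - (dualMultN (P : Subgroup G) χ 1 : ℤ))
          * (dualMultN (P : Subgroup G) χ ψ : ℤ)
        - ((dualMultN (P : Subgroup G) χ ψ : ℤ) - (dualMultN (P : Subgroup G) χ 1 : ℤ))
          * (dualMultN (P : Subgroup G) χ 1 : ℤ) := fun χ => by ring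
  simp_rw [e]
  rw [Finset.sum_sub_distrib, mul_sub, h1, h2]
  push_cast
  ring

/-- the degree is the sum of the multiplicities -/
theorem sum_dualMultN (h : BLHyp p M P) [Fintype ↥(P : Subgroup G)]
    [Fintype (↥(P : Subgroup G) →* ℂˣ)] (χ : Cfsg.IrrCharacter G) :
    ∑ φ : ↥(P : Subgroup G) →* ℂˣ, (dualMultN (P : Subgroup G) χ φ : ℤ)
      = (Cfsg.charDegree (χ : G → ℂ) : ℤ) := by
  have h1 := dualMult_expansion (P : Subgroup G) h.hcomm' (χ : G → ℂ) 1
  simp only [map_one, Units.val_one, mul_one, OneMemClass.coe_one] at h1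
  rw [Cfsg.Agent.Lib.Helper25.char_one_eq_charDegree (IsIrrCharacter.isCharacter χ.2)] at h1
  simp_rw [dualMultN_spec] at h1
  exact_mod_cast h1

/-- degree orthogonality -/
theorem bl_deg_orth (h : BLHyp p M P) [Fintype ↥(P : Subgroup G)]
    [Fintype ↥(Subgroup.normalizer ((P : Subgroup G) : Set G))]
    [Fintype (↥(P : Subgroup G) →* ℂˣ)]
    (ψ₁ ψ₂ : ↥(P : Subgroup G) →* ℂˣ) :
    ∑ χ ∈ B0 M G, ((dualMultN (P : Subgroup G) χ ψ₁ : ℤ) - (dualMultN (P : Subgroup G) χ ψ₂ : ℤ))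
        * (Cfsg.charDegree (χ : G → ℂ) : ℤ) = 0 := by
  have hcpos : (0 : ℤ) < (Nat.card ↥(Subgroup.centralizer ((P : Subgroup G) : Set G)) : ℤ) := by
    exact_mod_cast Nat.card_pos
  apply mul_left_cancel₀ hcpos.ne'
  rw [mul_zero]
  have hstep : (Nat.card ↥(Subgroup.centralizer ((P : Subgroup G) : Set G)) : ℤ)
      * ∑ χ ∈ B0 M G, ((dualMultN (P : Subgroup G) χ ψ₁ : ℤ) - (dualMultN (P : Subgroup G) χ ψ₂ : ℤ))
        * (Cfsg.charDegree (χ : G → ℂ) : ℤ)
      = ∑ φ : ↥(P : Subgroup G) →* ℂˣ,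
        (Nat.card ↥(Subgroup.centralizer ((P : Subgroup G) : Set G)) : ℤ)
        * ∑ χ ∈ B0 M G, ((dualMultN (P : Subgroup G) χ ψ₁ : ℤ) - (dualMultN (P : Subgroup G) χ ψ₂ : ℤ))
          * (dualMultN (P : Subgroup G) χ φ : ℤ) := by
    rw [← Finset.mul_sum, Finset.sum_comm]
    congr 1
    apply Finset.sum_congr rfl
    intro χ _
    rw [← Finset.mul_sum, sum_dualMultN h]
  rw [hstep]
  simp_rw [bl_key_int h]
  rw [Finset.sum_sub_distrib]
  have e1 := sum_dualCount_right (P : Subgroup G) ψ₁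
  have e2 := sum_dualCount_right (P : Subgroup G) ψ₂
  have e1' : ∑ φ : ↥(P : Subgroup G) →* ℂˣ, (dualCount (P : Subgroup G) ψ₁ φ : ℤ)
      = (Nat.card ↥(Subgroup.normalizer ((P : Subgroup G) : Set G)) : ℤ) := by
    exact_mod_cast e1
  have e2' : ∑ φ : ↥(P : Subgroup G) →* ℂˣ, (dualCount (P : Subgroup G) ψ₂ φ : ℤ)
      = (Nat.card ↥(Subgroup.normalizer ((P : Subgroup G) : Set G)) : ℤ) := by
    exact_mod_cast e2
  rw [e1', e2', sub_self]

end Core

end Cfsg.Agent.Lib.Helper7
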