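import Mathlib
import Cfsg.Agent.Lib.Helper7.BLCore

/-!
# Brauer–Leonard with `|N : C| = 3`: the group theory of the involution argument
(helper7 library)
-/

set_option autoImplicit false
open Cfsg

namespace Cfsg.Agent.Lib.Helper7

section Abstract

variable {H : Type*} [Group H] [Finite H] {p : ℕ} [Fact p.Prime]

/-- an element of prime order `p` is conjugate into any Sylow `p`-subgroup -/
theorem exists_conj_mem_sylow_of_orderOf_eq (Q : Sylow p H) (u : H) (hu : orderOf u = p) :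
    ∃ g : H, g * u * g⁻¹ ∈ (Q : Subgroup H) := by
  have hup : IsPGroup p (Subgroup.zpowers u) := by
    apply IsPGroup.of_card (n := 1)
    rw [Nat.card_zpowers, hu, pow_one]
  obtain ⟨Q', hQ'⟩ := hup.exists_le_sylow
  obtain ⟨g, hg⟩ := MulAction.exists_smul_eq H Q' Q
  have huQ : u ∈ (Q' : Subgroup H) := hQ' (Subgroup.mem_zpowers _)
  refine ⟨g, ?_⟩
  have h3 : g * u * g⁻¹ ∈ ((g • Q' : Sylow p H) : Subgroup H) := by
    rw [Sylow.coe_subgroup_smul]
    exact ⟨u, huQ, by simp [MulAut.smul_def]⟩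
  rwa [hg] at h3

/-- with `N_H(Q) ≤ C_H(Q)` for a Sylow `2`-subgroup `Q`: if an odd power of a product of two
involutions lies in `Q`, it is a product of conjugates of the involutions lying in `Q` -/
theorem transfer_prod_involutions [Fact (Nat.Prime 2)] (Q : Sylow 2 H)
    (hNC : Subgroup.normalizer ((Q : Subgroup H) : Set H)
      ≤ Subgroup.centralizer ((Q : Subgroup H) : Set H))
    (π u v : H) (hπ : π ∈ (Q : Subgroup H)) (hu : orderOf u = 2) (hv : orderOf v = 2)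
    (k : ℕ) (hk : ¬ 2 ∣ k) (hpow : (v * u) ^ k = π) :
    ∃ g₁ g₂ : H, g₁ * u * g₁⁻¹ ∈ (Q : Subgroup H) ∧ g₂ * v * g₂⁻¹ ∈ (Q : Subgroup H) ∧
      π = (g₂ * v * g₂⁻¹) * (g₁ * u * g₁⁻¹) := by
  obtain ⟨g₁, hg₁⟩ := exists_conj_mem_sylow_of_orderOf_eq Q u hu
  obtain ⟨g₂, hg₂⟩ := exists_conj_mem_sylow_of_orderOf_eq Q v hv
  refine ⟨g₁, g₂, hg₁, hg₂, ?_⟩
  set τ₁ := g₁ * u * g₁⁻¹ with hτ₁
  set τ₂ := g₂ * v * g₂⁻¹ with hτ₂
  -- `Q` is abelian
  have hQcomm : ∀ a ∈ (Q : Subgroup H), ∀ b ∈ (Q : Subgroup H), a * b = b * a := by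
    intro a ha b hb
    have h1 : a ∈ Subgroup.centralizer ((Q : Subgroup H) : Set H) :=
      hNC (Subgroup.le_normalizer ha)
    exact (Subgroup.mem_centralizer_iff.mp h1 b hb).symm
  have hQcomm' : ∀ a b : ↥(Q : Subgroup H), a * b = b * a := by
    intro a b
    exact Subtype.ext (hQcomm a a.2 b b.2)
  set f := MonoidHom.transferSylow Q hNC with hf
  have hcompl := MonoidHom.ker_transferSylow_isComplement' Q hNC
  have hinj : ∀ a ∈ (Q : Subgroup H), ∀ b ∈ (Q : Subgroup H), f a = f b → a = b := by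
    intro a ha b hb hab
    have h1 : a * b⁻¹ ∈ f.ker := by
      rw [MonoidHom.mem_ker, map_mul, map_inv, hab, mul_inv_cancel]
    have h2 : a * b⁻¹ ∈ (Q : Subgroup H) := Subgroup.mul_mem _ ha (Subgroup.inv_mem _ hb)
    have h3 : a * b⁻¹ ∈ f.ker ⊓ (Q : Subgroup H) := ⟨h1, h2⟩
    rw [hcompl.disjoint.eq_bot, Subgroup.mem_bot] at h3
    exact mul_inv_eq_one.mp h3
  have hfconj : ∀ g w : H, f (g * w * g⁻¹) = f w := by
    intro g w
    rw [map_mul, map_mul, map_inv, hQcomm' (f g) (f w), mul_assoc, mul_inv_cancel, mul_one]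
  have hu2 : u * u = 1 := by
    have := pow_orderOf_eq_one u
    rwa [hu, pow_two] at this
  have hv2 : v * v = 1 := by
    have := pow_orderOf_eq_one v
    rwa [hv, pow_two] at this
  have hτ₁2 : τ₁ * τ₁ = 1 := by
    rw [hτ₁]
    calc g₁ * u * g₁⁻¹ * (g₁ * u * g₁⁻¹) = g₁ * (u * u) * g₁⁻¹ := by group
      _ = 1 := by rw [hu2]; group
  have hτ₂2 : τ₂ * τ₂ = 1 := by
    rw [hτ₂]
    calc g₂ * v * g₂⁻¹ * (g₂ * v * g₂⁻¹) = g₂ * (v * v) * g₂⁻¹ := by group
      _ = 1 := by rw [hv2]; group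
  have hcomm12 : τ₁ * τ₂ = τ₂ * τ₁ := hQcomm τ₁ hg₁ τ₂ hg₂
  have hsq : (τ₂ * τ₁) * (τ₂ * τ₁) = 1 := by
    calc (τ₂ * τ₁) * (τ₂ * τ₁) = τ₂ * (τ₁ * τ₂) * τ₁ := by group
      _ = τ₂ * (τ₂ * τ₁) * τ₁ := by rw [hcomm12]
      _ = (τ₂ * τ₂) * (τ₁ * τ₁) := by group
      _ = 1 := by rw [hτ₁2, hτ₂2, one_mul]
  have hodd : (τ₂ * τ₁) ^ k = τ₂ * τ₁ := by
    obtain ⟨j, hj⟩ : ∃ j, k = 2 * j + 1 := by
      have : k % 2 = 1 := by omega
      exact ⟨k / 2, by omega⟩
    rw [hj, pow_succ, pow_mul, pow_two, hsq, one_pow, one_mul]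
  have h12Q : τ₂ * τ₁ ∈ (Q : Subgroup H) := Subgroup.mul_mem _ hg₂ hg₁
  apply hinj π hπ (τ₂ * τ₁) h12Q
  rw [← hpow, map_pow, map_mul, ← hfconj g₂ v, ← hfconj g₁ u, ← hτ₁, ← hτ₂, ← map_mul, ← map_pow,
    hodd]

end Abstract

section Concrete

variable {G : Type*} [Group G] [Fintype G] {p : ℕ} [Fact p.Prime] {M : Ideal Cfsg.AlgInt}
  {P : Sylow p G}

theorem BLHyp.le_centralizer_singleton (h : BLHyp p M P) (y : G) (hy : y ∈ (P : Subgroup G)) :
    (P : Subgroup G) ≤ Subgroup.centralizer ({y} : Set G) := by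
  intro g hg
  rw [Subgroup.mem_centralizer_singleton_iff]
  exact h.hcomm g hg y hy

/-- `N_H(P) ≤ C_H(P)` inside `H = C_G(y)` -/
theorem BLHyp.subtype_normalizer_le_centralizer (h : BLHyp p M P) (y : G)
    (hy : y ∈ (P : Subgroup G)) (hy1 : y ≠ 1) :
    Subgroup.normalizer (((P.subtype (h.le_centralizer_singleton y hy) :
        Sylow p ↥(Subgroup.centralizer ({y} : Set G))) :
        Subgroup ↥(Subgroup.centralizer ({y} : Set G))) : Set ↥(Subgroup.centralizer ({y} : Set G)))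
      ≤ Subgroup.centralizer (((P.subtype (h.le_centralizer_singleton y hy) :
        Sylow p ↥(Subgroup.centralizer ({y} : Set G))) :
        Subgroup ↥(Subgroup.centralizer ({y} : Set G))) :
          Set ↥(Subgroup.centralizer ({y} : Set G))) := by
  have hPH := h.le_centralizer_singleton y hy
  intro x hh
  rw [Sylow.coe_subtype] at hh ⊢
  have hN : (x : G) ∈ Subgroup.normalizer ((P : Subgroup G) : Set G) := by
    rw [Subgroup.mem_normalizer_iff]
    intro g
    rw [Subgroup.mem_normalizer_iff] at hh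
    constructor
    · intro hg
      have := (hh ⟨g, hPH hg⟩).mp (by rw [Subgroup.mem_subgroupOf]; exact hg)
      rw [Subgroup.mem_subgroupOf] at this
      simpa using this
    · intro hg
      have hgH : g ∈ Subgroup.centralizer ({y} : Set G) := by
        have h1 : (x : G)⁻¹ * ((x : G) * g * (x : G)⁻¹) * (x : G)
            ∈ Subgroup.centralizer ({y} : Set G) :=
          Subgroup.mul_mem _ (Subgroup.mul_mem _ (Subgroup.inv_mem _ x.2) (hPH hg)) x.2
        have h2 : (x : G)⁻¹ * ((x : G) * g * (x : G)⁻¹) * (x : G) = g := by group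
        rwa [h2] at h1
      have := (hh ⟨g, hgH⟩).mpr (by rw [Subgroup.mem_subgroupOf]; simpa using hg)
      rw [Subgroup.mem_subgroupOf] at this
      exact this
  have hC : (x : G) ∈ Subgroup.centralizer ((P : Subgroup G) : Set G) := by
    rw [← h.hfrob y hy hy1]
    exact ⟨x.2, hN⟩
  rw [Subgroup.mem_centralizer_iff]
  intro q hq
  apply Subtype.ext
  have hq' : (q : G) ∈ (P : Subgroup G) := Subgroup.mem_subgroupOf.mp hq
  exact (Subgroup.mem_centralizer_iff.mp hC) (q : G) hq'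

/-- the cube of an element of `N_G(P)` lies in `C_G(P)` when the index is `3` -/
theorem pow_three_mem_centralizer (Q : Subgroup G)
    (hCN : (Subgroup.centralizer (Q : Set G)).relIndex (Subgroup.normalizer (Q : Set G)) = 3)
    (n : G) (hn : n ∈ Subgroup.normalizer (Q : Set G)) :
    n ^ 3 ∈ Subgroup.centralizer (Q : Set G) := by
  have h1 := Subgroup.pow_index_mem ((Subgroup.centralizer (Q : Set G)).subgroupOf
    (Subgroup.normalizer (Q : Set G))) (⟨n, hn⟩ : ↥(Subgroup.normalizer (Q : Set G)))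
  have h2 : ((Subgroup.centralizer (Q : Set G)).subgroupOf
    (Subgroup.normalizer (Q : Set G))).index = 3 := hCN
  rw [h2, Subgroup.mem_subgroupOf] at h1
  simpa using h1

/-- an element of `N_G(P)` whose square lies in `C_G(P)` lies in `C_G(P)` -/
theorem mem_centralizer_of_sq_mem (Q : Subgroup G)
    (hCN : (Subgroup.centralizer (Q : Set G)).relIndex (Subgroup.normalizer (Q : Set G)) = 3)
    (n : G) (hn : n ∈ Subgroup.normalizer (Q : Set G))
    (hn2 : n * n ∈ Subgroup.centralizer (Q : Set G)) :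
    n ∈ Subgroup.centralizer (Q : Set G) := by
  have h3 := pow_three_mem_centralizer Q hCN n hn
  have h4 : n = n ^ 3 * (n * n)⁻¹ := by group
  rw [h4]
  exact Subgroup.mul_mem _ h3 (Subgroup.inv_mem _ hn2)

/-- **no inversion**: an element of `P` inverted by an element of `G` is an involution or `1` -/
theorem BLHyp.sq_eq_one_of_inverted (h : BLHyp p M P)
    (hCN : (Subgroup.centralizer ((P : Subgroup G) : Set G)).relIndex
      (Subgroup.normalizer ((P : Subgroup G) : Set G)) = 3)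
    (π : G) (hπ : π ∈ (P : Subgroup G)) (hπ1 : π ≠ 1) (u : G) (hu : u * π * u⁻¹ = π⁻¹) :
    π * π = 1 := by
  have hPC : ∀ y ∈ (P : Subgroup G), y ∈ Subgroup.centralizer ((P : Subgroup G) : Set G) := by
    intro y hy
    rw [Subgroup.mem_centralizer_iff]
    intro z hz
    exact h.hcomm z hz y hy
  obtain ⟨n, hn, hconj⟩ := P.conj_eq_normalizer_conj_of_mem_centralizer π u⁻¹ (hPC π hπ) (by
    rw [inv_inv, hu]
    exact hPC _ (Subgroup.inv_mem _ hπ))
  rw [inv_inv, hu] at hconj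
  -- `n * n` centralizes `π`
  have hn2π : n * n ∈ Subgroup.centralizer ({π} : Set G) := by
    rw [Subgroup.mem_centralizer_singleton_iff]
    have h1 : n⁻¹ * π⁻¹ * n = π := by
      have : n⁻¹ * π⁻¹ * n = (n⁻¹ * π * n)⁻¹ := by group
      rw [this, ← hconj, inv_inv]
    calc n * n * π = n * n * (n⁻¹ * π⁻¹ * n) := by rw [h1]
      _ = n * π⁻¹ * n := by group
      _ = n * (n⁻¹ * π * n) * n := by rw [← hconj]
      _ = π * (n * n) := by group
  have hn2N : n * n ∈ Subgroup.normalizer ((P : Subgroup G) : Set G) := Subgroup.mul_mem _ hn hn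
  have hn2C : n * n ∈ Subgroup.centralizer ((P : Subgroup G) : Set G) := by
    rw [← h.hfrob π hπ hπ1]
    exact ⟨hn2π, hn2N⟩
  have hnC := mem_centralizer_of_sq_mem (P : Subgroup G) hCN n hn hn2C
  have hcomm : π * n = n * π := Subgroup.mem_centralizer_iff.mp hnC π hπ
  have h2 : π⁻¹ = π := by
    rw [hconj]
    calc n⁻¹ * π * n = n⁻¹ * (π * n) := by group
      _ = n⁻¹ * (n * π) := by rw [hcomm]
      _ = π := by group
  calc π * π = π⁻¹ * π := by rw [h2]
    _ = 1 := by group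

/-- for `p = 2`: if an odd power of a product of two involutions centralizing the involution
`π ∈ P` equals `π`, then `π` is a product of conjugates of the involutions lying in `P` -/
theorem BLHyp.exists_prod_of_pow_eq (h : BLHyp p M P) (hp2 : p = 2)
    (π : G) (hπ : π ∈ (P : Subgroup G)) (hπ1 : π ≠ 1)
    (u v : G) (hu : orderOf u = 2) (hv : orderOf v = 2)
    (huπ : u * π = π * u) (hvπ : v * π = π * v) (k : ℕ) (hk : ¬ 2 ∣ k)
    (hpow : (v * u) ^ k = π) :
    ∃ c₁ c₂ : G, c₁ * u * c₁⁻¹ ∈ (P : Subgroup G) ∧ c₂ * v * c₂⁻¹ ∈ (P : Subgroup G) ∧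
      π = (c₂ * v * c₂⁻¹) * (c₁ * u * c₁⁻¹) := by
  subst hp2
  have hPH := h.le_centralizer_singleton π hπ
  have hNC := h.subtype_normalizer_le_centralizer π hπ hπ1
  have huH : u ∈ Subgroup.centralizer ({π} : Set G) :=
    Subgroup.mem_centralizer_singleton_iff.mpr huπ
  have hvH : v ∈ Subgroup.centralizer ({π} : Set G) :=
    Subgroup.mem_centralizer_singleton_iff.mpr hvπ
  have hπH : π ∈ Subgroup.centralizer ({π} : Set G) :=
    Subgroup.mem_centralizer_singleton_iff.mpr rfl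
  obtain ⟨g₁, g₂, h1, h2, h3⟩ := transfer_prod_involutions (P.subtype hPH) hNC
    (⟨π, hπH⟩ : ↥(Subgroup.centralizer ({π} : Set G))) ⟨u, huH⟩ ⟨v, hvH⟩
    (by rw [Sylow.coe_subtype, Subgroup.mem_subgroupOf]; exact hπ)
    (by rw [Subgroup.orderOf_mk]; exact hu) (by rw [Subgroup.orderOf_mk]; exact hv) k hk
    (by apply Subtype.ext; simpa using hpow)
  rw [Sylow.coe_subtype, Subgroup.mem_subgroupOf] at h1 h2
  refine ⟨(g₁ : G), (g₂ : G), by simpa using h1, by simpa using h2, ?_⟩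
  have := congrArg Subtype.val h3
  simpa using this

theorem orderOf_conj_eq (c t : G) : orderOf (c * t * c⁻¹) = orderOf t :=
  (MulAut.conj c).orderOf_eq t

/-- **the block orthogonality condition** for products of two conjugates of an involution -/
theorem BLHyp.ortho_cond (h : BLHyp p M P)
    (hCN : (Subgroup.centralizer ((P : Subgroup G) : Set G)).relIndex
      (Subgroup.normalizer ((P : Subgroup G) : Set G)) = 3)
    (t : G) (ht : orderOf t = 2) (π : G) (hπ : π ∈ (P : Subgroup G)) (hπ1 : π ≠ 1)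
    (hW : p = 2 → ∀ τ₁ τ₂ : G, τ₁ ∈ (P : Subgroup G) → τ₂ ∈ (P : Subgroup G) →
      IsConj t τ₁ → IsConj t τ₂ → π ≠ τ₂ * τ₁)
    (x c : G) (k : ℕ) (hk : π ^ k * c = c * ((t * (x * t * x⁻¹))⁻¹) ^ k) : p ∣ k := by
  have hp : p.Prime := Fact.out
  by_contra hpk
  have ht2 : t * t = 1 := by
    have := pow_orderOf_eq_one t
    rwa [ht, pow_two] at this
  have htinv : t⁻¹ = t := inv_eq_of_mul_eq_one_right ht2
  obtain ⟨u, hu⟩ : ∃ u, u = c * t * c⁻¹ := ⟨_, rfl⟩
  obtain ⟨v, hv⟩ : ∃ v, v = c * (x * t * x⁻¹) * c⁻¹ := ⟨_, rfl⟩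
  have hu_ord : orderOf u = 2 := by rw [hu, orderOf_conj_eq, ht]
  have hv_ord : orderOf v = 2 := by rw [hv, orderOf_conj_eq, orderOf_conj_eq, ht]
  have hu2 : u * u = 1 := by
    have := pow_orderOf_eq_one u
    rwa [hu_ord, pow_two] at this
  have hv2 : v * v = 1 := by
    have := pow_orderOf_eq_one v
    rwa [hv_ord, pow_two] at this
  have huinv : u⁻¹ = u := inv_eq_of_mul_eq_one_right hu2
  have hvinv : v⁻¹ = v := inv_eq_of_mul_eq_one_right hv2
  -- `π ^ k = (v * u) ^ k`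
  have hvu : c * (t * (x * t * x⁻¹))⁻¹ * c⁻¹ = v * u := by
    rw [hu, hv, mul_inv_rev, htinv]
    have : (x * t * x⁻¹)⁻¹ = x * t * x⁻¹ := by
      rw [mul_inv_rev, mul_inv_rev, inv_inv, htinv, mul_assoc]
    rw [this]
    group
  have hpow : π ^ k = (v * u) ^ k := by
    rw [← hvu, conj_pow, ← hk]
    group
  -- `u` and `v` invert `(v * u) ^ k`
  have hu_inv : u * (v * u) * u⁻¹ = (v * u)⁻¹ := by
    rw [mul_inv_rev, huinv, hvinv]
    calc u * (v * u) * u = u * v * (u * u) := by group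
      _ = u * v := by rw [hu2, mul_one]
  have hv_inv : v * (v * u) * v⁻¹ = (v * u)⁻¹ := by
    rw [mul_inv_rev, huinv, hvinv]
    calc v * (v * u) * v = (v * v) * u * v := by group
      _ = u * v := by rw [hv2, one_mul]
  have hu_invk : u * π ^ k * u⁻¹ = (π ^ k)⁻¹ := by
    rw [hpow, ← conj_pow, hu_inv, inv_pow]
  have hv_invk : v * π ^ k * v⁻¹ = (π ^ k)⁻¹ := by
    rw [hpow, ← conj_pow, hv_inv, inv_pow]
  -- `π` is a power of `π ^ k`
  obtain ⟨a, ha⟩ := (IsPGroup.iff_orderOf.mp P.isPGroup') ⟨π, hπ⟩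
  have ha' : orderOf π = p ^ a := by
    rw [← ha]; exact (Subgroup.orderOf_mk π hπ).symm
  have hcop : Nat.Coprime k (orderOf π) := by
    rw [ha']
    exact (Nat.Coprime.pow_left a ((Nat.Prime.coprime_iff_not_dvd hp).mpr hpk)).symm
  obtain ⟨j, hj⟩ := exists_pow_eq_self_of_coprime hcop
  have hu_invπ : u * π * u⁻¹ = π⁻¹ := by
    rw [← hj, ← conj_pow, hu_invk, inv_pow]
  have hv_invπ : v * π * v⁻¹ = π⁻¹ := by
    rw [← hj, ← conj_pow, hv_invk, inv_pow]
  have hπ2 := h.sq_eq_one_of_inverted hCN π hπ hπ1 u hu_invπ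
  have hπinv : π⁻¹ = π := inv_eq_of_mul_eq_one_right hπ2
  have hord2 : orderOf π ∣ 2 := orderOf_dvd_of_pow_eq_one (by rw [pow_two]; exact hπ2)
  by_cases hp2 : p = 2
  · -- `p = 2`
    have hk2 : ¬ 2 ∣ k := by rw [← hp2]; exact hpk
    have hπk : π ^ k = π := by
      obtain ⟨i, hi⟩ : ∃ i, k = 2 * i + 1 := ⟨k / 2, by omega⟩
      rw [hi, pow_succ, pow_mul, pow_two, hπ2, one_pow, one_mul]
    have huπ : u * π = π * u := by
      have := hu_invπ
      rw [hπinv] at this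
      calc u * π = u * π * u⁻¹ * u := by group
        _ = π * u := by rw [this]
    have hvπ : v * π = π * v := by
      have := hv_invπ
      rw [hπinv] at this
      calc v * π = v * π * v⁻¹ * v := by group
        _ = π * v := by rw [this]
    obtain ⟨c₁, c₂, h1, h2, h3⟩ := h.exists_prod_of_pow_eq hp2 π hπ hπ1 u v hu_ord hv_ord huπ hvπ
      k hk2 (by rw [← hpow, hπk])
    refine hW hp2 (c₁ * u * c₁⁻¹) (c₂ * v * c₂⁻¹) h1 h2 ?_ ?_ h3
    · rw [isConj_iff]
      exact ⟨c₁ * c, by rw [hu]; group⟩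
    · rw [isConj_iff]
      exact ⟨c₂ * c * x, by rw [hv]; group⟩
  · -- `p` odd
    apply hπ1
    rw [ha'] at hord2
    have ha0 : a = 0 := by
      by_contra ha0
      have h1 : p ∣ 2 := (dvd_pow_self p ha0).trans hord2
      exact hp2 ((Nat.prime_dvd_prime_iff_eq hp Nat.prime_two).mp h1)
    rw [ha0, pow_zero] at ha'
    exact orderOf_eq_one_iff.mp ha'

/-- Burnside: the conjugates of `t₀ ∈ P` lying in `P` number at most `3` -/
theorem BLHyp.ncard_conj_le (h : BLHyp p M P)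
    (hCN : (Subgroup.centralizer ((P : Subgroup G) : Set G)).relIndex
      (Subgroup.normalizer ((P : Subgroup G) : Set G)) = 3)
    (t₀ : G) (ht₀ : t₀ ∈ (P : Subgroup G)) :
    Set.ncard {τ : ↥(P : Subgroup G) | IsConj t₀ (τ : G)} ≤ 3 := by
  have hPC : ∀ y ∈ (P : Subgroup G), y ∈ Subgroup.centralizer ((P : Subgroup G) : Set G) := by
    intro y hy
    rw [Subgroup.mem_centralizer_iff]
    intro z hz
    exact h.hcomm z hz y hy
  set t₀' : ↥(P : Subgroup G) := ⟨t₀, ht₀⟩ with ht₀'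
  have hsub : {τ : ↥(P : Subgroup G) | IsConj t₀ (τ : G)}
      ⊆ MulAction.orbit ↥(Subgroup.normalizer ((P : Subgroup G) : Set G)) t₀' := by
    intro τ hτ
    rw [Set.mem_setOf_eq, isConj_iff] at hτ
    obtain ⟨g, hg⟩ := hτ
    obtain ⟨n, hn, hconj⟩ := P.conj_eq_normalizer_conj_of_mem_centralizer t₀ g⁻¹ (hPC t₀ ht₀) (by
      rw [inv_inv, hg]
      exact hPC _ τ.2)
    rw [inv_inv, hg] at hconj
    refine ⟨(⟨n, hn⟩ : ↥(Subgroup.normalizer ((P : Subgroup G) : Set G)))⁻¹, ?_⟩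
    apply Subtype.ext
    rw [coe_inv_smul]
    exact hconj.symm
  have h1 := Set.ncard_le_ncard hsub (Set.toFinite _)
  have h2 := MulAction.index_stabilizer ↥(Subgroup.normalizer ((P : Subgroup G) : Set G)) t₀'
  have hle : (Subgroup.centralizer ((P : Subgroup G) : Set G)).subgroupOf
      (Subgroup.normalizer ((P : Subgroup G) : Set G))
      ≤ MulAction.stabilizer ↥(Subgroup.normalizer ((P : Subgroup G) : Set G)) t₀' := by
    intro x hx
    rw [Subgroup.mem_subgroupOf] at hx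
    rw [MulAction.mem_stabilizer_iff]
    apply Subtype.ext
    show (x : G) * t₀ * (x : G)⁻¹ = t₀
    have := Subgroup.mem_centralizer_iff.mp hx t₀ ht₀
    rw [← this]; group
  have h3 := Subgroup.index_dvd_of_le hle
  have h4 : ((Subgroup.centralizer ((P : Subgroup G) : Set G)).subgroupOf
      (Subgroup.normalizer ((P : Subgroup G) : Set G))).index = 3 := hCN
  rw [h4, h2] at h3
  exact h1.trans (Nat.le_of_dvd (by norm_num) h3)

/-- for `|P| ≥ 11` some non-identity element of `P` is not a product of two conjugates of `t₀`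
lying in `P` -/
theorem BLHyp.exists_not_prod (h : BLHyp p M P)
    (hCN : (Subgroup.centralizer ((P : Subgroup G) : Set G)).relIndex
      (Subgroup.normalizer ((P : Subgroup G) : Set G)) = 3)
    (hcard : 11 ≤ Nat.card ↥(P : Subgroup G)) (t₀ : G) (ht₀ : t₀ ∈ (P : Subgroup G)) :
    ∃ π ∈ (P : Subgroup G), π ≠ 1 ∧ ∀ τ₁ τ₂ : G, τ₁ ∈ (P : Subgroup G) → τ₂ ∈ (P : Subgroup G) →
      IsConj t₀ τ₁ → IsConj t₀ τ₂ → π ≠ τ₂ * τ₁ := by
  set T : Set ↥(P : Subgroup G) := {τ : ↥(P : Subgroup G) | IsConj t₀ (τ : G)} with hT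
  have hTcard := h.ncard_conj_le hCN t₀ ht₀
  set W : Set ↥(P : Subgroup G) :=
    (fun q : ↥(P : Subgroup G) × ↥(P : Subgroup G) => q.1 * q.2) '' (T ×ˢ T) ∪ {1} with hW
  have hWcard : W.ncard ≤ 10 := by
    rw [hW]
    have h1 : ((fun q : ↥(P : Subgroup G) × ↥(P : Subgroup G) => q.1 * q.2) '' (T ×ˢ T)).ncard
        ≤ (T ×ˢ T).ncard := Set.ncard_image_le (Set.toFinite _)
    rw [Set.ncard_prod] at h1
    have h2 : T.ncard * T.ncard ≤ 3 * 3 := Nat.mul_le_mul hTcard hTcard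
    have h3 := Set.ncard_union_le
      ((fun q : ↥(P : Subgroup G) × ↥(P : Subgroup G) => q.1 * q.2) '' (T ×ˢ T)) {1}
    rw [Set.ncard_singleton] at h3
    omega
  have hlt : W.ncard < (Set.univ : Set ↥(P : Subgroup G)).ncard := by
    rw [Set.ncard_univ]
    omega
  obtain ⟨π, _, hπW⟩ := Set.exists_mem_notMem_of_ncard_lt_ncard hlt (Set.toFinite _)
  refine ⟨(π : G), π.2, ?_, ?_⟩
  · intro hc
    apply hπW
    right
    rw [Set.mem_singleton_iff]
    exact Subtype.ext hc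
  · intro τ₁ τ₂ h1 h2 hc1 hc2 heq
    apply hπW
    left
    refine ⟨(⟨τ₂, h2⟩, ⟨τ₁, h1⟩), ⟨hc2, hc1⟩, ?_⟩
    apply Subtype.ext
    exact heq.symm

end Concrete

end Cfsg.Agent.Lib.Helper7
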