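import Mathlib
import Cfsg.Agent.Lib.Helper7.BLCore

/-!
# Brauer–Leonard: orbits on the dual group and the structure of the multiplicity vectors
(helper7 library)
-/

set_option autoImplicit false
open Cfsg

namespace Cfsg.Agent.Lib.Helper7

open scoped ComplexConjugate
open Cfsg.Agent.Lib.Helper11 Cfsg.Agent.Lib.Helper2 Cfsg.Agent.Lib.Helper24

attribute [local instance] dualAction

section Orbits

variable {G : Type*} [Group G] [Fintype G] {p : ℕ} [Fact p.Prime] {M : Ideal Cfsg.AlgInt}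
  {P : Sylow p G}

/-- the orbits of `N_G(P)` on the dual group of `P` -/
abbrev DualOrbits (P : Sylow p G) : Type _ :=
  MulAction.orbitRel.Quotient ↥(Subgroup.normalizer ((P : Subgroup G) : Set G))
    (↥(P : Subgroup G) →* ℂˣ)

/-- the orbit of a character -/
def dualOrbit (P : Sylow p G) (ψ : ↥(P : Subgroup G) →* ℂˣ) : DualOrbits P :=
  Quotient.mk'' ψ

theorem dualOrbit_eq_iff (ψ φ : ↥(P : Subgroup G) →* ℂˣ) :
    dualOrbit P ψ = dualOrbit P φ
      ↔ ∃ x : ↥(Subgroup.normalizer ((P : Subgroup G) : Set G)), x • φ = ψ := by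
  unfold dualOrbit
  rw [Quotient.eq'']
  exact Iff.rfl

theorem dualOrbit_eq_one_iff (ψ : ↥(P : Subgroup G) →* ℂˣ) :
    dualOrbit P ψ = dualOrbit P 1 ↔ ψ = 1 := by
  rw [dualOrbit_eq_iff]
  constructor
  · rintro ⟨x, hx⟩
    rw [← hx, dualAction_one]
  · rintro rfl
    exact ⟨1, one_smul _ _⟩

theorem dualOrbit_out (ω : DualOrbits P) : dualOrbit P ω.out = ω :=
  Quotient.out_eq' ω

/-- the stabilizer of a nontrivial character is `C_G(P)` -/
theorem BLHyp.stabilizer_eq (h : BLHyp p M P) (φ : ↥(P : Subgroup G) →* ℂˣ) (hφ : φ ≠ 1) :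
    MulAction.stabilizer ↥(Subgroup.normalizer ((P : Subgroup G) : Set G)) φ
      = (Subgroup.centralizer ((P : Subgroup G) : Set G)).subgroupOf
          (Subgroup.normalizer ((P : Subgroup G) : Set G)) := by
  ext x
  rw [MulAction.mem_stabilizer_iff, Subgroup.mem_subgroupOf]
  exact ⟨h.mem_centralizer_of_smul_eq x φ hφ, fun hx => smul_eq_of_mem_centralizer _ x hx φ⟩

/-- nontrivial orbits have `[N_G(P) : C_G(P)]` elements -/
theorem BLHyp.card_orbit (h : BLHyp p M P) (φ : ↥(P : Subgroup G) →* ℂˣ) (hφ : φ ≠ 1) :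
    Nat.card (MulAction.orbit ↥(Subgroup.normalizer ((P : Subgroup G) : Set G)) φ)
      = (Subgroup.centralizer ((P : Subgroup G) : Set G)).relIndex
          (Subgroup.normalizer ((P : Subgroup G) : Set G)) := by
  rw [Nat.card_coe_set_eq, ← MulAction.index_stabilizer, h.stabilizer_eq φ hφ]
  rfl

theorem card_orbit_one :
    Nat.card (MulAction.orbit ↥(Subgroup.normalizer ((P : Subgroup G) : Set G))
      (1 : ↥(P : Subgroup G) →* ℂˣ)) = 1 := by
  rw [Nat.card_eq_one_iff_unique]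
  refine ⟨⟨?_⟩, ⟨⟨1, MulAction.mem_orbit_self _⟩⟩⟩
  rintro ⟨a, x, rfl⟩ ⟨b, y, rfl⟩
  apply Subtype.ext
  show x • (1 : ↥(P : Subgroup G) →* ℂˣ) = y • 1
  rw [dualAction_one, dualAction_one]

/-- the nontrivial orbits -/
abbrev NontrivOrbits (P : Sylow p G) : Type _ := {ω : DualOrbits P // ω ≠ dualOrbit P 1}

/-- **orbit count**: `|P| = 1 + m · (number of nontrivial orbits)` -/
theorem BLHyp.card_eq (h : BLHyp p M P) :
    Nat.card ↥(P : Subgroup G)
      = 1 + Nat.card (NontrivOrbits P)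
        * (Subgroup.centralizer ((P : Subgroup G) : Set G)).relIndex
          (Subgroup.normalizer ((P : Subgroup G) : Set G)) := by
  classical
  haveI : Fintype ↥(P : Subgroup G) := Fintype.ofFinite _
  haveI : Finite (↥(P : Subgroup G) →* ℂˣ) := finite_hom_units
  haveI : Fintype (↥(P : Subgroup G) →* ℂˣ) := Fintype.ofFinite _
  haveI : Fintype (DualOrbits P) := Fintype.ofFinite _
  rw [← card_hom_units h.hcomm']
  rw [Nat.card_congr (MulAction.selfEquivSigmaOrbits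
    ↥(Subgroup.normalizer ((P : Subgroup G) : Set G)) (↥(P : Subgroup G) →* ℂˣ)), Nat.card_sigma]
  rw [← Finset.add_sum_erase Finset.univ _ (Finset.mem_univ (dualOrbit P 1))]
  congr 1
  · have h1 : (dualOrbit P (1 : ↥(P : Subgroup G) →* ℂˣ)).out = 1 := by
      rw [← dualOrbit_eq_one_iff, dualOrbit_out]
    rw [h1]
    exact card_orbit_one
  · rw [Finset.sum_congr rfl (g := fun _ => (Subgroup.centralizer ((P : Subgroup G) : Set G)).relIndex
      (Subgroup.normalizer ((P : Subgroup G) : Set G)))]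
    · rw [Finset.sum_const, smul_eq_mul]
      congr 1
      rw [Nat.card_eq_fintype_card, Fintype.card_subtype]
      congr 1
      ext ω
      simp
    · intro ω hω
      apply h.card_orbit
      intro hout
      apply (Finset.mem_erase.mp hω).1
      rw [← dualOrbit_out ω, hout]

/-- the nontrivial orbit of a nontrivial character -/
def nontrivOrbit (P : Sylow p G) (ψ : ↥(P : Subgroup G) →* ℂˣ) (hψ : ψ ≠ 1) : NontrivOrbits P :=
  ⟨dualOrbit P ψ, fun hc => hψ ((dualOrbit_eq_one_iff ψ).mp hc)⟩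

theorem nontrivOrbit_eq_iff (ψ φ : ↥(P : Subgroup G) →* ℂˣ) (hψ : ψ ≠ 1) (hφ : φ ≠ 1) :
    nontrivOrbit P ψ hψ = nontrivOrbit P φ hφ
      ↔ ∃ x : ↥(Subgroup.normalizer ((P : Subgroup G) : Set G)), x • φ = ψ := by
  unfold nontrivOrbit
  rw [Subtype.mk.injEq]
  exact dualOrbit_eq_iff ψ φ

theorem nontrivOrbit_out_ne (q : NontrivOrbits P) : q.1.out ≠ 1 := by
  intro hc
  apply q.2
  rw [← dualOrbit_out q.1, hc]

theorem nontrivOrbit_out (q : NontrivOrbits P) :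
    nontrivOrbit P q.1.out (nontrivOrbit_out_ne q) = q := by
  apply Subtype.ext
  exact dualOrbit_out q.1

/-- a sum of squares of `β + δ·[· = a]` -/
theorem sum_sq_add_ite {I : Type*} [Fintype I] [DecidableEq I] (β : I → ℤ) (δ : ℤ) (a : I) :
    ∑ χ, (β χ + if χ = a then δ else 0) ^ 2 = ∑ χ, (β χ) ^ 2 + 2 * δ * β a + δ ^ 2 := by
  have e : ∀ χ : I, (β χ + if χ = a then δ else 0) ^ 2
      = (β χ) ^ 2 + (if χ = a then 2 * δ * β χ + δ ^ 2 else 0) := by
    intro χ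
    split_ifs <;> ring
  simp_rw [e]
  rw [Finset.sum_add_distrib, Finset.sum_ite_eq' Finset.univ a]
  simp only [Finset.mem_univ, if_true]
  ring

/-- **structure of the multiplicity vectors** -/
theorem BLHyp.structure (h : BLHyp p M P) (hcard2 : 2 ≤ Nat.card (NontrivOrbits P))
    [Fintype ↥(P : Subgroup G)] :
    ∃ (δ d : ℤ) (θ : (↥(P : Subgroup G) →* ℂˣ) → Cfsg.IrrCharacter G)
      (β : Cfsg.IrrCharacter G → ℤ),
      (δ = 1 ∨ δ = -1) ∧
      (∀ ψ : ↥(P : Subgroup G) →* ℂˣ, ψ ≠ 1 → θ ψ ∈ B0 M G) ∧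
      (∀ ψ φ : ↥(P : Subgroup G) →* ℂˣ, ψ ≠ 1 → φ ≠ 1 →
        (θ ψ = θ φ ↔ ∃ x : ↥(Subgroup.normalizer ((P : Subgroup G) : Set G)), x • φ = ψ)) ∧
      (∀ ψ : ↥(P : Subgroup G) →* ℂˣ, ψ ≠ 1 → β (θ ψ) = -d) ∧
      (∀ ψ : ↥(P : Subgroup G) →* ℂˣ, ψ ≠ 1 → ∀ χ ∈ B0 M G,
        (dualMultN (P : Subgroup G) χ ψ : ℤ) - (dualMultN (P : Subgroup G) χ 1 : ℤ)
          = β χ + if χ = θ ψ then δ else 0) := by
  classical
  haveI : Fintype ↥(Subgroup.normalizer ((P : Subgroup G) : Set G)) := Fintype.ofFinite _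
  haveI : Finite (↥(P : Subgroup G) →* ℂˣ) := finite_hom_units
  haveI : Fintype (↥(P : Subgroup G) →* ℂˣ) := Fintype.ofFinite _
  haveI : Fintype (DualOrbits P) := Fintype.ofFinite _
  haveI : Fintype (NontrivOrbits P) := Fintype.ofFinite _
  -- two distinct nontrivial orbits
  obtain ⟨i₀, i₁, h01⟩ : ∃ i₀ i₁ : NontrivOrbits P, i₁ ≠ i₀ := by
    rw [Nat.card_eq_fintype_card] at hcard2
    obtain ⟨a, b, hab⟩ := Fintype.one_lt_card_iff.mp (by omega : 1 < Fintype.card (NontrivOrbits P))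
    exact ⟨a, b, hab.symm⟩
  set rep : NontrivOrbits P → (↥(P : Subgroup G) →* ℂˣ) := fun q => q.1.out with hrep
  have hrep1 : ∀ q, rep q ≠ 1 := nontrivOrbit_out_ne
  -- the vectors
  set mv : NontrivOrbits P → ↥(B0 M G) → ℤ := fun q χ =>
    (dualMultN (P : Subgroup G) χ.1 (rep q) : ℤ) - (dualMultN (P : Subgroup G) χ.1 1 : ℤ) with hmvdef
  set deg : ↥(B0 M G) → ℤ := fun χ => (Cfsg.charDegree (χ.1 : G → ℂ) : ℤ) with hdegdef
  have hdeg : ∀ χ, 0 < deg χ := by
    intro χ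
    have := Cfsg.Agent.Lib.Helper25.irr_degree_pos χ.1.2
    simp only [hdegdef]
    exact_mod_cast this
  have hne_of_ne : ∀ q q' : NontrivOrbits P, q ≠ q' →
      ∀ x : ↥(Subgroup.normalizer ((P : Subgroup G) : Set G)), x • rep q' ≠ rep q := by
    intro q q' hqq x hx
    apply hqq
    rw [← nontrivOrbit_out q, ← nontrivOrbit_out q']
    exact (nontrivOrbit_eq_iff _ _ _ _).mpr ⟨x, hx⟩
  have hnorm : ∀ q q', q ≠ q' → ∑ χ, (mv q χ - mv q' χ) ^ 2 = 2 := by
    intro q q' hqq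
    have h1 := bl_norm_diff h (rep q) (rep q') (hrep1 q) (hrep1 q') (hne_of_ne q q' hqq)
    rw [← h1, ← Finset.sum_coe_sort (B0 M G)]
    apply Finset.sum_congr rfl
    intro χ _
    simp only [hmvdef]
    ring
  have horth : ∀ q q', ∑ χ, deg χ * (mv q χ - mv q' χ) = 0 := by
    intro q q'
    have h1 := bl_deg_orth h (rep q) (rep q')
    rw [← h1, ← Finset.sum_coe_sort (B0 M G)]
    apply Finset.sum_congr rfl
    intro χ _
    simp only [hmvdef, hdegdef]
    ring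
  obtain ⟨δ, θ₀, β₀, hδ, hinj, hmv⟩ := lattice_structure i₀ i₁ h01 mv deg hdeg hnorm horth
  -- the values β₀ (θ₀ q) agree
  have hcpos : (0 : ℤ) < (Nat.card ↥(Subgroup.centralizer ((P : Subgroup G) : Set G)) : ℤ) := by
    exact_mod_cast Nat.card_pos
  have hsq : ∀ q, ∑ χ, (mv q χ) ^ 2 = ∑ χ, (β₀ χ) ^ 2 + 2 * δ * β₀ (θ₀ q) + δ ^ 2 := by
    intro q
    simp_rw [hmv q]
    exact sum_sq_add_ite β₀ δ (θ₀ q)
  have hsq' : ∀ q q', ∑ χ, (mv q χ) ^ 2 = ∑ χ, (mv q' χ) ^ 2 := by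
    intro q q'
    apply mul_left_cancel₀ hcpos.ne'
    have h1 := bl_norm_one h (rep q) (hrep1 q)
    have h2 := bl_norm_one h (rep q') (hrep1 q')
    rw [← Finset.sum_coe_sort (B0 M G)] at h1 h2
    exact h1.trans h2.symm
  have hβeq : ∀ q q', β₀ (θ₀ q) = β₀ (θ₀ q') := by
    intro q q'
    have h1 := hsq' q q'
    rw [hsq q, hsq q'] at h1
    rcases hδ with hd | hd <;> rw [hd] at h1 <;> linarith
  refine ⟨δ, -β₀ (θ₀ i₀),
    fun ψ => if hψ : ψ = 1 then (θ₀ i₀).1 else (θ₀ (nontrivOrbit P ψ hψ)).1,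
    fun χ => if hχ : χ ∈ B0 M G then β₀ ⟨χ, hχ⟩ else 0, hδ, ?_, ?_, ?_, ?_⟩
  · intro ψ hψ
    simp only [dif_neg hψ]
    exact (θ₀ (nontrivOrbit P ψ hψ)).2
  · intro ψ φ hψ hφ
    simp only [dif_neg hψ, dif_neg hφ]
    rw [← nontrivOrbit_eq_iff ψ φ hψ hφ]
    constructor
    · intro heq
      exact hinj (Subtype.ext heq)
    · intro heq
      rw [heq]
  · intro ψ hψ
    simp only [dif_neg hψ]
    rw [dif_pos (θ₀ (nontrivOrbit P ψ hψ)).2, neg_neg]
    exact hβeq _ _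
  · intro ψ hψ χ hχ
    simp only [dif_neg hψ, dif_pos hχ]
    have h1 := hmv (nontrivOrbit P ψ hψ) ⟨χ, hχ⟩
    simp only [hmvdef] at h1
    -- `rep` of the orbit of `ψ` is conjugate to `ψ`
    have h2 : ∃ x : ↥(Subgroup.normalizer ((P : Subgroup G) : Set G)),
        x • ψ = rep (nontrivOrbit P ψ hψ) := by
      rw [← nontrivOrbit_eq_iff _ _ (hrep1 _) hψ]
      exact nontrivOrbit_out _
    obtain ⟨x, hx⟩ := h2
    rw [← hx, dualMultN_smul] at h1
    rw [h1]
    congr 1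
    by_cases hc : χ = (θ₀ (nontrivOrbit P ψ hψ)).1
    · rw [if_pos hc, if_pos (Subtype.ext hc)]
    · rw [if_neg hc, if_neg (fun hc' => hc (congrArg Subtype.val hc'))]

end Orbits

end Cfsg.Agent.Lib.Helper7
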