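import Mathlib
import Cfsg.Agent.Lib.Helper7.BLStruct
import Cfsg.Agent.Lib.Helper24.Principal

/-!
# Brauer–Leonard: values, the `p`-regular relations and the norm equation (helper7 library)
-/

set_option autoImplicit false
open Cfsg

namespace Cfsg.Agent.Lib.Helper7

open scoped ComplexConjugate
open Cfsg.Agent.Lib.Helper11 Cfsg.Agent.Lib.Helper2 Cfsg.Agent.Lib.Helper24

attribute [local instance] dualAction

section Values

variable {G : Type*} [Group G] [Fintype G] {p : ℕ} [Fact p.Prime] {M : Ideal Cfsg.AlgInt}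
  {P : Sylow p G}

/-- the sum of the nontrivial characters of `P` at a non-identity element is `-1` -/
theorem sum_erase_one_apply (h : BLHyp p M P) [Fintype ↥(P : Subgroup G)]
    [Fintype (↥(P : Subgroup G) →* ℂˣ)] [DecidableEq (↥(P : Subgroup G) →* ℂˣ)]
    (y : ↥(P : Subgroup G)) (hy : y ≠ 1) :
    ∑ ψ ∈ (Finset.univ.erase (1 : ↥(P : Subgroup G) →* ℂˣ)), ((ψ y : ℂˣ) : ℂ) = -1 := by
  classical
  have h1 := dual_sum_apply h.hcomm' y
  rw [if_neg hy, ← Finset.add_sum_erase Finset.univ _ (Finset.mem_univ (1 : ↥(P : Subgroup G) →* ℂˣ))]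
    at h1
  simp only [MonoidHom.one_apply, Units.val_one] at h1
  linear_combination h1

/-- expansion of `χ(y)` through the differences `n_χ(ψ) - n_χ(1)` -/
theorem value_eq_sum_diff (h : BLHyp p M P) [Fintype ↥(P : Subgroup G)]
    [Fintype (↥(P : Subgroup G) →* ℂˣ)] [DecidableEq (↥(P : Subgroup G) →* ℂˣ)]
    (χ : Cfsg.IrrCharacter G) (y : ↥(P : Subgroup G)) (hy : y ≠ 1) :
    (χ : G → ℂ) (y : G)
      = ∑ ψ ∈ (Finset.univ.erase (1 : ↥(P : Subgroup G) →* ℂˣ)),
        (((dualMultN (P : Subgroup G) χ ψ : ℤ) - (dualMultN (P : Subgroup G) χ 1 : ℤ) : ℤ) : ℂ)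
          * ((ψ y : ℂˣ) : ℂ) := by
  classical
  have h1 := dualMult_expansion (P : Subgroup G) h.hcomm' (χ : G → ℂ) y
  have h2 := dual_sum_apply h.hcomm' y
  rw [if_neg hy] at h2
  have h3 : ∑ ψ : ↥(P : Subgroup G) →* ℂˣ,
      (((dualMultN (P : Subgroup G) χ ψ : ℤ) - (dualMultN (P : Subgroup G) χ 1 : ℤ) : ℤ) : ℂ)
          * ((ψ y : ℂˣ) : ℂ) = (χ : G → ℂ) (y : G) := by
    rw [← h1]
    simp_rw [dualMultN_spec]
    push_cast
    simp_rw [sub_mul]
    rw [Finset.sum_sub_distrib, ← Finset.mul_sum, h2, mul_zero, sub_zero]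
  rw [← h3, ← Finset.add_sum_erase Finset.univ _ (Finset.mem_univ (1 : ↥(P : Subgroup G) →* ℂˣ))]
  simp

/-- **`p`-regular relation**: for `p`-regular `g`, `Σ_χ (n_χ(ψ) - n_χ(1)) χ(g) = 0` -/
theorem regular_relation (h : BLHyp p M P) [Fintype ↥(P : Subgroup G)]
    (g : G) (hg : ¬ p ∣ orderOf g) (ψ : ↥(P : Subgroup G) →* ℂˣ) :
    ∑ χ ∈ B0 M G,
      (((dualMultN (P : Subgroup G) χ ψ : ℤ) - (dualMultN (P : Subgroup G) χ 1 : ℤ) : ℤ) : ℂ)
        * (χ : G → ℂ) g = 0 := by
  classical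
  have hp : p.Prime := Fact.out
  haveI : Finite (↥(P : Subgroup G) →* ℂˣ) := finite_hom_units
  haveI : Fintype (↥(P : Subgroup G) →* ℂˣ) := Fintype.ofFinite _
  set F : (↥(P : Subgroup G) →* ℂˣ) → ℂ := fun φ =>
    ∑ χ ∈ B0 M G, (χ : G → ℂ) g * (dualMultN (P : Subgroup G) χ φ : ℂ) with hF
  have hvan : ∀ y : ↥(P : Subgroup G), y ≠ 1 →
      ∑ φ : ↥(P : Subgroup G) →* ℂˣ, F φ * conj ((φ y : ℂˣ) : ℂ) = 0 := by
    intro y hy
    have hy' : (y : G) ≠ 1 := fun hc => hy (Subtype.ext hc)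
    have hbo := block_orthogonality h.hM (Cfsg.principalBlock M G) isPBlock_principalBlock g
      (y : G) (by
        intro g' k hk
        -- `y ^ k` is conjugate to `g ^ k`
        have h1 : (y : G) ^ k = g'⁻¹ * g ^ k * g' := by
          rw [mul_assoc, hk]; group
        have h2 : orderOf ((y : G) ^ k) = orderOf (g ^ k) := by
          rw [h1]
          simpa using (MulAut.conj g'⁻¹).orderOf_eq (g ^ k)
        obtain ⟨a, ha⟩ := (IsPGroup.iff_orderOf.mp P.isPGroup') y
        have ha' : orderOf (y : G) = p ^ a := by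
          rw [← ha]; exact (Subgroup.orderOf_coe y)
        have h3 : orderOf ((y : G) ^ k) ∣ p ^ a := ha' ▸ orderOf_pow_dvd k
        have h4 : orderOf ((y : G) ^ k) ∣ orderOf g := h2 ▸ orderOf_pow_dvd k
        have hcop : Nat.Coprime (p ^ a) (orderOf g) :=
          Nat.Coprime.pow_left a ((Nat.Prime.coprime_iff_not_dvd hp).mpr hg)
        have h5 : orderOf ((y : G) ^ k) = 1 := Nat.eq_one_of_dvd_coprimes hcop h3 h4
        have h6 : (y : G) ^ k = 1 := orderOf_eq_one_iff.mp h5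
        have h7 : orderOf (y : G) ∣ k := orderOf_dvd_of_pow_eq_one h6
        rw [ha'] at h7
        have ha0 : a ≠ 0 := by
          intro h0
          rw [h0, pow_zero, orderOf_eq_one_iff] at ha'
          exact hy' ha'
        exact (dvd_pow_self p ha0).trans h7)
    rw [finsum_mem_eq_finite_toFinset_sum _ (Set.toFinite _)] at hbo
    have hB0 : (Set.toFinite (Cfsg.principalBlock M G)).toFinset = B0 M G := rfl
    rw [hB0] at hbo
    rw [← hbo]
    simp only [hF]
    simp_rw [Finset.sum_mul]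
    rw [Finset.sum_comm]
    apply Finset.sum_congr rfl
    intro χ _
    have h1 := dualMult_expansion (P : Subgroup G) h.hcomm' (χ : G → ℂ) y
    rw [← h1, map_sum, Finset.mul_sum]
    apply Finset.sum_congr rfl
    intro φ _
    rw [dualMultN_spec, map_mul, Complex.conj_natCast]
    ring
  have hconst := dual_const_of_sum_conj_eq_zero F hvan
  have hPpos : (Fintype.card ↥(P : Subgroup G) : ℂ) ≠ 0 := by
    exact_mod_cast Fintype.card_ne_zero
  have h1 : F ψ = F 1 := by
    apply mul_left_cancel₀ hPpos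
    rw [hconst ψ, hconst 1]
  have h2 : ∑ χ ∈ B0 M G,
      (((dualMultN (P : Subgroup G) χ ψ : ℤ) - (dualMultN (P : Subgroup G) χ 1 : ℤ) : ℤ) : ℂ)
        * (χ : G → ℂ) g = F ψ - F 1 := by
    simp only [hF]
    rw [← Finset.sum_sub_distrib]
    apply Finset.sum_congr rfl
    intro χ _
    push_cast
    ring
  rw [h2, h1, sub_self]

end Values

end Cfsg.Agent.Lib.Helper7
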