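import Mathlib
import Cfsg.Agent.Lib.Helper7.BLFinal

/-!
# Brauer–Leonard: assembling the main theorem (helper7 library)
-/

set_option autoImplicit false
open Cfsg

namespace Cfsg.Agent.Lib.Helper7

open scoped ComplexConjugate
open Cfsg.Agent.Lib.Helper11 Cfsg.Agent.Lib.Helper2 Cfsg.Agent.Lib.Helper24

attribute [local instance] dualAction

section Main

variable {G : Type*} [Group G] [Fintype G] {p : ℕ} [Fact p.Prime] {M : Ideal Cfsg.AlgInt}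
  {P : Sylow p G}

/-- a solution of the lattice problem for the multiplicity vectors -/
structure BLSol (M : Ideal Cfsg.AlgInt) (P : Sylow p G) [Fintype ↥(P : Subgroup G)] (δ d : ℤ)
    (θ : (↥(P : Subgroup G) →* ℂˣ) → Cfsg.IrrCharacter G) (β : Cfsg.IrrCharacter G → ℤ) :
    Prop where
  hδ : δ = 1 ∨ δ = -1
  hθB : ∀ ψ : ↥(P : Subgroup G) →* ℂˣ, ψ ≠ 1 → θ ψ ∈ B0 M G
  hθiff : ∀ ψ φ : ↥(P : Subgroup G) →* ℂˣ, ψ ≠ 1 → φ ≠ 1 →
        (θ ψ = θ φ ↔ ∃ x : ↥(Subgroup.normalizer ((P : Subgroup G) : Set G)), x • φ = ψ)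
  hβθ : ∀ ψ : ↥(P : Subgroup G) →* ℂˣ, ψ ≠ 1 → β (θ ψ) = -d
  hn : ∀ ψ : ↥(P : Subgroup G) →* ℂˣ, ψ ≠ 1 → ∀ χ ∈ B0 M G,
        (dualMultN (P : Subgroup G) χ ψ : ℤ) - (dualMultN (P : Subgroup G) χ 1 : ℤ)
          = β χ + if χ = θ ψ then δ else 0

theorem BLHyp.exists_sol (h : BLHyp p M P) (hcard2 : 2 ≤ Nat.card (NontrivOrbits P))
    [Fintype ↥(P : Subgroup G)] :
    ∃ (δ d : ℤ) (θ : (↥(P : Subgroup G) →* ℂˣ) → Cfsg.IrrCharacter G)
      (β : Cfsg.IrrCharacter G → ℤ), BLSol M P δ d θ β := by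
  obtain ⟨δ, d, θ, β, h1, h2, h3, h4, h5⟩ := h.structure hcard2
  exact ⟨δ, d, θ, β, ⟨h1, h2, h3, h4, h5⟩⟩

variable [Fintype ↥(P : Subgroup G)] {δ d : ℤ}
  {θ : (↥(P : Subgroup G) →* ℂˣ) → Cfsg.IrrCharacter G} {β : Cfsg.IrrCharacter G → ℤ}

/-- the value of `χ ∈ B₀` at a non-identity element of `P` -/
theorem BLSol.value (s : BLSol M P δ d θ β) (h : BLHyp p M P)
    [Fintype (↥(P : Subgroup G) →* ℂˣ)] [DecidableEq (↥(P : Subgroup G) →* ℂˣ)]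
    (χ : Cfsg.IrrCharacter G) (hχ : χ ∈ B0 M G) (y : ↥(P : Subgroup G)) (hy : y ≠ 1) :
    (χ : G → ℂ) (y : G) = -(β χ : ℂ)
      + (δ : ℂ) * ∑ ψ ∈ (Finset.univ.erase (1 : ↥(P : Subgroup G) →* ℂˣ)).filter
          (fun ψ => χ = θ ψ), ((ψ y : ℂˣ) : ℂ) := by
  rw [value_eq_sum_diff h χ y hy]
  have h1 : ∀ ψ ∈ Finset.univ.erase (1 : ↥(P : Subgroup G) →* ℂˣ),
      (((dualMultN (P : Subgroup G) χ ψ : ℤ) - (dualMultN (P : Subgroup G) χ 1 : ℤ) : ℤ) : ℂ)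
          * ((ψ y : ℂˣ) : ℂ)
        = (β χ : ℂ) * ((ψ y : ℂˣ) : ℂ)
          + (if χ = θ ψ then (δ : ℂ) * ((ψ y : ℂˣ) : ℂ) else 0) := by
    intro ψ hψ
    rw [s.hn ψ (Finset.ne_of_mem_erase hψ) χ hχ]
    push_cast
    split_ifs <;> ring
  rw [Finset.sum_congr rfl h1, Finset.sum_add_distrib, ← Finset.mul_sum,
    sum_erase_one_apply h y hy, Finset.mul_sum, Finset.sum_filter]
  ring

/-- characters outside the image of `θ` are constant `-β χ` on `P ∖ 1` -/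
theorem BLSol.value_of_forall_ne (s : BLSol M P δ d θ β) (h : BLHyp p M P)
    (χ : Cfsg.IrrCharacter G) (hχ : χ ∈ B0 M G)
    (hne : ∀ ψ : ↥(P : Subgroup G) →* ℂˣ, ψ ≠ 1 → χ ≠ θ ψ)
    (y : ↥(P : Subgroup G)) (hy : y ≠ 1) :
    (χ : G → ℂ) (y : G) = -(β χ : ℂ) := by
  classical
  haveI : Finite (↥(P : Subgroup G) →* ℂˣ) := finite_hom_units
  haveI : Fintype (↥(P : Subgroup G) →* ℂˣ) := Fintype.ofFinite _
  rw [s.value h χ hχ y hy, Finset.filter_eq_empty_iff.mpr, Finset.sum_empty, mul_zero, add_zero]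
  intro ψ hψ
  exact hne ψ (Finset.ne_of_mem_erase hψ)

/-- the exceptional characters on `P ∖ 1` -/
theorem BLSol.value_theta (s : BLSol M P δ d θ β) (h : BLHyp p M P)
    [Fintype (↥(P : Subgroup G) →* ℂˣ)] [DecidableEq (↥(P : Subgroup G) →* ℂˣ)]
    (ψ₀ : ↥(P : Subgroup G) →* ℂˣ) (hψ₀ : ψ₀ ≠ 1) (y : ↥(P : Subgroup G)) (hy : y ≠ 1)
    (S : Finset (↥(P : Subgroup G) →* ℂˣ))
    (hS : ∀ ψ, ψ ∈ S ↔ ∃ x : ↥(Subgroup.normalizer ((P : Subgroup G) : Set G)), x • ψ₀ = ψ) :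
    (θ ψ₀ : G → ℂ) (y : G) = (d : ℂ) + (δ : ℂ) * ∑ ψ ∈ S, ((ψ y : ℂˣ) : ℂ) := by
  rw [s.value h (θ ψ₀) (s.hθB ψ₀ hψ₀) y hy, s.hβθ ψ₀ hψ₀]
  push_cast
  rw [neg_neg]
  congr 2
  apply Finset.sum_congr _ (fun _ _ => rfl)
  ext ψ
  rw [Finset.mem_filter, Finset.mem_erase, hS]
  constructor
  · rintro ⟨⟨hψ, _⟩, heq⟩
    have := (s.hθiff ψ₀ ψ hψ₀ hψ).mp heq
    obtain ⟨x, hx⟩ := this
    refine ⟨x⁻¹, ?_⟩
    rw [← hx, inv_smul_smul]
  · rintro ⟨x, hx⟩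
    have hψ : ψ ≠ 1 := by
      intro hc
      apply hψ₀
      rw [hc] at hx
      have := congrArg (fun φ => x⁻¹ • φ) hx
      simp only [inv_smul_smul, dualAction_one] at this
      exact this
    refine ⟨⟨hψ, Finset.mem_univ _⟩, ?_⟩
    apply (s.hθiff ψ₀ ψ hψ₀ hψ).mpr
    refine ⟨x⁻¹, ?_⟩
    rw [← hx, inv_smul_smul]

/-- multiplicities of the trivial character -/
theorem dualMultN_trivIrr (Q : Subgroup G) [Fintype ↥Q] (ψ : ↥Q →* ℂˣ) [Decidable (ψ = 1)] :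
    dualMultN Q (trivIrr G) ψ = if ψ = 1 then 1 else 0 := by
  classical
  have h1 := dualMultN_spec Q (trivIrr G) ψ
  unfold dualMult at h1
  have h2 := sum_linChar_mul_conj (1 : ↥Q →* ℂˣ) ψ
  simp only [MonoidHom.one_apply, Units.val_one, one_mul] at h2
  simp only [trivIrr_apply, one_mul] at h1
  rw [h2] at h1
  have hQ : (Fintype.card ↥Q : ℂ) ≠ 0 := by exact_mod_cast Fintype.card_ne_zero
  by_cases hψ : ψ = 1
  · rw [if_pos hψ]
    rw [if_pos hψ.symm, inv_mul_cancel₀ hQ] at h1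
    exact_mod_cast h1.symm
  · rw [if_neg hψ]
    rw [if_neg (fun hc => hψ hc.symm), mul_zero] at h1
    exact_mod_cast h1.symm

/-- the trivial character is not exceptional, and `β 1 = -1` -/
theorem BLSol.triv (s : BLSol M P δ d θ β) (h : BLHyp p M P)
    (ψ₀ ψ₁ : ↥(P : Subgroup G) →* ℂˣ) (hψ₀ : ψ₀ ≠ 1) (hψ₁ : ψ₁ ≠ 1) (h01 : θ ψ₀ ≠ θ ψ₁) :
    (∀ ψ : ↥(P : Subgroup G) →* ℂˣ, ψ ≠ 1 → trivIrr G ≠ θ ψ) ∧ β (trivIrr G) = -1 := by
  classical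
  have htB : trivIrr G ∈ B0 M G := (mem_B0 _).mpr (trivIrr_mem_principalBlock h.hM)
  have hn : ∀ ψ : ↥(P : Subgroup G) →* ℂˣ, ψ ≠ 1 →
      (-1 : ℤ) = β (trivIrr G) + if trivIrr G = θ ψ then δ else 0 := by
    intro ψ hψ
    rw [← s.hn ψ hψ (trivIrr G) htB, dualMultN_trivIrr, dualMultN_trivIrr, if_neg hψ, if_pos rfl]
    simp
  have hδ0 : δ ≠ 0 := by
    rcases s.hδ with hd | hd <;> rw [hd] <;> norm_num
  have hne : ∀ ψ : ↥(P : Subgroup G) →* ℂˣ, ψ ≠ 1 → trivIrr G ≠ θ ψ := by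
    intro ψ hψ heq
    have h1 := hn ψ hψ
    rw [if_pos heq] at h1
    obtain ⟨ψ', hψ', hne'⟩ : ∃ ψ' : ↥(P : Subgroup G) →* ℂˣ, ψ' ≠ 1 ∧ θ ψ' ≠ θ ψ := by
      by_cases hc : θ ψ₀ = θ ψ
      · exact ⟨ψ₁, hψ₁, fun hc' => h01 (hc.trans hc'.symm)⟩
      · exact ⟨ψ₀, hψ₀, hc⟩
    have h2 := hn ψ' hψ'
    rw [if_neg (fun hc => hne' (hc.symm.trans heq))] at h2
    apply hδ0
    linarith
  refine ⟨hne, ?_⟩
  have h1 := hn ψ₀ hψ₀
  rw [if_neg (hne ψ₀ hψ₀)] at h1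
  linarith

/-- the relation on `p`-regular elements -/
theorem BLSol.regular (s : BLSol M P δ d θ β) (h : BLHyp p M P)
    (g : G) (hg : ¬ p ∣ orderOf g) (ψ : ↥(P : Subgroup G) →* ℂˣ) (hψ : ψ ≠ 1) :
    ∑ χ ∈ B0 M G, (β χ : ℂ) * (χ : G → ℂ) g + (δ : ℂ) * (θ ψ : G → ℂ) g = 0 := by
  have h1 := regular_relation h g hg ψ
  have h2 : ∀ χ ∈ B0 M G,
      (((dualMultN (P : Subgroup G) χ ψ : ℤ) - (dualMultN (P : Subgroup G) χ 1 : ℤ) : ℤ) : ℂ)
        * (χ : G → ℂ) g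
      = (β χ : ℂ) * (χ : G → ℂ) g + (if χ = θ ψ then (δ : ℂ) * (χ : G → ℂ) g else 0) := by
    intro χ hχ
    rw [s.hn ψ hψ χ hχ]
    push_cast
    split_ifs <;> ring
  rw [Finset.sum_congr rfl h2, Finset.sum_add_distrib, Finset.sum_ite_eq' (B0 M G) (θ ψ),
    if_pos (s.hθB ψ hψ)] at h1
  exact h1

/-- a sum of squares of `β + δ·[· = a]` over a finset -/
theorem sum_sq_add_ite_finset {I : Type*} [DecidableEq I] (S : Finset I) (β : I → ℤ) (δ : ℤ)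
    (a : I) (ha : a ∈ S) :
    ∑ χ ∈ S, (β χ + if χ = a then δ else 0) ^ 2 = ∑ χ ∈ S, (β χ) ^ 2 + 2 * δ * β a + δ ^ 2 := by
  have e : ∀ χ : I, (β χ + if χ = a then δ else 0) ^ 2
      = (β χ) ^ 2 + (if χ = a then 2 * δ * β χ + δ ^ 2 else 0) := by
    intro χ
    split_ifs <;> ring
  simp_rw [e]
  rw [Finset.sum_add_distrib, Finset.sum_ite_eq' S a, if_pos ha]
  ring

/-- the norm equation, before splitting `B₀` -/
theorem BLSol.norm (s : BLSol M P δ d θ β) (h : BLHyp p M P)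
    (ψ : ↥(P : Subgroup G) →* ℂˣ) (hψ : ψ ≠ 1) :
    (Nat.card ↥(Subgroup.centralizer ((P : Subgroup G) : Set G)) : ℤ)
      * (∑ χ ∈ B0 M G, (β χ) ^ 2 - 2 * δ * d + 1)
      = (Nat.card ↥(Subgroup.centralizer ((P : Subgroup G) : Set G)) : ℤ)
        + (Nat.card ↥(Subgroup.normalizer ((P : Subgroup G) : Set G)) : ℤ) := by
  classical
  haveI : Fintype ↥(Subgroup.normalizer ((P : Subgroup G) : Set G)) := Fintype.ofFinite _
  rw [← bl_norm_one h ψ hψ]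
  congr 1
  have h2 : ∑ χ ∈ B0 M G,
      ((dualMultN (P : Subgroup G) χ ψ : ℤ) - (dualMultN (P : Subgroup G) χ 1 : ℤ)) ^ 2
      = ∑ χ ∈ B0 M G, (β χ + if χ = θ ψ then δ else 0) ^ 2 :=
    Finset.sum_congr rfl (fun χ hχ => by rw [s.hn ψ hψ χ hχ])
  rw [h2, sum_sq_add_ite_finset (B0 M G) β δ (θ ψ) (s.hθB ψ hψ), s.hβθ ψ hψ]
  have hδ2 : δ ^ 2 = 1 := by
    rcases s.hδ with hd | hd <;> rw [hd] <;> norm_num
  rw [hδ2]
  ring

/-- characters of the principal block do not vanish on an abelian Sylow `p`-subgroup -/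
theorem principal_apply_ne_zero_of_mem_sylow (hM : Cfsg.IsPModular p M) (P : Sylow p G)
    (hcomm : ∀ a ∈ (P : Subgroup G), ∀ b ∈ (P : Subgroup G), a * b = b * a)
    (χ : Cfsg.IrrCharacter G) (hχ : χ ∈ Cfsg.principalBlock M G) (y : G)
    (hy : y ∈ (P : Subgroup G)) : (χ : G → ℂ) y ≠ 0 := by
  intro h0
  have h1 : Cfsg.MemLocalIdeal M
      (Cfsg.centralChar (fun _ : G => (1 : ℂ)) y - Cfsg.centralChar (χ : G → ℂ) y) := hχ y
  unfold Cfsg.centralChar at h1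
  rw [h0, mul_zero, zero_div, sub_zero, mul_one, div_one] at h1
  have h2 := (memLocalIdeal_natCast_iff hM _).mp h1
  have hle : (P : Subgroup G) ≤ Subgroup.centralizer ({y} : Set G) := by
    intro a ha
    rw [Subgroup.mem_centralizer_singleton_iff]
    exact hcomm a ha y hy
  exact P.not_dvd_index (h2.trans (Subgroup.index_dvd_of_le hle))

/-- the conjugacy relation of the statement is the orbit relation of the dual action -/
theorem conj_rel_iff (Q : Subgroup G) (ψ ψ' : ↥Q →* ℂˣ) :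
    (∃ n : G, n ∈ Subgroup.normalizer (Q : Set G) ∧
        ∀ w w' : ↥Q, (w' : G) = n * w * n⁻¹ → ψ' w' = ψ w)
      ↔ ∃ x : ↥(Subgroup.normalizer (Q : Set G)), x • ψ = ψ' := by
  constructor
  · rintro ⟨n, hn, H⟩
    refine ⟨⟨n, hn⟩, ?_⟩
    ext y
    rw [dualAction_apply]
    rw [H ((⟨n, hn⟩ : ↥(Subgroup.normalizer (Q : Set G)))⁻¹ • y) y]
    rw [coe_inv_smul]
    simp only
    group
  · rintro ⟨x, rfl⟩
    refine ⟨x.1, x.2, ?_⟩
    intro w w' hw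
    rw [dualAction_apply]
    congr 1
    apply Subtype.ext
    rw [coe_inv_smul, hw]
    group

/-- `|N_G(P)| = m |C_G(P)|` -/
theorem card_normalizer_eq (Q : Subgroup G) :
    Nat.card ↥(Subgroup.normalizer (Q : Set G))
      = Nat.card ↥(Subgroup.centralizer (Q : Set G))
        * (Subgroup.centralizer (Q : Set G)).relIndex (Subgroup.normalizer (Q : Set G)) := by
  have hle : Subgroup.centralizer (Q : Set G) ≤ Subgroup.normalizer (Q : Set G) := by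
    intro x hx
    rw [Subgroup.mem_normalizer_iff]
    intro y
    have hcomm : ∀ z ∈ Q, x * z * x⁻¹ = z := by
      intro z hz
      have := hx z hz
      rw [← this]; group
    constructor
    · intro hy
      rw [hcomm y hy]; exact hy
    · intro hy
      have h1 := hcomm _ hy
      have h2 : x⁻¹ * (x * y * x⁻¹) * x = y := by group
      have h3 : x * (x * y * x⁻¹) = (x * y * x⁻¹) * x := (hx _ hy).symm
      have h4 : y = x * y * x⁻¹ := by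
        calc y = x⁻¹ * (x * y * x⁻¹) * x := h2.symm
          _ = x⁻¹ * ((x * y * x⁻¹) * x) := by group
          _ = x⁻¹ * (x * (x * y * x⁻¹)) := by rw [h3]
          _ = x * y * x⁻¹ := by group
      rw [h4]; exact hy
  have := Subgroup.relIndex_mul_relIndex (⊥ : Subgroup G) _ _ bot_le hle
  rw [Subgroup.relIndex_bot_left, Subgroup.relIndex_bot_left] at this
  exact this.symm

/-- **Brauer–Leonard**: the principal block for an abelian Sylow `p`-subgroup with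
Frobenius-like normalizer -/
theorem BLHyp.main (h : BLHyp p M P) (m : ℕ) (hm1 : 1 < m)
    (hm2 : m + 1 < Nat.card ↥(P : Subgroup G))
    (hCN : (Subgroup.centralizer ((P : Subgroup G) : Set G)).relIndex
      (Subgroup.normalizer ((P : Subgroup G) : Set G)) = m) :
    ∃ (s : ℕ) (X Y : Set (Cfsg.IrrCharacter G)), s ≤ m ∧ Cfsg.principalBlock M G = X ∪ Y ∧
      Disjoint X Y ∧ Nat.card X = s ∧ Nat.card Y = (Nat.card P - 1) / m ∧
      (∃ χ₁ ∈ X, (χ₁ : G → ℂ) = fun _ => 1) ∧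
      ∃ (a : Cfsg.IrrCharacter G → ℤ) (d δ : ℤ)
        (ζ : (↥(P : Subgroup G) →* ℂˣ) → Cfsg.IrrCharacter G), (δ = 1 ∨ δ = -1) ∧
        (∀ χ ∈ X, a χ ≠ 0 ∧ ∀ z y : G, Cfsg.IsPPart p z y → y ∈ (P : Subgroup G) → y ≠ 1 →
          (χ : G → ℂ) z = (a χ : ℂ)) ∧
        (∀ ψ : ↥(P : Subgroup G) →* ℂˣ, ψ ≠ 1 → ζ ψ ∈ Y) ∧
        (∀ η ∈ Y, ∃ ψ : ↥(P : Subgroup G) →* ℂˣ, ψ ≠ 1 ∧ ζ ψ = η) ∧
        (∀ ψ ψ' : ↥(P : Subgroup G) →* ℂˣ, ψ ≠ 1 →
          (∃ n : G, n ∈ Subgroup.normalizer ((P : Subgroup G) : Set G) ∧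
            ∀ w w' : ↥(P : Subgroup G), (w' : G) = n * w * n⁻¹ → ψ' w' = ψ w) → ζ ψ' = ζ ψ) ∧
        (∀ ψ : ↥(P : Subgroup G) →* ℂˣ, ψ ≠ 1 → ∀ (z : G) (y : ↥(P : Subgroup G)),
          Cfsg.IsPPart p z (y : G) → (y : G) ≠ 1 →
          (ζ ψ : G → ℂ) z = (d : ℂ) + (δ : ℂ) *
            ∑ᶠ ψ' ∈ {ψ' : ↥(P : Subgroup G) →* ℂˣ |
              ∃ n : G, n ∈ Subgroup.normalizer ((P : Subgroup G) : Set G) ∧
                ∀ w w' : ↥(P : Subgroup G), (w' : G) = n * w * n⁻¹ → ψ' w' = ψ w},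
              ((ψ' y : ℂˣ) : ℂ)) ∧
        ((d - δ) ^ 2 + ((Nat.card P - 1) / m - 1 : ℤ) * d ^ 2 + ∑ᶠ χ ∈ X, a χ ^ 2
          = (m : ℤ) + 1) ∧
        (∀ η ∈ Y, ∀ η' ∈ Y, ∀ g : G, ¬ p ∣ orderOf g → (η : G → ℂ) g = (η' : G → ℂ) g) ∧
        (∀ η ∈ Y, ∀ g : G, ¬ p ∣ orderOf g →
          ((((Nat.card P - 1) / m : ℕ) : ℂ) * d - δ) * (η : G → ℂ) g
            + ∑ᶠ χ ∈ X, (a χ : ℂ) * (χ : G → ℂ) g = 0) := by
  classical
  haveI : Finite (↥(P : Subgroup G) →* ℂˣ) := finite_hom_units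
  haveI : Fintype (↥(P : Subgroup G) →* ℂˣ) := Fintype.ofFinite _
  haveI : Fintype (DualOrbits P) := Fintype.ofFinite _
  haveI : Fintype (NontrivOrbits P) := Fintype.ofFinite _
  have hm0 : 0 < m := by omega
  -- the number of orbits
  have hcard := h.card_eq
  rw [hCN] at hcard
  set r : ℕ := Nat.card (NontrivOrbits P) with hr
  have hr_eq : (Nat.card ↥(P : Subgroup G) - 1) / m = r := by
    rw [hcard, Nat.add_sub_cancel_left, Nat.mul_div_cancel _ hm0]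
  have hr2 : 2 ≤ r := by
    by_contra hc
    have : r ≤ 1 := by omega
    have : r * m ≤ 1 * m := Nat.mul_le_mul_right m this
    omega
  obtain ⟨δ, d, θ, β, s⟩ := h.exists_sol hr2
  have hδ0 : δ ≠ 0 := by
    rcases s.hδ with hd | hd <;> rw [hd] <;> norm_num
  have hδ2 : δ ^ 2 = 1 := by
    rcases s.hδ with hd | hd <;> rw [hd] <;> norm_num
  -- two distinct orbits
  obtain ⟨q₀, q₁, hq01⟩ : ∃ q₀ q₁ : NontrivOrbits P, q₀ ≠ q₁ := by
    rw [hr, Nat.card_eq_fintype_card] at hr2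
    exact Fintype.one_lt_card_iff.mp (by omega)
  have hθq : ∀ q q' : NontrivOrbits P, θ q.1.out = θ q'.1.out → q = q' := by
    intro q q' heq
    obtain ⟨x, hx⟩ := (s.hθiff _ _ (nontrivOrbit_out_ne q) (nontrivOrbit_out_ne q')).mp heq
    rw [← nontrivOrbit_out q, ← nontrivOrbit_out q']
    exact (nontrivOrbit_eq_iff _ _ _ _).mpr ⟨x, hx⟩
  obtain ⟨htne, htβ⟩ := s.triv h q₀.1.out q₁.1.out (nontrivOrbit_out_ne q₀)
    (nontrivOrbit_out_ne q₁) (fun hc => hq01 (hθq _ _ hc))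
  -- the two sets
  set Yf : Finset (Cfsg.IrrCharacter G) :=
    (Finset.univ.erase (1 : ↥(P : Subgroup G) →* ℂˣ)).image θ with hYf
  set Xf : Finset (Cfsg.IrrCharacter G) := B0 M G \ Yf with hXf
  have hmemY : ∀ η, η ∈ Yf ↔ ∃ ψ : ↥(P : Subgroup G) →* ℂˣ, ψ ≠ 1 ∧ θ ψ = η := by
    intro η
    rw [hYf, Finset.mem_image]
    constructor
    · rintro ⟨ψ, hψ, rfl⟩
      exact ⟨ψ, Finset.ne_of_mem_erase hψ, rfl⟩
    · rintro ⟨ψ, hψ, rfl⟩
      exact ⟨ψ, Finset.mem_erase.mpr ⟨hψ, Finset.mem_univ _⟩, rfl⟩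
  have hYB : Yf ⊆ B0 M G := by
    intro η hη
    obtain ⟨ψ, hψ, rfl⟩ := (hmemY η).mp hη
    exact s.hθB ψ hψ
  have hmemX : ∀ χ, χ ∈ Xf ↔ χ ∈ B0 M G ∧ ∀ ψ : ↥(P : Subgroup G) →* ℂˣ, ψ ≠ 1 → χ ≠ θ ψ := by
    intro χ
    rw [hXf, Finset.mem_sdiff, hmemY]
    constructor
    · rintro ⟨h1, h2⟩
      exact ⟨h1, fun ψ hψ hc => h2 ⟨ψ, hψ, hc.symm⟩⟩
    · rintro ⟨h1, h2⟩
      exact ⟨h1, fun ⟨ψ, hψ, hc⟩ => h2 ψ hψ hc.symm⟩
  have hYcard : Yf.card = r := by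
    have h1 : Yf = Finset.univ.image (fun q : NontrivOrbits P => θ q.1.out) := by
      ext η
      rw [hmemY, Finset.mem_image]
      constructor
      · rintro ⟨ψ, hψ, rfl⟩
        refine ⟨nontrivOrbit P ψ hψ, Finset.mem_univ _, ?_⟩
        apply (s.hθiff _ _ (nontrivOrbit_out_ne _) hψ).mpr
        rw [← nontrivOrbit_eq_iff _ _ (nontrivOrbit_out_ne _) hψ]
        exact nontrivOrbit_out _
      · rintro ⟨q, _, rfl⟩
        exact ⟨q.1.out, nontrivOrbit_out_ne q, rfl⟩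
    rw [h1, Finset.card_image_of_injective _ (fun q q' hqq => hθq q q' hqq), Finset.card_univ,
      hr, Nat.card_eq_fintype_card]
  have hsplit : ∀ f : Cfsg.IrrCharacter G → ℂ,
      ∑ χ ∈ B0 M G, f χ = ∑ χ ∈ Xf, f χ + ∑ χ ∈ Yf, f χ := by
    intro f
    rw [hXf, Finset.sum_sdiff hYB]
  have hsplitZ : ∀ f : Cfsg.IrrCharacter G → ℤ,
      ∑ χ ∈ B0 M G, f χ = ∑ χ ∈ Xf, f χ + ∑ χ ∈ Yf, f χ := by
    intro f
    rw [hXf, Finset.sum_sdiff hYB]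
  have hβY : ∀ η ∈ Yf, β η = -d := by
    intro η hη
    obtain ⟨ψ, hψ, rfl⟩ := (hmemY η).mp hη
    exact s.hβθ ψ hψ
  -- a non-identity element of `P`
  obtain ⟨y₀, hy₀⟩ : ∃ y₀ : ↥(P : Subgroup G), y₀ ≠ 1 := by
    by_contra hc
    push Not at hc
    apply h.hP1
    rw [Nat.card_eq_one_iff_unique]
    exact ⟨⟨fun a b => (hc a).trans (hc b).symm⟩, ⟨1⟩⟩
  -- values of the non-exceptional characters
  have hXval : ∀ χ ∈ Xf, ∀ y : ↥(P : Subgroup G), y ≠ 1 → (χ : G → ℂ) (y : G) = ((-β χ : ℤ) : ℂ) := by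
    intro χ hχ y hy
    obtain ⟨h1, h2⟩ := (hmemX χ).mp hχ
    rw [s.value_of_forall_ne h χ h1 h2 y hy]
    push_cast
    rfl
  have hXne : ∀ χ ∈ Xf, -β χ ≠ 0 := by
    intro χ hχ h0
    have h1 := hXval χ hχ y₀ hy₀
    rw [h0] at h1
    exact principal_apply_ne_zero_of_mem_sylow h.hM P h.hcomm χ
      ((mem_B0 χ).mp ((hmemX χ).mp hχ).1) (y₀ : G) y₀.2 (by simpa using h1)
  have hppart : ∀ χ ∈ B0 M G, ∀ (z y : G), Cfsg.IsPPart p z y → y ∈ (P : Subgroup G) → y ≠ 1 →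
      (χ : G → ℂ) z = (χ : G → ℂ) y := by
    intro χ hχ z y hz hy hy1
    exact principal_apply_of_isPPart M h.hM P h.hcomm y hy (le_of_eq (h.hfrob y hy hy1)) χ
      ((mem_B0 χ).mp hχ) z hz
  -- regular values of the exceptional characters agree
  have hYreg : ∀ η ∈ Yf, ∀ η' ∈ Yf, ∀ g : G, ¬ p ∣ orderOf g →
      (η : G → ℂ) g = (η' : G → ℂ) g := by
    intro η hη η' hη' g hg
    obtain ⟨ψ, hψ, rfl⟩ := (hmemY η).mp hη
    obtain ⟨ψ', hψ', rfl⟩ := (hmemY η').mp hη'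
    have h1 := s.regular h g hg ψ hψ
    have h2 := s.regular h g hg ψ' hψ'
    have h3 : (δ : ℂ) * (θ ψ : G → ℂ) g = (δ : ℂ) * (θ ψ' : G → ℂ) g := by
      linear_combination h1 - h2
    exact mul_left_cancel₀ (by exact_mod_cast hδ0) h3
  -- sums over the sets
  have hfinX : ∀ f : Cfsg.IrrCharacter G → ℂ,
      ∑ᶠ χ ∈ ((Xf : Finset (Cfsg.IrrCharacter G)) : Set (Cfsg.IrrCharacter G)), f χ
        = ∑ χ ∈ Xf, f χ := fun f => finsum_mem_coe_finset f Xf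
  have hfinXZ : ∀ f : Cfsg.IrrCharacter G → ℤ,
      ∑ᶠ χ ∈ ((Xf : Finset (Cfsg.IrrCharacter G)) : Set (Cfsg.IrrCharacter G)), f χ
        = ∑ χ ∈ Xf, f χ := fun f => finsum_mem_coe_finset f Xf
  -- the norm equation
  have hnorm : (d - δ) ^ 2 + ((r : ℤ) - 1) * d ^ 2 + ∑ χ ∈ Xf, (-β χ) ^ 2 = (m : ℤ) + 1 := by
    have h1 := s.norm h q₀.1.out (nontrivOrbit_out_ne q₀)
    have h2 := card_normalizer_eq (P : Subgroup G)
    rw [hCN] at h2
    rw [h2] at h1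
    push_cast at h1
    have hcpos : (0 : ℤ) < (Nat.card ↥(Subgroup.centralizer ((P : Subgroup G) : Set G)) : ℤ) := by
      exact_mod_cast Nat.card_pos
    have h3 : ∑ χ ∈ B0 M G, (β χ) ^ 2 - 2 * δ * d + 1 = 1 + (m : ℤ) := by
      apply mul_left_cancel₀ hcpos.ne'
      rw [h1]; ring
    rw [hsplitZ, Finset.sum_congr rfl (fun η hη => by rw [hβY η hη] : ∀ η ∈ Yf, (β η) ^ 2 = (-d) ^ 2),
      Finset.sum_const, hYcard, nsmul_eq_mul] at h3
    have h4 : ∑ χ ∈ Xf, (-β χ) ^ 2 = ∑ χ ∈ Xf, (β χ) ^ 2 :=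
      Finset.sum_congr rfl (fun χ _ => by ring)
    rw [h4]
    linear_combination h3 + hδ2
  have hXcard : Xf.card ≤ m := by
    have h1 : (Xf.card : ℤ) ≤ ∑ χ ∈ Xf, (-β χ) ^ 2 := by
      have : ∑ χ ∈ Xf, (1 : ℤ) ≤ ∑ χ ∈ Xf, (-β χ) ^ 2 := by
        apply Finset.sum_le_sum
        intro χ hχ
        have := hXne χ hχ
        have h5 : (-β χ) ^ 2 > 0 := by positivity
        omega
      simpa using this
    have h2 : (1 : ℤ) ≤ (d - δ) ^ 2 + ((r : ℤ) - 1) * d ^ 2 := by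
      by_cases hd : d = 0
      · rw [hd]
        simp only [zero_sub, even_two, Even.neg_pow, ne_eq, OfNat.ofNat_ne_zero, not_false_eq_true,
          zero_pow, mul_zero, add_zero]
        rw [hδ2]
      · have h3 : (1 : ℤ) ≤ d ^ 2 := by
          have : d ^ 2 > 0 := by positivity
          omega
        have h4 : (1 : ℤ) ≤ (r : ℤ) - 1 := by
          have : (2 : ℤ) ≤ (r : ℤ) := by exact_mod_cast hr2
          omega
        nlinarith [sq_nonneg (d - δ)]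
    have : (Xf.card : ℤ) ≤ (m : ℤ) := by linarith
    exact_mod_cast this
  refine ⟨Xf.card, (Xf : Set (Cfsg.IrrCharacter G)), (Yf : Set (Cfsg.IrrCharacter G)), hXcard,
    ?_, ?_, ?_, ?_, ?_, fun χ => -β χ, d, δ, θ, s.hδ, ?_, ?_, ?_, ?_, ?_, ?_, ?_, ?_⟩
  · -- the block is the union
    ext χ
    rw [Set.mem_union, Finset.mem_coe, Finset.mem_coe, ← mem_B0, hXf, Finset.mem_sdiff]
    constructor
    · intro hχ
      by_cases hY : χ ∈ Yf
      · exact Or.inr hY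
      · exact Or.inl ⟨hχ, hY⟩
    · rintro (hχ | hχ)
      · exact hχ.1
      · exact hYB hχ
  · rw [Finset.disjoint_coe, hXf]
    exact Finset.sdiff_disjoint
  · rw [Nat.card_coe_set_eq, Set.ncard_coe_finset]
  · rw [Nat.card_coe_set_eq, Set.ncard_coe_finset, hYcard, hr_eq]
  · refine ⟨trivIrr G, ?_, rfl⟩
    rw [Finset.mem_coe, hmemX]
    exact ⟨(mem_B0 _).mpr (trivIrr_mem_principalBlock h.hM), htne⟩
  · intro χ hχ
    rw [Finset.mem_coe] at hχ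
    refine ⟨hXne χ hχ, ?_⟩
    intro z y hz hy hy1
    rw [hppart χ ((hmemX χ).mp hχ).1 z y hz hy hy1]
    exact hXval χ hχ ⟨y, hy⟩ (fun hc => hy1 (congrArg Subtype.val hc))
  · intro ψ hψ
    rw [Finset.mem_coe, hmemY]
    exact ⟨ψ, hψ, rfl⟩
  · intro η hη
    rw [Finset.mem_coe, hmemY] at hη
    exact hη
  · intro ψ ψ' hψ hrel
    obtain ⟨x, hx⟩ := (conj_rel_iff (P : Subgroup G) ψ ψ').mp hrel
    have hψ' : ψ' ≠ 1 := by
      intro hc
      apply hψ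
      rw [hc] at hx
      have := congrArg (fun φ => x⁻¹ • φ) hx
      simp only [inv_smul_smul, dualAction_one] at this
      exact this
    exact (s.hθiff ψ' ψ hψ' hψ).mpr ⟨x, hx⟩
  · intro ψ hψ z y hz hy1
    rw [hppart (θ ψ) (s.hθB ψ hψ) z (y : G) hz y.2 hy1]
    set S : Finset (↥(P : Subgroup G) →* ℂˣ) := Finset.univ.filter (fun ψ' =>
      ∃ x : ↥(Subgroup.normalizer ((P : Subgroup G) : Set G)), x • ψ = ψ') with hS
    have hset : {ψ' : ↥(P : Subgroup G) →* ℂˣ |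
        ∃ n : G, n ∈ Subgroup.normalizer ((P : Subgroup G) : Set G) ∧
          ∀ w w' : ↥(P : Subgroup G), (w' : G) = n * w * n⁻¹ → ψ' w' = ψ w}
        = (S : Set (↥(P : Subgroup G) →* ℂˣ)) := by
      ext ψ'
      rw [Set.mem_setOf_eq, conj_rel_iff, Finset.mem_coe, hS, Finset.mem_filter]
      simp
    rw [hset, finsum_mem_coe_finset]
    exact s.value_theta h ψ hψ y (fun hc => hy1 (by rw [hc]; rfl)) S (fun ψ' => by
      rw [hS, Finset.mem_filter]; simp)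
  · -- the norm equation
    rw [hfinXZ]
    have hdiv : ((Nat.card ↥(P : Subgroup G) : ℤ) - 1) / (m : ℤ) = (r : ℤ) := by
      rw [hcard]
      push_cast
      rw [add_sub_cancel_left, Int.mul_ediv_cancel _ (by exact_mod_cast hm0.ne')]
    rw [hdiv]
    exact hnorm
  · intro η hη η' hη' g hg
    exact hYreg η (Finset.mem_coe.mp hη) η' (Finset.mem_coe.mp hη') g hg
  · intro η hη g hg
    rw [Finset.mem_coe] at hη
    rw [hfinX, hr_eq]
    obtain ⟨ψ, hψ, hηeq⟩ := (hmemY η).mp hη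
    have h1 := s.regular h g hg ψ hψ
    rw [hηeq, hsplit] at h1
    have h2 : ∑ χ ∈ Yf, (β χ : ℂ) * (χ : G → ℂ) g = (r : ℂ) * (-(d : ℂ) * (η : G → ℂ) g) := by
      rw [Finset.sum_congr rfl (fun χ hχ => by
        rw [hβY χ hχ, hYreg χ hχ η hη g hg] :
          ∀ χ ∈ Yf, (β χ : ℂ) * (χ : G → ℂ) g = (((-d : ℤ) : ℂ)) * (η : G → ℂ) g),
        Finset.sum_const, hYcard, nsmul_eq_mul]
      push_cast
      ring
    rw [h2] at h1
    have h3 : ∑ χ ∈ Xf, (((-β χ : ℤ) : ℂ)) * (χ : G → ℂ) g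
        = - ∑ χ ∈ Xf, (β χ : ℂ) * (χ : G → ℂ) g := by
      rw [← Finset.sum_neg_distrib]
      apply Finset.sum_congr rfl
      intro χ _
      push_cast
      ring
    rw [h3]
    linear_combination -h1

end Main

end Cfsg.Agent.Lib.Helper7
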