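import Mathlib
import Cfsg.Agent.Lib.Helper7.BLMain

/-!
# Brauer–Leonard with `|N : C| = 3`: the normal form of the principal block (helper7 library)
-/

set_option autoImplicit false
open Cfsg

namespace Cfsg.Agent.Lib.Helper7

open scoped ComplexConjugate
open Cfsg.Agent.Lib.Helper11 Cfsg.Agent.Lib.Helper2 Cfsg.Agent.Lib.Helper24

attribute [local instance] dualAction

section Facts

variable {G : Type*} [Group G] [Fintype G] {p : ℕ} [Fact p.Prime] {M : Ideal Cfsg.AlgInt}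
  {P : Sylow p G} [Fintype ↥(P : Subgroup G)] {δ d : ℤ}
  {θ : (↥(P : Subgroup G) →* ℂˣ) → Cfsg.IrrCharacter G} {β : Cfsg.IrrCharacter G → ℤ}

/-- everything that follows from a solution of the lattice problem -/
theorem BLSol.facts (s : BLSol M P δ d θ β) (h : BLHyp p M P) (m : ℕ) (hm0 : 0 < m)
    (hCN : (Subgroup.centralizer ((P : Subgroup G) : Set G)).relIndex
      (Subgroup.normalizer ((P : Subgroup G) : Set G)) = m)
    (hr2 : 2 ≤ Nat.card (NontrivOrbits P)) :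
    ∃ Xf Yf : Finset (Cfsg.IrrCharacter G),
      (∀ η, η ∈ Yf ↔ ∃ ψ : ↥(P : Subgroup G) →* ℂˣ, ψ ≠ 1 ∧ θ ψ = η) ∧
      (∀ χ, χ ∈ Xf ↔ χ ∈ B0 M G ∧ ∀ ψ : ↥(P : Subgroup G) →* ℂˣ, ψ ≠ 1 → χ ≠ θ ψ) ∧
      Yf.card = Nat.card (NontrivOrbits P) ∧
      Yf ⊆ B0 M G ∧ Xf = B0 M G \ Yf ∧
      trivIrr G ∈ Xf ∧ β (trivIrr G) = -1 ∧
      (∀ χ ∈ Xf, β χ ≠ 0) ∧
      (∀ χ ∈ Xf, ∀ y : ↥(P : Subgroup G), y ≠ 1 → (χ : G → ℂ) (y : G) = ((-β χ : ℤ) : ℂ)) ∧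
      ((d - δ) ^ 2 + ((Nat.card (NontrivOrbits P) : ℤ) - 1) * d ^ 2 + ∑ χ ∈ Xf, (β χ) ^ 2
        = (m : ℤ) + 1) ∧
      (∀ η ∈ Yf, ∀ η' ∈ Yf, ∀ g : G, ¬ p ∣ orderOf g → (η : G → ℂ) g = (η' : G → ℂ) g) ∧
      (∀ η ∈ Yf, ∀ g : G, ¬ p ∣ orderOf g →
        ((Nat.card (NontrivOrbits P) : ℂ) * d - δ) * (η : G → ℂ) g
          = ∑ χ ∈ Xf, (β χ : ℂ) * (χ : G → ℂ) g) := by
  classical
  haveI : Finite (↥(P : Subgroup G) →* ℂˣ) := finite_hom_units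
  haveI : Fintype (↥(P : Subgroup G) →* ℂˣ) := Fintype.ofFinite _
  haveI : Fintype (DualOrbits P) := Fintype.ofFinite _
  haveI : Fintype (NontrivOrbits P) := Fintype.ofFinite _
  set r : ℕ := Nat.card (NontrivOrbits P) with hr
  have hδ0 : δ ≠ 0 := by
    rcases s.hδ with hd | hd <;> rw [hd] <;> norm_num
  have hδ2 : δ ^ 2 = 1 := by
    rcases s.hδ with hd | hd <;> rw [hd] <;> norm_num
  -- two distinct orbits
  obtain ⟨q₀, q₁, hq01⟩ : ∃ q₀ q₁ : NontrivOrbits P, q₀ ≠ q₁ := by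
    rw [hr, Nat.card_eq_fintype_card] at hr2
    exact Fintype.one_lt_card_iff.mp (by omega)
  have hθq : ∀ q q' : NontrivOrbits P, θ q.1.out = θ q'.1.out → q = q' := by
    intro q q' heq
    obtain ⟨x, hx⟩ := (s.hθiff _ _ (nontrivOrbit_out_ne q) (nontrivOrbit_out_ne q')).mp heq
    rw [← nontrivOrbit_out q, ← nontrivOrbit_out q']
    exact (nontrivOrbit_eq_iff _ _ _ _).mpr ⟨x, hx⟩
  obtain ⟨htne, htβ⟩ := s.triv h q₀.1.out q₁.1.out (nontrivOrbit_out_ne q₀)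
    (nontrivOrbit_out_ne q₁) (fun hc => hq01 (hθq _ _ hc))
  -- the two sets
  set Yf : Finset (Cfsg.IrrCharacter G) :=
    (Finset.univ.erase (1 : ↥(P : Subgroup G) →* ℂˣ)).image θ with hYf
  set Xf : Finset (Cfsg.IrrCharacter G) := B0 M G \ Yf with hXf
  have hmemY : ∀ η, η ∈ Yf ↔ ∃ ψ : ↥(P : Subgroup G) →* ℂˣ, ψ ≠ 1 ∧ θ ψ = η := by
    intro η
    rw [hYf, Finset.mem_image]
    constructor
    · rintro ⟨ψ, hψ, rfl⟩
      exact ⟨ψ, Finset.ne_of_mem_erase hψ, rfl⟩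
    · rintro ⟨ψ, hψ, rfl⟩
      exact ⟨ψ, Finset.mem_erase.mpr ⟨hψ, Finset.mem_univ _⟩, rfl⟩
  have hYB : Yf ⊆ B0 M G := by
    intro η hη
    obtain ⟨ψ, hψ, rfl⟩ := (hmemY η).mp hη
    exact s.hθB ψ hψ
  have hmemX : ∀ χ, χ ∈ Xf ↔ χ ∈ B0 M G ∧ ∀ ψ : ↥(P : Subgroup G) →* ℂˣ, ψ ≠ 1 → χ ≠ θ ψ := by
    intro χ
    rw [hXf, Finset.mem_sdiff, hmemY]
    constructor
    · rintro ⟨h1, h2⟩
      exact ⟨h1, fun ψ hψ hc => h2 ⟨ψ, hψ, hc.symm⟩⟩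
    · rintro ⟨h1, h2⟩
      exact ⟨h1, fun ⟨ψ, hψ, hc⟩ => h2 ψ hψ hc.symm⟩
  have hYcard : Yf.card = r := by
    have h1 : Yf = Finset.univ.image (fun q : NontrivOrbits P => θ q.1.out) := by
      ext η
      rw [hmemY, Finset.mem_image]
      constructor
      · rintro ⟨ψ, hψ, rfl⟩
        refine ⟨nontrivOrbit P ψ hψ, Finset.mem_univ _, ?_⟩
        apply (s.hθiff _ _ (nontrivOrbit_out_ne _) hψ).mpr
        rw [← nontrivOrbit_eq_iff _ _ (nontrivOrbit_out_ne _) hψ]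
        exact nontrivOrbit_out _
      · rintro ⟨q, _, rfl⟩
        exact ⟨q.1.out, nontrivOrbit_out_ne q, rfl⟩
    rw [h1, Finset.card_image_of_injective _ (fun q q' hqq => hθq q q' hqq), Finset.card_univ,
      hr, Nat.card_eq_fintype_card]
  have hsplit : ∀ f : Cfsg.IrrCharacter G → ℂ,
      ∑ χ ∈ B0 M G, f χ = ∑ χ ∈ Xf, f χ + ∑ χ ∈ Yf, f χ := by
    intro f
    rw [hXf, Finset.sum_sdiff hYB]
  have hsplitZ : ∀ f : Cfsg.IrrCharacter G → ℤ,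
      ∑ χ ∈ B0 M G, f χ = ∑ χ ∈ Xf, f χ + ∑ χ ∈ Yf, f χ := by
    intro f
    rw [hXf, Finset.sum_sdiff hYB]
  have hβY : ∀ η ∈ Yf, β η = -d := by
    intro η hη
    obtain ⟨ψ, hψ, rfl⟩ := (hmemY η).mp hη
    exact s.hβθ ψ hψ
  -- a non-identity element of `P`
  obtain ⟨y₀, hy₀⟩ : ∃ y₀ : ↥(P : Subgroup G), y₀ ≠ 1 := by
    by_contra hc
    push Not at hc
    apply h.hP1
    rw [Nat.card_eq_one_iff_unique]
    exact ⟨⟨fun a b => (hc a).trans (hc b).symm⟩, ⟨1⟩⟩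
  have hXval : ∀ χ ∈ Xf, ∀ y : ↥(P : Subgroup G), y ≠ 1 →
      (χ : G → ℂ) (y : G) = ((-β χ : ℤ) : ℂ) := by
    intro χ hχ y hy
    obtain ⟨h1, h2⟩ := (hmemX χ).mp hχ
    rw [s.value_of_forall_ne h χ h1 h2 y hy]
    push_cast
    rfl
  have hXne : ∀ χ ∈ Xf, β χ ≠ 0 := by
    intro χ hχ h0
    have h1 := hXval χ hχ y₀ hy₀
    rw [h0] at h1
    exact principal_apply_ne_zero_of_mem_sylow h.hM P h.hcomm χ
      ((mem_B0 χ).mp ((hmemX χ).mp hχ).1) (y₀ : G) y₀.2 (by simpa using h1)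
  have hYreg : ∀ η ∈ Yf, ∀ η' ∈ Yf, ∀ g : G, ¬ p ∣ orderOf g →
      (η : G → ℂ) g = (η' : G → ℂ) g := by
    intro η hη η' hη' g hg
    obtain ⟨ψ, hψ, rfl⟩ := (hmemY η).mp hη
    obtain ⟨ψ', hψ', rfl⟩ := (hmemY η').mp hη'
    have h1 := s.regular h g hg ψ hψ
    have h2 := s.regular h g hg ψ' hψ'
    have h3 : (δ : ℂ) * (θ ψ : G → ℂ) g = (δ : ℂ) * (θ ψ' : G → ℂ) g := by
      linear_combination h1 - h2
    exact mul_left_cancel₀ (by exact_mod_cast hδ0) h3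
  have hnorm : (d - δ) ^ 2 + ((r : ℤ) - 1) * d ^ 2 + ∑ χ ∈ Xf, (β χ) ^ 2 = (m : ℤ) + 1 := by
    have h1 := s.norm h q₀.1.out (nontrivOrbit_out_ne q₀)
    have h2 := card_normalizer_eq (P : Subgroup G)
    rw [hCN] at h2
    rw [h2] at h1
    push_cast at h1
    have hcpos : (0 : ℤ) < (Nat.card ↥(Subgroup.centralizer ((P : Subgroup G) : Set G)) : ℤ) := by
      exact_mod_cast Nat.card_pos
    have h3 : ∑ χ ∈ B0 M G, (β χ) ^ 2 - 2 * δ * d + 1 = 1 + (m : ℤ) := by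
      apply mul_left_cancel₀ hcpos.ne'
      rw [h1]; ring
    rw [hsplitZ, Finset.sum_congr rfl (fun η hη => by rw [hβY η hη] : ∀ η ∈ Yf, (β η) ^ 2 = (-d) ^ 2),
      Finset.sum_const, hYcard, nsmul_eq_mul] at h3
    linear_combination h3 + hδ2
  refine ⟨Xf, Yf, hmemY, hmemX, hYcard, hYB, rfl, ?_, htβ, hXne, hXval, hnorm, hYreg, ?_⟩
  · rw [hmemX]
    exact ⟨(mem_B0 _).mpr (trivIrr_mem_principalBlock h.hM), htne⟩
  · intro η hη g hg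
    obtain ⟨ψ, hψ, hηeq⟩ := (hmemY η).mp hη
    have h1 := s.regular h g hg ψ hψ
    rw [hηeq, hsplit] at h1
    have h2 : ∑ χ ∈ Yf, (β χ : ℂ) * (χ : G → ℂ) g = (r : ℂ) * (-(d : ℂ) * (η : G → ℂ) g) := by
      rw [Finset.sum_congr rfl (fun χ hχ => by
        rw [hβY χ hχ, hYreg χ hχ η hη g hg] :
          ∀ χ ∈ Yf, (β χ : ℂ) * (χ : G → ℂ) g = (((-d : ℤ) : ℂ)) * (η : G → ℂ) g),
        Finset.sum_const, hYcard, nsmul_eq_mul]
      push_cast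
      ring
    rw [h2] at h1
    linear_combination -h1

/-- the arithmetic of the norm equation for `m = 3` -/
theorem bl3_arith {ι : Type*} (Xf : Finset ι) (β : ι → ℤ) (triv : ι) (htriv : triv ∈ Xf)
    (hne : ∀ χ ∈ Xf, β χ ≠ 0) (d δ r : ℤ) (hδ : δ = 1 ∨ δ = -1) (hr : 2 ≤ r)
    (hnorm : (d - δ) ^ 2 + (r - 1) * d ^ 2 + ∑ χ ∈ Xf, (β χ) ^ 2 = 4) :
    (∀ χ ∈ Xf, β χ = 1 ∨ β χ = -1) ∧
      ((d = 0 ∧ Xf.card = 3) ∨ (d = δ ∧ r ≤ 4 ∧ (Xf.card : ℤ) = 5 - r)) := by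
  have hδ2 : δ ^ 2 = 1 := by
    rcases hδ with hd | hd <;> rw [hd] <;> norm_num
  have hT : (1 : ℤ) ≤ (d - δ) ^ 2 + (r - 1) * d ^ 2 := by
    by_cases hd : d = 0
    · rw [hd]
      have : (0 - δ) ^ 2 = δ ^ 2 := by ring
      rw [this, hδ2]; simp
    · have h3 : (1 : ℤ) ≤ d ^ 2 := by
        have : d ^ 2 > 0 := by positivity
        omega
      nlinarith [sq_nonneg (d - δ)]
  have hsum3 : ∑ χ ∈ Xf, (β χ) ^ 2 ≤ 3 := by linarith
  have hβ : ∀ χ ∈ Xf, β χ = 1 ∨ β χ = -1 := by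
    intro χ hχ
    have h1 : (β χ) ^ 2 ≤ ∑ χ ∈ Xf, (β χ) ^ 2 :=
      Finset.single_le_sum (f := fun χ => (β χ) ^ 2) (fun i _ => sq_nonneg _) hχ
    have h2 : (β χ) ^ 2 ≤ 3 := le_trans h1 hsum3
    have h3 := hne χ hχ
    have h4 : β χ ≤ 1 := by nlinarith
    have h5 : -1 ≤ β χ := by nlinarith
    omega
  have hcard : ∑ χ ∈ Xf, (β χ) ^ 2 = (Xf.card : ℤ) := by
    rw [Finset.sum_congr rfl (fun χ hχ => by
      rcases hβ χ hχ with h1 | h1 <;> rw [h1] <;> norm_num : ∀ χ ∈ Xf, (β χ) ^ 2 = 1)]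
    simp
  rw [hcard] at hnorm
  have hcpos : (1 : ℤ) ≤ (Xf.card : ℤ) := by
    have : 0 < Xf.card := Finset.card_pos.mpr ⟨triv, htriv⟩
    exact_mod_cast this
  refine ⟨hβ, ?_⟩
  by_cases hd : d = 0
  · left
    refine ⟨hd, ?_⟩
    rw [hd] at hnorm
    have : (0 - δ) ^ 2 = δ ^ 2 := by ring
    rw [this, hδ2] at hnorm
    have : (Xf.card : ℤ) = 3 := by linarith
    exact_mod_cast this
  · right
    have h3 : (1 : ℤ) ≤ d ^ 2 := by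
      have : d ^ 2 > 0 := by positivity
      omega
    have h4 : d ^ 2 ≤ 3 := by nlinarith [sq_nonneg (d - δ)]
    have h5 : d ≤ 1 := by nlinarith
    have h6 : -1 ≤ d := by nlinarith
    have h7 : d = 1 ∨ d = -1 := by omega
    rcases h7 with h7 | h7 <;> rcases hδ with h8 | h8 <;> rw [h7, h8] at hnorm <;> rw [h7, h8]
    · refine ⟨rfl, ?_, ?_⟩ <;> linarith
    · exfalso; nlinarith
    · exfalso; nlinarith
    · refine ⟨rfl, ?_, ?_⟩ <;> linarith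

/-- swapping the two orbits when `r = 2` and `d = δ` -/
theorem BLSol.swap (s : BLSol M P δ δ θ β) (ψ₁ ψ₂ : ↥(P : Subgroup G) →* ℂˣ) (hψ₁ : ψ₁ ≠ 1)
    (hψ₂ : ψ₂ ≠ 1) (h12 : θ ψ₁ ≠ θ ψ₂)
    (hall : ∀ ψ : ↥(P : Subgroup G) →* ℂˣ, ψ ≠ 1 → θ ψ = θ ψ₁ ∨ θ ψ = θ ψ₂) :
    ∃ (θ' : (↥(P : Subgroup G) →* ℂˣ) → Cfsg.IrrCharacter G) (β' : Cfsg.IrrCharacter G → ℤ),
      BLSol M P (-δ) 0 θ' β' := by
  classical
  refine ⟨fun ψ => if θ ψ = θ ψ₁ then θ ψ₂ else θ ψ₁,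
    fun χ => if χ = θ ψ₁ ∨ χ = θ ψ₂ then 0 else β χ, ?_, ?_, ?_, ?_, ?_⟩
  · rcases s.hδ with hd | hd <;> rw [hd] <;> norm_num
  · intro ψ hψ
    split_ifs
    · exact s.hθB ψ₂ hψ₂
    · exact s.hθB ψ₁ hψ₁
  · intro ψ φ hψ hφ
    rw [← s.hθiff ψ φ hψ hφ]
    rcases hall ψ hψ with h1 | h1 <;> rcases hall φ hφ with h2 | h2
    · rw [if_pos h1, if_pos h2, h1, h2]
      simp
    · rw [if_pos h1, if_neg (by rw [h2]; exact h12.symm), h1, h2]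
      exact ⟨fun hc => (h12 hc.symm).elim, fun hc => (h12 hc).elim⟩
    · rw [if_neg (by rw [h1]; exact h12.symm), if_pos h2, h1, h2]
      exact ⟨fun hc => (h12 hc).elim, fun hc => (h12 hc.symm).elim⟩
    · rw [if_neg (by rw [h1]; exact h12.symm), if_neg (by rw [h2]; exact h12.symm), h1, h2]
      simp
  · intro ψ hψ
    rw [neg_zero]
    split_ifs with h1 h2 h3
    · rfl
    · exact absurd (Or.inr rfl) h2
    · rfl
    · exact absurd (Or.inl rfl) h3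
  · intro ψ hψ χ hχ
    rw [s.hn ψ hψ χ hχ]
    have hβ1 := s.hβθ ψ₁ hψ₁
    have hβ2 := s.hβθ ψ₂ hψ₂
    rcases hall ψ hψ with h1 | h1
    · have hθ' : (if θ ψ = θ ψ₁ then θ ψ₂ else θ ψ₁) = θ ψ₂ := if_pos h1
      rw [hθ', h1]
      by_cases hc1 : χ = θ ψ₁
      · rw [hc1, hβ1]; simp [h12]
      · by_cases hc2 : χ = θ ψ₂
        · rw [hc2, hβ2]; simp [h12.symm]
        · simp [hc1, hc2]
    · have hθ' : (if θ ψ = θ ψ₁ then θ ψ₂ else θ ψ₁) = θ ψ₁ :=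
        if_neg (by rw [h1]; exact h12.symm)
      rw [hθ', h1]
      by_cases hc1 : χ = θ ψ₁
      · rw [hc1, hβ1]; simp [h12]
      · by_cases hc2 : χ = θ ψ₂
        · rw [hc2, hβ2]; simp [h12.symm]
        · simp [hc1, hc2]

/-- for `|N : C| = 3` and `|P| > 4` there is a solution with `d = 0` -/
theorem BLHyp.exists_sol_zero (h : BLHyp p M P)
    (hCN : (Subgroup.centralizer ((P : Subgroup G) : Set G)).relIndex
      (Subgroup.normalizer ((P : Subgroup G) : Set G)) = 3)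
    (hm2 : 4 < Nat.card ↥(P : Subgroup G)) :
    2 ≤ Nat.card (NontrivOrbits P) ∧
    ∃ (δ : ℤ) (θ : (↥(P : Subgroup G) →* ℂˣ) → Cfsg.IrrCharacter G)
      (β : Cfsg.IrrCharacter G → ℤ), BLSol M P δ 0 θ β := by
  classical
  have hp : p.Prime := Fact.out
  have hcard := h.card_eq
  rw [hCN] at hcard
  have hr2 : 2 ≤ Nat.card (NontrivOrbits P) := by omega
  refine ⟨hr2, ?_⟩
  obtain ⟨δ, d, θ, β, s⟩ := h.exists_sol hr2
  obtain ⟨Xf, Yf, hmemY, hmemX, hYcard, hYB, hXdef, htriv, htβ, hXne, hXval, hnorm, hYreg, hdeg⟩ :=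
    s.facts h 3 (by norm_num) hCN hr2
  have harith := bl3_arith Xf β (trivIrr G) htriv hXne d δ
    (Nat.card (NontrivOrbits P) : ℤ) s.hδ (by exact_mod_cast hr2) (by
      rw [hnorm]; norm_num)
  obtain ⟨hβpm, hcases⟩ := harith
  rcases hcases with ⟨hd0, _⟩ | ⟨hdδ, hr4, hXcard⟩
  · rw [hd0] at s
    exact ⟨δ, θ, β, s⟩
  · have hr4' : Nat.card (NontrivOrbits P) ≤ 4 := by exact_mod_cast hr4
    have hrcases : Nat.card (NontrivOrbits P) = 2 ∨ Nat.card (NontrivOrbits P) = 3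
        ∨ Nat.card (NontrivOrbits P) = 4 := by omega
    rcases hrcases with hr | hr | hr
    · -- swap the two orbits
      rw [hr] at hYcard
      obtain ⟨η₁, η₂, hη12, hYeq⟩ := Finset.card_eq_two.mp hYcard
      obtain ⟨ψ₁, hψ₁, hθ₁⟩ := (hmemY η₁).mp (by rw [hYeq]; simp)
      obtain ⟨ψ₂, hψ₂, hθ₂⟩ := (hmemY η₂).mp (by rw [hYeq]; simp)
      rw [hdδ] at s
      obtain ⟨θ', β', s'⟩ := s.swap ψ₁ ψ₂ hψ₁ hψ₂ (by rw [hθ₁, hθ₂]; exact hη12) (by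
        intro ψ hψ
        have : θ ψ ∈ Yf := (hmemY _).mpr ⟨ψ, hψ, rfl⟩
        rw [hYeq, Finset.mem_insert, Finset.mem_singleton] at this
        rw [hθ₁, hθ₂]
        exact this)
      exact ⟨-δ, θ', β', s'⟩
    · -- `|P| = 10` is not a prime power
      exfalso
      rw [hr] at hcard
      obtain ⟨k, hk⟩ := (IsPGroup.iff_card.mp P.isPGroup')
      rw [hcard] at hk
      have hk0 : k ≠ 0 := by
        intro h0; rw [h0] at hk; simp at hk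
      have : IsPrimePow 10 := ⟨p, k, hp.prime, Nat.pos_of_ne_zero hk0, hk.symm⟩
      revert this; decide
    · -- the degree equation excludes `r = 4`
      exfalso
      rw [hr] at hXcard hYcard hdeg
      have hX1 : Xf.card = 1 := by
        have : (Xf.card : ℤ) = 1 := by rw [hXcard]; norm_num
        exact_mod_cast this
      obtain ⟨χ₀, hχ₀⟩ := Finset.card_eq_one.mp hX1
      have hχ₀t : χ₀ = trivIrr G := by
        rw [hχ₀, Finset.mem_singleton] at htriv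
        exact htriv.symm
      obtain ⟨η, hη⟩ : ∃ η, η ∈ Yf := Finset.card_pos.mp (by rw [hYcard]; norm_num)
      have h1 := hdeg η hη 1 (by rw [orderOf_one]; exact hp.not_dvd_one)
      rw [hχ₀, Finset.sum_singleton, hχ₀t, htβ, trivIrr_apply,
        Cfsg.Agent.Lib.Helper25.char_one_eq_charDegree (IsIrrCharacter.isCharacter η.2), hdδ] at h1
      have h2 : ((4 : ℤ) * δ - δ) * (Cfsg.charDegree (η : G → ℂ) : ℤ) = -1 := by
        have h3 : (((4 : ℤ) * δ - δ) * (Cfsg.charDegree (η : G → ℂ) : ℤ) : ℂ) = ((-1 : ℤ) : ℂ) := by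
          push_cast at h1 ⊢
          linear_combination h1
        exact_mod_cast h3
      rcases s.hδ with hd | hd <;> rw [hd] at h2 <;> omega

/-- the normal form of the principal block for `|N : C| = 3` -/
structure BL3NF (M : Ideal Cfsg.AlgInt) (P : Sylow p G) [Fintype ↥(P : Subgroup G)] (δ : ℤ)
    (θ : (↥(P : Subgroup G) →* ℂˣ) → Cfsg.IrrCharacter G) (β : Cfsg.IrrCharacter G → ℤ)
    (Xf Yf : Finset (Cfsg.IrrCharacter G)) : Prop where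
  sol : BLSol M P δ 0 θ β
  memY : ∀ η, η ∈ Yf ↔ ∃ ψ : ↥(P : Subgroup G) →* ℂˣ, ψ ≠ 1 ∧ θ ψ = η
  memX : ∀ χ, χ ∈ Xf ↔ χ ∈ B0 M G ∧ ∀ ψ : ↥(P : Subgroup G) →* ℂˣ, ψ ≠ 1 → χ ≠ θ ψ
  Ycard : Yf.card = Nat.card (NontrivOrbits P)
  YB : Yf ⊆ B0 M G
  Xdef : Xf = B0 M G \ Yf
  triv : trivIrr G ∈ Xf
  βtriv : β (trivIrr G) = -1
  Xcard : Xf.card = 3
  βpm : ∀ χ ∈ Xf, β χ = 1 ∨ β χ = -1
  Xval : ∀ χ ∈ Xf, ∀ y : ↥(P : Subgroup G), y ≠ 1 → (χ : G → ℂ) (y : G) = ((-β χ : ℤ) : ℂ)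
  Yreg : ∀ η ∈ Yf, ∀ η' ∈ Yf, ∀ g : G, ¬ p ∣ orderOf g → (η : G → ℂ) g = (η' : G → ℂ) g
  reg : ∀ η ∈ Yf, ∀ g : G, ¬ p ∣ orderOf g →
    -(δ : ℂ) * (η : G → ℂ) g = ∑ χ ∈ Xf, (β χ : ℂ) * (χ : G → ℂ) g

theorem BLHyp.exists_nf3 (h : BLHyp p M P)
    (hCN : (Subgroup.centralizer ((P : Subgroup G) : Set G)).relIndex
      (Subgroup.normalizer ((P : Subgroup G) : Set G)) = 3)
    (hm2 : 4 < Nat.card ↥(P : Subgroup G)) :
    ∃ (δ : ℤ) (θ : (↥(P : Subgroup G) →* ℂˣ) → Cfsg.IrrCharacter G)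
      (β : Cfsg.IrrCharacter G → ℤ) (Xf Yf : Finset (Cfsg.IrrCharacter G)),
      BL3NF M P δ θ β Xf Yf := by
  obtain ⟨hr2, δ, θ, β, s⟩ := h.exists_sol_zero hCN hm2
  obtain ⟨Xf, Yf, hmemY, hmemX, hYcard, hYB, hXdef, htriv, htβ, hXne, hXval, hnorm, hYreg, hdeg⟩ :=
    s.facts h 3 (by norm_num) hCN hr2
  have harith := bl3_arith Xf β (trivIrr G) htriv hXne 0 δ
    (Nat.card (NontrivOrbits P) : ℤ) s.hδ (by exact_mod_cast hr2) (by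
      rw [hnorm]; norm_num)
  obtain ⟨hβpm, hcases⟩ := harith
  have hXcard : Xf.card = 3 := by
    rcases hcases with ⟨_, hc⟩ | ⟨hd, _, _⟩
    · exact hc
    · exfalso
      rcases s.hδ with h1 | h1 <;> rw [h1] at hd <;> norm_num at hd
  refine ⟨δ, θ, β, Xf, Yf, s, hmemY, hmemX, hYcard, hYB, hXdef, htriv, htβ, hXcard, hβpm, hXval,
    hYreg, ?_⟩
  intro η hη g hg
  have := hdeg η hη g hg
  rw [← this]
  push_cast
  ring

end Facts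

end Cfsg.Agent.Lib.Helper7
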