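import Mathlib
import Cfsg.Agent.Lib.Helper7.BL3Group
import Cfsg.Agent.Lib.Helper7.BL3Norm
import Cfsg.Agent.Lib.Helper25.GenOrtho
import Cfsg.Agent.Lib.Helper25.Kernel

/-!
# Brauer–Leonard with `|N : C| = 3`: the character sums of the involution argument
(helper7 library)
-/

set_option autoImplicit false
open Cfsg

namespace Cfsg.Agent.Lib.Helper7

open scoped ComplexConjugate
open Cfsg.Agent.Lib.Helper11 Cfsg.Agent.Lib.Helper2 Cfsg.Agent.Lib.Helper24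

attribute [local instance] dualAction

section Rel

variable {G : Type*} [Group G] [Fintype G] {p : ℕ} [Fact p.Prime] {M : Ideal Cfsg.AlgInt}
  {P : Sylow p G}

/-- **the class multiplication relation** on the principal block -/
theorem BLHyp.involution_relation (h : BLHyp p M P)
    (hCN : (Subgroup.centralizer ((P : Subgroup G) : Set G)).relIndex
      (Subgroup.normalizer ((P : Subgroup G) : Set G)) = 3)
    (t : G) (ht : orderOf t = 2) (π : G) (hπ : π ∈ (P : Subgroup G)) (hπ1 : π ≠ 1)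
    (hW : p = 2 → ∀ τ₁ τ₂ : G, τ₁ ∈ (P : Subgroup G) → τ₂ ∈ (P : Subgroup G) →
      IsConj t τ₁ → IsConj t τ₂ → π ≠ τ₂ * τ₁) :
    ∑ χ ∈ B0 M G, (χ : G → ℂ) π * ((χ : G → ℂ) t * (χ : G → ℂ) t / (χ : G → ℂ) 1) = 0 := by
  have hGne : (Nat.card G : ℂ) ≠ 0 := by exact_mod_cast Nat.card_pos.ne'
  have h1 : ∀ x : G, ∑ χ ∈ B0 M G, (χ : G → ℂ) π * (χ : G → ℂ) (t * (x * t * x⁻¹)) = 0 := by
    intro x
    have hbo := block_orthogonality h.hM (Cfsg.principalBlock M G) isPBlock_principalBlock π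
      ((t * (x * t * x⁻¹))⁻¹) (fun c k hk => h.ortho_cond hCN t ht π hπ hπ1 hW x c k hk)
    rw [finsum_mem_eq_finite_toFinset_sum _ (Set.toFinite _)] at hbo
    have hB0 : (Set.toFinite (Cfsg.principalBlock M G)).toFinset = B0 M G := rfl
    rw [hB0] at hbo
    rw [← hbo]
    apply Finset.sum_congr rfl
    intro χ _
    rw [← Cfsg.Agent.Lib.Helper25.char_inv (IsIrrCharacter.isCharacter χ.2), inv_inv]
  have h3 : ∑ x : G, ∑ χ ∈ B0 M G, (χ : G → ℂ) π * (χ : G → ℂ) (t * (x * t * x⁻¹)) = 0 :=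
    Finset.sum_eq_zero (fun x _ => h1 x)
  rw [Finset.sum_comm] at h3
  have h4 : ∀ χ : Cfsg.IrrCharacter G,
      ∑ x : G, (χ : G → ℂ) π * (χ : G → ℂ) (t * (x * t * x⁻¹))
        = (Nat.card G : ℂ) * ((χ : G → ℂ) π * ((χ : G → ℂ) t * (χ : G → ℂ) t / (χ : G → ℂ) 1)) := by
    intro χ
    rw [← Finset.mul_sum, Cfsg.Agent.Lib.Helper25.sum_char_mul_conj χ.2]
    ring
  simp only [h4] at h3
  rw [← Finset.mul_sum] at h3
  rcases mul_eq_zero.1 h3 with h5 | h5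
  · exact absurd h5 hGne
  · exact h5

end Rel

section NF

variable {G : Type*} [Group G] [Fintype G] {p : ℕ} [Fact p.Prime] {M : Ideal Cfsg.AlgInt}
  {P : Sylow p G} [Fintype ↥(P : Subgroup G)] {δ : ℤ}
  {θ : (↥(P : Subgroup G) →* ℂˣ) → Cfsg.IrrCharacter G} {β : Cfsg.IrrCharacter G → ℤ}
  {Xf Yf : Finset (Cfsg.IrrCharacter G)}

/-- the value of an exceptional character on `P ∖ 1` -/
theorem BL3NF.Yval (nf : BL3NF M P δ θ β Xf Yf) (h : BLHyp p M P)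
    [Fintype (↥(P : Subgroup G) →* ℂˣ)] [DecidableEq (↥(P : Subgroup G) →* ℂˣ)]
    (η : Cfsg.IrrCharacter G) (hη : η ∈ Yf) (y : ↥(P : Subgroup G)) (hy : y ≠ 1) :
    (η : G → ℂ) (y : G) = (δ : ℂ) *
      ∑ ψ ∈ (Finset.univ.erase (1 : ↥(P : Subgroup G) →* ℂˣ)).filter (fun ψ => θ ψ = η),
        ((ψ y : ℂˣ) : ℂ) := by
  obtain ⟨ψ₀, hψ₀, hθ₀⟩ := (nf.memY η).mp hη
  have hβ : β η = 0 := by
    rw [← hθ₀, nf.sol.hβθ ψ₀ hψ₀, neg_zero]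
  rw [nf.sol.value h η (nf.YB hη) y hy, hβ]
  simp only [Int.cast_zero, neg_zero, zero_add]
  congr 1
  apply Finset.sum_congr _ (fun _ _ => rfl)
  apply Finset.filter_congr
  intro ψ _
  exact eq_comm

/-- the exceptional characters sum to `-δ` on `P ∖ 1` -/
theorem BL3NF.sum_Yval (nf : BL3NF M P δ θ β Xf Yf) (h : BLHyp p M P)
    (y : ↥(P : Subgroup G)) (hy : y ≠ 1) :
    ∑ η ∈ Yf, (η : G → ℂ) (y : G) = -(δ : ℂ) := by
  classical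
  haveI : Finite (↥(P : Subgroup G) →* ℂˣ) := finite_hom_units
  haveI : Fintype (↥(P : Subgroup G) →* ℂˣ) := Fintype.ofFinite _
  rw [Finset.sum_congr rfl (fun η hη => nf.Yval h η hη y hy), ← Finset.mul_sum,
    Finset.sum_fiberwise_of_maps_to (fun ψ hψ =>
      (nf.memY _).mpr ⟨ψ, Finset.ne_of_mem_erase hψ, rfl⟩),
    sum_erase_one_apply h y hy]
  ring

/-- splitting a sum over the block -/
theorem BL3NF.sum_split (nf : BL3NF M P δ θ β Xf Yf) (f : Cfsg.IrrCharacter G → ℂ) :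
    ∑ χ ∈ B0 M G, f χ = ∑ χ ∈ Xf, f χ + ∑ χ ∈ Yf, f χ := by
  classical
  rw [nf.Xdef, Finset.sum_sdiff nf.YB]

/-- the degrees of the exceptional characters agree -/
theorem BL3NF.Ydeg (nf : BL3NF M P δ θ β Xf Yf) (η η' : Cfsg.IrrCharacter G) (hη : η ∈ Yf)
    (hη' : η' ∈ Yf) : (η : G → ℂ) 1 = (η' : G → ℂ) 1 := by
  have hp : p.Prime := Fact.out
  exact nf.Yreg η hη η' hη' 1 (by rw [orderOf_one]; exact hp.not_dvd_one)

/-- a non-identity element of `P` -/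
theorem BLHyp.exists_ne_one (h : BLHyp p M P) : ∃ y₀ : ↥(P : Subgroup G), y₀ ≠ 1 := by
  by_contra hc
  push Not at hc
  apply h.hP1
  rw [Nat.card_eq_one_iff_unique]
  exact ⟨⟨fun a b => (hc a).trans (hc b).symm⟩, ⟨1⟩⟩

/-- the three equations for odd `p` -/
theorem BL3NF.equations_odd (nf : BL3NF M P δ θ β Xf Yf) (h : BLHyp p M P)
    (hCN : (Subgroup.centralizer ((P : Subgroup G) : Set G)).relIndex
      (Subgroup.normalizer ((P : Subgroup G) : Set G)) = 3)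
    (hp2 : p ≠ 2) (t : G) (ht : orderOf t = 2) (χ₂ χ₃ : Cfsg.IrrCharacter G)
    (hX : Xf = {trivIrr G, χ₂, χ₃}) (h12 : trivIrr G ≠ χ₂) (h13 : trivIrr G ≠ χ₃)
    (h23 : χ₂ ≠ χ₃) (η : Cfsg.IrrCharacter G) (hη : η ∈ Yf) (t₂ t₃ t₄ : ℤ)
    (ht₂ : (χ₂ : G → ℂ) t = (t₂ : ℂ)) (ht₃ : (χ₃ : G → ℂ) t = (t₃ : ℂ))
    (ht₄ : (η : G → ℂ) t = (t₄ : ℂ)) :
    (1 + (-β χ₂) * (Cfsg.charDegree (χ₂ : G → ℂ) : ℤ)
        + (-β χ₃) * (Cfsg.charDegree (χ₃ : G → ℂ) : ℤ)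
        - δ * (Cfsg.charDegree (η : G → ℂ) : ℤ) = 0) ∧
    (1 + (-β χ₂) * t₂ + (-β χ₃) * t₃ - δ * t₄ = 0) ∧
    ((Cfsg.charDegree (χ₂ : G → ℂ) : ℤ) * (Cfsg.charDegree (χ₃ : G → ℂ) : ℤ)
        * (Cfsg.charDegree (η : G → ℂ) : ℤ)
      + (-β χ₂) * t₂ ^ 2 * (Cfsg.charDegree (χ₃ : G → ℂ) : ℤ) * (Cfsg.charDegree (η : G → ℂ) : ℤ)
      + (-β χ₃) * t₃ ^ 2 * (Cfsg.charDegree (χ₂ : G → ℂ) : ℤ) * (Cfsg.charDegree (η : G → ℂ) : ℤ)
      - δ * t₄ ^ 2 * (Cfsg.charDegree (χ₂ : G → ℂ) : ℤ) * (Cfsg.charDegree (χ₃ : G → ℂ) : ℤ)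
      = 0) := by
  classical
  have hp : p.Prime := Fact.out
  have hd : ∀ χ : Cfsg.IrrCharacter G,
      (χ : G → ℂ) 1 = ((Cfsg.charDegree (χ : G → ℂ) : ℤ) : ℂ) := by
    intro χ
    rw [Cfsg.Agent.Lib.Helper25.char_one_eq_charDegree (IsIrrCharacter.isCharacter χ.2)]
    simp
  have hdpos : ∀ χ : Cfsg.IrrCharacter G, ((Cfsg.charDegree (χ : G → ℂ) : ℤ) : ℂ) ≠ 0 := by
    intro χ
    have := Cfsg.Agent.Lib.Helper25.irr_degree_pos χ.2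
    exact_mod_cast this.ne'
  obtain ⟨x₂, hx₂⟩ : ∃ x₂ : ℤ, (Cfsg.charDegree (χ₂ : G → ℂ) : ℤ) = x₂ := ⟨_, rfl⟩
  obtain ⟨x₃, hx₃⟩ : ∃ x₃ : ℤ, (Cfsg.charDegree (χ₃ : G → ℂ) : ℤ) = x₃ := ⟨_, rfl⟩
  obtain ⟨x₄, hx₄⟩ : ∃ x₄ : ℤ, (Cfsg.charDegree (η : G → ℂ) : ℤ) = x₄ := ⟨_, rfl⟩
  rw [hx₂, hx₃, hx₄]
  have hd₂ : (χ₂ : G → ℂ) 1 = (x₂ : ℂ) := by rw [← hx₂, hd χ₂]
  have hd₃ : (χ₃ : G → ℂ) 1 = (x₃ : ℂ) := by rw [← hx₃, hd χ₃]
  have hd₄ : (η : G → ℂ) 1 = (x₄ : ℂ) := by rw [← hx₄, hd η]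
  have h3 : (x₂ : ℂ) ≠ 0 := by rw [← hx₂]; exact hdpos χ₂
  have h4 : (x₃ : ℂ) ≠ 0 := by rw [← hx₃]; exact hdpos χ₃
  have h5 : (x₄ : ℂ) ≠ 0 := by rw [← hx₄]; exact hdpos η
  have hnotmem : trivIrr G ∉ ({χ₂, χ₃} : Finset (Cfsg.IrrCharacter G)) := by
    rw [Finset.mem_insert, Finset.mem_singleton]
    rintro (hc | hc)
    · exact h12 hc
    · exact h13 hc
  have hsumX : ∀ f : Cfsg.IrrCharacter G → ℂ,
      ∑ χ ∈ Xf, f χ = f (trivIrr G) + (f χ₂ + f χ₃) := by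
    intro f
    rw [hX, Finset.sum_insert hnotmem, Finset.sum_pair h23]
  have hone : ¬ p ∣ orderOf (1 : G) := by rw [orderOf_one]; exact hp.not_dvd_one
  have hpt : ¬ p ∣ orderOf t := by
    rw [ht]
    intro hc
    exact hp2 ((Nat.prime_dvd_prime_iff_eq hp Nat.prime_two).mp hc)
  have hχ₂X : χ₂ ∈ Xf := by rw [hX]; simp
  have hχ₃X : χ₃ ∈ Xf := by rw [hX]; simp
  refine ⟨?_, ?_, ?_⟩
  · have h1 := nf.reg η hη 1 hone
    rw [hsumX, nf.βtriv, trivIrr_apply, hd₂, hd₃, hd₄] at h1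
    have h2 : ((1 + (-β χ₂) * x₂ + (-β χ₃) * x₃ - δ * x₄ : ℤ) : ℂ) = ((0 : ℤ) : ℂ) := by
      push_cast
      linear_combination h1
    exact_mod_cast h2
  · have h1 := nf.reg η hη t hpt
    rw [hsumX, nf.βtriv, trivIrr_apply, ht₂, ht₃, ht₄] at h1
    have h2 : ((1 + (-β χ₂) * t₂ + (-β χ₃) * t₃ - δ * t₄ : ℤ) : ℂ) = ((0 : ℤ) : ℂ) := by
      push_cast
      linear_combination h1
    exact_mod_cast h2
  · obtain ⟨y₀, hy₀⟩ := h.exists_ne_one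
    have hy₀' : (y₀ : G) ≠ 1 := fun hc => hy₀ (Subtype.ext hc)
    have hR := h.involution_relation hCN t ht (y₀ : G) y₀.2 hy₀' (fun hc => absurd hc hp2)
    rw [nf.sum_split, hsumX] at hR
    have hY : ∑ η' ∈ Yf, (η' : G → ℂ) (y₀ : G)
        * ((η' : G → ℂ) t * (η' : G → ℂ) t / (η' : G → ℂ) 1)
        = -(δ : ℂ) * ((t₄ : ℂ) * (t₄ : ℂ) / (x₄ : ℂ)) := by
      rw [← nf.sum_Yval h y₀ hy₀, Finset.sum_mul]
      apply Finset.sum_congr rfl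
      intro η' hη'
      rw [nf.Yreg η' hη' η hη t hpt, nf.Ydeg η' η hη' hη, ht₄, hd₄]
    rw [hY, nf.Xval _ nf.triv y₀ hy₀, nf.Xval χ₂ hχ₂X y₀ hy₀, nf.Xval χ₃ hχ₃X y₀ hy₀,
      nf.βtriv, trivIrr_apply, trivIrr_apply, ht₂, ht₃, hd₂, hd₃] at hR
    have h2 : ((x₂ * x₃ * x₄ + (-β χ₂) * t₂ ^ 2 * x₃ * x₄ + (-β χ₃) * t₃ ^ 2 * x₂ * x₄
        - δ * t₄ ^ 2 * x₂ * x₃ : ℤ) : ℂ) = ((0 : ℤ) : ℂ) := by
      push_cast at hR ⊢
      field_simp at hR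
      linear_combination hR
    exact_mod_cast h2

/-- the fibre of `θ` through `ψ₁` is `{ψ₁, n₀ • ψ₁, n₀² • ψ₁}` for `n₀ ∈ N ∖ C` -/
theorem BL3NF.sum_fiber (nf : BL3NF M P δ θ β Xf Yf) (h : BLHyp p M P)
    (hCN : (Subgroup.centralizer ((P : Subgroup G) : Set G)).relIndex
      (Subgroup.normalizer ((P : Subgroup G) : Set G)) = 3)
    [Fintype (↥(P : Subgroup G) →* ℂˣ)] [DecidableEq (↥(P : Subgroup G) →* ℂˣ)]
    (n₀ : ↥(Subgroup.normalizer ((P : Subgroup G) : Set G)))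
    (hn₀ : (n₀ : G) ∉ Subgroup.centralizer ((P : Subgroup G) : Set G))
    (ψ₁ : ↥(P : Subgroup G) →* ℂˣ) (hψ₁ : ψ₁ ≠ 1) (f : (↥(P : Subgroup G) →* ℂˣ) → ℂ) :
    ∑ ψ ∈ (Finset.univ.erase (1 : ↥(P : Subgroup G) →* ℂˣ)).filter (fun ψ => θ ψ = θ ψ₁), f ψ
      = f ψ₁ + (f (n₀ • ψ₁) + f ((n₀ * n₀) • ψ₁)) := by
  have hne : ∀ x : ↥(Subgroup.normalizer ((P : Subgroup G) : Set G)), x • ψ₁ ≠ 1 := by
    intro x hc
    apply hψ₁
    have := congrArg (fun φ => x⁻¹ • φ) hc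
    simp only [inv_smul_smul, dualAction_one] at this
    exact this
  have hmemF : ∀ ψ, ψ ∈ (Finset.univ.erase (1 : ↥(P : Subgroup G) →* ℂˣ)).filter
      (fun ψ => θ ψ = θ ψ₁) ↔ ∃ x : ↥(Subgroup.normalizer ((P : Subgroup G) : Set G)),
        x • ψ₁ = ψ := by
    intro ψ
    rw [Finset.mem_filter, Finset.mem_erase]
    constructor
    · rintro ⟨⟨hψ, _⟩, heq⟩
      exact (nf.sol.hθiff ψ ψ₁ hψ hψ₁).mp heq
    · rintro ⟨x, rfl⟩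
      exact ⟨⟨hne x, Finset.mem_univ _⟩, (nf.sol.hθiff _ ψ₁ (hne x) hψ₁).mpr ⟨x, rfl⟩⟩
  have hFcard : ((Finset.univ.erase (1 : ↥(P : Subgroup G) →* ℂˣ)).filter
      (fun ψ => θ ψ = θ ψ₁)).card = 3 := by
    have h1 := h.card_orbit ψ₁ hψ₁
    rw [hCN, Nat.card_coe_set_eq] at h1
    have h2 : (((Finset.univ.erase (1 : ↥(P : Subgroup G) →* ℂˣ)).filter
        (fun ψ => θ ψ = θ ψ₁) : Finset _) : Set (↥(P : Subgroup G) →* ℂˣ))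
        = MulAction.orbit ↥(Subgroup.normalizer ((P : Subgroup G) : Set G)) ψ₁ := by
      ext ψ
      rw [Finset.mem_coe, hmemF]
      rfl
    rw [← h2, Set.ncard_coe_finset] at h1
    exact h1
  have hn₀1 : n₀ • ψ₁ ≠ ψ₁ := fun hc => hn₀ (h.mem_centralizer_of_smul_eq n₀ ψ₁ hψ₁ hc)
  have hn₀2 : (n₀ * n₀) • ψ₁ ≠ ψ₁ := by
    intro hc
    apply hn₀
    have h1 := h.mem_centralizer_of_smul_eq (n₀ * n₀) ψ₁ hψ₁ hc
    exact mem_centralizer_of_sq_mem (P : Subgroup G) hCN (n₀ : G) n₀.2 h1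
  have hn₀3 : (n₀ * n₀) • ψ₁ ≠ n₀ • ψ₁ := by
    intro hc
    apply hn₀1
    rw [mul_smul] at hc
    have := congrArg (fun φ => n₀⁻¹ • φ) hc
    simp only [inv_smul_smul] at this
    exact this
  have hT3 : ({ψ₁, n₀ • ψ₁, (n₀ * n₀) • ψ₁} : Finset (↥(P : Subgroup G) →* ℂˣ))
      = (Finset.univ.erase (1 : ↥(P : Subgroup G) →* ℂˣ)).filter (fun ψ => θ ψ = θ ψ₁) := by
    apply Finset.eq_of_subset_of_card_le
    · intro ψ hψ
      rw [hmemF]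
      rw [Finset.mem_insert, Finset.mem_insert, Finset.mem_singleton] at hψ
      rcases hψ with rfl | rfl | rfl
      · exact ⟨1, one_smul _ _⟩
      · exact ⟨n₀, rfl⟩
      · exact ⟨n₀ * n₀, rfl⟩
    · rw [hFcard, Finset.card_insert_of_notMem, Finset.card_insert_of_notMem,
        Finset.card_singleton]
      · rw [Finset.mem_singleton]; exact hn₀3.symm
      · rw [Finset.mem_insert, Finset.mem_singleton]
        rintro (hc | hc)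
        · exact hn₀1 hc.symm
        · exact hn₀2 hc.symm
  rw [← hT3, Finset.sum_insert, Finset.sum_insert, Finset.sum_singleton]
  · rw [Finset.mem_singleton]; exact hn₀3.symm
  · rw [Finset.mem_insert, Finset.mem_singleton]
    rintro (hc | hc)
    · exact hn₀1 hc.symm
    · exact hn₀2 hc.symm

/-- the cubic sum over the exceptional characters for `p = 2` -/
theorem BL3NF.cubic_sum (nf : BL3NF M P δ θ β Xf Yf) (h : BLHyp p M P)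
    (hCN : (Subgroup.centralizer ((P : Subgroup G) : Set G)).relIndex
      (Subgroup.normalizer ((P : Subgroup G) : Set G)) = 3)
    (n₀ : ↥(Subgroup.normalizer ((P : Subgroup G) : Set G)))
    (hn₀ : (n₀ : G) ∉ Subgroup.centralizer ((P : Subgroup G) : Set G))
    (t₀ π : ↥(P : Subgroup G)) (hπ1 : π ≠ 1) (ht₀1 : t₀ ≠ 1) (ht₀2 : t₀ * t₀ = 1)
    (hW : ∀ τ₁ τ₂ : G, τ₁ ∈ (P : Subgroup G) → τ₂ ∈ (P : Subgroup G) →
      IsConj (t₀ : G) τ₁ → IsConj (t₀ : G) τ₂ → (π : G) ≠ τ₂ * τ₁) :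
    ∑ η ∈ Yf, (η : G → ℂ) (π : G) * ((η : G → ℂ) (t₀ : G) * (η : G → ℂ) (t₀ : G))
      = -9 * (δ : ℂ) := by
  classical
  haveI : Finite (↥(P : Subgroup G) →* ℂˣ) := finite_hom_units
  haveI : Fintype (↥(P : Subgroup G) →* ℂˣ) := Fintype.ofFinite _
  have hδ3 : (δ : ℂ) * ((δ : ℂ) * (δ : ℂ)) = (δ : ℂ) := by
    rcases nf.sol.hδ with hd | hd <;> rw [hd] <;> norm_num
  set E : Fin 3 → ↥(P : Subgroup G) := ![t₀, n₀⁻¹ • t₀, (n₀ * n₀)⁻¹ • t₀] with hE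
  have hEx : ∀ j, ∃ x : ↥(Subgroup.normalizer ((P : Subgroup G) : Set G)), E j = x⁻¹ • t₀ := by
    intro j
    fin_cases j
    · exact ⟨1, by simp [hE]⟩
    · exact ⟨n₀, by simp [hE]⟩
    · exact ⟨n₀ * n₀, by simp [hE]⟩
  have hEconj : ∀ j, IsConj (t₀ : G) (E j : G) := by
    intro j
    obtain ⟨x, hx⟩ := hEx j
    rw [hx, coe_inv_smul, isConj_iff]
    exact ⟨(x : G)⁻¹, by rw [inv_inv]⟩
  have hEsq : ∀ j, E j * E j = 1 := by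
    intro j
    obtain ⟨x, hx⟩ := hEx j
    rw [hx, ← smul_mul', ht₀2, smul_one]
  have hne : ∀ j k, π * E j * E k ≠ 1 := by
    intro j k hc
    have h1 : π = E k * E j := by
      have h2 : π * E j * E k * (E k * E j) = π := by
        calc π * E j * E k * (E k * E j) = π * E j * (E k * E k) * E j := by group
          _ = π * (E j * E j) := by rw [hEsq k]; group
          _ = π := by rw [hEsq j, mul_one]
      rw [← h2, hc, one_mul]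
    apply hW (E j : G) (E k : G) (E j).2 (E k).2 (hEconj j) (hEconj k)
    rw [h1]
    rfl
  -- the summand, as a function of `ψ`
  set g : (↥(P : Subgroup G) →* ℂˣ) → ℂ := fun ψ =>
    ((ψ π : ℂˣ) : ℂ) * ((∑ j, ((ψ (E j) : ℂˣ) : ℂ)) * (∑ j, ((ψ (E j) : ℂˣ) : ℂ))) with hg
  have hstep : ∀ η ∈ Yf, (η : G → ℂ) (π : G) * ((η : G → ℂ) (t₀ : G) * (η : G → ℂ) (t₀ : G))
      = (δ : ℂ) * ∑ ψ ∈ (Finset.univ.erase (1 : ↥(P : Subgroup G) →* ℂˣ)).filter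
          (fun ψ => θ ψ = η), g ψ := by
    intro η hη
    rw [nf.Yval h η hη π hπ1, nf.Yval h η hη t₀ ht₀1]
    have h1 : ∀ ψ ∈ (Finset.univ.erase (1 : ↥(P : Subgroup G) →* ℂˣ)).filter
        (fun ψ => θ ψ = η), ∑ ψ' ∈ (Finset.univ.erase (1 : ↥(P : Subgroup G) →* ℂˣ)).filter
          (fun ψ' => θ ψ' = η), ((ψ' t₀ : ℂˣ) : ℂ) = ∑ j, ((ψ (E j) : ℂˣ) : ℂ) := by
      intro ψ hψ
      rw [Finset.mem_filter, Finset.mem_erase] at hψ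
      obtain ⟨⟨hψ1, _⟩, hθψ⟩ := hψ
      rw [← hθψ, nf.sum_fiber h hCN n₀ hn₀ ψ hψ1 (fun ψ' => ((ψ' t₀ : ℂˣ) : ℂ)),
        Fin.sum_univ_three]
      simp only [hE, dualAction_apply]
      simp [add_assoc]
    have h2 : (∑ ψ ∈ (Finset.univ.erase (1 : ↥(P : Subgroup G) →* ℂˣ)).filter
        (fun ψ => θ ψ = η), g ψ)
        = (∑ ψ ∈ (Finset.univ.erase (1 : ↥(P : Subgroup G) →* ℂˣ)).filter
            (fun ψ => θ ψ = η), ((ψ π : ℂˣ) : ℂ))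
          * ((∑ ψ' ∈ (Finset.univ.erase (1 : ↥(P : Subgroup G) →* ℂˣ)).filter
              (fun ψ' => θ ψ' = η), ((ψ' t₀ : ℂˣ) : ℂ))
            * (∑ ψ' ∈ (Finset.univ.erase (1 : ↥(P : Subgroup G) →* ℂˣ)).filter
              (fun ψ' => θ ψ' = η), ((ψ' t₀ : ℂˣ) : ℂ))) := by
      rw [Finset.sum_mul]
      apply Finset.sum_congr rfl
      intro ψ hψ
      rw [hg, h1 ψ hψ]
    rw [h2]
    generalize (∑ ψ ∈ (Finset.univ.erase (1 : ↥(P : Subgroup G) →* ℂˣ)).filter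
            (fun ψ => θ ψ = η), ((ψ π : ℂˣ) : ℂ)) = A
    generalize (∑ ψ' ∈ (Finset.univ.erase (1 : ↥(P : Subgroup G) →* ℂˣ)).filter
              (fun ψ' => θ ψ' = η), ((ψ' t₀ : ℂˣ) : ℂ)) = B
    linear_combination (A * (B * B)) * hδ3
  rw [Finset.sum_congr rfl hstep, ← Finset.mul_sum,
    Finset.sum_fiberwise_of_maps_to (fun ψ hψ =>
      (nf.memY _).mpr ⟨ψ, Finset.ne_of_mem_erase hψ, rfl⟩)]
  have h3 : ∑ ψ ∈ Finset.univ.erase (1 : ↥(P : Subgroup G) →* ℂˣ), g ψ = -9 := by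
    have h4 : ∀ ψ : ↥(P : Subgroup G) →* ℂˣ,
        g ψ = ∑ j, ∑ k, ((ψ (π * E j * E k) : ℂˣ) : ℂ) := by
      intro ψ
      rw [hg]
      simp only
      rw [Finset.sum_mul_sum, Finset.mul_sum]
      apply Finset.sum_congr rfl
      intro j _
      rw [Finset.mul_sum]
      apply Finset.sum_congr rfl
      intro k _
      rw [map_mul, map_mul, Units.val_mul, Units.val_mul]
      ring
    simp only [h4]
    rw [Finset.sum_comm]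
    have h5 : ∀ j : Fin 3, ∑ ψ ∈ Finset.univ.erase (1 : ↥(P : Subgroup G) →* ℂˣ),
        ∑ k, ((ψ (π * E j * E k) : ℂˣ) : ℂ) = -3 := by
      intro j
      rw [Finset.sum_comm]
      rw [Finset.sum_congr rfl (fun k _ => sum_erase_one_apply h (π * E j * E k) (hne j k))]
      simp
    rw [Finset.sum_congr rfl (fun j _ => h5 j)]
    simp
    norm_num
  rw [h3]
  ring

/-- the two equations for `p = 2` -/
theorem BL3NF.equations_two (nf : BL3NF M P δ θ β Xf Yf) (h : BLHyp p M P)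
    (hCN : (Subgroup.centralizer ((P : Subgroup G) : Set G)).relIndex
      (Subgroup.normalizer ((P : Subgroup G) : Set G)) = 3)
    (hcard : 11 ≤ Nat.card ↥(P : Subgroup G))
    (t₀ : G) (ht₀ : orderOf t₀ = 2) (ht₀P : t₀ ∈ (P : Subgroup G))
    (χ₂ χ₃ : Cfsg.IrrCharacter G)
    (hX : Xf = {trivIrr G, χ₂, χ₃}) (h12 : trivIrr G ≠ χ₂) (h13 : trivIrr G ≠ χ₃)
    (h23 : χ₂ ≠ χ₃) (η : Cfsg.IrrCharacter G) (hη : η ∈ Yf) :
    (1 + (-β χ₂) * (Cfsg.charDegree (χ₂ : G → ℂ) : ℤ)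
        + (-β χ₃) * (Cfsg.charDegree (χ₃ : G → ℂ) : ℤ)
        - δ * (Cfsg.charDegree (η : G → ℂ) : ℤ) = 0) ∧
    ((Cfsg.charDegree (χ₂ : G → ℂ) : ℤ) * (Cfsg.charDegree (χ₃ : G → ℂ) : ℤ)
        * (Cfsg.charDegree (η : G → ℂ) : ℤ)
      + (-β χ₂) * (Cfsg.charDegree (χ₃ : G → ℂ) : ℤ) * (Cfsg.charDegree (η : G → ℂ) : ℤ)
      + (-β χ₃) * (Cfsg.charDegree (χ₂ : G → ℂ) : ℤ) * (Cfsg.charDegree (η : G → ℂ) : ℤ)
      - 9 * δ * (Cfsg.charDegree (χ₂ : G → ℂ) : ℤ) * (Cfsg.charDegree (χ₃ : G → ℂ) : ℤ)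
      = 0) := by
  classical
  have hp : p.Prime := Fact.out
  have hd : ∀ χ : Cfsg.IrrCharacter G,
      (χ : G → ℂ) 1 = ((Cfsg.charDegree (χ : G → ℂ) : ℤ) : ℂ) := by
    intro χ
    rw [Cfsg.Agent.Lib.Helper25.char_one_eq_charDegree (IsIrrCharacter.isCharacter χ.2)]
    simp
  have hdpos : ∀ χ : Cfsg.IrrCharacter G, ((Cfsg.charDegree (χ : G → ℂ) : ℤ) : ℂ) ≠ 0 := by
    intro χ
    have := Cfsg.Agent.Lib.Helper25.irr_degree_pos χ.2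
    exact_mod_cast this.ne'
  obtain ⟨x₂, hx₂⟩ : ∃ x₂ : ℤ, (Cfsg.charDegree (χ₂ : G → ℂ) : ℤ) = x₂ := ⟨_, rfl⟩
  obtain ⟨x₃, hx₃⟩ : ∃ x₃ : ℤ, (Cfsg.charDegree (χ₃ : G → ℂ) : ℤ) = x₃ := ⟨_, rfl⟩
  obtain ⟨x₄, hx₄⟩ : ∃ x₄ : ℤ, (Cfsg.charDegree (η : G → ℂ) : ℤ) = x₄ := ⟨_, rfl⟩
  rw [hx₂, hx₃, hx₄]
  have hd₂ : (χ₂ : G → ℂ) 1 = (x₂ : ℂ) := by rw [← hx₂, hd χ₂]
  have hd₃ : (χ₃ : G → ℂ) 1 = (x₃ : ℂ) := by rw [← hx₃, hd χ₃]
  have hd₄ : (η : G → ℂ) 1 = (x₄ : ℂ) := by rw [← hx₄, hd η]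
  have h3 : (x₂ : ℂ) ≠ 0 := by rw [← hx₂]; exact hdpos χ₂
  have h4 : (x₃ : ℂ) ≠ 0 := by rw [← hx₃]; exact hdpos χ₃
  have h5 : (x₄ : ℂ) ≠ 0 := by rw [← hx₄]; exact hdpos η
  have hnotmem : trivIrr G ∉ ({χ₂, χ₃} : Finset (Cfsg.IrrCharacter G)) := by
    rw [Finset.mem_insert, Finset.mem_singleton]
    rintro (hc | hc)
    · exact h12 hc
    · exact h13 hc
  have hsumX : ∀ f : Cfsg.IrrCharacter G → ℂ,
      ∑ χ ∈ Xf, f χ = f (trivIrr G) + (f χ₂ + f χ₃) := by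
    intro f
    rw [hX, Finset.sum_insert hnotmem, Finset.sum_pair h23]
  have hone : ¬ p ∣ orderOf (1 : G) := by rw [orderOf_one]; exact hp.not_dvd_one
  have hχ₂X : χ₂ ∈ Xf := by rw [hX]; simp
  have hχ₃X : χ₃ ∈ Xf := by rw [hX]; simp
  have hβ₂ := nf.βpm χ₂ hχ₂X
  have hβ₃ := nf.βpm χ₃ hχ₃X
  refine ⟨?_, ?_⟩
  · have h1 := nf.reg η hη 1 hone
    rw [hsumX, nf.βtriv, trivIrr_apply, hd₂, hd₃, hd₄] at h1
    have h2 : ((1 + (-β χ₂) * x₂ + (-β χ₃) * x₃ - δ * x₄ : ℤ) : ℂ) = ((0 : ℤ) : ℂ) := by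
      push_cast
      linear_combination h1
    exact_mod_cast h2
  · -- an element of `N ∖ C`
    obtain ⟨n₀, hn₀N, hn₀C⟩ : ∃ n₀ : G, n₀ ∈ Subgroup.normalizer ((P : Subgroup G) : Set G) ∧
        n₀ ∉ Subgroup.centralizer ((P : Subgroup G) : Set G) := by
      by_contra hc
      push Not at hc
      have hle : Subgroup.normalizer ((P : Subgroup G) : Set G)
          ≤ Subgroup.centralizer ((P : Subgroup G) : Set G) := fun x hx => hc x hx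
      rw [Subgroup.relIndex_eq_one.mpr hle] at hCN
      norm_num at hCN
    obtain ⟨π, hπ, hπ1, hW⟩ := h.exists_not_prod hCN hcard t₀ ht₀P
    have hR := h.involution_relation hCN t₀ ht₀ π hπ hπ1 (fun _ => hW)
    rw [nf.sum_split, hsumX] at hR
    have ht₀1 : t₀ ≠ 1 := by
      intro hc
      rw [hc, orderOf_one] at ht₀
      norm_num at ht₀
    have ht₀2 : t₀ * t₀ = 1 := by
      have := pow_orderOf_eq_one t₀
      rwa [ht₀, pow_two] at this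
    have hcub := nf.cubic_sum h hCN ⟨n₀, hn₀N⟩ hn₀C ⟨t₀, ht₀P⟩ ⟨π, hπ⟩
      (fun hc => hπ1 (congrArg Subtype.val hc)) (fun hc => ht₀1 (congrArg Subtype.val hc))
      (Subtype.ext ht₀2) hW
    have hY : ∑ η' ∈ Yf, (η' : G → ℂ) π
        * ((η' : G → ℂ) t₀ * (η' : G → ℂ) t₀ / (η' : G → ℂ) 1)
        = (-9 * (δ : ℂ)) / (x₄ : ℂ) := by
      rw [← hcub, Finset.sum_div]
      apply Finset.sum_congr rfl
      intro η' hη'
      rw [nf.Ydeg η' η hη' hη, hd₄]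
      ring
    have hv : ∀ χ ∈ Xf, (χ : G → ℂ) π = ((-β χ : ℤ) : ℂ) ∧ (χ : G → ℂ) t₀ = ((-β χ : ℤ) : ℂ) := by
      intro χ hχ
      exact ⟨nf.Xval χ hχ ⟨π, hπ⟩ (fun hc => hπ1 (congrArg Subtype.val hc)),
        nf.Xval χ hχ ⟨t₀, ht₀P⟩ (fun hc => ht₀1 (congrArg Subtype.val hc))⟩
    rw [hY, (hv _ nf.triv).1, (hv _ nf.triv).2, (hv χ₂ hχ₂X).1, (hv χ₂ hχ₂X).2,
      (hv χ₃ hχ₃X).1, (hv χ₃ hχ₃X).2, nf.βtriv, trivIrr_apply, hd₂, hd₃] at hR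
    have hb₂ : (β χ₂ : ℂ) * ((β χ₂ : ℂ) * (β χ₂ : ℂ)) = (β χ₂ : ℂ) := by
      rcases hβ₂ with hb | hb <;> rw [hb] <;> norm_num
    have hb₃ : (β χ₃ : ℂ) * ((β χ₃ : ℂ) * (β χ₃ : ℂ)) = (β χ₃ : ℂ) := by
      rcases hβ₃ with hb | hb <;> rw [hb] <;> norm_num
    have h2 : ((x₂ * x₃ * x₄ + (-β χ₂) * x₃ * x₄ + (-β χ₃) * x₂ * x₄
        - 9 * δ * x₂ * x₃ : ℤ) : ℂ) = ((0 : ℤ) : ℂ) := by
      push_cast at hR ⊢
      field_simp at hR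
      linear_combination hR + (x₃ * x₄ : ℂ) * hb₂ + (x₂ * x₄ : ℂ) * hb₃
    exact_mod_cast h2

end NF

end Cfsg.Agent.Lib.Helper7
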