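import Mathlib
import Cfsg.Agent.Lib.Helper7.BL3Char
import Cfsg.Agent.Lib.Helper7.BL3Arith
import Cfsg.Agent.S0944

/-!
# Brauer–Leonard with `|N : C| = 3`: the main theorem (helper7 library)
-/

set_option autoImplicit false
open Cfsg

namespace Cfsg.Agent.Lib.Helper7

open scoped ComplexConjugate
open Cfsg.Agent.Lib.Helper11 Cfsg.Agent.Lib.Helper2 Cfsg.Agent.Lib.Helper24

attribute [local instance] dualAction

section Main3

variable {G : Type*} [Group G] [Fintype G] {p : ℕ} [Fact p.Prime] {M : Ideal Cfsg.AlgInt}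
  {P : Sylow p G}

/-- an irreducible character with `t` in its kernel is trivial, if `t` lies in no proper normal
subgroup -/
theorem eq_trivIrr_of_apply_eq (χ : Cfsg.IrrCharacter G) (t : G)
    (hK : ∀ K : Subgroup G, K.Normal → t ∈ K → K = ⊤)
    (ht : (χ : G → ℂ) t = (χ : G → ℂ) 1) : χ = trivIrr G := by
  obtain ⟨K, hKn, hKmem⟩ := Cfsg.Agent.Lib.Helper25.exists_kernel (IsIrrCharacter.isCharacter χ.2)
  have htop := hK K hKn ((hKmem t).mpr ht)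
  have hall : ∀ g : G, (χ : G → ℂ) g = (χ : G → ℂ) 1 := by
    intro g
    rw [← hKmem, htop]
    exact Subgroup.mem_top g
  have hci : Cfsg.classInner (χ : G → ℂ) (trivIrr G : G → ℂ) = (χ : G → ℂ) 1 := by
    rw [classInner_def]
    simp only [trivIrr_apply, map_one, mul_one, hall, Finset.sum_const, Finset.card_univ,
      nsmul_eq_mul]
    rw [← Nat.card_eq_fintype_card]
    have hGne : (Nat.card G : ℂ) ≠ 0 := by exact_mod_cast Nat.card_pos.ne'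
    field_simp
  by_contra hne
  rw [classInner_irrCharacter_ne hne] at hci
  exact Cfsg.Agent.Lib.Helper25.irr_one_ne_zero χ.2 hci.symm

theorem coe_eq_one_iff_eq_trivIrr (χ : Cfsg.IrrCharacter G) :
    (χ : G → ℂ) = (fun _ => 1) ↔ χ = trivIrr G := by
  constructor
  · intro hc
    exact Subtype.ext hc
  · rintro rfl
    rfl

variable [Fintype ↥(P : Subgroup G)] {δ : ℤ}
  {θ : (↥(P : Subgroup G) →* ℂˣ) → Cfsg.IrrCharacter G} {β : Cfsg.IrrCharacter G → ℤ}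
  {Xf Yf : Finset (Cfsg.IrrCharacter G)}

/-- **the involution part** of the theorem -/
theorem BL3NF.involution_part (nf : BL3NF M P δ θ β Xf Yf) (h : BLHyp p M P)
    (hCN : (Subgroup.centralizer ((P : Subgroup G) : Set G)).relIndex
      (Subgroup.normalizer ((P : Subgroup G) : Set G)) = 3)
    (hm2 : 4 < Nat.card ↥(P : Subgroup G))
    (t : G) (ht : orderOf t = 2) (hK : ∀ K : Subgroup G, K.Normal → t ∈ K → K = ⊤)
    (χ₂ χ₃ : Cfsg.IrrCharacter G)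
    (hX : Xf = {trivIrr G, χ₂, χ₃}) (h12 : trivIrr G ≠ χ₂) (h13 : trivIrr G ≠ χ₃)
    (h23 : χ₂ ≠ χ₃) (η : Cfsg.IrrCharacter G) (hη : η ∈ Yf) :
    IsSquare (Cfsg.charDegree (η : G → ℂ)
        * (Cfsg.charDegree (χ₂ : G → ℂ) * Cfsg.charDegree (χ₃ : G → ℂ))) ∧
      (if -β χ₂ = -1 then 1 else 0) + (if -β χ₃ = -1 then 1 else 0)
        + (if δ = 1 then 1 else 0) = 2 := by
  classical
  have hp : p.Prime := Fact.out
  have hχ₂X : χ₂ ∈ Xf := by rw [hX]; simp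
  have hχ₃X : χ₃ ∈ Xf := by rw [hX]; simp
  have ha₂ : -β χ₂ = 1 ∨ -β χ₂ = -1 := by
    rcases nf.βpm χ₂ hχ₂X with hb | hb <;> rw [hb] <;> norm_num
  have ha₃ : -β χ₃ = 1 ∨ -β χ₃ = -1 := by
    rcases nf.βpm χ₃ hχ₃X with hb | hb <;> rw [hb] <;> norm_num
  have hx₂ := Cfsg.Agent.Lib.Helper25.irr_degree_pos χ₂.2
  have hx₃ := Cfsg.Agent.Lib.Helper25.irr_degree_pos χ₃.2
  have hx₄ := Cfsg.Agent.Lib.Helper25.irr_degree_pos η.2
  have hd : ∀ χ : Cfsg.IrrCharacter G,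
      (χ : G → ℂ) 1 = ((Cfsg.charDegree (χ : G → ℂ) : ℤ) : ℂ) := by
    intro χ
    rw [Cfsg.Agent.Lib.Helper25.char_one_eq_charDegree (IsIrrCharacter.isCharacter χ.2)]
    simp
  by_cases hp2 : p = 2
  · -- `p = 2`
    obtain ⟨g, hg⟩ := exists_conj_mem_sylow_of_orderOf_eq P t (by rw [ht, hp2])
    have ht₀ : orderOf (g * t * g⁻¹) = 2 := by rw [orderOf_conj_eq, ht]
    have hcard : 11 ≤ Nat.card ↥(P : Subgroup G) := by
      have hc := h.card_eq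
      rw [hCN] at hc
      obtain ⟨k, hk0⟩ := (IsPGroup.iff_card.mp P.isPGroup')
      have hk : Nat.card ↥(P : Subgroup G) = 2 ^ k := by
        rw [hk0]
        congr 1
      by_cases hk4 : 4 ≤ k
      · have : 2 ^ 4 ≤ 2 ^ k := Nat.pow_le_pow_right (by norm_num) hk4
        omega
      · exfalso
        have hk3 : k ≤ 3 := by omega
        interval_cases k <;> omega
    obtain ⟨E1, E3⟩ := nf.equations_two h hCN hcard (g * t * g⁻¹) ht₀ hg χ₂ χ₃ hX h12 h13 h23 η hη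
    have hclass : ∀ χ : Cfsg.IrrCharacter G, (χ : G → ℂ) (g * t * g⁻¹) = (χ : G → ℂ) t := by
      intro χ
      exact IsCharacter.isClassFunction (IsIrrCharacter.isCharacter χ.2) t g
    have ht₀1 : g * t * g⁻¹ ≠ 1 := by
      intro hc
      rw [hc, orderOf_one] at ht₀
      norm_num at ht₀
    have hker : ∀ χ ∈ Xf, trivIrr G ≠ χ →
        ¬ (Cfsg.charDegree (χ : G → ℂ) = 1 ∧ -β χ = 1) := by
      intro χ hχ hne ⟨hc1, hc2⟩
      apply hne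
      symm
      apply eq_trivIrr_of_apply_eq χ t hK
      rw [← hclass χ, nf.Xval χ hχ ⟨g * t * g⁻¹, hg⟩ (fun hc => ht₀1 (congrArg Subtype.val hc)),
        hd χ, hc1, hc2]
      norm_num
    exact bl3_core_two _ _ _ hx₂ hx₃ hx₄ (-β χ₂) (-β χ₃) δ ha₂ ha₃ nf.sol.hδ E1 E3
      (hker χ₂ hχ₂X h12) (hker χ₃ hχ₃X h13)
  · -- `p` odd
    obtain ⟨t₂, ht₂, _⟩ := Cfsg.Agent.S0944.result χ₂ t ht
    obtain ⟨t₃, ht₃, _⟩ := Cfsg.Agent.S0944.result χ₃ t ht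
    obtain ⟨t₄, ht₄, _⟩ := Cfsg.Agent.S0944.result η t ht
    obtain ⟨E1, E2, E3⟩ := nf.equations_odd h hCN hp2 t ht χ₂ χ₃ hX h12 h13 h23 η hη t₂ t₃ t₄
      ht₂ ht₃ ht₄
    refine bl3_core_odd _ _ _ hx₂ hx₃ hx₄ t₂ t₃ t₄ (-β χ₂) (-β χ₃) δ ha₂ ha₃ nf.sol.hδ E1 E2 E3 ?_
    intro hc
    apply h13
    symm
    apply eq_trivIrr_of_apply_eq χ₃ t hK
    rw [ht₃, hd χ₃, hc]

/-- **Brauer–Leonard, `|N : C| = 3`** -/
theorem BLHyp.main3 (h : BLHyp p M P)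
    (hCN : (Subgroup.centralizer ((P : Subgroup G) : Set G)).relIndex
      (Subgroup.normalizer ((P : Subgroup G) : Set G)) = 3)
    (hm2 : 3 + 1 < Nat.card ↥(P : Subgroup G)) :
    ∃ (X Y : Set (Cfsg.IrrCharacter G)), Cfsg.principalBlock M G = X ∪ Y ∧ Disjoint X Y ∧
      Nat.card X = 3 ∧ Nat.card Y = (Nat.card P - 1) / 3 ∧
      (∃ χ₁ ∈ X, (χ₁ : G → ℂ) = fun _ => 1) ∧
      ∃ (a : Cfsg.IrrCharacter G → ℤ) (δ : ℤ)
        (ζ : (↥(P : Subgroup G) →* ℂˣ) → Cfsg.IrrCharacter G), (δ = 1 ∨ δ = -1) ∧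
        (∀ χ ∈ X, (a χ = 1 ∨ a χ = -1) ∧ ∀ z y : G, Cfsg.IsPPart p z y → y ∈ (P : Subgroup G) →
          y ≠ 1 → (χ : G → ℂ) z = (a χ : ℂ)) ∧
        (∀ ψ : ↥(P : Subgroup G) →* ℂˣ, ψ ≠ 1 → ζ ψ ∈ Y) ∧
        (∀ η ∈ Y, ∃ ψ : ↥(P : Subgroup G) →* ℂˣ, ψ ≠ 1 ∧ ζ ψ = η) ∧
        (∀ ψ ψ' : ↥(P : Subgroup G) →* ℂˣ, ψ ≠ 1 →
          (∃ n : G, n ∈ Subgroup.normalizer ((P : Subgroup G) : Set G) ∧
            ∀ w w' : ↥(P : Subgroup G), (w' : G) = n * w * n⁻¹ → ψ' w' = ψ w) → ζ ψ' = ζ ψ) ∧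
        (∀ ψ : ↥(P : Subgroup G) →* ℂˣ, ψ ≠ 1 → ∀ (z : G) (y : ↥(P : Subgroup G)),
          Cfsg.IsPPart p z (y : G) → (y : G) ≠ 1 →
          (ζ ψ : G → ℂ) z = (δ : ℂ) *
            ∑ᶠ ψ' ∈ {ψ' : ↥(P : Subgroup G) →* ℂˣ |
              ∃ n : G, n ∈ Subgroup.normalizer ((P : Subgroup G) : Set G) ∧
                ∀ w w' : ↥(P : Subgroup G), (w' : G) = n * w * n⁻¹ → ψ' w' = ψ w},
              ((ψ' y : ℂˣ) : ℂ)) ∧
        ((∃ t : G, orderOf t = 2 ∧ ∀ K : Subgroup G, K.Normal → t ∈ K → K = ⊤) →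
          Nat.card {χ : Cfsg.IrrCharacter G // χ ∈ X ∧ (χ : G → ℂ) ≠ (fun _ => 1) ∧ a χ = -1}
            + (if δ = 1 then 1 else 0) = 2 ∧
          ∀ η ∈ Y, IsSquare (Cfsg.charDegree (η : G → ℂ) *
            ∏ᶠ χ ∈ {χ : Cfsg.IrrCharacter G | χ ∈ X ∧ (χ : G → ℂ) ≠ fun _ => 1},
              Cfsg.charDegree (χ : G → ℂ))) := by
  classical
  haveI : Finite (↥(P : Subgroup G) →* ℂˣ) := finite_hom_units
  haveI : Fintype (↥(P : Subgroup G) →* ℂˣ) := Fintype.ofFinite _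
  obtain ⟨δ, θ, β, Xf, Yf, nf⟩ := h.exists_nf3 hCN (by omega)
  have hcard := h.card_eq
  rw [hCN] at hcard
  have hppart : ∀ χ ∈ B0 M G, ∀ (z y : G), Cfsg.IsPPart p z y → y ∈ (P : Subgroup G) → y ≠ 1 →
      (χ : G → ℂ) z = (χ : G → ℂ) y := by
    intro χ hχ z y hz hy hy1
    exact principal_apply_of_isPPart M h.hM P h.hcomm y hy (le_of_eq (h.hfrob y hy hy1)) χ
      ((mem_B0 χ).mp hχ) z hz
  refine ⟨(Xf : Set (Cfsg.IrrCharacter G)), (Yf : Set (Cfsg.IrrCharacter G)), ?_, ?_, ?_, ?_, ?_,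
    fun χ => -β χ, δ, θ, nf.sol.hδ, ?_, ?_, ?_, ?_, ?_, ?_⟩
  · ext χ
    rw [Set.mem_union, Finset.mem_coe, Finset.mem_coe, ← mem_B0, nf.Xdef, Finset.mem_sdiff]
    constructor
    · intro hχ
      by_cases hY : χ ∈ Yf
      · exact Or.inr hY
      · exact Or.inl ⟨hχ, hY⟩
    · rintro (hχ | hχ)
      · exact hχ.1
      · exact nf.YB hχ
  · rw [Finset.disjoint_coe, nf.Xdef]
    exact Finset.sdiff_disjoint
  · rw [Nat.card_coe_set_eq, Set.ncard_coe_finset, nf.Xcard]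
  · rw [Nat.card_coe_set_eq, Set.ncard_coe_finset, nf.Ycard, hcard, Nat.add_sub_cancel_left,
      Nat.mul_div_cancel _ (by norm_num)]
  · exact ⟨trivIrr G, Finset.mem_coe.mpr nf.triv, rfl⟩
  · intro χ hχ
    rw [Finset.mem_coe] at hχ
    refine ⟨?_, ?_⟩
    · show -β χ = 1 ∨ -β χ = -1
      rcases nf.βpm χ hχ with hb | hb <;> rw [hb] <;> norm_num
    · intro z y hz hy hy1
      rw [hppart χ ((nf.memX χ).mp hχ).1 z y hz hy hy1]
      exact nf.Xval χ hχ ⟨y, hy⟩ (fun hc => hy1 (congrArg Subtype.val hc))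
  · intro ψ hψ
    rw [Finset.mem_coe, nf.memY]
    exact ⟨ψ, hψ, rfl⟩
  · intro η hη
    rw [Finset.mem_coe, nf.memY] at hη
    exact hη
  · intro ψ ψ' hψ hrel
    obtain ⟨x, hx⟩ := (conj_rel_iff (P : Subgroup G) ψ ψ').mp hrel
    have hψ' : ψ' ≠ 1 := by
      intro hc
      apply hψ
      rw [hc] at hx
      have := congrArg (fun φ => x⁻¹ • φ) hx
      simp only [inv_smul_smul, dualAction_one] at this
      exact this
    exact (nf.sol.hθiff ψ' ψ hψ' hψ).mpr ⟨x, hx⟩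
  · intro ψ hψ z y hz hy1
    rw [hppart (θ ψ) (nf.sol.hθB ψ hψ) z (y : G) hz y.2 hy1]
    set S : Finset (↥(P : Subgroup G) →* ℂˣ) := Finset.univ.filter (fun ψ' =>
      ∃ x : ↥(Subgroup.normalizer ((P : Subgroup G) : Set G)), x • ψ = ψ') with hS
    have hset : {ψ' : ↥(P : Subgroup G) →* ℂˣ |
        ∃ n : G, n ∈ Subgroup.normalizer ((P : Subgroup G) : Set G) ∧
          ∀ w w' : ↥(P : Subgroup G), (w' : G) = n * w * n⁻¹ → ψ' w' = ψ w}
        = (S : Set (↥(P : Subgroup G) →* ℂˣ)) := by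
      ext ψ'
      rw [Set.mem_setOf_eq, conj_rel_iff, Finset.mem_coe, hS, Finset.mem_filter]
      simp
    rw [hset, finsum_mem_coe_finset]
    have := nf.sol.value_theta h ψ hψ y (fun hc => hy1 (by rw [hc]; rfl)) S (fun ψ' => by
      rw [hS, Finset.mem_filter]; simp)
    rw [this]
    simp
  · rintro ⟨t, ht, hK⟩
    -- the two non-principal members of `X`
    have hcard2 : (Xf.erase (trivIrr G)).card = 2 := by
      rw [Finset.card_erase_of_mem nf.triv, nf.Xcard]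
    obtain ⟨χ₂, χ₃, h23, hXe⟩ := Finset.card_eq_two.mp hcard2
    have hχ₂e : χ₂ ∈ Xf.erase (trivIrr G) := by rw [hXe]; simp
    have hχ₃e : χ₃ ∈ Xf.erase (trivIrr G) := by rw [hXe]; simp
    have h12 : trivIrr G ≠ χ₂ := (Finset.ne_of_mem_erase hχ₂e).symm
    have h13 : trivIrr G ≠ χ₃ := (Finset.ne_of_mem_erase hχ₃e).symm
    have hX : Xf = {trivIrr G, χ₂, χ₃} := by
      rw [← Finset.insert_erase nf.triv, hXe]
    have hsetX : {χ : Cfsg.IrrCharacter G | χ ∈ (Xf : Set (Cfsg.IrrCharacter G)) ∧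
        (χ : G → ℂ) ≠ fun _ => 1}
        = (({χ₂, χ₃} : Finset (Cfsg.IrrCharacter G)) : Set (Cfsg.IrrCharacter G)) := by
      ext χ
      rw [Set.mem_setOf_eq, Finset.mem_coe, Finset.mem_coe, ← hXe, Finset.mem_erase, Ne,
        coe_eq_one_iff_eq_trivIrr]
      exact ⟨fun ⟨h1, h2⟩ => ⟨h2, h1⟩, fun ⟨h1, h2⟩ => ⟨h2, h1⟩⟩
    have hprod : ∏ᶠ χ ∈ {χ : Cfsg.IrrCharacter G | χ ∈ (Xf : Set (Cfsg.IrrCharacter G)) ∧
        (χ : G → ℂ) ≠ fun _ => 1}, Cfsg.charDegree (χ : G → ℂ)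
        = Cfsg.charDegree (χ₂ : G → ℂ) * Cfsg.charDegree (χ₃ : G → ℂ) := by
      rw [hsetX, finprod_mem_coe_finset, Finset.prod_pair h23]
    have hcount : Nat.card {χ : Cfsg.IrrCharacter G // χ ∈ (Xf : Set (Cfsg.IrrCharacter G)) ∧
        (χ : G → ℂ) ≠ (fun _ => 1) ∧ -β χ = -1}
        = (if -β χ₂ = -1 then 1 else 0) + (if -β χ₃ = -1 then 1 else 0) := by
      have hset2 : {χ : Cfsg.IrrCharacter G | χ ∈ (Xf : Set (Cfsg.IrrCharacter G)) ∧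
          (χ : G → ℂ) ≠ (fun _ => 1) ∧ -β χ = -1}
          = ((({χ₂, χ₃} : Finset (Cfsg.IrrCharacter G)).filter (fun χ => -β χ = -1) :
              Finset (Cfsg.IrrCharacter G)) : Set (Cfsg.IrrCharacter G)) := by
        ext χ
        rw [Set.mem_setOf_eq, Finset.mem_coe, Finset.mem_coe, Finset.mem_filter, ← hXe,
          Finset.mem_erase, Ne, coe_eq_one_iff_eq_trivIrr]
        exact ⟨fun ⟨h1, h2, h3⟩ => ⟨⟨h2, h1⟩, h3⟩, fun ⟨⟨h1, h2⟩, h3⟩ => ⟨h2, h1, h3⟩⟩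
      have h1 : Nat.card {χ : Cfsg.IrrCharacter G // χ ∈ (Xf : Set (Cfsg.IrrCharacter G)) ∧
          (χ : G → ℂ) ≠ (fun _ => 1) ∧ -β χ = -1}
          = Set.ncard {χ : Cfsg.IrrCharacter G | χ ∈ (Xf : Set (Cfsg.IrrCharacter G)) ∧
            (χ : G → ℂ) ≠ (fun _ => 1) ∧ -β χ = -1} := Nat.card_coe_set_eq _
      rw [h1, hset2, Set.ncard_coe_finset, Finset.card_filter, Finset.sum_pair h23]
    obtain ⟨η₀, hη₀⟩ : ∃ η₀, η₀ ∈ Yf := by
      apply Finset.card_pos.mp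
      rw [nf.Ycard]
      omega
    constructor
    · have := (nf.involution_part h hCN (by omega) t ht hK χ₂ χ₃ hX h12 h13 h23 η₀ hη₀).2
      rw [hcount]
      exact this
    · intro η hη
      rw [hprod]
      exact (nf.involution_part h hCN (by omega) t ht hK χ₂ χ₃ hX h12 h13 h23 η
        (Finset.mem_coe.mp hη)).1

end Main3

end Cfsg.Agent.Lib.Helper7
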