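import Mathlib
import Cfsg.Prelude.Def_Blocks
import Cfsg.Agent.Lib.Helper24.Osima
import Cfsg.Agent.Lib.Helper24.NormalPCentral
import Cfsg.Agent.Lib.Helper7.InducedBlock

/-!
# The Brauer central character agrees with the induced central character modulo the local ideal
(helper7 library)
-/

set_option autoImplicit false

namespace Cfsg.Agent.Lib.Helper7

open Cfsg.Agent.Lib.Helper2 Cfsg.Agent.Lib.Helper24
open scoped ComplexConjugate

section

variable {G : Type*} [Group G] [Fintype G] (P H : Subgroup G) [Fintype H]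

omit [Fintype G] in
/-- The Brauer central character as a sum over `H`. -/
theorem brauerCentralChar_eq_sum (ξ : H → ℂ) (g : G) [DecidablePred (IsConj g)]
    [DecidablePred (fun x : G => x ∈ Subgroup.centralizer (P : Set G))] :
    Cfsg.brauerCentralChar P H ξ g
      = (∑ h : H, if IsConj g (h : G) ∧ (h : G) ∈ Subgroup.centralizer (P : Set G)
          then ξ h else 0) / ξ 1 := by
  classical
  unfold Cfsg.brauerCentralChar
  rw [finsum_mem_eq_sum_ite, Finset.sum_div]
  apply Finset.sum_congr rfl
  intro h _
  by_cases hh : IsConj g (h : G) ∧ (h : G) ∈ Subgroup.centralizer (P : Set G)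
  · rw [if_pos (by exact hh), if_pos hh]
  · rw [if_neg (by exact hh), if_neg hh, zero_div]

omit [Fintype G] [Fintype H] in
theorem conj_mem_centralizer_of_mem_normalizer {x h : G}
    (hx : x ∈ Subgroup.normalizer (P : Set G)) (hh : h ∈ Subgroup.centralizer (P : Set G)) :
    x * h * x⁻¹ ∈ Subgroup.centralizer (P : Set G) := by
  rw [Subgroup.mem_centralizer_iff] at hh ⊢
  intro q hq
  have hq' : x⁻¹ * q * x ∈ P := (Subgroup.mem_normalizer_iff''.mp hx q).mp hq
  have h1 := hh _ hq'
  calc q * (x * h * x⁻¹) = x * ((x⁻¹ * q * x) * h) * x⁻¹ := by group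
    _ = x * (h * (x⁻¹ * q * x)) * x⁻¹ := by rw [h1]
    _ = x * h * x⁻¹ * q := by group

omit [Fintype G] [Fintype H] in
theorem conj_mem_centralizer_iff_of_mem_normalizer {x h : G}
    (hx : x ∈ Subgroup.normalizer (P : Set G)) :
    x * h * x⁻¹ ∈ Subgroup.centralizer (P : Set G) ↔ h ∈ Subgroup.centralizer (P : Set G) := by
  constructor
  · intro hh
    have := conj_mem_centralizer_of_mem_normalizer P (Subgroup.inv_mem _ hx) hh
    have e : x⁻¹ * (x * h * x⁻¹) * x⁻¹⁻¹ = h := by group
    rwa [e] at this
  · exact conj_mem_centralizer_of_mem_normalizer P hx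

variable {p : ℕ} [Fact p.Prime] {M : Ideal Cfsg.AlgInt}

/-- For `P ≤ H ≤ N_G(P)` with `P` a `p`-group, the induced central character and the Brauer
central character of an irreducible character of `H` are congruent modulo the local ideal. -/
theorem inducedCentralChar_sub_brauerCentralChar (hM : Cfsg.IsPModular p M) (hP : IsPGroup p P)
    (hPH : P ≤ H) (hHN : H ≤ Subgroup.normalizer (P : Set G)) (ξ : Cfsg.IrrCharacter H) (g : G) :
    Cfsg.MemLocalIdeal M (Cfsg.inducedCentralChar H (ξ : H → ℂ) g
      - Cfsg.brauerCentralChar P H (ξ : H → ℂ) g) := by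
  classical
  set a : H → ℂ := fun h => if IsConj g (h : G) ∧ (h : G) ∉ Subgroup.centralizer (P : Set G)
    then 1 else 0 with ha
  have hdiff : Cfsg.inducedCentralChar H (ξ : H → ℂ) g - Cfsg.brauerCentralChar P H (ξ : H → ℂ) g
      = omega (ξ : H → ℂ) a := by
    rw [inducedCentralChar_eq_sum, brauerCentralChar_eq_sum]
    unfold omega
    rw [← sub_div, ← Finset.sum_sub_distrib]
    congr 1
    apply Finset.sum_congr rfl
    intro h _
    simp only [ha]
    by_cases h1 : IsConj g (h : G)
    · by_cases h2 : (h : G) ∈ Subgroup.centralizer (P : Set G)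
      · rw [if_pos h1, if_pos ⟨h1, h2⟩, if_neg (fun hh => hh.2 h2), sub_self, zero_mul]
      · rw [if_pos h1, if_neg (fun hh => h2 hh.2), if_pos ⟨h1, h2⟩, sub_zero, one_mul]
    · rw [if_neg h1, if_neg (fun hh => h1 hh.1), if_neg (fun hh => h1 hh.1), sub_self, zero_mul]
  rw [hdiff, omega_eq_sum]
  have hPn : (P.subgroupOf H).Normal := by
    constructor
    intro q hq x
    rw [Subgroup.mem_subgroupOf] at hq ⊢
    have hx := hHN x.2
    have := (Subgroup.mem_normalizer_iff.mp hx (q : G)).mp hq
    simpa using this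
  have hPp : IsPGroup p (P.subgroupOf H) := hP.comap_subtype
  have hacf : Cfsg.IsClassFunction H a := by
    intro h x
    simp only [ha]
    have h1 : IsConj g ((x * h * x⁻¹ : H) : G) ↔ IsConj g (h : G) := by
      have e : ((x * h * x⁻¹ : H) : G) = (x : G) * h * (x : G)⁻¹ := by simp
      rw [e]
      constructor
      · intro hh
        exact hh.trans (isConj_iff.mpr ⟨(x : G), rfl⟩).symm
      · intro hh
        exact hh.trans (isConj_iff.mpr ⟨(x : G), rfl⟩)
    have h2 : ((x * h * x⁻¹ : H) : G) ∈ Subgroup.centralizer (P : Set G)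
        ↔ (h : G) ∈ Subgroup.centralizer (P : Set G) := by
      have e : ((x * h * x⁻¹ : H) : G) = (x : G) * h * (x : G)⁻¹ := by simp
      rw [e]
      exact conj_mem_centralizer_iff_of_mem_normalizer P (hHN x.2)
    simp only [h1, h2]
  apply sum_mul_inv_index_mem (MlocC hM)
  · intro h x
    simp only
    rw [hacf, centralChar_isClassFunction _ (IrrCharacter.isClassFunction ξ)]
  · intro h
    by_cases hh : IsConj g (h : G) ∧ (h : G) ∉ Subgroup.centralizer (P : Set G)
    · have hnot : h ∉ Subgroup.centralizer ((P.subgroupOf H : Subgroup H) : Set H) := by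
        intro hc
        apply hh.2
        rw [Subgroup.mem_centralizer_iff] at hc ⊢
        intro q hq
        have := hc ⟨q, hPH hq⟩ (by
          show (⟨q, hPH hq⟩ : H) ∈ P.subgroupOf H
          rw [Subgroup.mem_subgroupOf]
          exact hq)
        exact congrArg Subtype.val this
      have := centralChar_memLocalIdeal_of_notMem_centralizer hM (P.subgroupOf H) hPp h hnot ξ
      show Cfsg.MemLocalIdeal M (a h * Cfsg.centralChar (ξ : H → ℂ) h)
      simp only [ha, if_pos hh, one_mul]
      exact this
    · show Cfsg.MemLocalIdeal M (a h * Cfsg.centralChar (ξ : H → ℂ) h)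
      simp only [ha, if_neg hh, zero_mul]
      exact memLocalIdeal_zero hM

end

end Cfsg.Agent.Lib.Helper7
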