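import Mathlib

/-!
# Abelian 2-subgroups with exactly three involutions (helper7 library)

Automorphisms of odd order induced by the normalizer; used for Brauer's theorem on Sylow
2-subgroups of type `(2^m, 2^m)`.
-/

set_option autoImplicit false

namespace Cfsg.Agent.Lib.Helper7

section Zmod

/-- the `2`-torsion of `ZMod (2 ^ m)` -/
theorem zmod_two_torsion (m : ℕ) (hm : 1 ≤ m) (x : ZMod (2 ^ m)) (h : x + x = 0) :
    x = 0 ∨ x = ((2 ^ (m - 1) : ℕ) : ZMod (2 ^ m)) := by
  haveI : NeZero (2 ^ m) := ⟨by positivity⟩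
  have hx : x = ((x.val : ℕ) : ZMod (2 ^ m)) := (ZMod.natCast_zmod_val x).symm
  have h1 : ((2 * x.val : ℕ) : ZMod (2 ^ m)) = 0 := by
    push_cast
    rw [ZMod.natCast_zmod_val, two_mul]
    exact h
  rw [ZMod.natCast_eq_zero_iff] at h1
  have hlt : x.val < 2 ^ m := ZMod.val_lt x
  have hpow : 2 ^ m = 2 * 2 ^ (m - 1) := by
    rw [← pow_succ']
    congr 1
    omega
  obtain ⟨v, hv⟩ : ∃ v : ℕ, x.val = v := ⟨_, rfl⟩
  rw [hv] at h1 hlt hx
  rw [hpow] at h1 hlt
  have h2 : 2 ^ (m - 1) ∣ v := Nat.dvd_of_mul_dvd_mul_left (by norm_num) h1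
  obtain ⟨c, hc⟩ := h2
  have hc2 : c < 2 := by
    by_contra hcon
    push Not at hcon
    have : 2 * 2 ^ (m - 1) ≤ v := by
      rw [hc]
      calc 2 * 2 ^ (m - 1) = 2 ^ (m - 1) * 2 := by ring
        _ ≤ 2 ^ (m - 1) * c := Nat.mul_le_mul_left _ hcon
    omega
  interval_cases c
  · left
    rw [hx, hc]; simp
  · right
    rw [hx, hc]; simp

end Zmod

section Odd

variable {G : Type*} [Group G]

/-- if `n²` and an odd power of `n` commute with `x`, so does `n` -/
theorem commute_of_sq_of_odd_pow (n x : G) (k : ℕ) (hk : Odd k) (h2 : Commute (n * n) x)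
    (hkc : Commute (n ^ k) x) : Commute n x := by
  obtain ⟨j, rfl⟩ := hk
  have h1 : n = ((n * n) ^ j)⁻¹ * n ^ (2 * j + 1) := by
    rw [pow_succ, pow_mul, pow_two]
    group
  rw [h1]
  exact ((h2.pow_left j).inv_left).mul_left hkc

end Odd

section Rank

variable {G : Type*} [Group G] [Finite G]

/-- an abelian `2`-subgroup with at most four elements of order at most two -/
structure Rank2 (P : Subgroup G) : Prop where
  comm : ∀ a ∈ P, ∀ b ∈ P, a * b = b * a
  pgrp : ∀ x ∈ P, ∃ j : ℕ, x ^ (2 ^ j) = 1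
  four : {x : G | x ∈ P ∧ x * x = 1}.ncard ≤ 4

variable {P : Subgroup G}

/-- an element of the normalizer of odd order modulo the centralizer which fixes one involution
fixes all of them -/
theorem Rank2.commute_of_sq_eq_one (h : Rank2 P) (n : G)
    (hn : n ∈ Subgroup.normalizer (P : Set G)) (k : ℕ) (hk : Odd k)
    (hnk : n ^ k ∈ Subgroup.centralizer (P : Set G)) (s : G) (hs : s ∈ P) (hs1 : s ≠ 1)
    (hs2 : s * s = 1) (hns : Commute n s) : ∀ x ∈ P, x * x = 1 → Commute n x := by
  intro x hx hx2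
  by_cases hx1 : x = 1
  · rw [hx1]; exact Commute.one_right n
  by_cases hxs : x = s
  · rw [hxs]; exact hns
  have hsinv : s⁻¹ = s := inv_eq_of_mul_eq_one_left hs2
  have hW : ({1, s, x, s * x} : Set G) = {x : G | x ∈ P ∧ x * x = 1} := by
    apply Set.eq_of_subset_of_ncard_le
    · intro y hy
      simp only [Set.mem_insert_iff, Set.mem_singleton_iff] at hy
      rcases hy with rfl | rfl | rfl | rfl
      · exact ⟨P.one_mem, by simp⟩
      · exact ⟨hs, hs2⟩
      · exact ⟨hx, hx2⟩
      · refine ⟨P.mul_mem hs hx, ?_⟩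
        calc s * x * (s * x) = s * (x * s) * x := by group
          _ = s * (s * x) * x := by rw [h.comm x hx s hs]
          _ = (s * s) * (x * x) := by group
          _ = 1 := by rw [hs2, hx2, one_mul]
    · have h1 : ({x, s * x} : Set G).ncard = 2 := by
        apply Set.ncard_pair
        intro hc
        apply hs1
        have : s * x = 1 * x := by rw [one_mul]; exact hc.symm
        exact mul_right_cancel this
      have h2 : ({s, x, s * x} : Set G).ncard = 3 := by
        rw [Set.ncard_insert_of_notMem, h1]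
        simp only [Set.mem_insert_iff, Set.mem_singleton_iff, not_or]
        refine ⟨fun hc => hxs hc.symm, fun hc => hx1 ?_⟩
        have : s * 1 = s * x := by rw [mul_one]; exact hc
        exact (mul_left_cancel this).symm
      have h3 : ({1, s, x, s * x} : Set G).ncard = 4 := by
        rw [Set.ncard_insert_of_notMem, h2]
        simp only [Set.mem_insert_iff, Set.mem_singleton_iff, not_or]
        refine ⟨fun hc => hs1 hc.symm, fun hc => hx1 hc.symm, fun hc => hxs ?_⟩
        have : x = s⁻¹ := eq_inv_of_mul_eq_one_right hc.symm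
        rw [this, hsinv]
      rw [h3]
      exact h.four
    · exact Set.toFinite _
  have hyP : n * x * n⁻¹ ∈ P := (Subgroup.mem_normalizer_iff.mp hn x).mp hx
  have hy2 : n * x * n⁻¹ * (n * x * n⁻¹) = 1 := by
    calc n * x * n⁻¹ * (n * x * n⁻¹) = n * (x * x) * n⁻¹ := by group
      _ = 1 := by rw [hx2]; group
  have hyW : n * x * n⁻¹ ∈ ({1, s, x, s * x} : Set G) := by
    rw [hW]; exact ⟨hyP, hy2⟩
  simp only [Set.mem_insert_iff, Set.mem_singleton_iff] at hyW
  rcases hyW with hy | hy | hy | hy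
  · exfalso
    apply hx1
    have : n * x * n⁻¹ = n * 1 * n⁻¹ := by rw [hy]; group
    exact mul_left_cancel (mul_right_cancel this)
  · exfalso
    apply hxs
    have h1 : n * s * n⁻¹ = s := by rw [hns.eq]; group
    have : n * x * n⁻¹ = n * s * n⁻¹ := by rw [hy, h1]
    exact mul_left_cancel (mul_right_cancel this)
  · have : n * x = x * n := by
      calc n * x = n * x * n⁻¹ * n := by group
        _ = x * n := by rw [hy]
    exact this
  · have hcx : Commute (n ^ k) x := by
      have := Subgroup.mem_centralizer_iff.mp hnk x hx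
      exact this.symm
    apply commute_of_sq_of_odd_pow n x k hk _ hcx
    have h1 : n * s * n⁻¹ = s := by rw [hns.eq]; group
    have h2 : n * n * x * (n * n)⁻¹ = x := by
      calc n * n * x * (n * n)⁻¹ = n * (n * x * n⁻¹) * n⁻¹ := by group
        _ = n * (s * x) * n⁻¹ := by rw [hy]
        _ = (n * s * n⁻¹) * (n * x * n⁻¹) := by group
        _ = s * (s * x) := by rw [h1, hy]
        _ = (s * s) * x := by group
        _ = x := by rw [hs2, one_mul]
    calc n * n * x = n * n * x * (n * n)⁻¹ * (n * n) := by group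
      _ = x * (n * n) := by rw [h2]

/-- an element of the normalizer, of odd order modulo the centralizer, commuting with an
involution of `P`, centralizes `P` -/
theorem Rank2.mem_centralizer (h : Rank2 P) (n : G)
    (hn : n ∈ Subgroup.normalizer (P : Set G)) (k : ℕ) (hk : Odd k)
    (hnk : n ^ k ∈ Subgroup.centralizer (P : Set G)) (s : G) (hs : s ∈ P) (hs1 : s ≠ 1)
    (hs2 : s * s = 1) (hns : Commute n s) : n ∈ Subgroup.centralizer (P : Set G) := by
  have hV := h.commute_of_sq_eq_one n hn k hk hnk s hs hs1 hs2 hns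
  have key : ∀ j : ℕ, ∀ x ∈ P, x ^ (2 ^ j) = 1 → Commute n x := by
    intro j
    induction j with
    | zero =>
      intro x _ hx
      rw [pow_zero, pow_one] at hx
      rw [hx]; exact Commute.one_right n
    | succ j ih =>
      intro x hx hxj
      have hxx : (x * x) ^ (2 ^ j) = 1 := by
        rw [← pow_two, ← pow_mul, ← pow_succ']
        exact hxj
      have hc2 : Commute n (x * x) := ih (x * x) (P.mul_mem hx hx) hxx
      have hzP : n * x * n⁻¹ ∈ P := (Subgroup.mem_normalizer_iff.mp hn x).mp hx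
      have hxi : x⁻¹ ∈ P := P.inv_mem hx
      have hyP : n * x * n⁻¹ * x⁻¹ ∈ P := P.mul_mem hzP hxi
      have hy2 : n * x * n⁻¹ * x⁻¹ * (n * x * n⁻¹ * x⁻¹) = 1 := by
        calc n * x * n⁻¹ * x⁻¹ * (n * x * n⁻¹ * x⁻¹)
            = n * x * n⁻¹ * (x⁻¹ * (n * x * n⁻¹)) * x⁻¹ := by group
          _ = n * x * n⁻¹ * ((n * x * n⁻¹) * x⁻¹) * x⁻¹ := by
              rw [h.comm x⁻¹ hxi (n * x * n⁻¹) hzP]
          _ = n * (x * x) * n⁻¹ * (x * x)⁻¹ := by group
          _ = 1 := by rw [hc2.eq]; group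
      have hcy : Commute n (n * x * n⁻¹ * x⁻¹) := hV _ hyP hy2
      have hcx : Commute (n ^ k) x := (Subgroup.mem_centralizer_iff.mp hnk x hx).symm
      apply commute_of_sq_of_odd_pow n x k hk _ hcx
      have h2 : n * n * x * (n * n)⁻¹ = x := by
        calc n * n * x * (n * n)⁻¹
            = n * ((n * x * n⁻¹ * x⁻¹) * x) * n⁻¹ := by group
          _ = (n * (n * x * n⁻¹ * x⁻¹)) * x * n⁻¹ := by group
          _ = ((n * x * n⁻¹ * x⁻¹) * n) * x * n⁻¹ := by rw [hcy.eq]
          _ = (n * x * n⁻¹ * x⁻¹) * (n * x * n⁻¹ * x⁻¹) * x := by group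
          _ = x := by rw [hy2, one_mul]
      calc n * n * x = n * n * x * (n * n)⁻¹ * (n * n) := by group
        _ = x * (n * n) := by rw [h2]
  rw [Subgroup.mem_centralizer_iff]
  intro x hx
  obtain ⟨j, hj⟩ := h.pgrp x hx
  exact (key j x hx hj).eq.symm

/-- powers by the index of the centralizer in the normalizer land in the centralizer -/
theorem pow_relIndex_mem_centralizer (Q : Subgroup G) (n : G)
    (hn : n ∈ Subgroup.normalizer (Q : Set G)) :
    n ^ ((Subgroup.centralizer (Q : Set G)).relIndex (Subgroup.normalizer (Q : Set G)))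
      ∈ Subgroup.centralizer (Q : Set G) := by
  have h1 := Subgroup.pow_index_mem ((Subgroup.centralizer (Q : Set G)).subgroupOf
    (Subgroup.normalizer (Q : Set G))) (⟨n, hn⟩ : ↥(Subgroup.normalizer (Q : Set G)))
  rw [Subgroup.mem_subgroupOf] at h1
  simpa [Subgroup.relIndex] using h1

/-- every nonidentity element of a `2`-group has a power which is an involution -/
theorem exists_pow_involution (y : G) (hy1 : y ≠ 1) (hy : ∃ j : ℕ, y ^ (2 ^ j) = 1) :
    ∃ i : ℕ, y ^ i ≠ 1 ∧ y ^ i * y ^ i = 1 := by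
  classical
  have hj := Nat.find_spec hy
  have hmin := fun i => Nat.find_min (H := hy) (m := i)
  set j := Nat.find hy with hjdef
  have hj0 : j ≠ 0 := by
    intro h0
    rw [h0, pow_zero, pow_one] at hj
    exact hy1 hj
  obtain ⟨i, hi⟩ : ∃ i, j = i + 1 := ⟨j - 1, by omega⟩
  refine ⟨2 ^ i, ?_, ?_⟩
  · exact hmin i (by omega)
  · rw [← pow_add, ← two_mul, ← pow_succ', ← hi]
    exact hj

/-- the Frobenius condition: the centralizer in `N_G(P)` of a nonidentity element of `P` is
`C_G(P)` -/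
theorem Rank2.centralizer_inf_normalizer (h : Rank2 P)
    (hodd : Odd ((Subgroup.centralizer (P : Set G)).relIndex (Subgroup.normalizer (P : Set G))))
    (y : G) (hy : y ∈ P) (hy1 : y ≠ 1) :
    Subgroup.centralizer ({y} : Set G) ⊓ Subgroup.normalizer (P : Set G)
      = Subgroup.centralizer (P : Set G) := by
  apply le_antisymm
  · intro x hx
    obtain ⟨hxy, hxN⟩ := hx
    obtain ⟨i, hi1, hi2⟩ := exists_pow_involution y hy1 (h.pgrp y hy)
    have hc : Commute x y := by
      have := Subgroup.mem_centralizer_iff.mp hxy y (Set.mem_singleton y)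
      exact this.symm
    exact h.mem_centralizer x hxN _ hodd (pow_relIndex_mem_centralizer P x hxN) (y ^ i)
      (P.pow_mem hy i) hi1 hi2 (hc.pow_right i)
  · intro x hx
    refine ⟨?_, Subgroup.centralizer_le_normalizer _ hx⟩
    show x ∈ Subgroup.centralizer ({y} : Set G)
    rw [Subgroup.mem_centralizer_iff]
    intro z hz
    rw [Set.mem_singleton_iff] at hz
    subst hz
    exact Subgroup.mem_centralizer_iff.mp hx z hy

/-- the index of the centralizer in the normalizer is `1` or `3` -/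
theorem Rank2.relIndex_eq (h : Rank2 P)
    (hodd : Odd ((Subgroup.centralizer (P : Set G)).relIndex (Subgroup.normalizer (P : Set G))))
    (t₀ : G) (ht₀ : t₀ ∈ P) (ht₀1 : t₀ ≠ 1) (ht₀2 : t₀ * t₀ = 1) :
    (Subgroup.centralizer (P : Set G)).relIndex (Subgroup.normalizer (P : Set G)) = 1 ∨
    (Subgroup.centralizer (P : Set G)).relIndex (Subgroup.normalizer (P : Set G)) = 3 := by
  classical
  set N := Subgroup.normalizer (P : Set G) with hN
  set C := Subgroup.centralizer (P : Set G) with hC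
  set T : Set G := {x : G | x ∈ P ∧ x * x = 1} \ {1} with hT
  have hTcard : T.ncard ≤ 3 := by
    rw [hT, Set.ncard_sdiff_singleton_of_mem (a := (1 : G))]
    · have := h.four
      omega
    · exact ⟨P.one_mem, by simp⟩
  have hconjT : ∀ n : ↥N, (n : G) * t₀ * (n : G)⁻¹ ∈ T := by
    intro n
    refine ⟨⟨(Subgroup.mem_normalizer_iff.mp n.2 t₀).mp ht₀, ?_⟩, ?_⟩
    · calc (n : G) * t₀ * (n : G)⁻¹ * ((n : G) * t₀ * (n : G)⁻¹)
          = (n : G) * (t₀ * t₀) * (n : G)⁻¹ := by group
        _ = 1 := by rw [ht₀2]; group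
    · intro hc
      rw [Set.mem_singleton_iff] at hc
      apply ht₀1
      have : (n : G) * t₀ * (n : G)⁻¹ = (n : G) * 1 * (n : G)⁻¹ := by rw [hc]; group
      exact mul_left_cancel (mul_right_cancel this)
  let f : ↥N ⧸ (C.subgroupOf N) → ↥T := fun q =>
    Quotient.liftOn' q (fun n => (⟨(n : G) * t₀ * (n : G)⁻¹, hconjT n⟩ : ↥T)) (by
      intro a b hab
      rw [QuotientGroup.leftRel_apply, Subgroup.mem_subgroupOf] at hab
      apply Subtype.ext
      have hc : Commute ((a⁻¹ * b : ↥N) : G) t₀ :=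
        (Subgroup.mem_centralizer_iff.mp hab t₀ ht₀).symm
      have hb : (b : G) = (a : G) * ((a⁻¹ * b : ↥N) : G) := by
        simp
      show (a : G) * t₀ * (a : G)⁻¹ = (b : G) * t₀ * (b : G)⁻¹
      rw [hb]
      calc (a : G) * t₀ * (a : G)⁻¹
          = (a : G) * (t₀ * ((a⁻¹ * b : ↥N) : G) * ((a⁻¹ * b : ↥N) : G)⁻¹) * (a : G)⁻¹ := by group
        _ = (a : G) * (((a⁻¹ * b : ↥N) : G) * t₀ * ((a⁻¹ * b : ↥N) : G)⁻¹) * (a : G)⁻¹ := by
            rw [hc.eq]
        _ = (a : G) * ((a⁻¹ * b : ↥N) : G) * t₀ * ((a : G) * ((a⁻¹ * b : ↥N) : G))⁻¹ := by group)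
  have hf : Function.Injective f := by
    intro q₁ q₂
    induction q₁ using Quotient.inductionOn' with
    | h a =>
      induction q₂ using Quotient.inductionOn' with
      | h b =>
        intro hab
        have hab' : (a : G) * t₀ * (a : G)⁻¹ = (b : G) * t₀ * (b : G)⁻¹ := by
          have := congrArg Subtype.val hab
          exact this
        apply Quotient.sound'
        rw [QuotientGroup.leftRel_apply, Subgroup.mem_subgroupOf]
        have hmem : ((a⁻¹ * b : ↥N) : G) ∈ N := (a⁻¹ * b).2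
        have hcomm : Commute ((a⁻¹ * b : ↥N) : G) t₀ := by
          have h1 : ((a⁻¹ * b : ↥N) : G) = (a : G)⁻¹ * (b : G) := by simp
          rw [h1]
          have : (a : G)⁻¹ * (b : G) * t₀ = t₀ * ((a : G)⁻¹ * (b : G)) := by
            calc (a : G)⁻¹ * (b : G) * t₀
                = (a : G)⁻¹ * ((b : G) * t₀ * (b : G)⁻¹) * (b : G) := by group
              _ = (a : G)⁻¹ * ((a : G) * t₀ * (a : G)⁻¹) * (b : G) := by rw [hab']
              _ = t₀ * ((a : G)⁻¹ * (b : G)) := by group
          exact this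
        exact h.mem_centralizer _ hmem _ hodd (pow_relIndex_mem_centralizer P _ hmem) t₀ ht₀
          ht₀1 ht₀2 hcomm
  have : Finite ↥T := Set.toFinite T
  have hle : Nat.card (↥N ⧸ (C.subgroupOf N)) ≤ Nat.card ↥T := Nat.card_le_card_of_injective f hf
  have hrel : C.relIndex N = Nat.card (↥N ⧸ (C.subgroupOf N)) := rfl
  rw [Nat.card_coe_set_eq] at hle
  have h3 : C.relIndex N ≤ 3 := by rw [hrel]; exact le_trans hle hTcard
  obtain ⟨j, hj⟩ := hodd
  omega

end Rank

section Equiv

variable {G : Type*} [Group G] [Finite G]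

/-- a subgroup isomorphic to `ℤ/2^m × ℤ/2^m` is of the kind considered above -/
theorem rank2_of_equiv (P : Subgroup G) (m : ℕ) (hm : 1 ≤ m)
    (e : ↥P ≃* Multiplicative (ZMod (2 ^ m) × ZMod (2 ^ m))) :
    Rank2 P ∧ (∃ t₀ : G, t₀ ∈ P ∧ t₀ ≠ 1 ∧ t₀ * t₀ = 1) ∧ Nat.card ↥P = 2 ^ m * 2 ^ m := by
  classical
  haveI : NeZero (2 ^ m) := ⟨by positivity⟩
  set hh : ZMod (2 ^ m) := ((2 ^ (m - 1) : ℕ) : ZMod (2 ^ m)) with hhdef
  have hpow : 2 ^ m = 2 * 2 ^ (m - 1) := by
    rw [← pow_succ']
    congr 1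
    omega
  have hh0 : hh ≠ 0 := by
    rw [hhdef, Ne, ZMod.natCast_eq_zero_iff]
    intro hdvd
    have h1 : 2 ^ m ≤ 2 ^ (m - 1) := Nat.le_of_dvd (by positivity) hdvd
    have h2 : 0 < 2 ^ (m - 1) := by positivity
    omega
  have hh2 : hh + hh = 0 := by
    rw [hhdef, ← Nat.cast_add, ZMod.natCast_eq_zero_iff, ← two_mul, ← hpow]
  refine ⟨⟨?_, ?_, ?_⟩, ?_, ?_⟩
  · intro a ha b hb
    have h1 : e (⟨a, ha⟩ * ⟨b, hb⟩) = e (⟨b, hb⟩ * ⟨a, ha⟩) := by
      rw [map_mul, map_mul, mul_comm]
    have h2 := e.injective h1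
    exact congrArg Subtype.val h2
  · intro x hx
    refine ⟨m, ?_⟩
    have h1 : e ((⟨x, hx⟩ : ↥P) ^ (2 ^ m)) = 1 := by
      rw [map_pow]
      apply Multiplicative.toAdd.injective
      rw [toAdd_pow, toAdd_one]
      have hz : ((2 : ZMod (2 ^ m)) ^ m) = 0 := by
        have := ZMod.natCast_self (2 ^ m)
        push_cast at this
        exact this
      ext
      · simp [hz]
      · simp [hz]
    have h2 : (⟨x, hx⟩ : ↥P) ^ (2 ^ m) = 1 := by
      apply e.injective
      rw [h1, map_one]
    have := congrArg Subtype.val h2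
    simpa using this
  · -- at most four elements of order at most two
    let S4 : Finset (ZMod (2 ^ m) × ZMod (2 ^ m)) := ({0, hh} : Finset _) ×ˢ ({0, hh} : Finset _)
    let φ : ZMod (2 ^ m) × ZMod (2 ^ m) → G := fun v => ((e.symm (Multiplicative.ofAdd v) : ↥P) : G)
    have hsub : {x : G | x ∈ P ∧ x * x = 1} ⊆ ((S4.image φ : Finset G) : Set G) := by
      intro x hx
      obtain ⟨hxP, hx2⟩ := hx
      rw [Finset.mem_coe, Finset.mem_image]
      refine ⟨Multiplicative.toAdd (e ⟨x, hxP⟩), ?_, ?_⟩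
      · have h1 : e (⟨x, hxP⟩ * ⟨x, hxP⟩) = 1 := by
          have : (⟨x, hxP⟩ * ⟨x, hxP⟩ : ↥P) = 1 := Subtype.ext hx2
          rw [this, map_one]
        rw [map_mul] at h1
        have h2 : Multiplicative.toAdd (e ⟨x, hxP⟩) + Multiplicative.toAdd (e ⟨x, hxP⟩) = 0 := by
          rw [← toAdd_mul, h1, toAdd_one]
        have h3 := congrArg Prod.fst h2
        have h4 := congrArg Prod.snd h2
        simp only [Prod.fst_add, Prod.snd_add, Prod.fst_zero, Prod.snd_zero] at h3 h4
        have h5 := zmod_two_torsion m hm _ h3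
        have h6 := zmod_two_torsion m hm _ h4
        rw [Finset.mem_product]
        simp only [Finset.mem_insert, Finset.mem_singleton]
        exact ⟨h5, h6⟩
      · simp [φ]
    calc {x : G | x ∈ P ∧ x * x = 1}.ncard ≤ ((S4.image φ : Finset G) : Set G).ncard :=
          Set.ncard_le_ncard hsub (Finset.finite_toSet _)
      _ = (S4.image φ).card := Set.ncard_coe_finset _
      _ ≤ S4.card := Finset.card_image_le
      _ ≤ 4 := by
          rw [Finset.card_product]
          have : ({0, hh} : Finset (ZMod (2 ^ m))).card ≤ 2 := Finset.card_le_two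
          nlinarith
  · refine ⟨((e.symm (Multiplicative.ofAdd ((hh, 0) : ZMod (2 ^ m) × ZMod (2 ^ m))) : ↥P) : G),
      Subtype.mem _, ?_, ?_⟩
    · intro hc
      have h1 : e.symm (Multiplicative.ofAdd ((hh, 0) : ZMod (2 ^ m) × ZMod (2 ^ m))) = 1 :=
        Subtype.ext hc
      have h2 : Multiplicative.ofAdd ((hh, 0) : ZMod (2 ^ m) × ZMod (2 ^ m)) = 1 := by
        have := congrArg e h1
        rwa [MulEquiv.apply_symm_apply, map_one] at this
      have h3 : ((hh, 0) : ZMod (2 ^ m) × ZMod (2 ^ m)) = 0 := by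
        have := congrArg Multiplicative.toAdd h2
        simpa using this
      exact hh0 (congrArg Prod.fst h3)
    · have h1 : e.symm (Multiplicative.ofAdd ((hh, 0) : ZMod (2 ^ m) × ZMod (2 ^ m))) *
          e.symm (Multiplicative.ofAdd ((hh, 0) : ZMod (2 ^ m) × ZMod (2 ^ m))) = 1 := by
        rw [← map_mul, ← ofAdd_add]
        have : ((hh, 0) : ZMod (2 ^ m) × ZMod (2 ^ m)) + (hh, 0) = 0 := by
          ext
          · simp [hh2]
          · simp
        rw [this, ofAdd_zero, map_one]
      have := congrArg Subtype.val h1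
      simpa using this
  · rw [Nat.card_congr e.toEquiv]
    have : Nat.card (Multiplicative (ZMod (2 ^ m) × ZMod (2 ^ m)))
        = Nat.card (ZMod (2 ^ m) × ZMod (2 ^ m)) := Nat.card_congr Multiplicative.toAdd
    rw [this, Nat.card_prod, Nat.card_zmod]

end Equiv

end Cfsg.Agent.Lib.Helper7
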