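import Mathlib
import Cfsg.Agent.Lib.Helper7.BL3Main
import Cfsg.Agent.Lib.Helper7.Homocyclic
import Cfsg.Agent.Lib.Helper2.Invariants

/-!
# Brauer's theorem on Sylow 2-subgroups of type `(2^m, 2^m)`: the character part
(helper7 library)
-/

set_option autoImplicit false
open Cfsg

namespace Cfsg.Agent.Lib.Helper7

open scoped ComplexConjugate
open Cfsg.Agent.Lib.Helper11 Cfsg.Agent.Lib.Helper2 Cfsg.Agent.Lib.Helper24

/-- the arithmetic core of Brauer's theorem -/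
theorem brauer_hom_arith (x₂ x₃ x₄ : ℕ) (hx₂ : 0 < x₂) (hx₃ : 0 < x₃)
    (a₂ a₃ δ : ℤ) (ha₂ : a₂ = 1 ∨ a₂ = -1) (ha₃ : a₃ = 1 ∨ a₃ = -1)
    (hδ : δ = 1 ∨ δ = -1)
    (E1 : 1 + a₂ * x₂ + a₃ * x₃ - δ * x₄ = 0)
    (E3 : (x₂ : ℤ) * x₃ * x₄ + a₂ * x₃ * x₄ + a₃ * x₂ * x₄ - 9 * δ * x₂ * x₃ = 0)
    (c₂ : (16 : ℤ) ∣ x₂ - a₂) (c₃ : (16 : ℤ) ∣ x₃ - a₃) :
    (x₂ = 1 ∧ a₂ = 1) ∧ (x₃ = 1 ∧ a₃ = 1) := by
  have ha₂2 : a₂ * a₂ = 1 := by rcases ha₂ with h | h <;> rw [h] <;> norm_num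
  have ha₃2 : a₃ * a₃ = 1 := by rcases ha₃ with h | h <;> rw [h] <;> norm_num
  have hδ2 : δ * δ = 1 := by rcases hδ with h | h <;> rw [h] <;> norm_num
  set u : ℤ := a₂ * x₂ with hu
  set v : ℤ := a₃ * x₃ with hv
  set w : ℤ := δ * x₄ with hw
  have hu16 : (16 : ℤ) ∣ u - 1 := by
    have : u - 1 = a₂ * (x₂ - a₂) := by rw [hu]; linear_combination ha₂2
    rw [this]; exact Dvd.dvd.mul_left c₂ a₂
  have hv16 : (16 : ℤ) ∣ v - 1 := by
    have : v - 1 = a₃ * (x₃ - a₃) := by rw [hv]; linear_combination ha₃2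
    rw [this]; exact Dvd.dvd.mul_left c₃ a₃
  have hE1 : w = 1 + u + v := by linarith
  have hE3 : u * v * w + v * w + u * w - 9 * u * v = 0 := by
    have : u * v * w + v * w + u * w - 9 * u * v
        = a₂ * a₃ * δ * ((x₂ : ℤ) * x₃ * x₄ + a₂ * x₃ * x₄ + a₃ * x₂ * x₄ - 9 * δ * x₂ * x₃)
          + (1 - a₂ * a₂) * (a₃ * δ * x₃ * x₄) + (1 - a₃ * a₃) * (a₂ * δ * x₂ * x₄)
          - 9 * (1 - δ * δ) * (a₂ * a₃ * x₂ * x₃) := by
      rw [hu, hv, hw]; ring
    rw [this, E3, ha₂2, ha₃2, hδ2]; ring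
  set s : ℤ := u + v with hs
  set q : ℤ := u * v with hq
  have hkey : (8 - s) * (q + s + 9) = 72 := by
    have h1 : w = 1 + s := by rw [hE1, hs]; ring
    have h2 : q * w + s * w - 9 * q = 0 := by
      have : q * w + s * w - 9 * q = u * v * w + v * w + u * w - 9 * u * v := by
        rw [hq, hs]; ring
      rw [this, hE3]
    rw [h1] at h2
    linear_combination -h2
  have hs16 : (16 : ℤ) ∣ (8 - s) - 6 := by
    have : (8 - s) - 6 = -((u - 1) + (v - 1)) := by rw [hs]; ring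
    rw [this]
    exact (dvd_add hu16 hv16).neg_right
  obtain ⟨k, hk⟩ : ∃ k : ℤ, k = 8 - s := ⟨_, rfl⟩
  rw [← hk] at hkey hs16
  have hk72 : k ∣ 72 := Dvd.intro _ hkey
  have hk1 : k ≤ 72 := Int.le_of_dvd (by norm_num) hk72
  have hk2 : -k ≤ 72 := Int.le_of_dvd (by norm_num) ((neg_dvd).mpr hk72)
  have hk6 : k = 6 := by
    obtain ⟨c, hc⟩ := hs16
    have hc1 : -5 ≤ c := by omega
    have hc2 : c ≤ 5 := by omega
    have hkc : k = 16 * c + 6 := by omega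
    interval_cases c <;> simp_all <;> omega
  have hs2 : s = 2 := by omega
  have hq1 : q = 1 := by
    rw [hk6, hs2] at hkey
    omega
  have hu1 : u = 1 := by
    have h1 : (u - 1) * (u - 1) = 0 := by
      have hv' : v = 2 - u := by rw [hs] at hs2; omega
      rw [hq, hv'] at hq1
      nlinarith
    have := mul_self_eq_zero.mp h1
    omega
  have hv1 : v = 1 := by rw [hs] at hs2; omega
  have hx₂' : (0 : ℤ) < x₂ := by exact_mod_cast hx₂
  have hx₃' : (0 : ℤ) < x₃ := by exact_mod_cast hx₃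
  refine ⟨?_, ?_⟩
  · rcases ha₂ with h | h
    · rw [hu, h, one_mul] at hu1
      exact ⟨by exact_mod_cast hu1, h⟩
    · rw [hu, h] at hu1
      omega
  · rcases ha₃ with h | h
    · rw [hv, h, one_mul] at hv1
      exact ⟨by exact_mod_cast hv1, h⟩
    · rw [hv, h] at hv1
      omega

section Congr

variable {G : Type*} [Group G] [Fintype G] {p : ℕ} [Fact p.Prime] {M : Ideal Cfsg.AlgInt}
  {P : Sylow p G} [Fintype ↥(P : Subgroup G)] {δ : ℤ}
  {θ : (↥(P : Subgroup G) →* ℂˣ) → Cfsg.IrrCharacter G} {β : Cfsg.IrrCharacter G → ℤ}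
  {Xf Yf : Finset (Cfsg.IrrCharacter G)}

/-- the degree of a non-exceptional character is congruent to its value on `P ∖ 1` modulo
`|P|` -/
theorem BL3NF.degree_congr (nf : BL3NF M P δ θ β Xf Yf) (χ : Cfsg.IrrCharacter G)
    (hχ : χ ∈ Xf) :
    ((Nat.card ↥(P : Subgroup G) : ℤ)) ∣ (Cfsg.charDegree (χ : G → ℂ) : ℤ) + β χ := by
  classical
  obtain ⟨n, ρ, hirr, hρ⟩ := χ.2
  have hinv := classInner_restrict_one_eq_finrank ρ (P : Subgroup G)
  rw [classInner_def] at hinv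
  have hPne : (Nat.card ↥(P : Subgroup G) : ℂ) ≠ 0 := by exact_mod_cast Nat.card_pos.ne'
  have hsum : ∑ x : ↥(P : Subgroup G), (χ : G → ℂ) (x : G)
      = (Nat.card ↥(P : Subgroup G) : ℂ) *
        (Module.finrank ℂ (Representation.invariants (ρ.comp (P : Subgroup G).subtype)) : ℂ) := by
    rw [← hinv, ← mul_assoc, mul_inv_cancel₀ hPne, one_mul]
    apply Finset.sum_congr rfl
    intro x _
    rw [hρ]
    simp
  have hd : (χ : G → ℂ) 1 = (Cfsg.charDegree (χ : G → ℂ) : ℂ) :=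
    Cfsg.Agent.Lib.Helper25.char_one_eq_charDegree (IsIrrCharacter.isCharacter χ.2)
  rw [← Finset.add_sum_erase Finset.univ _ (Finset.mem_univ (1 : ↥(P : Subgroup G)))] at hsum
  have hrest : ∑ x ∈ Finset.univ.erase (1 : ↥(P : Subgroup G)), (χ : G → ℂ) (x : G)
      = ((Nat.card ↥(P : Subgroup G) : ℂ) - 1) * ((-β χ : ℤ) : ℂ) := by
    rw [Finset.sum_congr rfl (fun x hx => nf.Xval χ hχ x (Finset.ne_of_mem_erase hx)),
      Finset.sum_const, Finset.card_erase_of_mem (Finset.mem_univ _), Finset.card_univ,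
      nsmul_eq_mul, Nat.card_eq_fintype_card]
    have : (1 : ℕ) ≤ Fintype.card ↥(P : Subgroup G) := Fintype.card_pos
    push_cast [Nat.cast_sub this]
    ring
  rw [hrest, Subgroup.coe_one, hd] at hsum
  refine ⟨(Module.finrank ℂ (Representation.invariants (ρ.comp (P : Subgroup G).subtype)) : ℤ)
    + β χ, ?_⟩
  have h2 : (((Cfsg.charDegree (χ : G → ℂ) : ℤ) + β χ : ℤ) : ℂ)
      = (((Nat.card ↥(P : Subgroup G) : ℤ) *
        ((Module.finrank ℂ (Representation.invariants (ρ.comp (P : Subgroup G).subtype)) : ℤ)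
          + β χ) : ℤ) : ℂ) := by
    push_cast
    push_cast at hsum
    linear_combination hsum
  exact_mod_cast h2

end Congr

end Cfsg.Agent.Lib.Helper7
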