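import Mathlib
import Cfsg.Agent.Lib.Helper7.BrauerHomocyclic
import Cfsg.Agent.Lib.Helper7.NormalComplement
import Cfsg.Agent.Lib.Helper25.EvenDegree
import Cfsg.Agent.Lib.Helper25.Kernel
import Cfsg.Agent.Lib.Helper1.Cores

/-!
# Brauer's theorem on Sylow 2-subgroups of type `(2^m, 2^m)` (helper7 library)
-/

set_option autoImplicit false
open Cfsg

namespace Cfsg.Agent.Lib.Helper7

open scoped ComplexConjugate
open Cfsg.Agent.Lib.Helper11 Cfsg.Agent.Lib.Helper2 Cfsg.Agent.Lib.Helper24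

section Aux

variable {G : Type*} [Group G] [Finite G]

/-- a finite group all of whose elements of odd order are trivial is a `2`-group -/
theorem card_eq_two_pow_of_odd_trivial (h : ∀ x : G, (orderOf x).Coprime 2 → x = 1) :
    ∃ k : ℕ, Nat.card G = 2 ^ k := by
  refine ⟨_, Nat.eq_prime_pow_of_unique_prime_dvd Nat.card_pos.ne' ?_⟩
  intro r hr hdvd
  by_contra hne
  haveI : Fact r.Prime := ⟨hr⟩
  obtain ⟨x, hx⟩ := exists_prime_orderOf_dvd_card' r hdvd
  have hx1 : x = 1 := by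
    apply h
    rw [hx]
    exact (Nat.coprime_primes hr Nat.prime_two).mpr hne
  rw [hx1, orderOf_one] at hx
  exact hr.one_lt.ne hx

/-- the odd-order hypothesis passes to normal subgroups -/
theorem odd_core_trivial_of_normal
    (hO : ∀ N : Subgroup G, N.Normal → Odd (Nat.card N) → N = ⊥) (K : Subgroup G) [K.Normal]
    (L : Subgroup ↥K) (hL : L.Normal) (hLodd : Odd (Nat.card L)) : L = ⊥ := by
  haveI : Fact (Nat.Prime 2) := ⟨Nat.prime_two⟩
  have hcop : (Nat.card L).Coprime 2 := Nat.Coprime.symm (Nat.coprime_two_left.mpr hLodd)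
  have hle : L ≤ Cfsg.pPrimeCore 2 ↥K := Cfsg.Agent.Lib.Helper1.le_pPrimeCore hL hcop
  haveI hchar : (Cfsg.pPrimeCore 2 ↥K).Characteristic :=
    Cfsg.Agent.Lib.Helper1.pPrimeCore_characteristic 2
  have hnorm : ((Cfsg.pPrimeCore 2 ↥K).map K.subtype).Normal :=
    ConjAct.normal_of_characteristic_of_normal
  have hcard : Nat.card ((Cfsg.pPrimeCore 2 ↥K).map K.subtype) = Nat.card (Cfsg.pPrimeCore 2 ↥K) :=
    Subgroup.card_map_of_injective K.subtype_injective
  have hodd : Odd (Nat.card ((Cfsg.pPrimeCore 2 ↥K).map K.subtype)) := by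
    rw [hcard]
    exact Nat.coprime_two_left.mp (Cfsg.Agent.Lib.Helper1.pPrimeCore_coprime 2).symm
  have hbot := hO _ hnorm hodd
  have hbot' : Cfsg.pPrimeCore 2 ↥K = ⊥ :=
    (Subgroup.map_eq_bot_iff_of_injective _ K.subtype_injective).mp hbot
  rw [hbot'] at hle
  exact le_bot_iff.mp hle

end Aux

section Main

universe u

/-- **Brauer**: a Sylow 2-subgroup of type `(2^m, 2^m)`, `m ≥ 2`, of a group without nontrivial
normal subgroups of odd order is normal -/
theorem brauer_homocyclic_normal : ∀ (n : ℕ) (G : Type u) [Group G] [Finite G],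
    Nat.card G = n → ∀ (P : Sylow 2 G) (m : ℕ), 2 ≤ m →
    (↥(P : Subgroup G) ≃* Multiplicative (ZMod (2 ^ m) × ZMod (2 ^ m))) →
    (∀ N : Subgroup G, N.Normal → Odd (Nat.card N) → N = ⊥) → (P : Subgroup G).Normal := by
  intro n
  induction n using Nat.strong_induction_on with
  | _ n ih =>
  intro G _ _ hn P m hm e hO
  classical
  haveI : Fact (Nat.Prime 2) := ⟨Nat.prime_two⟩
  haveI : Fintype G := Fintype.ofFinite G
  haveI : Fintype ↥(P : Subgroup G) := Fintype.ofFinite _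
  obtain ⟨hR, ⟨t₀, ht₀P, ht₀1, ht₀2⟩, hcard⟩ := rank2_of_equiv (P : Subgroup G) m (by omega) e
  have hPC : (P : Subgroup G) ≤ Subgroup.centralizer ((P : Subgroup G) : Set G) := by
    intro x hx
    rw [Subgroup.mem_centralizer_iff]
    intro y hy
    exact hR.comm y hy x hx
  have hodd : Odd ((Subgroup.centralizer ((P : Subgroup G) : Set G)).relIndex
      (Subgroup.normalizer ((P : Subgroup G) : Set G))) := by
    have h1 : (Subgroup.centralizer ((P : Subgroup G) : Set G)).relIndex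
        (Subgroup.normalizer ((P : Subgroup G) : Set G)) ∣ (P : Subgroup G).index :=
      dvd_trans (Subgroup.relIndex_dvd_of_le_left _ hPC)
        (Subgroup.relIndex_dvd_index_of_le Subgroup.le_normalizer)
    have h2 : Odd (P : Subgroup G).index := by
      rw [← Nat.not_even_iff_odd, even_iff_two_dvd]
      exact P.not_dvd_index
    exact Odd.of_dvd_nat h2 h1
  have h16 : 16 ∣ Nat.card ↥(P : Subgroup G) := by
    rw [hcard]
    obtain ⟨j, rfl⟩ : ∃ j, m = j + 2 := ⟨m - 2, by omega⟩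
    exact ⟨2 ^ j * 2 ^ j, by ring⟩
  rcases hR.relIndex_eq hodd t₀ ht₀P ht₀1 ht₀2 with h1 | h3
  · -- `N = C`: normal 2-complement
    have hNC := Subgroup.relIndex_eq_one.mp h1
    obtain ⟨K, hKn, hK2, hKall⟩ := exists_normal_pPrime_of_normalizer_le_centralizer P hNC
    have hKodd : Odd (Nat.card K) := by
      rw [← Nat.not_even_iff_odd, even_iff_two_dvd]; exact hK2
    have hKbot := hO K hKn hKodd
    obtain ⟨k, hk⟩ := card_eq_two_pow_of_odd_trivial (G := G) (fun x hx => by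
      have := hKall x hx
      rw [hKbot, Subgroup.mem_bot] at this
      exact this)
    have hidx : (P : Subgroup G).index = 1 := by
      have h2 : (P : Subgroup G).index ∣ 2 ^ k := by
        rw [← hk]; exact Subgroup.index_dvd_card _
      obtain ⟨j, _, hj⟩ := (Nat.dvd_prime_pow Nat.prime_two).mp h2
      rcases Nat.eq_zero_or_pos j with h0 | h0
      · rw [hj, h0, pow_zero]
      · exfalso
        apply P.not_dvd_index
        rw [hj]
        exact dvd_pow_self 2 h0.ne'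
    rw [Subgroup.index_eq_one.mp hidx]
    infer_instance
  · -- `|N : C| = 3`
    obtain ⟨M, hM⟩ := Cfsg.Agent.Lib.Helper25.exists_isPModular 2 Nat.prime_two
    have h4 : 4 < Nat.card ↥(P : Subgroup G) := by
      have := Nat.le_of_dvd Nat.card_pos h16
      omega
    have h : BLHyp 2 M P := ⟨hM, hR.comm, by omega,
      fun y hy hy1 => hR.centralizer_inf_normalizer hodd y hy hy1⟩
    obtain ⟨δ, θ, β, Xf, Yf, nf⟩ := h.exists_nf3 h3 h4
    have hcard2 : (Xf.erase (trivIrr G)).card = 2 := by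
      rw [Finset.card_erase_of_mem nf.triv, nf.Xcard]
    obtain ⟨χ₂, χ₃, h23, hXe⟩ := Finset.card_eq_two.mp hcard2
    have hχ₂e : χ₂ ∈ Xf.erase (trivIrr G) := by rw [hXe]; simp
    have hχ₃e : χ₃ ∈ Xf.erase (trivIrr G) := by rw [hXe]; simp
    have h12 : trivIrr G ≠ χ₂ := (Finset.ne_of_mem_erase hχ₂e).symm
    have h13 : trivIrr G ≠ χ₃ := (Finset.ne_of_mem_erase hχ₃e).symm
    have hX : Xf = {trivIrr G, χ₂, χ₃} := by
      rw [← Finset.insert_erase nf.triv, hXe]
    have hχ₂X : χ₂ ∈ Xf := Finset.mem_of_mem_erase hχ₂e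
    have hχ₃X : χ₃ ∈ Xf := Finset.mem_of_mem_erase hχ₃e
    have hcardeq := h.card_eq
    rw [h3] at hcardeq
    obtain ⟨η₀, hη₀⟩ : ∃ η₀, η₀ ∈ Yf := by
      apply Finset.card_pos.mp
      rw [nf.Ycard]
      omega
    have ht₀ord : orderOf t₀ = 2 := orderOf_eq_prime (by rw [pow_two]; exact ht₀2) ht₀1
    obtain ⟨E1, E3⟩ := nf.equations_two h h3 (by omega) t₀ ht₀ord ht₀P χ₂ χ₃ hX h12 h13 h23
      η₀ hη₀
    have ha₂ : -β χ₂ = 1 ∨ -β χ₂ = -1 := by
      rcases nf.βpm χ₂ hχ₂X with hb | hb <;> rw [hb] <;> norm_num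
    have ha₃ : -β χ₃ = 1 ∨ -β χ₃ = -1 := by
      rcases nf.βpm χ₃ hχ₃X with hb | hb <;> rw [hb] <;> norm_num
    have hx₂ := Cfsg.Agent.Lib.Helper25.irr_degree_pos χ₂.2
    have hx₃ := Cfsg.Agent.Lib.Helper25.irr_degree_pos χ₃.2
    have h16' : (16 : ℤ) ∣ (Nat.card ↥(P : Subgroup G) : ℤ) := by exact_mod_cast h16
    have c₂ : (16 : ℤ) ∣ (Cfsg.charDegree (χ₂ : G → ℂ) : ℤ) - -β χ₂ := by
      rw [sub_neg_eq_add]
      exact dvd_trans h16' (nf.degree_congr χ₂ hχ₂X)
    have c₃ : (16 : ℤ) ∣ (Cfsg.charDegree (χ₃ : G → ℂ) : ℤ) - -β χ₃ := by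
      rw [sub_neg_eq_add]
      exact dvd_trans h16' (nf.degree_congr χ₃ hχ₃X)
    obtain ⟨⟨hd₂, hb₂⟩, _⟩ := brauer_hom_arith _ _ _ hx₂ hx₃ (-β χ₂) (-β χ₃) δ ha₂ ha₃
      nf.sol.hδ E1 E3 c₂ c₃
    -- the kernel of the linear character `χ₂`
    have hchar₂ : Cfsg.IsCharacter G (χ₂ : G → ℂ) := IsIrrCharacter.isCharacter χ₂.2
    obtain ⟨K, hKn, hKmem⟩ := Cfsg.Agent.Lib.Helper25.exists_kernel hchar₂
    have hone₂ : (χ₂ : G → ℂ) 1 = 1 := by
      rw [Cfsg.Agent.Lib.Helper25.char_one_eq_charDegree hchar₂, hd₂]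
      simp
    have hPK : (P : Subgroup G) ≤ K := by
      intro y hy
      rw [hKmem]
      by_cases hy1 : y = 1
      · rw [hy1]
      · rw [nf.Xval χ₂ hχ₂X ⟨y, hy⟩ (fun hc => hy1 (congrArg Subtype.val hc)), hb₂, hone₂]
        simp
    have hKtop : K ≠ ⊤ := by
      intro htop
      apply h12
      symm
      rw [← coe_eq_one_iff_eq_trivIrr]
      funext g
      have : g ∈ K := by rw [htop]; exact Subgroup.mem_top g
      rw [(hKmem g).mp this, hone₂]
    have hKlt : Nat.card ↥K < n := by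
      rw [← hn]
      have hidx : K.index ≠ 1 := fun hc => hKtop (Subgroup.index_eq_one.mp hc)
      have hmul := Subgroup.card_mul_index K
      have hpos : 0 < K.index := Nat.pos_of_ne_zero Subgroup.index_ne_zero_of_finite
      have hKpos : 0 < Nat.card ↥K := Nat.card_pos
      have h2 : 2 ≤ K.index := by omega
      nlinarith
    haveI := hKn
    have hO' : ∀ L : Subgroup ↥K, L.Normal → Odd (Nat.card L) → L = ⊥ :=
      fun L hL hLodd => odd_core_trivial_of_normal hO K L hL hLodd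
    let e' : ↥((P.subtype hPK : Sylow 2 ↥K) : Subgroup ↥K) ≃*
        Multiplicative (ZMod (2 ^ m) × ZMod (2 ^ m)) :=
      (Subgroup.subgroupOfEquivOfLe hPK).trans e
    have hnormK : ((P.subtype hPK : Sylow 2 ↥K) : Subgroup ↥K).Normal :=
      ih (Nat.card ↥K) hKlt ↥K rfl (P.subtype hPK) m hm e' hO'
    haveI hcharK : ((P.subtype hPK : Sylow 2 ↥K) : Subgroup ↥K).Characteristic :=
      Sylow.characteristic_of_normal _ hnormK
    have hfin : (((P.subtype hPK : Sylow 2 ↥K) : Subgroup ↥K).map K.subtype).Normal :=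
      ConjAct.normal_of_characteristic_of_normal
    have hmap : ((P.subtype hPK : Sylow 2 ↥K) : Subgroup ↥K).map K.subtype = (P : Subgroup G) := by
      rw [Sylow.coe_subtype]
      exact Subgroup.map_subgroupOf_eq_of_le hPK
    rw [hmap] at hfin
    exact hfin

end Main

end Cfsg.Agent.Lib.Helper7
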