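import Mathlib
import Cfsg.Prelude.Def_Characters
import Cfsg.Agent.Lib.Helper7.PiParts
import Cfsg.Agent.Lib.Helper7.BrauerChar
import Cfsg.Agent.Lib.Helper2.Elementary
import Cfsg.Agent.Lib.Helper2.Regular
import Cfsg.Agent.Lib.Helper2.Integrality
import Cfsg.Agent.Lib.Helper2.BurnsidePQ
import Cfsg.Agent.Lib.Helper11.GenChar
import Cfsg.Agent.Lib.Helper25.Kernel

/-!
# The Brauer–Suzuki normal complement theorem for Hall subgroups (helper7 library)

Isaacs, Theorem 8.22.
-/

set_option autoImplicit false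

namespace Cfsg.Agent.Lib.Helper7

open Cfsg.Agent.Lib.Helper2 Cfsg.Agent.Lib.Helper11
open scoped ComplexConjugate

universe u

/-- cyclic groups are elementary for every prime -/
theorem isElementary_zpowers {G : Type*} [Group G] [Finite G] {p : ℕ} (hp : p.Prime) (y : G) :
    Cfsg.IsElementary p (Subgroup.zpowers y) := by
  have ho : orderOf y ≠ 0 := (orderOf_pos y).ne'
  set a := (orderOf y).factorization p with ha
  have hdecomp : p ^ a * (orderOf y / p ^ a) = orderOf y := Nat.ordProj_mul_ordCompl_eq_self _ p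
  have hcop : Nat.Coprime p (orderOf y / p ^ a) := Nat.coprime_ordCompl hp ho
  have hpa : p ^ a ∣ orderOf y := Nat.ordProj_dvd _ p
  have hyz : y ^ (p ^ a) ∈ Subgroup.zpowers y := Subgroup.pow_mem _ (Subgroup.mem_zpowers y) _
  refine ⟨⟨y ^ (p ^ a), hyz⟩, ?_, ?_, a, ?_⟩
  · rw [Subgroup.mem_center_iff]
    intro g
    obtain ⟨i, hi⟩ := Subgroup.mem_zpowers_iff.mp g.2
    apply Subtype.ext
    show (g : G) * y ^ (p ^ a) = y ^ (p ^ a) * (g : G)
    rw [← hi, ← zpow_natCast]
    exact (Commute.zpow_zpow_self y _ _).eq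
  · rw [Subgroup.orderOf_mk, orderOf_pow_of_dvd (pow_ne_zero _ hp.ne_zero) hpa]
    exact hcop.symm
  · have h1 := Subgroup.index_mul_card
      (Subgroup.zpowers (⟨y ^ (p ^ a), hyz⟩ : Subgroup.zpowers y))
    rw [Nat.card_zpowers, Nat.card_zpowers, Subgroup.orderOf_mk,
      orderOf_pow_of_dvd (pow_ne_zero _ hp.ne_zero) hpa] at h1
    have h2 : 0 < orderOf y / p ^ a := Nat.div_pos (Nat.le_of_dvd (orderOf_pos y) hpa)
      (pow_pos hp.pos _)
    apply Nat.eq_of_mul_eq_mul_right h2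
    rw [h1, hdecomp]

section Setup

variable {G : Type u} [Group G] [Finite G] (H : Subgroup G)

/-- the hypotheses of the Brauer–Suzuki theorem -/
structure BSHyp : Prop where
  hall : Nat.Coprime H.index (Nat.card H)
  fus : ∀ x ∈ H, ∀ y ∈ H, IsConj x y → ∃ h ∈ H, h * x * h⁻¹ = y
  elem : ∀ (E : Subgroup G) (p : ℕ), p.Prime → Cfsg.IsElementary p E →
    Nat.card E ∣ Nat.card H → ∃ g : G, E.map (MulAut.conj g).toMonoidHom ≤ H

variable {H}

/-- the exponent giving the `π`-part -/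
noncomputable def BSHyp.exp (h : BSHyp H) : ℕ := piExp h.hall

theorem BSHyp.card_eq (_h : BSHyp H) : Nat.card G = H.index * Nat.card H := by
  rw [mul_comm]; exact (Subgroup.card_mul_index H).symm

theorem BSHyp.pow_exp_pow_card (h : BSHyp H) (x : G) : (x ^ h.exp) ^ Nat.card H = 1 := by
  rw [← pow_mul]
  apply orderOf_dvd_iff_pow_eq_one.mp
  apply (orderOf_dvd_natCard x).trans
  rw [h.card_eq]
  exact Nat.mul_dvd_mul_right (dvd_piExp h.hall) _

theorem BSHyp.pow_exp_of_mem (h : BSHyp H) {x : G} (hx : x ∈ H) : x ^ h.exp = x := by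
  have h1 : orderOf x ∣ Nat.card H := by
    have := orderOf_dvd_natCard (⟨x, hx⟩ : H)
    rwa [Subgroup.orderOf_mk] at this
  have h2 : x ^ h.exp = x ^ 1 := by
    rw [pow_eq_pow_iff_modEq]
    exact (piExp_modEq h.hall).of_dvd h1
  rw [h2, pow_one]

theorem BSHyp.exists_conj_mem (h : BSHyp H) (x : G) : ∃ g : G, g * x ^ h.exp * g⁻¹ ∈ H := by
  have h1 : Nat.card (Subgroup.zpowers (x ^ h.exp)) ∣ Nat.card H := by
    rw [Nat.card_zpowers]
    exact orderOf_dvd_of_pow_eq_one (h.pow_exp_pow_card x)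
  obtain ⟨g, hg⟩ := h.elem (Subgroup.zpowers (x ^ h.exp)) 2 Nat.prime_two
    (isElementary_zpowers Nat.prime_two _) h1
  refine ⟨g, hg ?_⟩
  exact ⟨x ^ h.exp, Subgroup.mem_zpowers _, rfl⟩

/-- the retraction of `G` to `H` -/
noncomputable def BSHyp.retr (h : BSHyp H) (x : G) : H :=
  ⟨Classical.choose (h.exists_conj_mem x) * x ^ h.exp * (Classical.choose (h.exists_conj_mem x))⁻¹,
    Classical.choose_spec (h.exists_conj_mem x)⟩

theorem BSHyp.retr_spec (h : BSHyp H) (x : G) :
    ∃ g : G, (h.retr x : G) = g * x ^ h.exp * g⁻¹ :=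
  ⟨Classical.choose (h.exists_conj_mem x), rfl⟩

/-- the key well-definedness statement -/
theorem BSHyp.apply_retr (h : BSHyp H) {φ : H → ℂ} (hφ : Cfsg.IsClassFunction H φ) (x : G)
    (y : H) (g : G) (hy : (y : G) = g * x ^ h.exp * g⁻¹) : φ (h.retr x) = φ y := by
  obtain ⟨g', hg'⟩ := h.retr_spec x
  have hconj : IsConj ((y : G)) ((h.retr x : G)) := by
    rw [isConj_iff]
    refine ⟨g' * g⁻¹, ?_⟩
    rw [hy, hg']
    group
  obtain ⟨k, hk, hk'⟩ := h.fus y y.2 (h.retr x) (h.retr x).2 hconj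
  have e : h.retr x = ⟨k, hk⟩ * y * ⟨k, hk⟩⁻¹ := by
    apply Subtype.ext
    rw [← hk']
    rfl
  rw [e]
  exact hφ y ⟨k, hk⟩

theorem BSHyp.comp_retr_isClassFunction (h : BSHyp H) {φ : H → ℂ}
    (hφ : Cfsg.IsClassFunction H φ) : Cfsg.IsClassFunction G (fun x => φ (h.retr x)) := by
  intro x c
  show φ (h.retr (c * x * c⁻¹)) = φ (h.retr x)
  obtain ⟨g, hg⟩ := h.retr_spec (c * x * c⁻¹)
  symm
  apply h.apply_retr hφ x (h.retr (c * x * c⁻¹)) (g * c)
  rw [hg, conj_pow]
  group

theorem BSHyp.comp_retr_coe (h : BSHyp H) {φ : H → ℂ} (hφ : Cfsg.IsClassFunction H φ) (y : H) :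
    φ (h.retr (y : G)) = φ y := by
  apply h.apply_retr hφ (y : G) y 1
  rw [h.pow_exp_of_mem y.2]
  group

theorem BSHyp.retr_one (h : BSHyp H) : h.retr (1 : G) = 1 := by
  obtain ⟨g, hg⟩ := h.retr_spec 1
  apply Subtype.ext
  rw [hg, one_pow]
  simp

/-- **Step D**: the extension of a character of `H` is a generalized character of `G`. -/
theorem BSHyp.comp_retr_isGeneralizedCharacter [Fintype G] (h : BSHyp H) {ψ : H → ℂ}
    (hψ : Cfsg.IsCharacter H ψ) :
    Cfsg.IsGeneralizedCharacter G (fun x => ψ (h.retr x)) := by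
  classical
  have hcf := IsCharacter.isClassFunction hψ
  apply isGeneralizedCharacter_of_elementary (h.comp_retr_isClassFunction hcf)
  intro q hq E hE
  apply gc_of_char
  have hEcard : Nat.card E ∣ H.index * Nat.card H :=
    h.card_eq ▸ Subgroup.card_subgroup_dvd_card E
  obtain ⟨A, B, hAn, hBn, hA, hB, hc, hdisj, hcardAB, hcA, hcB⟩ :=
    exists_hall_decomp_of_isElementary hq hE h.hall hEcard
  set B' : Subgroup G := B.map E.subtype with hB'
  have hB'el : Cfsg.IsElementary q B' :=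
    Elementary.of_mulEquiv (B.equivMapOfInjective E.subtype E.subtype_injective)
      (Elementary.subgroup hq hE B)
  have hB'card : Nat.card B' ∣ Nat.card H := by
    rw [Nat.card_congr (B.equivMapOfInjective E.subtype E.subtype_injective).symm.toEquiv]
    have h1 : Nat.card B ∣ H.index * Nat.card H :=
      (Subgroup.card_subgroup_dvd_card B).trans hEcard
    exact Nat.Coprime.dvd_of_dvd_mul_left hcB h1
  obtain ⟨g, hg⟩ := h.elem B' q hq hB'el hB'card
  let cg : B →* H := ((MulAut.conj g).toMonoidHom.comp (E.subtype.comp B.subtype)).codRestrict H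
    (fun b => hg ⟨_, ⟨b, b.2, rfl⟩, rfl⟩)
  have hcg : ∀ b : B, ((cg b : H) : G) = g * ((b : E) : G) * g⁻¹ := fun b => rfl
  set eq := prodEquivOfCommute A B hc hdisj hcardAB with heq
  set proj : E →* B := (MonoidHom.snd A B).comp eq.symm.toMonoidHom with hproj
  have hfun : (fun e : E => ψ (h.retr (e : G))) = fun e : E => ψ ((cg.comp proj) e) := by
    funext e
    obtain ⟨⟨a, b⟩, rfl⟩ := eq.surjective e
    have h1 : proj (eq (a, b)) = b := by
      rw [hproj]
      simp only [MonoidHom.coe_comp, Function.comp_apply, MulEquiv.coe_toMonoidHom,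
        MulEquiv.symm_apply_apply, MonoidHom.coe_snd]
    rw [MonoidHom.comp_apply, h1]
    have h2 : eq (a, b) = (a : E) * (b : E) := by
      rw [heq, prodEquivOfCommute_apply]
    have ha : orderOf (a : E) ∣ H.index :=
      Nat.Coprime.dvd_of_dvd_mul_right ((hA a).mp a.2) ((orderOf_dvd_natCard _).trans hEcard)
    have hb : orderOf (b : E) ∣ Nat.card H :=
      Nat.Coprime.dvd_of_dvd_mul_left ((hB b).mp b.2) ((orderOf_dvd_natCard _).trans hEcard)
    have h3 : (eq (a, b)) ^ h.exp = (b : E) :=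
      pow_piExp_eq h.hall h2 (hc a a.2 b b.2) ha hb
    have h4 : ((eq (a, b) : E) : G) ^ h.exp = ((b : E) : G) := by
      rw [← h3]; rfl
    apply h.apply_retr hcf _ (cg b) g
    rw [hcg, h4]
  rw [hfun]
  exact IsCharacter.comp hψ (cg.comp proj)

end Setup

section Count

variable {G : Type u} [Group G] [Fintype G] {H : Subgroup G} [Fintype H] [DecidableEq H]

/-- the weight function on `H` -/
noncomputable def BSHyp.wt (h : BSHyp H) (y : H) : ℂ :=
  (Nat.card G : ℂ)⁻¹ * ∑ x : G, ∑ k : H, if h.retr x = k * y * k⁻¹ then (1 : ℂ) else 0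

/-- **E1** -/
theorem BSHyp.sum_comp_retr (h : BSHyp H) {φ : H → ℂ} (hφ : Cfsg.IsClassFunction H φ) :
    (Nat.card G : ℂ)⁻¹ * ∑ x : G, φ (h.retr x)
      = (Nat.card H : ℂ)⁻¹ * ∑ y : H, φ y * h.wt y := by
  have key : ∀ (x : G) (k : H),
      ∑ y : H, φ y * (if h.retr x = k * y * k⁻¹ then (1 : ℂ) else 0) = φ (h.retr x) := by
    intro x k
    rw [Finset.sum_eq_single (k⁻¹ * h.retr x * k)]
    · have e : h.retr x = k * (k⁻¹ * h.retr x * k) * k⁻¹ := by group
      rw [if_pos e, mul_one]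
      have := hφ (h.retr x) k⁻¹
      rwa [inv_inv] at this
    · intro y _ hy
      rw [if_neg, mul_zero]
      intro e
      apply hy
      rw [e]; group
    · intro hn; exact absurd (Finset.mem_univ _) hn
  have e1 : ∑ y : H, φ y * h.wt y
      = (Nat.card G : ℂ)⁻¹ * ∑ x : G, ∑ k : H,
          ∑ y : H, φ y * (if h.retr x = k * y * k⁻¹ then (1 : ℂ) else 0) := by
    unfold BSHyp.wt
    have : ∀ y : H, φ y * ((Nat.card G : ℂ)⁻¹ *
        ∑ x : G, ∑ k : H, if h.retr x = k * y * k⁻¹ then (1 : ℂ) else 0)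
        = (Nat.card G : ℂ)⁻¹ *
          ∑ x : G, ∑ k : H, φ y * (if h.retr x = k * y * k⁻¹ then (1 : ℂ) else 0) := by
      intro y
      rw [mul_left_comm, Finset.mul_sum]
      congr 1
      apply Finset.sum_congr rfl
      intro x _
      rw [Finset.mul_sum]
    rw [Finset.sum_congr rfl (fun y _ => this y), ← Finset.mul_sum]
    congr 1
    rw [Finset.sum_comm]
    apply Finset.sum_congr rfl
    intro x _
    rw [Finset.sum_comm]
  rw [e1]
  simp only [key]
  have e2 : ∀ x : G, ∑ _k : H, φ (h.retr x) = (Nat.card H : ℂ) * φ (h.retr x) := by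
    intro x
    rw [Finset.sum_const, Finset.card_univ, nsmul_eq_mul, ← Nat.card_eq_fintype_card]
  rw [Finset.sum_congr rfl (fun x _ => e2 x), ← Finset.mul_sum]
  have hne : (Nat.card H : ℂ) ≠ 0 := by exact_mod_cast Nat.card_pos.ne'
  field_simp

/-- **E2** -/
theorem BSHyp.wt_isClassFunction (h : BSHyp H) : Cfsg.IsClassFunction H h.wt := by
  intro y c
  unfold BSHyp.wt
  congr 1
  apply Finset.sum_congr rfl
  intro x _
  apply Fintype.sum_equiv (Equiv.mulRight c)
  intro k
  have e : k * (c * y * c⁻¹) * k⁻¹ = (Equiv.mulRight c k) * y * (Equiv.mulRight c k)⁻¹ := by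
    simp only [Equiv.coe_mulRight]
    group
  rw [e]

/-- **E3** -/
theorem BSHyp.sum_wt (h : BSHyp H) : ∑ y : H, h.wt y = (Nat.card H : ℂ) := by
  have h1 := h.sum_comp_retr (φ := fun _ => (1 : ℂ)) (fun _ _ => rfl)
  simp only [one_mul, Finset.sum_const, Finset.card_univ, nsmul_eq_mul, mul_one] at h1
  rw [← Nat.card_eq_fintype_card] at h1
  have hne : (Nat.card H : ℂ) ≠ 0 := by exact_mod_cast Nat.card_pos.ne'
  have hneG : (Nat.card G : ℂ) ≠ 0 := by exact_mod_cast Nat.card_pos.ne'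
  rw [inv_mul_cancel₀ hneG] at h1
  field_simp at h1
  exact h1.symm

/-- **E4** -/
theorem BSHyp.wt_eq_nat (h : BSHyp H) (y : H) :
    ∃ N : ℕ, 1 ≤ N ∧ h.wt y = (N : ℂ) / (Nat.card G : ℂ) := by
  refine ⟨∑ x : G, ∑ k : H, if h.retr x = k * y * k⁻¹ then 1 else 0, ?_, ?_⟩
  · obtain ⟨g, hg⟩ := h.retr_spec (y : G)
    rw [h.pow_exp_of_mem y.2] at hg
    have hconj : IsConj ((y : G)) ((h.retr (y : G) : G)) := by
      rw [isConj_iff]; exact ⟨g, hg.symm⟩
    obtain ⟨k, hk, hk'⟩ := h.fus y y.2 (h.retr y) (h.retr y).2 hconj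
    have e : h.retr (y : G) = ⟨k, hk⟩ * y * ⟨k, hk⟩⁻¹ := by
      apply Subtype.ext
      rw [← hk']
      rfl
    calc 1 = if h.retr (y : G) = (⟨k, hk⟩ : H) * y * (⟨k, hk⟩ : H)⁻¹ then 1 else 0 := by
          rw [if_pos e]
      _ ≤ ∑ k' : H, if h.retr (y : G) = k' * y * k'⁻¹ then 1 else 0 :=
          Finset.single_le_sum (f := fun k' : H => if h.retr (y : G) = k' * y * k'⁻¹ then 1 else 0)
            (fun _ _ => Nat.zero_le _) (Finset.mem_univ _)
      _ ≤ _ := Finset.single_le_sum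
            (f := fun x : G => ∑ k' : H, if h.retr x = k' * y * k'⁻¹ then 1 else 0)
            (fun _ _ => Nat.zero_le _) (Finset.mem_univ (y : G))
  · unfold BSHyp.wt
    push_cast
    rw [div_eq_inv_mul]

/-- **E5** -/
theorem BSHyp.classInner_wt_int (h : BSHyp H) (ψ : Cfsg.IrrCharacter H) :
    ∃ z : ℤ, Cfsg.classInner h.wt (ψ : H → ℂ) = (z : ℂ) := by
  have hψc : Cfsg.IsCharacter H (ψ : H → ℂ) := IsIrrCharacter.isCharacter ψ.2
  have hcf : Cfsg.IsClassFunction H (fun y => conj ((ψ : H → ℂ) y)) := by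
    intro y c
    show conj ((ψ : H → ℂ) (c * y * c⁻¹)) = conj ((ψ : H → ℂ) y)
    rw [IsCharacter.isClassFunction hψc y c]
  have h1 := h.sum_comp_retr hcf
  obtain ⟨z, hz⟩ := IsGeneralizedCharacter.inner_irr_int
    (h.comp_retr_isGeneralizedCharacter hψc) (trivialIrr G)
  refine ⟨z, ?_⟩
  have e1 : Cfsg.classInner h.wt (ψ : H → ℂ)
      = (Nat.card H : ℂ)⁻¹ * ∑ y : H, conj ((ψ : H → ℂ) y) * h.wt y := by
    unfold Cfsg.classInner
    congr 1
    apply Finset.sum_congr rfl
    intro y _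
    rw [mul_comm]
  rw [e1, ← h1]
  have e2 : (Nat.card G : ℂ)⁻¹ * ∑ x : G, conj ((ψ : H → ℂ) (h.retr x))
      = conj (Cfsg.classInner (fun x => (ψ : H → ℂ) (h.retr x)) (trivialIrr G : G → ℂ)) := by
    unfold Cfsg.classInner
    rw [map_mul, map_inv₀, map_natCast, map_sum]
    congr 1
    apply Finset.sum_congr rfl
    intro x _
    simp [trivialIrr]
  rw [e2, hz]
  simp

theorem irr_apply_isIntegral {K : Type*} [Group K] [Finite K] (θ : Cfsg.IrrCharacter K) (k : K) :
    IsIntegral ℤ ((θ : K → ℂ) k) := by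
  obtain ⟨n, ρ, _, h⟩ := θ.2
  rw [← h]
  exact char_isIntegral ρ k

/-- **E6–E8**: the weight function is identically `1`. -/
theorem BSHyp.wt_eq_one (h : BSHyp H) (y : H) : h.wt y = 1 := by
  classical
  letI : Fintype (Cfsg.IrrCharacter H) := Fintype.ofFinite _
  have hint : ∀ y : H, ∃ z : ℤ, 1 ≤ z ∧ h.wt y = (z : ℂ) := by
    intro y
    have h1 : IsIntegral ℤ (h.wt y) := by
      have := congr_fun (classFunction_expansion h.wt h.wt_isClassFunction) y
      rw [this, Finset.sum_apply]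
      apply IsIntegral.sum
      intro ψ _
      rw [Pi.smul_apply, smul_eq_mul]
      obtain ⟨z, hz⟩ := h.classInner_wt_int ψ
      rw [hz]
      exact IsIntegral.mul isIntegral_algebraMap (irr_apply_isIntegral ψ y)
    obtain ⟨N, hN1, hN⟩ := h.wt_eq_nat y
    obtain ⟨z, hz⟩ := exists_int_of_isIntegral_of_rat ((N : ℚ) / (Nat.card G : ℚ))
      (by rw [hN]; push_cast; rfl) h1
    refine ⟨z, ?_, hz⟩
    have hpos : (0 : ℝ) < (N : ℝ) / (Nat.card G : ℝ) := by
      apply div_pos
      · exact_mod_cast hN1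
      · exact_mod_cast Nat.card_pos
    have e : ((z : ℝ) : ℂ) = (((N : ℝ) / (Nat.card G : ℝ) : ℝ) : ℂ) := by
      push_cast
      rw [← hN, hz]
    have e' : (z : ℝ) = (N : ℝ) / (Nat.card G : ℝ) := Complex.ofReal_injective e
    have : (0 : ℝ) < (z : ℝ) := by rw [e']; exact hpos
    have : 0 < z := by exact_mod_cast this
    omega
  choose z hz1 hz using hint
  have hsum : ∑ y : H, (z y - 1) = 0 := by
    have h1 := h.sum_wt
    rw [Finset.sum_congr rfl (fun y _ => hz y)] at h1
    have h2 : ((∑ y : H, z y : ℤ) : ℂ) = ((Nat.card H : ℤ) : ℂ) := by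
      push_cast; exact h1
    have h3 : ∑ y : H, z y = (Nat.card H : ℤ) := by exact_mod_cast h2
    rw [Finset.sum_sub_distrib, h3, Finset.sum_const, Finset.card_univ, Nat.card_eq_fintype_card]
    simp
  have h0 := (Finset.sum_eq_zero_iff_of_nonneg (fun y _ => by have := hz1 y; omega)).mp hsum y
    (Finset.mem_univ _)
  rw [hz y]
  have : z y = 1 := by omega
  rw [this]
  simp

/-- the averaging formula -/
theorem BSHyp.sum_comp_retr' (h : BSHyp H) {φ : H → ℂ} (hφ : Cfsg.IsClassFunction H φ) :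
    (Nat.card G : ℂ)⁻¹ * ∑ x : G, φ (h.retr x) = (Nat.card H : ℂ)⁻¹ * ∑ y : H, φ y := by
  rw [h.sum_comp_retr hφ]
  congr 1
  apply Finset.sum_congr rfl
  intro y _
  rw [h.wt_eq_one, mul_one]

/-- **Step F**: the extension of an irreducible character of `H` is an irreducible character
of `G`. -/
theorem BSHyp.comp_retr_isIrrCharacter (h : BSHyp H) (ψ : Cfsg.IrrCharacter H) :
    Cfsg.IsIrrCharacter G (fun x => (ψ : H → ℂ) (h.retr x)) := by
  have hψc : Cfsg.IsCharacter H (ψ : H → ℂ) := IsIrrCharacter.isCharacter ψ.2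
  have hgc := h.comp_retr_isGeneralizedCharacter hψc
  have hnorm : Cfsg.classInner (fun x => (ψ : H → ℂ) (h.retr x))
      (fun x => (ψ : H → ℂ) (h.retr x)) = 1 := by
    have hcf : Cfsg.IsClassFunction H (fun y => (ψ : H → ℂ) y * conj ((ψ : H → ℂ) y)) := by
      intro y c
      show (ψ : H → ℂ) (c * y * c⁻¹) * conj ((ψ : H → ℂ) (c * y * c⁻¹))
        = (ψ : H → ℂ) y * conj ((ψ : H → ℂ) y)
      rw [IsCharacter.isClassFunction hψc y c]
    have h1 := h.sum_comp_retr' hcf
    have h2 := classInner_irrCharacter_self ψ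
    unfold Cfsg.classInner at h2 ⊢
    rw [← h2]
    exact h1
  rcases IsGeneralizedCharacter.isSignedIrr_of_norm_one hgc hnorm with h1 | h1
  · exact h1
  · exfalso
    have h2 := Cfsg.Agent.Lib.Helper25.irr_degree_pos h1
    have h3 := Cfsg.Agent.Lib.Helper25.char_one_eq_charDegree
      (Cfsg.Agent.Lib.Helper25.isCharacter_of_irr h1)
    have h4 := Cfsg.Agent.Lib.Helper25.char_one_eq_charDegree hψc
    rw [Pi.neg_apply, h.retr_one, h4] at h3
    have h5 : ((Cfsg.charDegree (ψ : H → ℂ) + Cfsg.charDegree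
        (-fun x => (ψ : H → ℂ) (h.retr x)) : ℕ) : ℂ) = 0 := by
      push_cast
      rw [← h3]; ring
    have h6 : Cfsg.charDegree (ψ : H → ℂ) + Cfsg.charDegree
        (-fun x => (ψ : H → ℂ) (h.retr x)) = 0 := by exact_mod_cast h5
    omega

/-- **The Brauer–Suzuki theorem** on Hall subgroups (Isaacs 8.22). -/
theorem BSHyp.exists_normal_complement (h : BSHyp H) :
    ∃ K : Subgroup G, K.Normal ∧ K ⊔ H = ⊤ ∧ K ⊓ H = ⊥ := by
  classical
  letI : Fintype (Cfsg.IrrCharacter H) := Fintype.ofFinite _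
  set χ : G → ℂ := ∑ ψ : Cfsg.IrrCharacter H,
    Cfsg.charDegree (ψ : H → ℂ) • (fun x => (ψ : H → ℂ) (h.retr x)) with hχdef
  have hχ : Cfsg.IsCharacter G χ := by
    apply isCharacter_sum
    intro ψ _
    exact isCharacter_nsmul _ (IsIrrCharacter.isCharacter (h.comp_retr_isIrrCharacter ψ))
  have hχval : ∀ x : G, χ x = if h.retr x = 1 then (Nat.card H : ℂ) else 0 := by
    intro x
    rw [← sum_irr_degree_mul (h.retr x), hχdef, Finset.sum_apply]
    apply Finset.sum_congr rfl
    intro ψ _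
    rw [Pi.smul_apply, nsmul_eq_mul,
      Cfsg.Agent.Lib.Helper25.char_one_eq_charDegree (IsIrrCharacter.isCharacter ψ.2)]
  obtain ⟨K, hKn, hK⟩ := Cfsg.Agent.Lib.Helper25.exists_kernel hχ
  have hneH : (Nat.card H : ℂ) ≠ 0 := by exact_mod_cast Nat.card_pos.ne'
  have hK' : ∀ x : G, x ∈ K ↔ x ^ h.exp = 1 := by
    intro x
    rw [hK, hχval, hχval, h.retr_one, if_pos rfl]
    obtain ⟨g, hg⟩ := h.retr_spec x
    constructor
    · intro h1
      have h2 : h.retr x = 1 := by
        by_contra hne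
        rw [if_neg hne] at h1
        exact hneH h1.symm
      have h3 : g * x ^ h.exp * g⁻¹ = 1 := by
        rw [← hg, h2]; rfl
      have h4 : x ^ h.exp = g⁻¹ * (g * x ^ h.exp * g⁻¹) * g := by group
      rw [h4, h3]; group
    · intro h1
      have h2 : h.retr x = 1 := by
        apply Subtype.ext
        rw [hg, h1]
        simp
      rw [if_pos h2]
  -- elements of `K` have order dividing the index
  have hordK : ∀ x ∈ K, orderOf x ∣ H.index := by
    intro x hx
    obtain ⟨u, v, huv, hc, hu, hv, -, -⟩ := exists_pi_decomp h.hall x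
      (h.card_eq ▸ orderOf_dvd_natCard x)
    have h1 : x ^ h.exp = v := pow_piExp_eq h.hall huv hc hu hv
    rw [(hK' x).mp hx] at h1
    rw [huv, ← h1, mul_one]
    exact hu
  have hcopK : Nat.Coprime (Nat.card K) (Nat.card H) := by
    apply coprime_card_of_forall_orderOf
    intro x
    rw [← Subgroup.orderOf_coe]
    exact Nat.Coprime.coprime_dvd_left (hordK x x.2) h.hall
  have hcopQ : Nat.Coprime K.index H.index := by
    rw [Subgroup.index_eq_card]
    apply coprime_card_of_forall_orderOf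
    intro q
    obtain ⟨x, rfl⟩ := QuotientGroup.mk_surjective q
    have h1 : ((x : G ⧸ K)) ^ Nat.card H = 1 := by
      rw [← QuotientGroup.mk_pow, QuotientGroup.eq_one_iff, hK', ← pow_mul, mul_comm, pow_mul]
      exact h.pow_exp_pow_card x
    exact Nat.Coprime.coprime_dvd_left (orderOf_dvd_of_pow_eq_one h1) h.hall.symm
  have hKidx : K.index ∣ Nat.card H := by
    have h1 : K.index ∣ H.index * Nat.card H := h.card_eq ▸ Subgroup.index_dvd_card K
    exact Nat.Coprime.dvd_of_dvd_mul_left hcopQ h1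
  have hKcard : Nat.card K ∣ H.index := by
    have h1 : Nat.card K ∣ H.index * Nat.card H := h.card_eq ▸ Subgroup.card_subgroup_dvd_card K
    exact Nat.Coprime.dvd_of_dvd_mul_right hcopK h1
  have hprod : Nat.card K * K.index = H.index * Nat.card H := by
    rw [Subgroup.card_mul_index, h.card_eq]
  have hKeq : Nat.card K = H.index := by
    apply Nat.le_antisymm (Nat.le_of_dvd (Nat.pos_of_ne_zero Subgroup.index_ne_zero_of_finite) hKcard)
    by_contra hlt
    push Not at hlt
    have h1 : K.index ≤ Nat.card H := Nat.le_of_dvd Nat.card_pos hKidx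
    have h2 : 0 < K.index := Nat.pos_of_ne_zero Subgroup.index_ne_zero_of_finite
    have h3 : Nat.card K * K.index < H.index * K.index := Nat.mul_lt_mul_of_pos_right hlt h2
    have h4 : H.index * K.index ≤ H.index * Nat.card H := Nat.mul_le_mul_left _ h1
    omega
  have hcompl : Subgroup.IsComplement' K H := by
    apply Subgroup.isComplement'_of_coprime _ hcopK
    rw [hKeq, h.card_eq]
  exact ⟨K, hKn, hcompl.sup_eq_top, disjoint_iff.mp hcompl.disjoint⟩

end Count

end Cfsg.Agent.Lib.Helper7
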