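import Mathlib
import Cfsg.Agent.Lib.Helper7.CA1

/-!
# CT-groups: the set of involution centralizers as a `G`-set (helper7)
-/

set_option autoImplicit false

namespace Cfsg.Agent.Lib.Helper7.CA

variable {G : Type*} [Group G]

/-- Points: centralizers of involutions. -/
def Pt (G : Type*) [Group G] : Type _ :=
  {X : Subgroup G // ∃ v : G, orderOf v = 2 ∧ X = Cen v}

instance [Finite G] : Finite (Pt G) := by
  unfold Pt
  infer_instance

namespace Pt

theorem ext {X Y : Pt G} (h : X.1 = Y.1) : X = Y := Subtype.ext h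

/-- The point of an involution. -/
def of (v : G) (hv : orderOf v = 2) : Pt G := ⟨Cen v, v, hv, rfl⟩

theorem of_val (v : G) (hv : orderOf v = 2) : (of v hv).1 = Cen v := rfl

theorem map_conj_Cen (g v : G) :
    (Cen v).map (MulAut.conj g).toMonoidHom = Cen (g * v * g⁻¹) := by
  ext y
  rw [Subgroup.mem_map_equiv, Cen_conj]
  simp [MulAut.conj_symm_apply]

instance : SMul G (Pt G) := ⟨fun g X => ⟨X.1.map (MulAut.conj g).toMonoidHom, by
  obtain ⟨v, hv, hX⟩ := X.2
  exact ⟨g * v * g⁻¹, by rw [orderOf_conj_eq]; exact hv, by rw [hX, map_conj_Cen]⟩⟩⟩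

theorem mem_smul (g : G) (X : Pt G) (y : G) : y ∈ (g • X).1 ↔ g⁻¹ * y * g ∈ X.1 := by
  show y ∈ X.1.map (MulAut.conj g).toMonoidHom ↔ _
  rw [Subgroup.mem_map_equiv]
  simp [MulAut.conj_symm_apply]

instance : MulAction G (Pt G) where
  one_smul X := by
    apply ext; ext y; rw [mem_smul]; simp
  mul_smul g k X := by
    apply ext; ext y; rw [mem_smul, mem_smul, mem_smul]; simp [mul_assoc]

theorem conj_mem_smul (g : G) (X : Pt G) {y : G} (hy : y ∈ X.1) : g * y * g⁻¹ ∈ (g • X).1 := by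
  rw [mem_smul]
  have : g⁻¹ * (g * y * g⁻¹) * g = y := by group
  rw [this]; exact hy

theorem conj_mem_of_smul_eq {g : G} {X : Pt G} (hg : g • X = X) {y : G} (hy : y ∈ X.1) :
    g * y * g⁻¹ ∈ X.1 := by
  have := conj_mem_smul g X hy
  rwa [hg] at this

theorem smul_of (g v : G) (hv : orderOf v = 2) :
    g • of v hv = of (g * v * g⁻¹) (by rw [orderOf_conj_eq]; exact hv) := by
  apply ext
  show (Cen v).map (MulAut.conj g).toMonoidHom = Cen (g * v * g⁻¹)
  exact map_conj_Cen g v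

section CTfacts

variable (h : CT G)
include h

theorem comm (X : Pt G) {a b : G} (ha : a ∈ X.1) (hb : b ∈ X.1) : Commute a b := by
  obtain ⟨v, hv, hX⟩ := X.2
  rw [hX] at ha hb
  exact Cen_comm h (inv_ne_one hv) ha hb

theorem Cen_eq_of_mem (X : Pt G) {y : G} (hy : y ∈ X.1) (hy1 : y ≠ 1) : Cen y = X.1 := by
  obtain ⟨v, hv, hX⟩ := X.2
  rw [hX] at hy ⊢
  exact Cen_eq h hy1 (inv_ne_one hv) (mem_Cen.mp hy)

theorem eq_of_mem {X Y : Pt G} {y : G} (hy1 : y ≠ 1) (hX : y ∈ X.1) (hY : y ∈ Y.1) : X = Y := by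
  apply ext
  rw [← Cen_eq_of_mem h X hX hy1, ← Cen_eq_of_mem h Y hY hy1]

theorem of_eq_iff (v : G) (hv : orderOf v = 2) (X : Pt G) : of v hv = X ↔ v ∈ X.1 := by
  constructor
  · intro hh
    rw [← hh]
    exact self_mem_Cen v
  · intro hvX
    exact eq_of_mem h (inv_ne_one hv) (self_mem_Cen v) hvX

theorem inf_eq_bot {X Y : Pt G} (hXY : X ≠ Y) : X.1 ⊓ Y.1 = ⊥ := by
  rw [eq_bot_iff]
  intro y hy
  rw [Subgroup.mem_bot]
  by_contra hy1
  exact hXY (eq_of_mem h hy1 hy.1 hy.2)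

/-- elements of `X` stabilize `X`. -/
theorem smul_eq_self_of_mem {X : Pt G} {y : G} (hy : y ∈ X.1) : y • X = X := by
  apply ext
  ext z
  rw [mem_smul]
  constructor
  · intro hz
    have h1 : y * (y⁻¹ * z * y) * y⁻¹ = z := by group
    have h2 : Commute y (y⁻¹ * z * y) := comm h X hy hz
    rw [← h1, h2.eq]
    have : y⁻¹ * z * y * y * y⁻¹ = y⁻¹ * z * y := by group
    rw [this]; exact hz
  · intro hz
    have h2 : Commute y z := comm h X hy hz
    have : y⁻¹ * z * y = z := by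
      rw [mul_assoc, ← h2.eq]; group
    rw [this]; exact hz

/-- An involution stabilizing `X` lies in `X`. -/
theorem mem_of_smul_eq_self {u : G} (hu : orderOf u = 2) {X : Pt G} (hX : u • X = X) :
    u ∈ X.1 := by
  obtain ⟨v, hv, hXv⟩ := X.2
  have hv1 := inv_ne_one hv
  have hvX : v ∈ X.1 := by rw [hXv]; exact self_mem_Cen v
  have hcX : u * v * u⁻¹ ∈ X.1 := conj_mem_of_smul_eq hX hvX
  have hui := inv_inv' hu
  have huu := inv_sq hu
  by_cases heq : u * v * u⁻¹ = v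
  · rw [hXv, mem_Cen]
    show u * v = v * u
    calc u * v = u * v * u⁻¹ * u := by group
      _ = v * u := by rw [heq]
  · -- s = v * (u v u⁻¹) is nontrivial in X and fixed by u
    have hcomm : Commute v (u * v * u⁻¹) := comm h X hvX hcX
    have hs1 : v * (u * v * u⁻¹) ≠ 1 := by
      intro h1
      apply heq
      have hvi := inv_inv' hv
      have : u * v * u⁻¹ = v⁻¹ := eq_inv_of_mul_eq_one_right h1
      rw [this, hvi]
    have hsX : v * (u * v * u⁻¹) ∈ X.1 := X.1.mul_mem hvX hcX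
    have hfix : u * (v * (u * v * u⁻¹)) * u⁻¹ = v * (u * v * u⁻¹) := by
      have : u * (v * (u * v * u⁻¹)) * u⁻¹ = (u * v * u⁻¹) * (u * u * v * (u * u)⁻¹) := by group
      rw [this, huu, hcomm.eq]
      group
    rw [← Cen_eq_of_mem h X hsX hs1, mem_Cen]
    show u * (v * (u * v * u⁻¹)) = v * (u * v * u⁻¹) * u
    calc u * (v * (u * v * u⁻¹)) = u * (v * (u * v * u⁻¹)) * u⁻¹ * u := by group
      _ = v * (u * v * u⁻¹) * u := by rw [hfix]

theorem smul_eq_self_iff_mem {u : G} (hu : orderOf u = 2) {X : Pt G} : u • X = X ↔ u ∈ X.1 :=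
  ⟨mem_of_smul_eq_self h hu, smul_eq_self_of_mem h⟩

end CTfacts

section Simple

variable [Finite G] [IsSimpleGroup G] (hG : ¬ IsMulCommutative G) (h : CT G)
include hG h

theorem exists_smul_eq (X Y : Pt G) : ∃ g : G, g • X = Y := by
  obtain ⟨v, hv, hX⟩ := X.2
  obtain ⟨w, hw, hY⟩ := Y.2
  obtain ⟨g, hg⟩ := conj_involutions hG h hv hw
  refine ⟨g, ?_⟩
  have h1 : X = of v hv := ext hX
  have h2 : Y = of w hw := ext hY
  rw [h1, h2, smul_of]
  apply ext
  show Cen (g * v * g⁻¹) = Cen w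
  rw [hg]

theorem isPretransitive : MulAction.IsPretransitive G (Pt G) :=
  ⟨fun X Y => exists_smul_eq hG h X Y⟩

omit hG h in
theorem card_smul (g : G) (X : Pt G) : Nat.card (g • X).1 = Nat.card X.1 := by
  show Nat.card (X.1.map (MulAut.conj g).toMonoidHom) = _
  exact Nat.card_congr (X.1.equivMapOfInjective _ (MulAut.conj g).injective).symm.toEquiv

theorem card_eq (X Y : Pt G) : Nat.card X.1 = Nat.card Y.1 := by
  obtain ⟨g, hg⟩ := exists_smul_eq hG h X Y
  rw [← hg, card_smul]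

omit [Finite G] [IsSimpleGroup G] hG h in
theorem card_invs_smul (g : G) (X : Pt G) :
    Nat.card {v : G // v ∈ (g • X).1 ∧ orderOf v = 2} =
      Nat.card {v : G // v ∈ X.1 ∧ orderOf v = 2} := by
  refine Nat.card_congr ?_
  refine ⟨fun v => ⟨g⁻¹ * v.1 * g, (mem_smul g X v.1).mp v.2.1, ?_⟩,
    fun v => ⟨g * v.1 * g⁻¹, conj_mem_smul g X v.2.1, ?_⟩, ?_, ?_⟩
  · have := orderOf_conj_eq g⁻¹ v.1
    rw [inv_inv] at this
    rw [this]; exact v.2.2
  · rw [orderOf_conj_eq]; exact v.2.2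
  · intro v; apply Subtype.ext; show g * (g⁻¹ * v.1 * g) * g⁻¹ = v.1; group
  · intro v; apply Subtype.ext; show g⁻¹ * (g * v.1 * g⁻¹) * g = v.1; group

theorem card_invs_eq (X Y : Pt G) :
    Nat.card {v : G // v ∈ X.1 ∧ orderOf v = 2} = Nat.card {v : G // v ∈ Y.1 ∧ orderOf v = 2} := by
  obtain ⟨g, hg⟩ := exists_smul_eq hG h X Y
  rw [← hg, card_invs_smul]

/-- `|N(X)| = |X| · #involutions(X)`. -/
theorem card_stabilizer (X : Pt G) :
    Nat.card (MulAction.stabilizer G X) =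
      Nat.card {v : G // v ∈ X.1 ∧ orderOf v = 2} * Nat.card X.1 := by
  classical
  obtain ⟨v₀, hv₀, hX⟩ := X.2
  have hXof : X = of v₀ hv₀ := ext hX
  have hv₀X : v₀ ∈ X.1 := by rw [hX]; exact self_mem_Cen v₀
  -- conjugators
  have hex : ∀ v : {v : G // v ∈ X.1 ∧ orderOf v = 2}, ∃ g : G, g * v₀ * g⁻¹ = v.1 :=
    fun v => conj_involutions hG h hv₀ v.2.2
  choose c hc using hex
  have hcS : ∀ v, c v • X = X := by
    intro v
    have h1 : c v • X = of (c v * v₀ * (c v)⁻¹) (by rw [orderOf_conj_eq]; exact hv₀) := by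
      exact (congrArg (fun Y => c v • Y) hXof).trans (smul_of (c v) v₀ hv₀)
    rw [h1, of_eq_iff h, hc v]
    exact v.2.1
  have hmemS : ∀ (v : {v : G // v ∈ X.1 ∧ orderOf v = 2}) (y : X.1),
      c v * y.1 ∈ MulAction.stabilizer G X := by
    intro v y
    rw [MulAction.mem_stabilizer_iff, mul_smul, smul_eq_self_of_mem h y.2, hcS v]
  have hconj : ∀ (v : {v : G // v ∈ X.1 ∧ orderOf v = 2}) (y : X.1),
      (c v * y.1) * v₀ * (c v * y.1)⁻¹ = v.1 := by
    intro v y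
    have hy : Commute y.1 v₀ := comm h X y.2 hv₀X
    have : (c v * y.1) * v₀ * (c v * y.1)⁻¹ = c v * (y.1 * v₀ * y.1⁻¹) * (c v)⁻¹ := by group
    rw [this, hy.eq]
    have : c v * (v₀ * y.1 * y.1⁻¹) * (c v)⁻¹ = c v * v₀ * (c v)⁻¹ := by group
    rw [this, hc v]
  let f : {v : G // v ∈ X.1 ∧ orderOf v = 2} × X.1 → MulAction.stabilizer G X :=
    fun p => ⟨c p.1 * p.2.1, hmemS p.1 p.2⟩
  have hf : Function.Bijective f := by
    constructor
    · rintro ⟨v, y⟩ ⟨v', y'⟩ hvv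
      have hval : c v * y.1 = c v' * y'.1 := congrArg Subtype.val hvv
      have h1 := hconj v y
      have h2 := hconj v' y'
      rw [hval, h2] at h1
      have hveq : v = v' := (Subtype.ext h1).symm
      subst hveq
      have : y.1 = y'.1 := mul_left_cancel hval
      rw [Subtype.ext this]
    · rintro ⟨s, hs⟩
      rw [MulAction.mem_stabilizer_iff] at hs
      have hvX : s * v₀ * s⁻¹ ∈ X.1 := conj_mem_of_smul_eq hs hv₀X
      have hvo : orderOf (s * v₀ * s⁻¹) = 2 := by rw [orderOf_conj_eq]; exact hv₀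
      let v : {v : G // v ∈ X.1 ∧ orderOf v = 2} := ⟨s * v₀ * s⁻¹, hvX, hvo⟩
      have hy : (c v)⁻¹ * s ∈ X.1 := by
        rw [hX, mem_Cen]
        show (c v)⁻¹ * s * v₀ = v₀ * ((c v)⁻¹ * s)
        have h3 : c v * v₀ * (c v)⁻¹ = s * v₀ * s⁻¹ := hc v
        have h4 : v₀ = (c v)⁻¹ * (s * v₀ * s⁻¹) * c v := by rw [← h3]; group
        calc (c v)⁻¹ * s * v₀ = ((c v)⁻¹ * (s * v₀ * s⁻¹) * c v) * ((c v)⁻¹ * s) := by group
          _ = v₀ * ((c v)⁻¹ * s) := by rw [← h4]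
      refine ⟨(v, ⟨(c v)⁻¹ * s, hy⟩), ?_⟩
      apply Subtype.ext
      show c v * ((c v)⁻¹ * s) = s
      group
  rw [← Nat.card_eq_of_bijective f hf, Nat.card_prod]

end Simple

end Pt

end Cfsg.Agent.Lib.Helper7.CA
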