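import Mathlib
import Cfsg.Agent.Lib.Helper7.CA2

/-!
# CT-groups: the involution-averaging argument (helper7)
-/

set_option autoImplicit false

namespace Cfsg.Agent.Lib.Helper7.CA

variable {G : Type*} [Group G]

namespace Pt

open MulAction

/-- Two-point stabilizer. -/
abbrev D (X Y : Pt G) : Subgroup G := stabilizer G X ⊓ stabilizer G Y

theorem mem_D {X Y : Pt G} {d : G} : d ∈ D X Y ↔ d • X = X ∧ d • Y = Y := by
  rw [Subgroup.mem_inf, mem_stabilizer_iff, mem_stabilizer_iff]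

theorem swap_of_inv {u : G} (hu : orderOf u = 2) {X Y : Pt G} (hXY : u • X = Y) : u • Y = X := by
  rw [← hXY, ← mul_smul, inv_sq hu, one_smul]

section CTfacts

variable (h : CT G)
include h

/-- `D ∩ X = 1` when an involution swaps `X` and `Y`. -/
theorem D_inter_trivial {u : G} (hu : orderOf u = 2) {X Y : Pt G} (hne : X ≠ Y)
    (hXY : u • X = Y) {d : G} (hd : d ∈ D X Y) (hdX : d ∈ X.1) : d = 1 := by
  by_contra hd1
  have hYX := swap_of_inv hu hXY
  have hui := inv_inv' hu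
  rw [mem_D] at hd
  -- d' = u d u⁻¹
  have hd'Y : u * d * u⁻¹ ∈ Y.1 := by
    have := conj_mem_smul u X hdX
    rwa [hXY] at this
  have hd'X_stab : (u * d * u⁻¹) • X = X := by
    rw [mul_smul, mul_smul, hui, hXY, hd.2, hYX]
  have hd'1 : u * d * u⁻¹ ≠ 1 := by
    intro h1
    apply hd1
    have : d = u⁻¹ * (u * d * u⁻¹) * u := by group
    rw [this, h1]; group
  -- commutator in X ∩ Y
  have hcX : (u * d * u⁻¹) * d * (u * d * u⁻¹)⁻¹ * d⁻¹ ∈ X.1 :=
    X.1.mul_mem (conj_mem_of_smul_eq hd'X_stab hdX) (X.1.inv_mem hdX)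
  have hcY : (u * d * u⁻¹) * d * (u * d * u⁻¹)⁻¹ * d⁻¹ ∈ Y.1 := by
    have h1 : d * (u * d * u⁻¹)⁻¹ * d⁻¹ ∈ Y.1 := conj_mem_of_smul_eq hd.2 (Y.1.inv_mem hd'Y)
    have h2 := Y.1.mul_mem hd'Y h1
    have : (u * d * u⁻¹) * d * (u * d * u⁻¹)⁻¹ * d⁻¹ = (u * d * u⁻¹) * (d * (u * d * u⁻¹)⁻¹ * d⁻¹) := by
      group
    rw [this]; exact h2
  have hbot := inf_eq_bot h hne
  have hc1 : (u * d * u⁻¹) * d * (u * d * u⁻¹)⁻¹ * d⁻¹ = 1 := by
    have : (u * d * u⁻¹) * d * (u * d * u⁻¹)⁻¹ * d⁻¹ ∈ X.1 ⊓ Y.1 := ⟨hcX, hcY⟩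
    rwa [hbot, Subgroup.mem_bot] at this
  have hcomm : Commute (u * d * u⁻¹) d := by
    show (u * d * u⁻¹) * d = d * (u * d * u⁻¹)
    have : (u * d * u⁻¹) * d = ((u * d * u⁻¹) * d * (u * d * u⁻¹)⁻¹ * d⁻¹) * (d * (u * d * u⁻¹)) := by
      group
    rw [this, hc1, one_mul]
  have hd'X : u * d * u⁻¹ ∈ X.1 := by
    rw [← Cen_eq_of_mem h X hdX hd1, mem_Cen]
    exact hcomm
  have : u * d * u⁻¹ ∈ X.1 ⊓ Y.1 := ⟨hd'X, hd'Y⟩
  rw [hbot, Subgroup.mem_bot] at this
  exact hd'1 this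

end CTfacts

section Simple

variable [Finite G] [IsSimpleGroup G] (hG : ¬ IsMulCommutative G) (h : CT G)
include hG h

theorem card_D_le {u : G} (hu : orderOf u = 2) {X Y : Pt G} (hne : X ≠ Y)
    (hXY : u • X = Y) :
    Nat.card (D X Y) ≤ Nat.card {v : G // v ∈ X.1 ∧ orderOf v = 2} := by
  have hS := card_stabilizer hG h X
  let f : D X Y × X.1 → stabilizer G X := fun p =>
    ⟨p.1.1 * p.2.1, (stabilizer G X).mul_mem p.1.2.1 (by
      rw [mem_stabilizer_iff]; exact smul_eq_self_of_mem h p.2.2)⟩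
  have hf : Function.Injective f := by
    rintro ⟨d, y⟩ ⟨d', y'⟩ hh
    have hval : d.1 * y.1 = d'.1 * y'.1 := congrArg Subtype.val hh
    have h1 : d'.1⁻¹ * d.1 = y'.1 * y.1⁻¹ := by
      have : d'.1⁻¹ * d.1 = d'.1⁻¹ * (d.1 * y.1) * y.1⁻¹ := by group
      rw [this, hval]; group
    have h2 : d'.1⁻¹ * d.1 ∈ D X Y := (D X Y).mul_mem ((D X Y).inv_mem d'.2) d.2
    have h3 : d'.1⁻¹ * d.1 ∈ X.1 := by
      rw [h1]; exact X.1.mul_mem y'.2 (X.1.inv_mem y.2)
    have h4 := D_inter_trivial h hu hne hXY h2 h3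
    have hdd : d.1 = d'.1 := by
      have : d.1 = d'.1 * (d'.1⁻¹ * d.1) := by group
      rw [this, h4, mul_one]
    have hyy : y.1 = y'.1 := by
      rw [hdd] at hval
      exact mul_left_cancel hval
    rw [Prod.mk.injEq]
    exact ⟨Subtype.ext hdd, Subtype.ext hyy⟩
  have hle := Nat.card_le_card_of_injective f hf
  rw [Nat.card_prod, hS] at hle
  have hpos : 0 < Nat.card X.1 := Nat.card_pos
  exact Nat.le_of_mul_le_mul_right hle hpos

/-- The involutions mapping `X` to `Y` inject into `D X Y`. -/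
theorem card_M_le {u : G} (hu : orderOf u = 2) {X Y : Pt G} (hne : X ≠ Y)
    (hXY : u • X = Y) :
    Nat.card {v : G // orderOf v = 2 ∧ v • X = Y} ≤
      Nat.card {v : G // v ∈ X.1 ∧ orderOf v = 2} := by
  refine le_trans ?_ (card_D_le hG h hu hne hXY)
  have hYX := swap_of_inv hu hXY
  let f : {v : G // orderOf v = 2 ∧ v • X = Y} → D X Y := fun v =>
    ⟨u * v.1, by
      rw [mem_D, mul_smul, mul_smul, v.2.2, hYX, swap_of_inv v.2.1 v.2.2, hXY]
      exact ⟨rfl, rfl⟩⟩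
  have hf : Function.Injective f := by
    intro v v' hh
    have hval : u * v.1 = u * v'.1 := congrArg Subtype.val hh
    exact Subtype.ext (mul_left_cancel hval)
  exact Nat.card_le_card_of_injective f hf

omit [Finite G] [IsSimpleGroup G] hG h in
theorem card_invs_pos (X : Pt G) [Finite G] :
    0 < Nat.card {v : G // v ∈ X.1 ∧ orderOf v = 2} := by
  obtain ⟨v, hv, hX⟩ := X.2
  haveI : Nonempty {v : G // v ∈ X.1 ∧ orderOf v = 2} :=
    ⟨⟨v, by rw [hX]; exact self_mem_Cen v, hv⟩⟩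
  exact Nat.card_pos

/-- The averaging argument: for every `Y ≠ X`, exactly `i` involutions map `X` to `Y`. -/
theorem averaging (X : Pt G) (Y : Pt G) (hY : Y ≠ X) :
    Nat.card {v : G // orderOf v = 2 ∧ v • X = Y} =
      Nat.card {v : G // v ∈ X.1 ∧ orderOf v = 2} := by
  classical
  haveI : Fintype G := Fintype.ofFinite G
  haveI : Fintype (Pt G) := Fintype.ofFinite _
  set i := Nat.card {v : G // v ∈ X.1 ∧ orderOf v = 2} with hi
  let J : Finset G := Finset.univ.filter (fun v => orderOf v = 2 ∧ v ∉ X.1)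
  let f₁ : G → Pt G := fun v => v • X
  let f₂ : G → Pt G := fun v => if hv : orderOf v = 2 then of v hv else X
  have hJ : ∀ v, v ∈ J ↔ orderOf v = 2 ∧ v ∉ X.1 := by
    intro v; simp [J]
  have h1 : ∀ v ∈ J, f₁ v ∈ Finset.univ.erase X := by
    intro v hv
    rw [hJ] at hv
    rw [Finset.mem_erase]
    refine ⟨fun hh => hv.2 (mem_of_smul_eq_self h hv.1 hh), Finset.mem_univ _⟩
  have h2 : ∀ v ∈ J, f₂ v ∈ Finset.univ.erase X := by
    intro v hv
    rw [hJ] at hv
    rw [Finset.mem_erase]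
    refine ⟨fun hh => hv.2 ?_, Finset.mem_univ _⟩
    have : f₂ v = of v hv.1 := dif_pos hv.1
    rw [this, of_eq_iff h] at hh
    exact hh
  have e1 := Finset.card_eq_sum_card_fiberwise h1
  have e2 := Finset.card_eq_sum_card_fiberwise h2
  have hfib2 : ∀ Z ∈ Finset.univ.erase X, (J.filter (fun v => f₂ v = Z)).card = i := by
    intro Z hZ
    rw [Finset.mem_erase] at hZ
    have hset : J.filter (fun v => f₂ v = Z) =
        Finset.univ.filter (fun v : G => v ∈ Z.1 ∧ orderOf v = 2) := by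
      ext v
      simp only [Finset.mem_filter, Finset.mem_univ, true_and]
      rw [hJ]
      constructor
      · rintro ⟨⟨hv, -⟩, hfv⟩
        have : f₂ v = of v hv := dif_pos hv
        rw [this, of_eq_iff h] at hfv
        exact ⟨hfv, hv⟩
      · rintro ⟨hvZ, hv⟩
        refine ⟨⟨hv, fun hvX => hZ.1 (eq_of_mem h (inv_ne_one hv) hvZ hvX)⟩, ?_⟩
        have : f₂ v = of v hv := dif_pos hv
        rw [this, of_eq_iff h]
        exact hvZ
    rw [hset, ← Fintype.card_subtype, ← Nat.card_eq_fintype_card, hi]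
    exact card_invs_eq hG h Z X
  have hcardM : ∀ Y' : Pt G, Y' ≠ X → (J.filter (fun v => f₁ v = Y')).card =
      Nat.card {v : G // orderOf v = 2 ∧ v • X = Y'} := by
    intro Y' hY'
    have hset : J.filter (fun v => f₁ v = Y') =
        Finset.univ.filter (fun v : G => orderOf v = 2 ∧ v • X = Y') := by
      ext v
      simp only [Finset.mem_filter, Finset.mem_univ, true_and]
      rw [hJ]
      constructor
      · rintro ⟨⟨hv, -⟩, hfv⟩
        exact ⟨hv, hfv⟩
      · rintro ⟨hv, hvX⟩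
        refine ⟨⟨hv, fun hmem => hY' ?_⟩, hvX⟩
        rw [← hvX, smul_eq_self_of_mem h hmem]
    rw [hset, ← Fintype.card_subtype, ← Nat.card_eq_fintype_card]
  have hfib1 : ∀ Y' ∈ Finset.univ.erase X, (J.filter (fun v => f₁ v = Y')).card ≤ i := by
    intro Y' hY'
    rw [Finset.mem_erase] at hY'
    rcases Finset.eq_empty_or_nonempty (J.filter (fun v => f₁ v = Y')) with he | ⟨u, hu⟩
    · rw [he, Finset.card_empty]; exact Nat.zero_le _
    · rw [Finset.mem_filter, hJ] at hu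
      rw [hcardM Y' hY'.1]
      exact card_M_le hG h hu.1.1 (Ne.symm hY'.1) hu.2
  have hsum : ∑ Y' ∈ Finset.univ.erase X, (J.filter (fun v => f₁ v = Y')).card =
      ∑ _Y' ∈ Finset.univ.erase X, i := by
    rw [← e1, e2]
    exact Finset.sum_congr rfl hfib2
  have hall := (Finset.sum_eq_sum_iff_of_le hfib1).mp hsum
  have hYm := hall Y (by rw [Finset.mem_erase]; exact ⟨hY, Finset.mem_univ _⟩)
  rw [hcardM Y hY] at hYm
  exact hYm

theorem exists_swap {X Y : Pt G} (hne : X ≠ Y) : ∃ u : G, orderOf u = 2 ∧ u • X = Y := by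
  have h1 := averaging hG h X Y (Ne.symm hne)
  have h2 := card_invs_pos X
  rw [← h1] at h2
  obtain ⟨v⟩ := (Nat.card_pos_iff.mp h2).1
  exact ⟨v.1, v.2.1, v.2.2⟩

theorem D_inter {X Y : Pt G} (hne : X ≠ Y) {d : G} (hd : d ∈ D X Y) (hdX : d ∈ X.1) : d = 1 := by
  obtain ⟨u, hu, hXY⟩ := exists_swap hG h hne
  exact D_inter_trivial h hu hne hXY hd hdX

/-- The map `v ↦ u v` from swapping involutions to `D X Y` is a bijection. -/
theorem swap_bijective {u : G} (hu : orderOf u = 2) {X Y : Pt G} (hne : X ≠ Y)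
    (hXY : u • X = Y) :
    Nat.card (D X Y) = Nat.card {v : G // v ∈ X.1 ∧ orderOf v = 2} ∧
      ∀ d ∈ D X Y, orderOf (u * d) = 2 ∧ (u * d) • X = Y := by
  have hYX := swap_of_inv hu hXY
  let f : {v : G // orderOf v = 2 ∧ v • X = Y} → D X Y := fun v =>
    ⟨u * v.1, by
      rw [mem_D, mul_smul, mul_smul, v.2.2, hYX, swap_of_inv v.2.1 v.2.2, hXY]
      exact ⟨rfl, rfl⟩⟩
  have hf : Function.Injective f := by
    intro v v' hh
    have hval : u * v.1 = u * v'.1 := congrArg Subtype.val hh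
    exact Subtype.ext (mul_left_cancel hval)
  have hle : Nat.card (D X Y) ≤ Nat.card {v : G // orderOf v = 2 ∧ v • X = Y} := by
    rw [averaging hG h X Y (Ne.symm hne)]
    exact card_D_le hG h hu hne hXY
  have hbij := hf.bijective_of_nat_card_le hle
  refine ⟨?_, ?_⟩
  · rw [← averaging hG h X Y (Ne.symm hne)]
    exact (Nat.card_eq_of_bijective f hbij).symm
  · intro d hd
    obtain ⟨v, hv⟩ := hbij.2 ⟨d, hd⟩
    have hval : u * v.1 = d := congrArg Subtype.val hv
    have : u * d = v.1 := by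
      rw [← hval, ← mul_assoc, inv_sq hu, one_mul]
    rw [this]
    exact v.2

theorem card_D {X Y : Pt G} (hne : X ≠ Y) :
    Nat.card (D X Y) = Nat.card {v : G // v ∈ X.1 ∧ orderOf v = 2} := by
  obtain ⟨u, hu, hXY⟩ := exists_swap hG h hne
  exact (swap_bijective hG h hu hne hXY).1

/-- Every involution swapping `X` and `Y` inverts `D X Y`. -/
theorem inverts {u : G} (hu : orderOf u = 2) {X Y : Pt G} (hne : X ≠ Y)
    (hXY : u • X = Y) {d : G} (hd : d ∈ D X Y) : u * d * u⁻¹ = d⁻¹ := by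
  have h1 := ((swap_bijective hG h hu hne hXY).2 d hd).1
  have h2 := inv_sq h1
  have hui := inv_inv' hu
  -- (u d)(u d) = 1
  have : u * d * u = d⁻¹ := by
    have h3 : u * d * (u * d) = 1 := h2
    have : u * d * u = (u * d * (u * d)) * d⁻¹ := by group
    rw [this, h3, one_mul]
  rw [hui]; exact this

end Simple

end Pt

end Cfsg.Agent.Lib.Helper7.CA
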