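import Mathlib
import Cfsg.Agent.Lib.Helper7.CA3
import Cfsg.Agent.Lib.Helper7.SylowBasic

/-!
# CT-groups: at most two fixed points, number of involutions (helper7)
-/

set_option autoImplicit false
set_option linter.style.haveILetI false

namespace Cfsg.Agent.Lib.Helper7.CA

variable {G : Type*} [Group G]

namespace Pt

open MulAction

section Simple

variable [Finite G] [IsSimpleGroup G] (hG : ¬ IsMulCommutative G) (h : CT G)
include hG h

theorem D_comm {X Y : Pt G} (hne : X ≠ Y) {d₁ d₂ : G} (h1 : d₁ ∈ D X Y) (h2 : d₂ ∈ D X Y) :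
    Commute d₁ d₂ := by
  obtain ⟨u, hu, hXY⟩ := exists_swap hG h hne
  have e1 := inverts hG h hu hne hXY h1
  have e2 := inverts hG h hu hne hXY h2
  have e3 := inverts hG h hu hne hXY ((D X Y).mul_mem h1 h2)
  have e4 : u * (d₁ * d₂) * u⁻¹ = (u * d₁ * u⁻¹) * (u * d₂ * u⁻¹) := by group
  rw [e4, e1, e2, mul_inv_rev] at e3
  -- d₁⁻¹ d₂⁻¹ = d₂⁻¹ d₁⁻¹
  show d₁ * d₂ = d₂ * d₁
  have : (d₁ * d₂)⁻¹ = (d₂ * d₁)⁻¹ := by
    rw [mul_inv_rev, mul_inv_rev]; exact e3.symm
  exact inv_injective this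

/-- `N(X) = D(X,Y) · X`. -/
theorem decomp {X Y : Pt G} (hne : X ≠ Y) {x : G} (hx : x • X = X) :
    ∃ d ∈ D X Y, ∃ y ∈ X.1, x = d * y := by
  have hS := card_stabilizer hG h X
  have hD := card_D hG h hne
  let f : D X Y × X.1 → stabilizer G X := fun p =>
    ⟨p.1.1 * p.2.1, (stabilizer G X).mul_mem p.1.2.1 (by
      rw [mem_stabilizer_iff]; exact smul_eq_self_of_mem h p.2.2)⟩
  have hf : Function.Injective f := by
    rintro ⟨d, y⟩ ⟨d', y'⟩ hh
    have hval : d.1 * y.1 = d'.1 * y'.1 := congrArg Subtype.val hh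
    have h1 : d'.1⁻¹ * d.1 = y'.1 * y.1⁻¹ := by
      have : d'.1⁻¹ * d.1 = d'.1⁻¹ * (d.1 * y.1) * y.1⁻¹ := by group
      rw [this, hval]; group
    have h2 : d'.1⁻¹ * d.1 ∈ D X Y := (D X Y).mul_mem ((D X Y).inv_mem d'.2) d.2
    have h3 : d'.1⁻¹ * d.1 ∈ X.1 := by
      rw [h1]; exact X.1.mul_mem y'.2 (X.1.inv_mem y.2)
    have h4 := D_inter hG h hne h2 h3
    have hdd : d.1 = d'.1 := by
      have : d.1 = d'.1 * (d'.1⁻¹ * d.1) := by group
      rw [this, h4, mul_one]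
    have hyy : y.1 = y'.1 := by
      rw [hdd] at hval
      exact mul_left_cancel hval
    rw [Prod.mk.injEq]
    exact ⟨Subtype.ext hdd, Subtype.ext hyy⟩
  have hle : Nat.card (stabilizer G X) ≤ Nat.card (D X Y × X.1) := by
    rw [Nat.card_prod, hS, hD]
  have hbij := hf.bijective_of_nat_card_le hle
  obtain ⟨⟨d, y⟩, hdy⟩ := hbij.2 ⟨x, mem_stabilizer_iff.mpr hx⟩
  exact ⟨d.1, d.2, y.1, y.2, (congrArg Subtype.val hdy).symm⟩

/-- No non-identity element fixes three distinct points. -/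
theorem eq_one_of_fix_three {W W' W'' : Pt G} (h1 : W ≠ W') (h2 : W' ≠ W'') (h3 : W ≠ W'')
    {g : G} (hg : g • W = W) (hg' : g • W' = W') (hg'' : g • W'' = W'') : g = 1 := by
  by_contra hg1
  obtain ⟨v', hv', hWW'⟩ := exists_swap hG h h1
  obtain ⟨v''', hv''', hW'W''⟩ := exists_swap hG h h2
  obtain ⟨v'', hv'', hWW''⟩ := exists_swap hG h h3
  have hgD : g ∈ D W W' := mem_D.mpr ⟨hg, hg'⟩
  have i1 := inverts hG h hv' h1 hWW' hgD
  have i2 := inverts hG h hv''' h2 hW'W'' (mem_D.mpr ⟨hg', hg''⟩)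
  have i3 := inverts hG h hv'' h3 hWW'' (mem_D.mpr ⟨hg, hg''⟩)
  -- x = v'' v''' v'
  have hxW : (v'' * (v''' * v')) • W = W := by
    rw [mul_smul, mul_smul, hWW', hW'W'', swap_of_inv hv'' hWW'']
  have hxg : (v'' * (v''' * v')) * g * (v'' * (v''' * v'))⁻¹ = g⁻¹ := by
    have e : (v'' * (v''' * v')) * g * (v'' * (v''' * v'))⁻¹ =
        v'' * (v''' * (v' * g * v'⁻¹) * v'''⁻¹) * v''⁻¹ := by group
    rw [e, i1]
    have e2 : v''' * g⁻¹ * v'''⁻¹ = (v''' * g * v'''⁻¹)⁻¹ := by group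
    rw [e2, i2, inv_inv, i3]
  obtain ⟨d, hd, y, hy, hxdy⟩ := decomp hG h h1 hxW
  rw [hxdy] at hxg
  have hdg : Commute d g := D_comm hG h h1 hd hgD
  -- y g y⁻¹ = g⁻¹
  have hyg : y * g * y⁻¹ = g⁻¹ := by
    have e : y * g * y⁻¹ = d⁻¹ * (d * y * g * (d * y)⁻¹) * d := by group
    rw [e, hxg]
    have : d⁻¹ * g⁻¹ * d = (d⁻¹ * g * d)⁻¹ := by group
    rw [this]
    have : d⁻¹ * g * d = g := by
      rw [mul_assoc, ← hdg.eq]; group
    rw [this]
  -- g⁻¹ g⁻¹ ∈ W ∩ D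
  have hmemW : g⁻¹ * g⁻¹ ∈ W.1 := by
    have e : g⁻¹ * g⁻¹ = y * (g * y⁻¹ * g⁻¹) := by
      rw [← hyg]; group
    rw [e]
    exact W.1.mul_mem hy (conj_mem_of_smul_eq hg (W.1.inv_mem hy))
  have hmemD : g⁻¹ * g⁻¹ ∈ D W W' := (D W W').mul_mem ((D W W').inv_mem hgD) ((D W W').inv_mem hgD)
  have hsq := D_inter hG h h1 hmemD hmemW
  have hgg : g * g = 1 := by
    have : (g * g)⁻¹ = 1 := by rw [mul_inv_rev]; exact hsq
    exact inv_eq_one.mp this
  have hgo : orderOf g = 2 := orderOf_eq_two_of hg1 hgg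
  have hgW : g ∈ W.1 := mem_of_smul_eq_self h hgo hg
  exact hg1 (D_inter hG h h1 hgD hgW)

/-- The number of involutions in `X` is at least 2 (Burnside's transfer). -/
theorem one_lt_card_invs (X : Pt G) : 1 < Nat.card {v : G // v ∈ X.1 ∧ orderOf v = 2} := by
  by_contra hle
  have hpos := card_invs_pos X
  have hi : Nat.card {v : G // v ∈ X.1 ∧ orderOf v = 2} = 1 := by omega
  have hS := card_stabilizer hG h X
  rw [hi, one_mul] at hS
  have hXS : X.1 ≤ stabilizer G X := fun y hy => mem_stabilizer_iff.mpr (smul_eq_self_of_mem h hy)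
  have hSX : stabilizer G X = X.1 :=
    (Subgroup.eq_of_le_of_card_ge hXS (le_of_eq hS)).symm
  obtain ⟨v, hv, hX⟩ := X.2
  have hv1 := inv_ne_one hv
  have hvX : v ∈ X.1 := by rw [hX]; exact self_mem_Cen v
  haveI : Fact (Nat.Prime 2) := ⟨Nat.prime_two⟩
  have hpg : IsPGroup 2 (Subgroup.zpowers v) := by
    apply IsPGroup.of_card (n := 1)
    rw [Nat.card_zpowers, hv, pow_one]
  obtain ⟨P, hP⟩ := hpg.exists_le_sylow
  have hvP : v ∈ (P : Subgroup G) := hP (Subgroup.mem_zpowers v)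
  -- P ≤ X
  have hPX : (P : Subgroup G) ≤ X.1 := by
    haveI : Nontrivial (P : Subgroup G) := ⟨⟨⟨v, hvP⟩, 1, fun hh => hv1 (congrArg Subtype.val hh)⟩⟩
    haveI := P.isPGroup'.center_nontrivial
    obtain ⟨z, hz⟩ := exists_ne (1 : Subgroup.center (P : Subgroup G))
    have hz1 : (z.1.1 : G) ≠ 1 := by
      intro hh
      apply hz
      apply Subtype.ext
      apply Subtype.ext
      exact hh
    have hzc : ∀ p : (P : Subgroup G), p * z.1 = z.1 * p := fun p =>
      (Subgroup.mem_center_iff.mp z.2 p)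
    have hzv : Commute (z.1.1 : G) v := by
      have := hzc ⟨v, hvP⟩
      exact (congrArg Subtype.val this).symm
    have hzX : (z.1.1 : G) ∈ X.1 := by rw [hX, mem_Cen]; exact hzv
    intro p hp
    rw [← Cen_eq_of_mem h X hzX hz1, mem_Cen]
    exact congrArg Subtype.val (hzc ⟨p, hp⟩)
  have hNC : Subgroup.normalizer ((P : Subgroup G) : Set G) ≤
      Subgroup.centralizer ((P : Subgroup G) : Set G) := by
    intro g hg
    rw [Subgroup.mem_normalizer_iff] at hg
    have hgv : g * v * g⁻¹ ∈ X.1 := hPX ((hg v).mp hvP)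
    have hgo : orderOf (g * v * g⁻¹) = 2 := by rw [orderOf_conj_eq]; exact hv
    have hgX : g • X = X := by
      have h1 : X = of v hv := ext hX
      have h2 : g • X = of (g * v * g⁻¹) hgo :=
        (congrArg (fun Y => g • Y) h1).trans (smul_of g v hv)
      rw [h2, of_eq_iff h]
      exact hgv
    have hgmem : g ∈ X.1 := by
      rw [← hSX, mem_stabilizer_iff]; exact hgX
    rw [Subgroup.mem_centralizer_iff]
    intro p hp
    exact (comm h X (hPX hp) hgmem).eq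
  have h2dvd : 2 ∣ Nat.card G := by
    have := orderOf_dvd_natCard v
    rwa [hv] at this
  have hcard := Cfsg.Agent.Lib.Helper7.card_eq_prime_of_simple_of_normalizer_le_centralizer P h2dvd hNC
  have hc : IsCyclic G := isCyclic_of_prime_card hcard
  exact hG hc.isMulCommutative

end Simple

end Pt

end Cfsg.Agent.Lib.Helper7.CA
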