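import Mathlib
import Cfsg.Agent.Lib.Helper7.CA4

/-!
# CT-groups: parity of the number of involutions and regularity of `X` (helper7)
-/

set_option autoImplicit false
set_option linter.style.haveILetI false

namespace Cfsg.Agent.Lib.Helper7.CA

variable {G : Type*} [Group G]

namespace Pt

open MulAction

/-- The number of involutions in an involution centralizer of a finite CT-group is odd. -/
theorem odd_card_invs [Finite G] (h : CT G) (X : Pt G) :
    Odd (Nat.card {v : G // v ∈ X.1 ∧ orderOf v = 2}) := by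
  classical
  obtain ⟨v, hv, hX⟩ := X.2
  have hvX : v ∈ X.1 := by rw [hX]; exact self_mem_Cen v
  let Ω : Subgroup G :=
    { carrier := {y | y ∈ X.1 ∧ y * y = 1}
      mul_mem' := by
        rintro a b ⟨ha, ha2⟩ ⟨hb, hb2⟩
        refine ⟨X.1.mul_mem ha hb, ?_⟩
        have hc : Commute a b := comm h X ha hb
        calc a * b * (a * b) = a * (b * a) * b := by group
          _ = a * (a * b) * b := by rw [hc.eq]
          _ = (a * a) * (b * b) := by group
          _ = 1 := by rw [ha2, hb2, one_mul]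
      one_mem' := ⟨X.1.one_mem, one_mul 1⟩
      inv_mem' := by
        rintro a ⟨ha, ha2⟩
        refine ⟨X.1.inv_mem ha, ?_⟩
        rw [← mul_inv_rev, ha2, inv_one] }
  have hmemΩ : ∀ y, y ∈ Ω ↔ y ∈ X.1 ∧ y * y = 1 := fun y => Iff.rfl
  have hp : IsPGroup 2 Ω := by
    intro g
    refine ⟨1, ?_⟩
    apply Subtype.ext
    rw [pow_one, pow_two]
    exact g.2.2
  obtain ⟨n, hn⟩ := hp.exists_card_eq
  have hvΩ : v ∈ Ω := ⟨hvX, inv_sq hv⟩
  have hn0 : n ≠ 0 := by
    rintro rfl
    rw [pow_zero] at hn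
    have hbot : Ω = ⊥ := Subgroup.card_eq_one.mp hn
    rw [hbot, Subgroup.mem_bot] at hvΩ
    exact inv_ne_one hv hvΩ
  have hset : (Ω : Set G) = insert 1 {y : G | y ∈ X.1 ∧ orderOf y = 2} := by
    ext y
    simp only [SetLike.mem_coe, Set.mem_insert_iff, Set.mem_ofPred_eq]
    rw [hmemΩ]
    constructor
    · rintro ⟨hy, hy2⟩
      by_cases hy1 : y = 1
      · left; exact hy1
      · right; exact ⟨hy, orderOf_eq_two_of hy1 hy2⟩
    · rintro (rfl | ⟨hy, hy2⟩)
      · exact ⟨X.1.one_mem, one_mul 1⟩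
      · exact ⟨hy, inv_sq hy2⟩
  have h1 : Nat.card Ω = (Ω : Set G).ncard := Nat.card_coe_set_eq (Ω : Set G)
  have h2 : Nat.card {v : G // v ∈ X.1 ∧ orderOf v = 2} =
      {y : G | y ∈ X.1 ∧ orderOf y = 2}.ncard :=
    Nat.card_coe_set_eq {y : G | y ∈ X.1 ∧ orderOf y = 2}
  have h3 : (insert 1 {y : G | y ∈ X.1 ∧ orderOf y = 2}).ncard =
      {y : G | y ∈ X.1 ∧ orderOf y = 2}.ncard + 1 := by
    apply Set.ncard_insert_of_notMem
    · simp only [Set.mem_ofPred_eq, orderOf_one]
      omega
    · exact Set.toFinite _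
  rw [h2]
  rw [hset, h3] at h1
  rw [hn] at h1
  obtain ⟨m, rfl⟩ := Nat.exists_eq_succ_of_ne_zero hn0
  rw [pow_succ] at h1
  exact ⟨2 ^ m - 1, by have : 0 < 2 ^ m := Nat.two_pow_pos m; omega⟩

section Simple

variable [Finite G] [IsSimpleGroup G] (hG : ¬ IsMulCommutative G) (h : CT G)
include hG h

theorem exists_ne (X : Pt G) : ∃ Y : Pt G, Y ≠ X := by
  obtain ⟨v, hv, hX⟩ := X.2
  obtain ⟨w, hw, hwv⟩ := exists_not_commute hG h hv
  refine ⟨of w hw, fun hh => hwv ?_⟩
  have : w ∈ X.1 := by rw [← hh]; exact self_mem_Cen w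
  rw [hX, mem_Cen] at this
  exact this

/-- `X` acts semiregularly off `X`. -/
theorem eq_one_of_mem_of_fix {X Y : Pt G} (hne : X ≠ Y) {y : G} (hy : y ∈ X.1) (hyY : y • Y = Y) :
    y = 1 :=
  D_inter hG h hne (mem_D.mpr ⟨smul_eq_self_of_mem h hy, hyY⟩) hy

/-- `|Pt| = |X| + 1`, and `X` is transitive on the other points. -/
theorem card_pt_and_regular (X : Pt G) :
    Nat.card (Pt G) = Nat.card X.1 + 1 ∧
      ∀ Y Y' : Pt G, Y ≠ X → Y' ≠ X → ∃ y ∈ X.1, y • Y = Y' := by
  classical
  haveI : Fintype G := Fintype.ofFinite G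
  haveI : Fintype (Pt G) := Fintype.ofFinite _
  set i := Nat.card {v : G // v ∈ X.1 ∧ orderOf v = 2} with hi
  set a := Nat.card X.1 with ha
  have hi1 : 1 < i := one_lt_card_invs hG h X
  have hN : Nat.card (Pt G) = (Finset.univ : Finset (Pt G)).card := by
    rw [Finset.card_univ, Nat.card_eq_fintype_card]
  have hNe : (Finset.univ.erase X).card = Nat.card (Pt G) - 1 := by
    rw [Finset.card_erase_of_mem (Finset.mem_univ X), hN]
  let A : Finset G := Finset.univ.filter (fun y => y ∈ X.1)
  have hA : A.card = a := by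
    rw [ha, Nat.card_eq_fintype_card, Fintype.card_subtype]
  obtain ⟨Y₀, hY₀⟩ := exists_ne hG h X
  -- (R1) injection A → erase X
  have hinj : Set.InjOn (fun y : G => y • Y₀) (A : Set G) := by
    intro y hy y' hy' hyy
    simp only [A, Finset.coe_filter, Finset.mem_univ, true_and, Set.mem_ofPred_eq] at hy hy'
    have hyy' : y • Y₀ = y' • Y₀ := hyy
    have hfix : (y'⁻¹ * y) • Y₀ = Y₀ := by
      rw [mul_smul, hyy', ← mul_smul, inv_mul_cancel, one_smul]
    have := eq_one_of_mem_of_fix hG h (Ne.symm hY₀) (X.1.mul_mem (X.1.inv_mem hy') hy) hfix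
    have : y = y' * (y'⁻¹ * y) := by group
    rw [this]
    rw [‹y'⁻¹ * y = 1›, mul_one]
  have hmaps : ∀ y ∈ A, (fun y : G => y • Y₀) y ∈ Finset.univ.erase X := by
    intro y hy
    simp only [A, Finset.mem_filter, Finset.mem_univ, true_and] at hy
    rw [Finset.mem_erase]
    refine ⟨fun hh => hY₀ ?_, Finset.mem_univ _⟩
    have h1 : y • X = X := smul_eq_self_of_mem h hy
    have h2 : y • Y₀ = y • X := hh.trans h1.symm
    exact MulAction.injective y h2
  have hR1 : a ≤ Nat.card (Pt G) - 1 := by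
    rw [← hA, ← hNe]
    exact Finset.card_le_card_of_injOn _ hmaps hinj
  -- (R2) counting in the stabilizer
  let S : Finset G := Finset.univ.filter (fun g => g • X = X)
  have hS : S.card = i * a := by
    have hst : Nat.card (stabilizer G X) = S.card := by
      rw [Nat.card_eq_fintype_card, Fintype.card_subtype]
      congr 1
    rw [← hst]
    exact card_stabilizer hG h X
  have hAS : A ⊆ S := by
    intro y hy
    simp only [A, S, Finset.mem_filter, Finset.mem_univ, true_and] at hy ⊢
    exact smul_eq_self_of_mem h hy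
  let B : Pt G → Finset G := fun Y => (Finset.univ.filter (fun d => d ∈ D X Y)).erase 1
  have hBcard : ∀ Y ∈ Finset.univ.erase X, (B Y).card = i - 1 := by
    intro Y hY
    rw [Finset.mem_erase] at hY
    have h1 : (1 : G) ∈ Finset.univ.filter (fun d => d ∈ D X Y) := by
      simp only [Finset.mem_filter, Finset.mem_univ, true_and]
      exact (D X Y).one_mem
    rw [Finset.card_erase_of_mem h1]
    have := card_D hG h (Ne.symm hY.1)
    rw [Nat.card_eq_fintype_card, Fintype.card_subtype] at this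
    rw [this]
  have hBsub : (Finset.univ.erase X).biUnion B ⊆ S \ A := by
    intro d hd
    rw [Finset.mem_biUnion] at hd
    obtain ⟨Y, hY, hdB⟩ := hd
    rw [Finset.mem_erase] at hY
    simp only [B, Finset.mem_erase, Finset.mem_filter, Finset.mem_univ, true_and] at hdB
    rw [Finset.mem_sdiff]
    constructor
    · simp only [S, Finset.mem_filter, Finset.mem_univ, true_and]
      exact (mem_D.mp hdB.2).1
    · intro hdA
      simp only [A, Finset.mem_filter, Finset.mem_univ, true_and] at hdA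
      exact hdB.1 (D_inter hG h (Ne.symm hY.1) hdB.2 hdA)
  have hBdisj : ∀ Y ∈ Finset.univ.erase X, ∀ Y' ∈ Finset.univ.erase X, Y ≠ Y' →
      Disjoint (B Y) (B Y') := by
    intro Y hY Y' hY' hne
    rw [Finset.mem_erase] at hY hY'
    rw [Finset.disjoint_left]
    intro d hd hd'
    simp only [B, Finset.mem_erase, Finset.mem_filter, Finset.mem_univ, true_and] at hd hd'
    have e1 := mem_D.mp hd.2
    have e2 := mem_D.mp hd'.2
    exact hd.1 (eq_one_of_fix_three hG h (Ne.symm hY.1) hne (Ne.symm hY'.1) e1.1 e1.2 e2.2)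
  have hcount : (Nat.card (Pt G) - 1) * (i - 1) ≤ a * (i - 1) := by
    have h1 := Finset.card_le_card hBsub
    rw [Finset.card_biUnion hBdisj, Finset.sum_congr rfl hBcard, Finset.sum_const,
      smul_eq_mul, hNe, Finset.card_sdiff_of_subset hAS, hS, hA] at h1
    have : i * a - a = a * (i - 1) := by
      rw [Nat.mul_sub, mul_one, mul_comm]
    rw [this] at h1
    exact h1
  have hR2 : Nat.card (Pt G) - 1 ≤ a := Nat.le_of_mul_le_mul_right hcount (by omega)
  have hpos : 0 < Nat.card (Pt G) := Nat.card_pos_iff.mpr ⟨⟨X⟩, inferInstance⟩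
  have hcard : Nat.card (Pt G) = a + 1 := by omega
  refine ⟨hcard, ?_⟩
  -- regularity
  intro Y Y' hY hY'
  have hinjY : Set.InjOn (fun y : G => y • Y) (A : Set G) := by
    intro y hy y' hy' hyy
    simp only [A, Finset.coe_filter, Finset.mem_univ, true_and, Set.mem_ofPred_eq] at hy hy'
    have hyy' : y • Y = y' • Y := hyy
    have hfix : (y'⁻¹ * y) • Y = Y := by
      rw [mul_smul, hyy', ← mul_smul, inv_mul_cancel, one_smul]
    have h1 := eq_one_of_mem_of_fix hG h (Ne.symm hY) (X.1.mul_mem (X.1.inv_mem hy') hy) hfix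
    have : y = y' * (y'⁻¹ * y) := by group
    rw [this, h1, mul_one]
  have himg : A.image (fun y : G => y • Y) = Finset.univ.erase X := by
    apply Finset.eq_of_subset_of_card_le
    · intro Z hZ
      rw [Finset.mem_image] at hZ
      obtain ⟨y, hy, rfl⟩ := hZ
      simp only [A, Finset.mem_filter, Finset.mem_univ, true_and] at hy
      rw [Finset.mem_erase]
      refine ⟨fun hh => hY ?_, Finset.mem_univ _⟩
      have h1 : y • X = X := smul_eq_self_of_mem h hy
      have h2 : y • Y = y • X := hh.trans h1.symm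
      exact MulAction.injective y h2
    · rw [Finset.card_image_of_injOn hinjY, hNe, hA]
      omega
  have hY'mem : Y' ∈ A.image (fun y : G => y • Y) := by
    rw [himg, Finset.mem_erase]
    exact ⟨hY', Finset.mem_univ _⟩
  rw [Finset.mem_image] at hY'mem
  obtain ⟨y, hy, hyY⟩ := hY'mem
  simp only [A, Finset.mem_filter, Finset.mem_univ, true_and] at hy
  exact ⟨y, hy, hyY⟩

end Simple

end Pt

end Cfsg.Agent.Lib.Helper7.CA
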