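import Mathlib
import Cfsg.Agent.Lib.Helper7.CA5
import Cfsg.Agent.Lib.Helper11.ZassFeitC

/-!
# CT-groups: the Zassenhaus structure and Feit's bound (helper7)

A finite simple non-abelian CT-group with an involution acts on its involution centralizers as a
Zassenhaus group whose point stabilizers have an abelian regular normal subgroup; Feit's theorem
(helper11's `zf_main`) then shows that involution centralizers are elementary abelian 2-groups.
-/

set_option autoImplicit false
set_option linter.style.haveILetI false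

namespace Cfsg.Agent.Lib.Helper7.CA

variable {G : Type*} [Group G]

namespace Pt

open MulAction

section Simple

variable [Finite G] [IsSimpleGroup G] (hG : ¬ IsMulCommutative G) (h : CT G)
include hG h

theorem isZassenhaus (X : Pt G) : Cfsg.IsZassenhausGroup G (Pt G) := by
  classical
  obtain ⟨Y, hY⟩ := exists_ne hG h X
  obtain ⟨v, hv, hX⟩ := X.2
  have hv1 := inv_ne_one hv
  have hvX : v ∈ X.1 := by rw [hX]; exact self_mem_Cen v
  -- a third point
  have hZY : v • Y ≠ Y := fun hh => hv1 (eq_one_of_mem_of_fix hG h (Ne.symm hY) hvX hh)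
  have hZX : v • Y ≠ X := by
    intro hh
    have h1 : v • X = X := smul_eq_self_of_mem h hvX
    exact hY (MulAction.injective v (hh.trans h1.symm))
  have hfix3 : ∀ g : G, ∀ a b c : Pt G, a ≠ b → b ≠ c → a ≠ c → g • a = a → g • b = b →
      g • c = c → g = 1 := fun g a b c hab hbc hac ha hb hc =>
    eq_one_of_fix_three hG h hab hbc hac ha hb hc
  refine ⟨⟨?_⟩, ?_, hfix3, ?_, ?_⟩
  · -- faithful
    intro g g' hgg
    have hk : ∀ W : Pt G, (g'⁻¹ * g) • W = W := by
      intro W
      rw [mul_smul, hgg W, ← mul_smul, inv_mul_cancel, one_smul]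
    have := hfix3 (g'⁻¹ * g) X Y (v • Y) (Ne.symm hY) (Ne.symm hZY) (Ne.symm hZX) (hk _) (hk _) (hk _)
    calc g = g' * (g'⁻¹ * g) := by group
      _ = g' := by rw [this, mul_one]
  · -- 2-transitive
    rw [MulAction.is_two_pretransitive_iff]
    intro a b c d hab hcd
    obtain ⟨g₁, hg₁⟩ := exists_smul_eq hG h a c
    have hbc : g₁ • b ≠ c := by
      intro hh
      exact hab (MulAction.injective g₁ (hg₁.trans hh.symm))
    obtain ⟨y, hy, hyd⟩ := (card_pt_and_regular hG h c).2 (g₁ • b) d hbc (Ne.symm hcd)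
    refine ⟨y * g₁, ?_, ?_⟩
    · rw [mul_smul, hg₁, smul_eq_self_of_mem h hy]
    · rw [mul_smul, hyd]
  · -- some non-identity element fixes two points
    have hD := card_D hG h (Ne.symm hY)
    have hi := one_lt_card_invs hG h X
    rw [← hD] at hi
    have hne : D X Y ≠ ⊥ := (Subgroup.one_lt_card_iff_ne_bot _).mp hi
    obtain ⟨d, hd, hd1⟩ : ∃ d ∈ D X Y, d ≠ 1 := by
      by_contra hno
      push Not at hno
      apply hne
      rw [eq_bot_iff]
      intro d hd
      rw [Subgroup.mem_bot]
      exact hno d hd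
    exact ⟨d, hd1, X, Y, Ne.symm hY, (mem_D.mp hd).1, (mem_D.mp hd).2⟩
  · -- no regular normal subgroup
    intro N hN hpre
    rcases hN.eq_bot_or_eq_top with rfl | rfl
    · exfalso
      obtain ⟨g, hg⟩ := hpre.exists_smul_eq X Y
      have hg1 : (g : G) = 1 := Subgroup.mem_bot.mp g.2
      have : (g : G) • X = Y := hg
      rw [hg1, one_smul] at this
      exact hY this.symm
    · refine ⟨X, fun hbot => hv1 ?_⟩
      have hmem : (⟨v, Subgroup.mem_top v⟩ : (⊤ : Subgroup G)) ∈
          stabilizer (⊤ : Subgroup G) X := by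
        rw [mem_stabilizer_iff]
        show v • X = X
        exact smul_eq_self_of_mem h hvX
      rw [hbot, Subgroup.mem_bot] at hmem
      exact congrArg Subtype.val hmem

/-- Feit's theorem applied: all non-identity elements of `X` are involutions. -/
theorem card_invs_add_one (X : Pt G) :
    Nat.card {v : G // v ∈ X.1 ∧ orderOf v = 2} + 1 = Nat.card X.1 := by
  classical
  haveI : Fintype (Pt G) := Fintype.ofFinite _
  obtain ⟨Y, hY⟩ := exists_ne hG h X
  have hZ := isZassenhaus hG h X
  have hXY : X ≠ Y := Ne.symm hY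
  have hcard := (card_pt_and_regular hG h X).1
  have hF : Fintype.card (Pt G) = Nat.card X.1 + 1 := by
    rw [← Nat.card_eq_fintype_card]; exact hcard
  have hD := card_D hG h hXY
  have hodd := odd_card_invs h X
  have hXS : X.1 ≤ stabilizer G X := fun y hy =>
    mem_stabilizer_iff.mpr (smul_eq_self_of_mem h hy)
  have hfix : ∀ u ∈ X.1, u ≠ 1 → ∀ c : Pt G, u • c = c → c = X := by
    intro u hu hu1 c hc
    by_contra hcX
    exact hu1 (eq_one_of_mem_of_fix hG h (Ne.symm hcX) hu hc)
  have hmain := Cfsg.Agent.Lib.Helper11.zf_main (Pt G) (Nat.card G) G hZ X Y hXY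
    (Nat.card X.1) (Nat.card {v : G // v ∈ X.1 ∧ orderOf v = 2}) hF hD hodd X.1 hXS
    (by rw [hF]) hfix rfl
  have hdvd := Cfsg.Agent.Lib.Helper11.zc_e_dvd hZ hXY
  rw [hD, hF] at hdvd
  obtain ⟨v, hv, hX⟩ := X.2
  have hvX : v ∈ X.1 := by rw [hX]; exact self_mem_Cen v
  have h2a : 2 ∣ Nat.card X.1 := by
    have := X.1.orderOf_dvd_natCard hvX
    rwa [hv] at this
  have hipos := card_invs_pos X
  rcases hmain with hle | ⟨-, ⟨u, w, huw⟩, -⟩
  · obtain ⟨c, hc⟩ := hdvd
    obtain ⟨k, hk⟩ := h2a
    obtain ⟨j, hj⟩ := hodd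
    have hapos : 0 < Nat.card X.1 := Nat.card_pos
    have hc2 : c ≤ 2 := by
      by_contra hc3
      push Not at hc3
      have : 3 * Nat.card {v : G // v ∈ X.1 ∧ orderOf v = 2} ≤
          Nat.card {v : G // v ∈ X.1 ∧ orderOf v = 2} * c := by
        rw [mul_comm]; exact Nat.mul_le_mul_left _ hc3
      omega
    interval_cases c
    · omega
    · omega
    · omega
  · exact absurd (Subtype.ext (comm h X u.2 w.2).eq) huw

/-- Involution centralizers have exponent 2. -/
theorem sq_eq_one (X : Pt G) {c : G} (hc : c ∈ X.1) : c * c = 1 := by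
  classical
  haveI : Fintype G := Fintype.ofFinite G
  by_cases hc1 : c = 1
  · rw [hc1, one_mul]
  have hcount := card_invs_add_one hG h X
  let A : Finset G := Finset.univ.filter (fun y => y ∈ X.1)
  let Iv : Finset G := Finset.univ.filter (fun y => y ∈ X.1 ∧ orderOf y = 2)
  have hA : A.card = Nat.card X.1 := by
    rw [Nat.card_eq_fintype_card, Fintype.card_subtype]
  have hIv : Iv.card = Nat.card {v : G // v ∈ X.1 ∧ orderOf v = 2} := by
    rw [Nat.card_eq_fintype_card, Fintype.card_subtype]
  have h1A : (1 : G) ∈ A := by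
    simp only [A, Finset.mem_filter, Finset.mem_univ, true_and]
    exact X.1.one_mem
  have hsub : Iv ⊆ A.erase 1 := by
    intro y hy
    simp only [Iv, Finset.mem_filter, Finset.mem_univ, true_and] at hy
    rw [Finset.mem_erase]
    refine ⟨inv_ne_one hy.2, ?_⟩
    simp only [A, Finset.mem_filter, Finset.mem_univ, true_and]
    exact hy.1
  have heq : Iv = A.erase 1 := by
    apply Finset.eq_of_subset_of_card_le hsub
    rw [Finset.card_erase_of_mem h1A, hA, hIv]
    omega
  have hcm : c ∈ A.erase 1 := by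
    rw [Finset.mem_erase]
    refine ⟨hc1, ?_⟩
    simp only [A, Finset.mem_filter, Finset.mem_univ, true_and]
    exact hc
  rw [← heq] at hcm
  simp only [Iv, Finset.mem_filter, Finset.mem_univ, true_and] at hcm
  exact inv_sq hcm.2

end Simple

end Pt

end Cfsg.Agent.Lib.Helper7.CA
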