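import Mathlib
import Cfsg.Agent.Lib.Helper10.PGroup

set_option autoImplicit false

/-! Basic facts on Camina pairs `(G, N)`: every `g ∉ N` is conjugate to `g * n` for all `n ∈ N`. -/

namespace Cfsg.Agent.Lib.Helper7.Camina

variable {G : Type*} [Group G]

/-- `(G, N)` is a Camina pair: for `g ∉ N`, the coset `g N` lies in the conjugacy class of `g`. -/
def IsCamina (N : Subgroup G) : Prop :=
  ∀ g : G, g ∉ N → ∀ n ∈ N, ∃ x : G, x * g * x⁻¹ = g * n

/-- If `a ∉ N` has `a ^ M = 1` and `x ∈ N` commutes with `a`, then `x ^ M = 1`. -/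
theorem IsCamina.pow_eq_one_of_commute {N : Subgroup G} (hc : IsCamina N) {a x : G} (ha : a ∉ N)
    (hx : x ∈ N) (hax : Commute a x) {M : ℕ} (haM : a ^ M = 1) : x ^ M = 1 := by
  obtain ⟨y, hy⟩ := hc a ha x hx
  have h1 : (a * x) ^ M = 1 := by
    rw [← hy, conj_pow, haM, mul_one, mul_inv_cancel]
  rw [hax.mul_pow, haM, one_mul] at h1
  exact h1

/-- If `p ∣ [G : N]` there is a `p`-element outside `N`. -/
theorem exists_pElt_not_mem [Finite G] (N : Subgroup G) [N.Normal] (p : ℕ) [hp : Fact p.Prime]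
    (hpi : p ∣ N.index) : ∃ g : G, g ∉ N ∧ ∃ k : ℕ, g ^ (p ^ k) = 1 := by
  rw [Subgroup.index_eq_card] at hpi
  obtain ⟨ybar, hybar⟩ := exists_prime_orderOf_dvd_card' p hpi
  obtain ⟨y, rfl⟩ := QuotientGroup.mk_surjective ybar
  have hy0 : orderOf y ≠ 0 := (orderOf_pos y).ne'
  obtain ⟨k, m, hm, hkm⟩ := Nat.exists_eq_pow_mul_and_not_dvd hy0 p hp.out.ne_one
  refine ⟨y ^ m, ?_, k, ?_⟩
  · intro hmem
    have h1 : ((y : G ⧸ N)) ^ m = 1 := by
      rw [← QuotientGroup.mk_pow]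
      exact (QuotientGroup.eq_one_iff _).mpr hmem
    have := orderOf_dvd_of_pow_eq_one h1
    rw [hybar] at this
    exact hm this
  · rw [← pow_mul, mul_comm, ← hkm, pow_orderOf_eq_one]

/-- A `p`-element of `G ⧸ N` lifts to a `p`-element of `G`. -/
theorem exists_pElt_lift [Finite G] (N : Subgroup G) [N.Normal] (p : ℕ) [hp : Fact p.Prime]
    (ybar : G ⧸ N) (k : ℕ) (hy : ybar ^ (p ^ k) = 1) :
    ∃ g : G, (g : G ⧸ N) = ybar ∧ ∃ b : ℕ, g ^ (p ^ b) = 1 := by
  obtain ⟨y, rfl⟩ := QuotientGroup.mk_surjective ybar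
  have hy0 : orderOf y ≠ 0 := (orderOf_pos y).ne'
  obtain ⟨b, m, hm, hbm⟩ := Nat.exists_eq_pow_mul_and_not_dvd hy0 p hp.out.ne_one
  have hcop : Nat.Coprime m (p ^ k) := by
    apply Nat.Coprime.pow_right
    rw [Nat.coprime_comm]
    exact (Nat.Prime.coprime_iff_not_dvd hp.out).2 hm
  have hbez : (1 : ℤ) = (m : ℤ) * Int.gcdA m (p ^ k : ℕ) + ((p ^ k : ℕ) : ℤ) * Int.gcdB m (p ^ k : ℕ) := by
    have := Int.gcd_eq_gcd_ab (m : ℤ) ((p ^ k : ℕ) : ℤ)
    rw [Int.gcd_natCast_natCast, hcop] at this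
    simpa using this
  set u := Int.gcdA m (p ^ k : ℕ) with hu
  set v := Int.gcdB m (p ^ k : ℕ) with hv
  refine ⟨y ^ ((m : ℤ) * u), ?_, b, ?_⟩
  · rw [QuotientGroup.mk_zpow]
    have h1 : ((y : G ⧸ N)) ^ (((p ^ k : ℕ) : ℤ) * v) = 1 := by
      rw [zpow_mul, zpow_natCast, hy, one_zpow]
    have h2 : ((y : G ⧸ N)) ^ ((m : ℤ) * u) = (y : G ⧸ N) ^ ((m : ℤ) * u) * (y : G ⧸ N) ^ (((p ^ k : ℕ) : ℤ) * v) := by
      rw [h1, mul_one]
    rw [h2, ← zpow_add, ← hbez, zpow_one]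
  · rw [← zpow_natCast, ← zpow_mul]
    have h3 : (m : ℤ) * u * ((p ^ b : ℕ) : ℤ) = ((orderOf y : ℕ) : ℤ) * u := by
      rw [hbm]; push_cast; ring
    rw [h3, zpow_mul, zpow_natCast, pow_orderOf_eq_one, one_zpow]

/-- If `q ∣ |N|` (`N` normal) then every `q`-element `g` of `G` commutes with some element of
order `q` of `N`. -/
theorem exists_orderOf_eq_prime_commute [Finite G] (N : Subgroup G) [hN : N.Normal] (q : ℕ)
    [hq : Fact q.Prime] (hqN : q ∣ Nat.card N) (g : G) (hg : ∃ k : ℕ, g ^ (q ^ k) = 1) :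
    ∃ x ∈ N, orderOf x = q ∧ Commute x g := by
  obtain ⟨k, hk⟩ := hg
  -- a Sylow subgroup containing g
  have hzg : IsPGroup q (Subgroup.zpowers g) := by
    apply IsPGroup.of_card (n := (Nat.factorization (orderOf g) q))
    rw [Nat.card_zpowers]
    obtain ⟨j, -, hj⟩ := (Nat.dvd_prime_pow hq.out).mp (orderOf_dvd_of_pow_eq_one hk)
    rw [hj, hq.out.factorization_pow]
    simp
  obtain ⟨Q, hQ⟩ := hzg.exists_le_sylow
  -- an element of order q in N ∩ Q
  obtain ⟨x0, hx0⟩ := exists_prime_orderOf_dvd_card' (G := N) q hqN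
  have hzx0 : IsPGroup q (Subgroup.zpowers (x0 : G)) := by
    apply IsPGroup.of_card (n := 1)
    rw [Nat.card_zpowers, Subgroup.orderOf_coe, hx0, pow_one]
  obtain ⟨Q', hQ'⟩ := hzx0.exists_le_sylow
  obtain ⟨c, hc⟩ := MulAction.exists_smul_eq G Q' Q
  have hx1 : c * (x0 : G) * c⁻¹ ∈ (Q : Subgroup G) := by
    rw [← hc, Sylow.coe_subgroup_smul, Subgroup.mem_pointwise_smul_iff_inv_smul_mem, MulAut.smul_def]
    simp only [MulAut.conj_inv_apply]
    have : c⁻¹ * (c * (x0 : G) * c⁻¹) * c = x0 := by group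
    rw [this]
    exact hQ' (Subgroup.mem_zpowers _)
  have hx1N : c * (x0 : G) * c⁻¹ ∈ N := hN.conj_mem _ x0.2 c
  -- N ∩ Q is a nontrivial normal subgroup of Q
  have hM : (N.subgroupOf (Q : Subgroup G)) ≠ ⊥ := by
    intro hbot
    have : (⟨c * (x0 : G) * c⁻¹, hx1⟩ : (Q : Subgroup G)) ∈ N.subgroupOf (Q : Subgroup G) := by
      rw [Subgroup.mem_subgroupOf]; exact hx1N
    rw [hbot, Subgroup.mem_bot] at this
    have h2 : c * (x0 : G) * c⁻¹ = 1 := congrArg Subtype.val this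
    have h3 : (x0 : G) = 1 := by
      have : (x0 : G) = c⁻¹ * (c * (x0 : G) * c⁻¹) * c := by group
      rw [this, h2]; group
    have h4 : orderOf (x0 : G) = 1 := by rw [h3, orderOf_one]
    rw [Subgroup.orderOf_coe, hx0] at h4
    exact hq.out.ne_one h4
  have hz := Cfsg.Agent.Lib.Helper10.normal_inf_center_ne_bot (Q.isPGroup') (N.subgroupOf (Q : Subgroup G)) hM
  obtain ⟨⟨z, hz⟩, hz1'⟩ := (Subgroup.ne_bot_iff_exists_ne_one).mp hz
  have hz1 : z ≠ 1 := fun e => hz1' (Subtype.ext e)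
  obtain ⟨hzN, hzc⟩ := Subgroup.mem_inf.mp hz
  rw [Subgroup.mem_subgroupOf] at hzN
  -- z is a nontrivial q-element; take a power of order q
  have hzq : q ∣ Nat.card (Subgroup.zpowers (z : G)) := by
    have hzp : IsPGroup q (Subgroup.zpowers (z : G)) :=
      Q.isPGroup'.to_le (by
        rw [Subgroup.zpowers_le]; exact z.2)
    obtain ⟨n, hn⟩ := IsPGroup.iff_card.mp hzp
    rw [hn]
    have hn0 : n ≠ 0 := by
      intro h0
      rw [h0, pow_zero, Nat.card_zpowers, orderOf_eq_one_iff] at hn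
      exact hz1 (Subtype.ext hn)
    exact dvd_pow_self q hn0
  obtain ⟨x, hx⟩ := exists_prime_orderOf_dvd_card' (G := Subgroup.zpowers (z : G)) q hzq
  obtain ⟨i, hi⟩ := Subgroup.mem_zpowers_iff.mp x.2
  refine ⟨x, ?_, ?_, ?_⟩
  · rw [← hi]; exact N.zpow_mem hzN i
  · rw [Subgroup.orderOf_coe]; exact hx
  · rw [← hi]
    apply Commute.zpow_left
    have hgQ : g ∈ (Q : Subgroup G) := hQ (Subgroup.mem_zpowers g)
    have := Subgroup.mem_center_iff.mp hzc ⟨g, hgQ⟩
    have h5 : g * (z : G) = (z : G) * g := congrArg Subtype.val this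
    exact h5.symm

/-- Orbit–stabiliser for the conjugation action of a subgroup `T` on an element `g`. -/
theorem card_eq_card_range_conj_mul [Finite G] (T : Subgroup G) (g : G) :
    Nat.card T = Nat.card (Set.range (fun y : T => (y : G) * g * (y : G)⁻¹)) *
      Nat.card (T ⊓ Subgroup.centralizer {g} : Subgroup G) := by
  let _ : MulAction T G := MulAction.compHom G ((MulAut.conj (G := G)).comp T.subtype)
  have h := Nat.card_congr (MulAction.orbitProdStabilizerEquivGroup T g)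
  rw [Nat.card_prod] at h
  rw [← h]
  congr 1
  apply Nat.card_congr
  refine ⟨fun y => ⟨(y : T), Subgroup.mem_inf.mpr ⟨(y : T).2, ?_⟩⟩,
    fun x => ⟨⟨x, (Subgroup.mem_inf.mp x.2).1⟩, ?_⟩, ?_, ?_⟩
  · have := y.2
    rw [MulAction.mem_stabilizer_iff] at this
    change (y : G) * g * (y : G)⁻¹ = g at this
    rw [Subgroup.mem_centralizer_singleton_iff]
    exact mul_inv_eq_iff_eq_mul.mp this
  · rw [MulAction.mem_stabilizer_iff]
    change (x : G) * g * (x : G)⁻¹ = g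
    have := (Subgroup.mem_inf.mp x.2).2
    rw [Subgroup.mem_centralizer_singleton_iff] at this
    rw [this]; group
  · intro y; rfl
  · intro x; rfl

theorem card_inf_mul_relIndex (H K : Subgroup G) :
    Nat.card (H ⊓ K : Subgroup G) * H.relIndex K = Nat.card K := by
  have h1 := Subgroup.relIndex_mul_relIndex (⊥ : Subgroup G) (H ⊓ K) K bot_le inf_le_right
  rw [Subgroup.relIndex_bot_left, Subgroup.relIndex_bot_left, Subgroup.inf_relIndex_right] at h1
  exact h1

/-- The preimage in `G` of the centraliser of `g N` in `G ⧸ N`. -/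
def quotCent (N : Subgroup G) [N.Normal] (g : G) : Subgroup G :=
  (Subgroup.centralizer {(g : G ⧸ N)}).comap (QuotientGroup.mk' N)

theorem mem_quotCent_iff (N : Subgroup G) [N.Normal] (g y : G) :
    y ∈ quotCent N g ↔ g⁻¹ * (y * g * y⁻¹) ∈ N := by
  unfold quotCent
  rw [Subgroup.mem_comap, Subgroup.mem_centralizer_singleton_iff, ← QuotientGroup.eq_one_iff]
  simp only [QuotientGroup.mk'_apply, QuotientGroup.mk_mul, QuotientGroup.mk_inv]
  constructor
  · intro h
    rw [h]; group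
  · intro h
    have : (y : G ⧸ N) * (g : G ⧸ N) * (y : G ⧸ N)⁻¹ = g := by
      have := congrArg (fun t => (g : G ⧸ N) * t) h
      simpa [mul_assoc] using this
    exact mul_inv_eq_iff_eq_mul.mp this

theorem le_quotCent (N : Subgroup G) [hN : N.Normal] (g : G) : N ≤ quotCent N g := by
  intro n hn
  rw [mem_quotCent_iff]
  have h1 : g⁻¹ * n * g⁻¹⁻¹ ∈ N := hN.conj_mem n hn g⁻¹
  have : g⁻¹ * (n * g * n⁻¹) = (g⁻¹ * n * g⁻¹⁻¹) * n⁻¹ := by group
  rw [this]
  exact N.mul_mem h1 (N.inv_mem hn)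

theorem centralizer_le_quotCent (N : Subgroup G) [hN : N.Normal] (g : G) :
    Subgroup.centralizer {g} ≤ quotCent N g := by
  intro y hy
  rw [mem_quotCent_iff]
  rw [Subgroup.mem_centralizer_singleton_iff] at hy
  have : g⁻¹ * (y * g * y⁻¹) = 1 := by rw [hy]; group
  rw [this]; exact N.one_mem

/-- In a Camina pair, `|C*(g)| = |N| |C_G(g)|` for `g ∉ N`. -/
theorem IsCamina.card_quotCent [Finite G] {N : Subgroup G} [hN : N.Normal] (hc : IsCamina N)
    {g : G} (hg : g ∉ N) :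
    Nat.card (quotCent N g) = Nat.card N * Nat.card (Subgroup.centralizer {g}) := by
  rw [card_eq_card_range_conj_mul (quotCent N g) g,
    inf_of_le_right (centralizer_le_quotCent N g)]
  congr 1
  have : Set.range (fun y : quotCent N g => (y : G) * g * (y : G)⁻¹)
      = Set.range (fun n : N => g * (n : G)) := by
    ext z
    constructor
    · rintro ⟨y, rfl⟩
      have := (mem_quotCent_iff N g y).mp y.2
      exact ⟨⟨_, this⟩, by simp⟩
    · rintro ⟨n, rfl⟩
      obtain ⟨x, hx⟩ := hc g hg n n.2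
      have hxm : x ∈ quotCent N g := by
        rw [mem_quotCent_iff, hx]; simp
      exact ⟨⟨x, hxm⟩, hx⟩
  rw [this]
  exact Nat.card_range_of_injective (fun a b h => Subtype.ext (mul_left_cancel h))

/-- Passage to a supplement `G₁` of `N`: for `g ∈ G₁ ∖ N`, `C_G(g) ≤ G₁` and `g` is
`G₁`-conjugate to `g n` for all `n ∈ N ∩ G₁`. -/
theorem IsCamina.supplement [Finite G] {N : Subgroup G} [hN : N.Normal] (hc : IsCamina N)
    (G₁ : Subgroup G) (hsup : G₁ ⊔ N = ⊤) {g : G} (hg1 : g ∈ G₁) (hg : g ∉ N) :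
    Subgroup.centralizer {g} ≤ G₁ ∧ ∀ n ∈ N, n ∈ G₁ → ∃ y ∈ G₁, y * g * y⁻¹ = g * n := by
  set T := quotCent N g with hTdef
  set C := Subgroup.centralizer {g} with hCdef
  have hNT : N ≤ T := le_quotCent N g
  have hCT : C ≤ T := centralizer_le_quotCent N g
  have hT : Nat.card T = Nat.card N * Nat.card C := hc.card_quotCent hg
  have hTsup : T = (T ⊓ G₁) ⊔ N := by
    apply le_antisymm
    · intro t ht
      have : t ∈ G₁ ⊔ N := by rw [hsup]; exact Subgroup.mem_top t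
      obtain ⟨a, ha, n, hn, rfl⟩ := Subgroup.mem_sup_of_normal_right.mp this
      apply Subgroup.mul_mem _ _ (Subgroup.mem_sup_right hn)
      apply Subgroup.mem_sup_left
      refine Subgroup.mem_inf.mpr ⟨?_, ha⟩
      have : a = (a * n) * n⁻¹ := by group
      rw [this]
      exact T.mul_mem ht (T.inv_mem (hNT hn))
    · exact sup_le inf_le_left hNT
  have h1 : Nat.card N * N.relIndex (T ⊓ G₁) = Nat.card T := by
    have := card_inf_mul_relIndex N T
    rw [inf_of_le_left hNT] at this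
    rw [← this]
    congr 1
    conv_rhs => rw [hTsup]
    rw [Subgroup.relIndex_sup_right]
  have h2 : Nat.card (N ⊓ G₁ : Subgroup G) * N.relIndex (T ⊓ G₁) = Nat.card (T ⊓ G₁ : Subgroup G) := by
    have := card_inf_mul_relIndex N (T ⊓ G₁)
    rw [← inf_assoc, inf_of_le_left hNT] at this
    exact this
  have hNpos : 0 < Nat.card N := Nat.card_pos
  have hρ : N.relIndex (T ⊓ G₁) = Nat.card C := by
    rw [hT] at h1
    exact Nat.eq_of_mul_eq_mul_left hNpos h1
  rw [hρ] at h2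
  -- orbit count in G₁
  have h3 := card_eq_card_range_conj_mul (T ⊓ G₁) g
  have h4 : (T ⊓ G₁ ⊓ C : Subgroup G) = G₁ ⊓ C := by
    rw [inf_comm T G₁, inf_assoc, inf_of_le_right hCT]
  rw [h4] at h3
  set R₁ := Set.range (fun y : (T ⊓ G₁ : Subgroup G) => (y : G) * g * (y : G)⁻¹) with hR₁
  set R := Set.range (fun n : (N ⊓ G₁ : Subgroup G) => g * (n : G)) with hR
  have hRcard : Nat.card R = Nat.card (N ⊓ G₁ : Subgroup G) :=
    Nat.card_range_of_injective (fun a b h => Subtype.ext (mul_left_cancel h))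
  have hsub : R₁ ⊆ R := by
    rintro z ⟨y, rfl⟩
    have hy := Subgroup.mem_inf.mp y.2
    have hyT := (mem_quotCent_iff N g y).mp hy.1
    refine ⟨⟨g⁻¹ * ((y : G) * g * (y : G)⁻¹), Subgroup.mem_inf.mpr ⟨hyT, ?_⟩⟩, by simp⟩
    exact G₁.mul_mem (G₁.inv_mem hg1) (G₁.mul_mem (G₁.mul_mem hy.2 hg1) (G₁.inv_mem hy.2))
  have hR₁le : Nat.card R₁ ≤ Nat.card R := Nat.card_mono (Set.toFinite R) hsub
  have hCle : Nat.card (G₁ ⊓ C : Subgroup G) ≤ Nat.card C := Subgroup.card_le_of_le inf_le_right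
  have hCpos : 0 < Nat.card C := Nat.card_pos
  have hNGpos : 0 < Nat.card (N ⊓ G₁ : Subgroup G) := Nat.card_pos
  have hkey : Nat.card (N ⊓ G₁ : Subgroup G) * Nat.card C = Nat.card R₁ * Nat.card (G₁ ⊓ C : Subgroup G) := by
    rw [h2, h3]
  rw [← hRcard] at hkey hNGpos
  have hR₁eq : Nat.card R₁ = Nat.card R := by
    apply le_antisymm hR₁le
    by_contra hlt
    push Not at hlt
    have : Nat.card R₁ * Nat.card (G₁ ⊓ C : Subgroup G) < Nat.card R * Nat.card C := by
      calc Nat.card R₁ * Nat.card (G₁ ⊓ C : Subgroup G) ≤ Nat.card R₁ * Nat.card C :=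
            Nat.mul_le_mul_left _ hCle
        _ < Nat.card R * Nat.card C := Nat.mul_lt_mul_of_pos_right hlt hCpos
    omega
  have hCeq : Nat.card (G₁ ⊓ C : Subgroup G) = Nat.card C := by
    rw [hR₁eq] at hkey
    exact (Nat.eq_of_mul_eq_mul_left hNGpos hkey).symm
  constructor
  · have := Subgroup.eq_of_le_of_card_ge (inf_le_right : G₁ ⊓ C ≤ C) hCeq.ge
    rw [← this]
    exact inf_le_left
  · intro n hn hn1
    have hRR : R₁ = R := by
      apply Set.eq_of_subset_of_ncard_le hsub _ (Set.toFinite R)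
      rw [← Nat.card_coe_set_eq, ← Nat.card_coe_set_eq, hR₁eq]
    have : g * n ∈ R := ⟨⟨n, Subgroup.mem_inf.mpr ⟨hn, hn1⟩⟩, rfl⟩
    rw [← hRR] at this
    obtain ⟨y, hy⟩ := this
    exact ⟨y, (Subgroup.mem_inf.mp y.2).2, hy⟩

end Cfsg.Agent.Lib.Helper7.Camina
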