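import Mathlib

set_option autoImplicit false

/-! Abstract "norm" lemmas used for Camina pairs:
* a prime-order automorphism without fixed points has trivial norm;
* `C_q × C_q` cannot act fixed-point-freely on a nontrivial abelian `q'`-group;
* a Frobenius-like group `K ⋊ ⟨h⟩` cannot act on a nontrivial abelian `|K|'`-group with both
  `K` and `h` fixed-point-free;
* in a group of exponent `q ^ e`, a central element of order `q ^ e` generating a proper subgroup
  admits an element of order `q` outside the subgroup it generates. -/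

namespace Cfsg.Agent.Lib.Helper7.Camina

section Sums

variable {W : Type*} [CommGroup W]

/-- If `a ^ q = 1` and `a` has no nontrivial fixed point then the norm of every element is `1`. -/
theorem prod_pow_apply_eq_one (a : MulAut W) (q : ℕ) (hq : a ^ q = 1)
    (hfix : ∀ w : W, a w = w → w = 1) (w : W) :
    ∏ i ∈ Finset.range q, (a ^ i) w = 1 := by
  apply hfix
  rw [map_prod]
  have h1 : ∀ i, a ((a ^ i) w) = (a ^ (i + 1)) w := by
    intro i
    rw [pow_succ']
    rfl
  simp_rw [h1]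
  have h2 := Finset.prod_range_succ (fun i => (a ^ i) w) q
  have h3 := Finset.prod_range_succ' (fun i => (a ^ i) w) q
  rw [h3] at h2
  simp only [hq, pow_zero] at h2
  exact mul_right_cancel h2

end Sums

section Klein
variable {W : Type*} [CommGroup W]

/-- Auxiliary: a power `Y ^ i` (`0 < i < q`) of a fixed-point-free automorphism of prime order `q`
is fixed-point-free. -/
theorem fix_pow_of_fix (q : ℕ) [hq : Fact q.Prime] (Y : MulAut W) (hY : Y ^ q = 1)
    (hYfix : ∀ w : W, Y w = w → w = 1) (i : ℕ) (hi0 : 0 < i) (hiq : i < q)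
    (w : W) (hw : (Y ^ i) w = w) : w = 1 := by
  have hcop : Nat.Coprime i q := by
    rw [Nat.coprime_comm]
    exact (Nat.Prime.coprime_iff_not_dvd hq.out).2 (Nat.not_dvd_of_pos_of_lt hi0 hiq)
  obtain ⟨m, -, hm⟩ := Nat.exists_mul_mod_eq_one_of_coprime hcop hq.out.one_lt
  apply hYfix
  have h1 : Y = Y ^ (i * m) := by
    have := pow_eq_pow_mod (i * m) hY
    rw [hm, pow_one] at this
    exact this.symm
  have h2 : ∀ n : ℕ, ((Y ^ i) ^ n) w = w := by
    intro n
    induction n with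
    | zero => simp
    | succ n ih =>
      rw [pow_succ]
      change ((Y ^ i) ^ n) ((Y ^ i) w) = w
      rw [hw, ih]
  have h3 := h2 m
  rw [← pow_mul] at h3
  conv_lhs => rw [h1]
  exact h3

/-- `C_q × C_q` cannot act on a nontrivial abelian group without `q`-torsion in such a way that
every nonidentity element is fixed-point-free. -/
theorem trivial_of_klein_fpf (q : ℕ) [hq : Fact q.Prime] (Y Z : MulAut W) (hYZ : Commute Y Z)
    (hY : Y ^ q = 1) (hZ : Z ^ q = 1)
    (hYfix : ∀ w : W, Y w = w → w = 1)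
    (hZYfix : ∀ j : ℕ, ∀ w : W, (Z * Y ^ j) w = w → w = 1)
    (hqW : ∀ w : W, w ^ q = 1 → w = 1) (w : W) : w = 1 := by
  apply hqW
  -- the double product is trivial
  have h1 : ∀ j : ℕ, ∏ i ∈ Finset.range q, ((Z * Y ^ j) ^ i) w = 1 := by
    intro j
    apply prod_pow_apply_eq_one _ q _ (hZYfix j)
    have hc : Commute Z (Y ^ j) := (hYZ.pow_left j).symm
    rw [hc.mul_pow, hZ, ← pow_mul, mul_comm j q, pow_mul, hY, one_pow, one_mul]
  have h2 : ∏ j ∈ Finset.range q, ∏ i ∈ Finset.range q, ((Z * Y ^ j) ^ i) w = 1 := by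
    apply Finset.prod_eq_one
    intro j _
    exact h1 j
  rw [Finset.prod_comm] at h2
  -- rewrite the inner products
  have h3 : ∀ i : ℕ, ∏ j ∈ Finset.range q, ((Z * Y ^ j) ^ i) w
      = (Z ^ i) (∏ j ∈ Finset.range q, ((Y ^ i) ^ j) w) := by
    intro i
    rw [map_prod]
    apply Finset.prod_congr rfl
    intro j _
    have hc : Commute Z (Y ^ j) := (hYZ.pow_left j).symm
    rw [hc.mul_pow, ← pow_mul, ← pow_mul, mul_comm j i]
    rfl
  simp_rw [h3] at h2
  obtain ⟨q', hq'⟩ : ∃ q', q = q' + 1 := ⟨q - 1, by have := hq.out.pos; omega⟩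
  rw [hq', Finset.prod_range_succ'] at h2
  have h4 : ∀ i ∈ Finset.range q', (Z ^ (i + 1)) (∏ j ∈ Finset.range (q' + 1), ((Y ^ (i + 1)) ^ j) w) = 1 := by
    intro i hi
    rw [Finset.mem_range] at hi
    have : ∏ j ∈ Finset.range (q' + 1), ((Y ^ (i + 1)) ^ j) w = 1 := by
      rw [← hq']
      apply prod_pow_apply_eq_one
      · rw [← pow_mul, mul_comm, pow_mul, hY, one_pow]
      · intro w' hw'
        exact fix_pow_of_fix q Y hY hYfix (i + 1) (by omega) (by omega) w' hw'
    rw [this, map_one]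
  rw [Finset.prod_eq_one h4, one_mul] at h2
  simp only [pow_zero, one_pow, MulAut.one_apply, Finset.prod_const, Finset.card_range] at h2
  rw [hq']
  exact h2

end Klein

section Frob
variable {W : Type*} [CommGroup W]

/-- A "Frobenius" configuration `K ⋊ ⟨h⟩` cannot act on a nontrivial abelian group `W` without
`|K|`-torsion with both `K` and `h` fixed-point-free. -/
theorem trivial_of_frobenius_fpf {A : Type*} [Group A] (φ : A →* MulAut W) (K : Subgroup A)
    [Finite K] (h : A) (r : ℕ) (hrpos : 0 < r) (hr : h ^ r = 1)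
    (hnorm : ∀ k ∈ K, h⁻¹ * k * h ∈ K)
    (hCK : ∀ i, 0 < i → i < r → ∀ k ∈ K, Commute (h ^ i) k → k = 1)
    (hhfix : ∀ w : W, φ h w = w → w = 1)
    (hKfix : ∀ w : W, (∀ k ∈ K, φ k w = w) → w = 1)
    (hcard : ∀ w : W, w ^ Nat.card K = 1 → w = 1) (w : W) : w = 1 := by
  classical
  have : Fintype K := Fintype.ofFinite K
  apply hcard
  have hφr : (φ h) ^ r = 1 := by rw [← map_pow, hr, map_one]
  -- normalisation by powers of h
  have hnorm' : ∀ i : ℕ, ∀ k ∈ K, (h ^ i)⁻¹ * k * h ^ i ∈ K := by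
    intro i
    induction i with
    | zero => intro k hk; simpa using hk
    | succ i ih =>
      intro k hk
      have := hnorm _ (ih k hk)
      have e : (h ^ (i + 1))⁻¹ * k * h ^ (i + 1) = h⁻¹ * ((h ^ i)⁻¹ * k * h ^ i) * h := by
        rw [pow_succ]; group
      rw [e]; exact this
  -- the K-norm is K-fixed, hence trivial
  have hKnorm : ∀ u : W, ∏ k : K, φ (k : A) u = 1 := by
    intro u
    apply hKfix
    intro k0 hk0
    rw [map_prod]
    have : ∀ k : K, φ k0 (φ (k : A) u) = φ ((⟨k0, hk0⟩ * k : K) : A) u := by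
      intro k
      rw [Subgroup.coe_mul, map_mul]
      rfl
    simp_rw [this]
    exact Fintype.prod_equiv (Equiv.mulLeft (⟨k0, hk0⟩ : K)) _ _ (fun k => rfl)
  -- each conjugate of h has trivial norm
  have h1 : ∀ k : K, ∏ i ∈ Finset.range r, φ ((k : A)⁻¹ * h ^ i * k) w = 1 := by
    intro k
    have e : ∀ i : ℕ, φ ((k : A)⁻¹ * h ^ i * k) w = φ (k : A)⁻¹ (((φ h) ^ i) (φ (k : A) w)) := by
      intro i
      rw [map_mul, map_mul, map_pow]
      rfl
    simp_rw [e]
    rw [← map_prod, prod_pow_apply_eq_one (φ h) r hφr hhfix, map_one]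
  have h2 : ∏ k : K, ∏ i ∈ Finset.range r, φ ((k : A)⁻¹ * h ^ i * k) w = 1 :=
    Finset.prod_eq_one (fun k _ => h1 k)
  rw [Finset.prod_comm] at h2
  -- inner products for i ≠ 0
  have h3 : ∀ i : ℕ, 0 < i → i < r → ∏ k : K, φ ((k : A)⁻¹ * h ^ i * k) w = 1 := by
    intro i hi0 hir
    let ψ : K → K := fun k => ⟨(h ^ i)⁻¹ * (k : A)⁻¹ * h ^ i * k, by
      have := hnorm' i _ (K.inv_mem k.2)
      exact K.mul_mem this k.2⟩
    have hψinj : Function.Injective ψ := by
      intro k k' hkk'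
      have e1 : (h ^ i)⁻¹ * (k : A)⁻¹ * h ^ i * k = (h ^ i)⁻¹ * (k' : A)⁻¹ * h ^ i * k' :=
        congrArg Subtype.val hkk'
      have e2 : Commute (h ^ i) ((k' : A) * (k : A)⁻¹) := by
        have e3 : (k : A)⁻¹ * h ^ i * k = (k' : A)⁻¹ * h ^ i * k' := by
          have := congrArg (fun x => h ^ i * x) e1
          simpa [mul_assoc] using this
        unfold Commute SemiconjBy
        calc h ^ i * ((k' : A) * (k : A)⁻¹)
            = k' * ((k' : A)⁻¹ * h ^ i * k') * (k : A)⁻¹ := by group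
          _ = k' * ((k : A)⁻¹ * h ^ i * k) * (k : A)⁻¹ := by rw [e3]
          _ = (k' : A) * (k : A)⁻¹ * h ^ i := by group
      have e4 := hCK i hi0 hir _ (K.mul_mem k'.2 (K.inv_mem k.2)) e2
      apply Subtype.ext
      have : (k' : A) = k := by
        have := mul_inv_eq_one.mp e4
        exact this
      exact this.symm
    have hψbij : Function.Bijective ψ := Finite.injective_iff_bijective.mp hψinj
    have e : ∀ k : K, φ ((k : A)⁻¹ * h ^ i * k) w = φ (h ^ i) (φ ((ψ k : K) : A) w) := by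
      intro k
      have : (k : A)⁻¹ * h ^ i * k = h ^ i * ((ψ k : K) : A) := by
        change _ = h ^ i * ((h ^ i)⁻¹ * (k : A)⁻¹ * h ^ i * k)
        group
      rw [this, map_mul]
      rfl
    simp_rw [e]
    rw [← map_prod]
    have : ∏ k : K, φ ((ψ k : K) : A) w = ∏ k : K, φ (k : A) w :=
      Fintype.prod_equiv (Equiv.ofBijective ψ hψbij) _ _ (fun k => rfl)
    rw [this, hKnorm, map_one]
  -- conclude
  obtain ⟨r', hr'⟩ : ∃ r', r = r' + 1 := ⟨r - 1, by omega⟩
  rw [hr', Finset.prod_range_succ'] at h2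
  have h4 : ∀ i ∈ Finset.range r', ∏ k : K, φ ((k : A)⁻¹ * h ^ (i + 1) * k) w = 1 := by
    intro i hi
    rw [Finset.mem_range] at hi
    exact h3 (i + 1) (by omega) (by omega)
  rw [Finset.prod_eq_one h4, one_mul] at h2
  simp only [pow_zero, mul_one, inv_mul_cancel, map_one, MulAut.one_apply, Finset.prod_const,
    Finset.card_univ] at h2
  rw [Nat.card_eq_fintype_card]
  exact h2

end Frob

section MaxCyclic

/-- In a group of exponent dividing `q ^ e`, if a central element `c` of order `q ^ e` does not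
generate the whole group, then there is an element `y` with `y ^ q = 1` outside `⟨c⟩`. -/
theorem exists_pow_prime_eq_one_not_mem_zpowers {P : Type*} [Group P] (q : ℕ) [hq : Fact q.Prime]
    (c : P) (hc : c ∈ Subgroup.center P) (e : ℕ) (he : orderOf c = q ^ e)
    (hexp : ∀ y : P, y ^ (q ^ e) = 1) (hne : Subgroup.zpowers c ≠ ⊤) :
    ∃ y : P, y ^ q = 1 ∧ y ∉ Subgroup.zpowers c := by
  classical
  obtain ⟨y0, hy0⟩ : ∃ y0 : P, y0 ∉ Subgroup.zpowers c := by
    by_contra hcon
    push Not at hcon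
    exact hne (eq_top_iff.mpr (fun y _ => hcon y))
  have hex : ∃ t : ℕ, y0 ^ (q ^ t) ∈ Subgroup.zpowers c := ⟨e, by rw [hexp]; exact one_mem _⟩
  have ht0 : Nat.find hex ≠ 0 := by
    intro h0
    have := Nat.find_spec hex
    rw [h0, pow_zero, pow_one] at this
    exact hy0 this
  obtain ⟨t', ht'⟩ : ∃ t', Nat.find hex = t' + 1 := ⟨Nat.find hex - 1, by omega⟩
  set y1 := y0 ^ (q ^ t') with hy1def
  have hy1 : y1 ∉ Subgroup.zpowers c := Nat.find_min hex (by omega : t' < Nat.find hex)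
  have hy1q : y1 ^ q ∈ Subgroup.zpowers c := by
    have := Nat.find_spec hex
    rw [ht', pow_succ, pow_mul] at this
    exact this
  obtain ⟨i, hi⟩ := Subgroup.mem_zpowers_iff.mp hy1q
  -- e ≥ 1
  have he0 : e ≠ 0 := by
    intro h0
    have := hexp y0
    rw [h0, pow_zero, pow_one] at this
    exact hy0 (this ▸ one_mem _)
  obtain ⟨e', he'⟩ : ∃ e', e = e' + 1 := ⟨e - 1, by omega⟩
  -- q ∣ i
  have hqi : (q : ℤ) ∣ i := by
    have h1 : c ^ (i * (q ^ e' : ℕ)) = 1 := by
      rw [zpow_mul, hi, zpow_natCast, ← pow_mul, mul_comm, ← pow_succ, ← he']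
      exact hexp y1
    have h2 := (orderOf_dvd_iff_zpow_eq_one).mpr h1
    rw [he, he'] at h2
    have h3 : ((q ^ (e' + 1) : ℕ) : ℤ) = (q : ℤ) * ((q ^ e' : ℕ) : ℤ) := by
      push_cast; ring
    rw [h3] at h2
    have hne0 : ((q ^ e' : ℕ) : ℤ) ≠ 0 := by
      have := hq.out.pos
      positivity
    exact (mul_dvd_mul_iff_right hne0).mp h2
  obtain ⟨i', hi'⟩ := hqi
  refine ⟨y1 * c ^ (-i'), ?_, ?_⟩
  · have hcomm : Commute y1 (c ^ (-i')) := by
      have : Commute y1 c := (Subgroup.mem_center_iff.mp hc y1)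
      exact this.zpow_right _
    rw [hcomm.mul_pow, ← hi, ← zpow_natCast (c ^ (-i')) q, ← zpow_mul, ← zpow_add, hi']
    have : (q : ℤ) * i' + -i' * (q : ℤ) = 0 := by ring
    rw [this, zpow_zero]
  · intro hmem
    apply hy1
    have h1 : y1 = (y1 * c ^ (-i')) * c ^ i' := by
      rw [mul_assoc, ← zpow_add]; simp
    rw [h1]
    exact Subgroup.mul_mem _ hmem (Subgroup.zpow_mem_zpowers c i')

end MaxCyclic

section Wrappers
variable {W : Type*} [Group W]

/-- `trivial_of_klein_fpf` for a group with a commutativity hypothesis. -/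
theorem trivial_of_klein_fpf' (hcomm : ∀ a b : W, a * b = b * a)
    (q : ℕ) [hq : Fact q.Prime] (Y Z : MulAut W) (hYZ : Commute Y Z)
    (hY : Y ^ q = 1) (hZ : Z ^ q = 1)
    (hYfix : ∀ w : W, Y w = w → w = 1)
    (hZYfix : ∀ j : ℕ, ∀ w : W, (Z * Y ^ j) w = w → w = 1)
    (hqW : ∀ w : W, w ^ q = 1 → w = 1) (w : W) : w = 1 := by
  let _ : CommGroup W := { ‹Group W› with mul_comm := hcomm }
  exact trivial_of_klein_fpf q Y Z hYZ hY hZ hYfix hZYfix hqW w

/-- `trivial_of_frobenius_fpf` for a group with a commutativity hypothesis. -/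
theorem trivial_of_frobenius_fpf' (hcomm : ∀ a b : W, a * b = b * a)
    {A : Type*} [Group A] (φ : A →* MulAut W) (K : Subgroup A)
    [Finite K] (h : A) (r : ℕ) (hrpos : 0 < r) (hr : h ^ r = 1)
    (hnorm : ∀ k ∈ K, h⁻¹ * k * h ∈ K)
    (hCK : ∀ i, 0 < i → i < r → ∀ k ∈ K, Commute (h ^ i) k → k = 1)
    (hhfix : ∀ w : W, φ h w = w → w = 1)
    (hKfix : ∀ w : W, (∀ k ∈ K, φ k w = w) → w = 1)
    (hcard : ∀ w : W, w ^ Nat.card K = 1 → w = 1) (w : W) : w = 1 := by
  let _ : CommGroup W := { ‹Group W› with mul_comm := hcomm }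
  exact trivial_of_frobenius_fpf φ K h r hrpos hr hnorm hCK hhfix hKfix hcard w

end Wrappers

end Cfsg.Agent.Lib.Helper7.Camina
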