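import Mathlib
import Cfsg.Agent.Lib.Helper7.CaminaBasic
import Cfsg.Agent.Lib.Helper7.CaminaSums

set_option autoImplicit false

/-! Camina's theorem: for a Camina pair `(G, N)`, either `G` is a Frobenius group with kernel `N`
(in the form `C_G(x) ≤ N` for `1 ≠ x ∈ N`), or `N` is a `p`-group, or `G / N` is a `p`-group.
Character-free proof by induction on `|G|` through supplements `N_G(P)` of `N`, `P` a Sylow
subgroup of `N`. -/

namespace Cfsg.Agent.Lib.Helper7.Camina

universe u

/-- The inductive statement: in a Camina pair `(G, N)` with `|G| = m`, if the prime `q` divides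
both `|N|` and `[G : N]` then `N` or `G / N` is a `q`-group. -/
def MainStmt (q m : ℕ) : Prop :=
  ∀ (G : Type u) [Group G] [Finite G], Nat.card G = m → ∀ (N : Subgroup G) [N.Normal],
    IsCamina N → q ∣ Nat.card N → q ∣ N.index → IsPGroup q N ∨ ∃ k : ℕ, N.index = q ^ k

variable {G : Type u} [Group G]

theorem index_subgroupOf_of_sup_eq_top (N G₁ : Subgroup G) [N.Normal] (hsup : G₁ ⊔ N = ⊤) :
    (N.subgroupOf G₁).index = N.index := by
  change N.relIndex G₁ = N.index
  rw [← Subgroup.relIndex_sup_right, hsup, Subgroup.relIndex_top_right]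

/-- In a minimal situation, every proper supplement of `N` meets `N` in a `q`-group. -/
theorem isPGroup_inf_of_supplement [Finite G] (q : ℕ) [hq : Fact q.Prime]
    (IH : ∀ m < Nat.card G, MainStmt.{u} q m) (N : Subgroup G) [hN : N.Normal] (hc : IsCamina N)
    (hqN : q ∣ Nat.card N) (hqi : q ∣ N.index) (hnot : ¬ ∃ k : ℕ, N.index = q ^ k)
    (G₁ : Subgroup G) (hsup : G₁ ⊔ N = ⊤) (hne : G₁ ≠ ⊤) : IsPGroup q (N ⊓ G₁ : Subgroup G) := by
  have hcard : Nat.card G₁ < Nat.card G := by
    have h1 := Subgroup.card_mul_index G₁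
    have h2 : 1 < G₁.index := Subgroup.one_lt_index_of_ne_top hne
    have h3 : 0 < Nat.card G₁ := Nat.card_pos
    nlinarith
  have hidx := index_subgroupOf_of_sup_eq_top N G₁ hsup
  have hc₁ : IsCamina (N.subgroupOf G₁) := by
    intro g hg n hn
    rw [Subgroup.mem_subgroupOf] at hg hn
    obtain ⟨y, hy1, hy⟩ := (hc.supplement G₁ hsup g.2 hg).2 n hn n.2
    exact ⟨⟨y, hy1⟩, Subtype.ext hy⟩
  have hqN₁ : q ∣ Nat.card (N.subgroupOf G₁) := by
    obtain ⟨g₁, hg₁, k, hk⟩ := exists_pElt_not_mem (N.subgroupOf G₁) q (hidx ▸ hqi)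
    rw [Subgroup.mem_subgroupOf] at hg₁
    have hk' : (g₁ : G) ^ (q ^ k) = 1 := by
      have := congrArg Subtype.val hk
      simpa using this
    obtain ⟨x, hxN, hxo, hxg⟩ := exists_orderOf_eq_prime_commute N q hqN (g₁ : G) ⟨k, hk'⟩
    have hxG₁ : x ∈ G₁ := by
      apply (hc.supplement G₁ hsup g₁.2 hg₁).1
      rw [Subgroup.mem_centralizer_singleton_iff]
      exact hxg.eq
    have : orderOf (⟨⟨x, hxG₁⟩, by rw [Subgroup.mem_subgroupOf]; exact hxN⟩ : N.subgroupOf G₁) = q := by
      rw [← Subgroup.orderOf_coe, ← Subgroup.orderOf_coe]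
      exact hxo
    rw [← this]
    exact orderOf_dvd_natCard _
  rcases IH _ hcard G₁ rfl (N.subgroupOf G₁) hc₁ hqN₁ (hidx ▸ hqi) with h | ⟨k, hk⟩
  · intro x
    obtain ⟨k, hk⟩ := h ⟨⟨x.1, (Subgroup.mem_inf.mp x.2).2⟩, by
      rw [Subgroup.mem_subgroupOf]; exact (Subgroup.mem_inf.mp x.2).1⟩
    refine ⟨k, Subtype.ext ?_⟩
    have := congrArg (fun t : N.subgroupOf G₁ => ((t : G₁) : G)) hk
    simpa using this
  · exact absurd ⟨k, hidx ▸ hk⟩ hnot

/-- An element killed by powers of two different primes is trivial. -/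
theorem eq_one_of_pow_prime_pow {x : G} {p r : ℕ} (hp : p.Prime) (hr : r.Prime) (hpr : p ≠ r)
    {a b : ℕ} (h1 : x ^ (p ^ a) = 1) (h2 : x ^ (r ^ b) = 1) : x = 1 := by
  have h := pow_gcd_eq_one.mpr ⟨h1, h2⟩
  have hcop : Nat.Coprime (p ^ a) (r ^ b) :=
    Nat.Coprime.pow _ _ ((Nat.coprime_primes hp hr).mpr hpr)
  rw [hcop, pow_one] at h
  exact h

/-- The centre of a nontrivial normal `s`-subgroup gives a nontrivial abelian normal subgroup. -/
theorem exists_abelian_normal_subgroup [Finite G] (s : ℕ) [Fact s.Prime] (S₀ : Subgroup G)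
    (hS₀n : S₀.Normal) (hS₀p : IsPGroup s S₀) (hS₀ne : S₀ ≠ ⊥) :
    ∃ V : Subgroup G, V.Normal ∧ V ≤ S₀ ∧ V ≠ ⊥ ∧ (∀ a ∈ V, ∀ b ∈ V, a * b = b * a) ∧
      S₀ ≤ Subgroup.centralizer (V : Set G) := by
  refine ⟨S₀ ⊓ Subgroup.centralizer (S₀ : Set G), inferInstance, inf_le_left, ?_, ?_, ?_⟩
  · have : Nontrivial S₀ := (Subgroup.nontrivial_iff_ne_bot S₀).mpr hS₀ne
    have : Nontrivial (Subgroup.center S₀) := hS₀p.center_nontrivial
    obtain ⟨z, hz⟩ := exists_ne (1 : Subgroup.center S₀)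
    intro hbot
    apply hz
    have hzm : ((z : S₀) : G) ∈ S₀ ⊓ Subgroup.centralizer (S₀ : Set G) := by
      refine Subgroup.mem_inf.mpr ⟨(z : S₀).2, ?_⟩
      rw [Subgroup.mem_centralizer_iff]
      intro y hy
      have := Subgroup.mem_center_iff.mp z.2 ⟨y, hy⟩
      exact congrArg Subtype.val this
    rw [hbot, Subgroup.mem_bot] at hzm
    exact Subtype.ext (Subtype.ext hzm)
  · intro a ha b hb
    have h1 := (Subgroup.mem_inf.mp ha).2
    rw [Subgroup.mem_centralizer_iff] at h1
    exact (h1 b (Subgroup.mem_inf.mp hb).1).symm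
  · intro y hy
    rw [Subgroup.mem_centralizer_iff]
    intro v hv
    have h1 := (Subgroup.mem_inf.mp hv).2
    rw [Subgroup.mem_centralizer_iff] at h1
    exact (h1 y hy).symm


/-- If all Sylow subgroups of `N` are normal in `G`, then `N` centralises every normal subgroup `V`
of `G` contained in, and centralised by, a Sylow `s`-subgroup of `N`. -/
theorem le_centralizer_of_sylow_normal [Finite G] (N : Subgroup G) [N.Normal] (s : ℕ)
    [hs : Fact s.Prime] (S : Sylow s N)
    (hall : ∀ (p : ℕ) [Fact p.Prime] (P : Sylow p N),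
      Subgroup.normalizer ((P.map N.subtype : Subgroup G) : Set G) = ⊤)
    (V : Subgroup G) [hVn : V.Normal] (hVS : V ≤ (S.map N.subtype : Subgroup G))
    (hcent : (S.map N.subtype : Subgroup G) ≤ Subgroup.centralizer (V : Set G)) :
    N ≤ Subgroup.centralizer (V : Set G) := by
  set C : Subgroup G := N ⊓ Subgroup.centralizer (V : Set G) with hC
  have hVs : IsPGroup s V := (S.2.map N.subtype).to_le hVS
  have hdvd : Nat.card N ∣ Nat.card C := by
    rw [← Nat.factorization_prime_le_iff_dvd Nat.card_pos.ne' Nat.card_pos.ne']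
    intro p hp
    have : Fact p.Prime := ⟨hp⟩
    have key : ∀ P : Sylow p N, (P.map N.subtype : Subgroup G) ≤ Subgroup.centralizer (V : Set G) →
        (Nat.card N).factorization p ≤ (Nat.card C).factorization p := by
      intro P hP
      have h1 : (P.map N.subtype : Subgroup G) ≤ C := le_inf (Subgroup.map_subtype_le _) hP
      have h2 := Subgroup.card_dvd_of_le h1
      rw [Subgroup.card_map_of_injective N.subtype_injective, Sylow.card_eq_multiplicity] at h2
      exact (hp.pow_dvd_iff_le_factorization Nat.card_pos.ne').mp h2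
    by_cases hps : p = s
    · subst hps
      exact key S hcent
    · obtain ⟨P⟩ : Nonempty (Sylow p N) := inferInstance
      apply key P
      intro x hx
      rw [Subgroup.mem_centralizer_iff]
      intro v hv
      have hPn : (P.map N.subtype : Subgroup G).Normal := Subgroup.normalizer_eq_top_iff.mp (hall p P)
      have hdis : Disjoint (P.map N.subtype : Subgroup G) V :=
        IsPGroup.disjoint_of_ne p s hps _ _ (P.2.map _) hVs
      exact ((Subgroup.commute_of_normal_of_disjoint _ _ hPn hVn hdis x v hx hv).eq).symm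
  have hle : C ≤ N := inf_le_left
  have := Subgroup.eq_of_le_of_card_ge hle (Nat.le_of_dvd Nat.card_pos hdvd)
  rw [← this]
  exact inf_le_right

/-- Elements of `G` with the same image in `G ⧸ N` induce the same automorphism of a normal
subgroup `V` centralised by `N`. -/
theorem conjNormal_eq_of_mk_eq (N : Subgroup G) [N.Normal] (V : Subgroup G) [V.Normal]
    (hNV : N ≤ Subgroup.centralizer (V : Set G)) {a b : G} (hab : (a : G ⧸ N) = (b : G ⧸ N)) :
    (MulAut.conjNormal a : MulAut V) = MulAut.conjNormal b := by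
  have hn : a⁻¹ * b ∈ N := QuotientGroup.eq.mp hab
  have hb : b = a * (a⁻¹ * b) := by group
  rw [hb, map_mul]
  have : (MulAut.conjNormal (a⁻¹ * b) : MulAut V) = 1 := by
    ext v
    rw [MulAut.conjNormal_apply, MulAut.one_apply]
    have := (Subgroup.mem_centralizer_iff.mp (hNV hn)) v v.2
    rw [← this]; group
  rw [this, mul_one]

/-- Fixed-point-freeness on `V` of elements whose image in `G ⧸ N` is a nontrivial `q`-element. -/
theorem IsCamina.fpf_of_pElt [Finite G] {N : Subgroup G} [N.Normal] (hc : IsCamina N)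
    (q s : ℕ) [hq : Fact q.Prime] (hs : s.Prime) (hsq : s ≠ q)
    (V : Subgroup G) (hVN : V ≤ N) (hVs : ∀ v ∈ V, ∃ j : ℕ, v ^ (s ^ j) = 1)
    (hNV : N ≤ Subgroup.centralizer (V : Set G))
    (a : G) (k : ℕ) (hak : (a : G ⧸ N) ^ (q ^ k) = 1) (ha1 : (a : G ⧸ N) ≠ 1)
    (v : G) (hv : v ∈ V) (hav : a * v * a⁻¹ = v) : v = 1 := by
  obtain ⟨a', ha', b, hb⟩ := exists_pElt_lift N q (a : G ⧸ N) k hak
  have hn : a⁻¹ * a' ∈ N := QuotientGroup.eq.mp ha'.symm
  have ha'N : a' ∉ N := by
    intro hmem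
    apply ha1
    rw [← ha']
    exact (QuotientGroup.eq_one_iff _).mpr hmem
  have hnv : (a⁻¹ * a') * v = v * (a⁻¹ * a') :=
    ((Subgroup.mem_centralizer_iff.mp (hNV hn)) v hv).symm
  have hcomm : Commute a' v := by
    have e : a' = a * (a⁻¹ * a') := by group
    have hav' : a * v = v * a := mul_inv_eq_iff_eq_mul.mp hav
    unfold Commute SemiconjBy
    calc a' * v = a * ((a⁻¹ * a') * v) := by rw [← mul_assoc, ← e]
      _ = a * (v * (a⁻¹ * a')) := by rw [hnv]
      _ = (a * v) * (a⁻¹ * a') := by rw [mul_assoc]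
      _ = (v * a) * (a⁻¹ * a') := by rw [hav']
      _ = v * a' := by group
  have h1 := hc.pow_eq_one_of_commute ha'N (hVN hv) hcomm hb
  obtain ⟨j, hj⟩ := hVs v hv
  exact eq_one_of_pow_prime_pow hq.out hs hsq.symm h1 hj

/-- A nontrivial abelian normal `s`-subgroup `V` of `G` inside `N`, centralised by `N`, when all
Sylow subgroups of `N` are normal in `G`. -/
theorem exists_V_of_all_sylow_normal [Finite G] (q : ℕ)
    (N : Subgroup G) [hN : N.Normal] (hnotN : ¬ IsPGroup q N)
    (hall : ∀ (p : ℕ) [Fact p.Prime] (P : Sylow p N),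
      Subgroup.normalizer ((P.map N.subtype : Subgroup G) : Set G) = ⊤) :
    ∃ (s : ℕ) (V : Subgroup G), s.Prime ∧ s ≠ q ∧ V.Normal ∧ V ≤ N ∧ V ≠ ⊥ ∧
      (∀ a ∈ V, ∀ b ∈ V, a * b = b * a) ∧ (∀ v ∈ V, ∃ j : ℕ, v ^ (s ^ j) = 1) ∧
      N ≤ Subgroup.centralizer (V : Set G) := by
  obtain ⟨s, hs, hsN, hsq⟩ : ∃ s : ℕ, s.Prime ∧ s ∣ Nat.card N ∧ s ≠ q := by
    by_contra hcon
    push Not at hcon
    apply hnotN
    exact IsPGroup.of_card (Nat.eq_prime_pow_of_unique_prime_dvd Nat.card_pos.ne'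
      (fun {d} hd hdvd => hcon d hd hdvd))
  have : Fact s.Prime := ⟨hs⟩
  obtain ⟨S⟩ : Nonempty (Sylow s N) := inferInstance
  have hSn := hall s S
  set S₀ : Subgroup G := S.map N.subtype with hS₀
  have hS₀n : S₀.Normal := Subgroup.normalizer_eq_top_iff.mp hSn
  have hS₀p : IsPGroup s S₀ := S.2.map _
  have hS₀N : S₀ ≤ N := Subgroup.map_subtype_le _
  have hS₀ne : S₀ ≠ ⊥ := by
    intro hbot
    have hsS : s ∣ Nat.card S := by
      rw [Sylow.card_eq_multiplicity]
      apply dvd_pow_self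
      have := (Nat.Prime.factorization_pos_of_dvd hs Nat.card_pos.ne' hsN)
      omega
    obtain ⟨x, hx⟩ := exists_prime_orderOf_dvd_card' (G := S) s hsS
    have hxm : ((x : N) : G) ∈ S₀ := Subgroup.mem_map.mpr ⟨(x : N), x.2, rfl⟩
    rw [hbot, Subgroup.mem_bot] at hxm
    have ho : orderOf ((x : N) : G) = s := by
      rw [Subgroup.orderOf_coe, Subgroup.orderOf_coe]; exact hx
    rw [hxm, orderOf_one] at ho
    exact hs.one_lt.ne ho
  obtain ⟨V, hVn, hVS, hVne, hVcomm, hVc⟩ := exists_abelian_normal_subgroup s S₀ hS₀n hS₀p hS₀ne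
  have := hVn
  have hVs : ∀ v ∈ V, ∃ j : ℕ, v ^ (s ^ j) = 1 := by
    intro v hv
    obtain ⟨j, hj⟩ := hS₀p ⟨v, hVS hv⟩
    refine ⟨j, ?_⟩
    have := congrArg Subtype.val hj
    rw [Subgroup.coe_pow] at this; exact this
  exact ⟨s, V, hs, hsq, hVn, hVS.trans hS₀N, hVne, hVcomm, hVs,
    le_centralizer_of_sylow_normal N s S hall V hVS hVc⟩

/-- A `q`-element of maximal order in `G ⧸ N`. -/
theorem exists_max_pElt [Finite G] (N : Subgroup G) [N.Normal] (q : ℕ) [hq : Fact q.Prime]
    (hqi : q ∣ N.index) :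
    ∃ (gbar : G ⧸ N) (e : ℕ), orderOf gbar = q ^ (e + 1) ∧
      ∀ ybar : G ⧸ N, (∃ k : ℕ, ybar ^ (q ^ k) = 1) → ybar ^ (q ^ (e + 1)) = 1 := by
  classical
  set S : Set (G ⧸ N) := {ybar | ∃ k : ℕ, ybar ^ (q ^ k) = 1} with hS
  obtain ⟨gbar, hgS, hmax⟩ := Set.exists_max_image S orderOf (Set.toFinite S) ⟨1, 0, by simp⟩
  obtain ⟨k, hk⟩ := hgS
  obtain ⟨e0, -, he0⟩ := (Nat.dvd_prime_pow hq.out).mp (orderOf_dvd_of_pow_eq_one hk)
  rw [Subgroup.index_eq_card] at hqi
  obtain ⟨y0, hy0⟩ := exists_prime_orderOf_dvd_card' q hqi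
  have hy0S : y0 ∈ S := ⟨1, by rw [pow_one, ← hy0]; exact pow_orderOf_eq_one _⟩
  have he0pos : e0 ≠ 0 := by
    intro h0
    have := hmax y0 hy0S
    rw [hy0, he0, h0, pow_zero] at this
    exact absurd this (by have := hq.out.one_lt; omega)
  obtain ⟨e, rfl⟩ : ∃ e, e0 = e + 1 := ⟨e0 - 1, by omega⟩
  refine ⟨gbar, e, he0, ?_⟩
  rintro ybar ⟨k', hk'⟩
  obtain ⟨j, -, hj⟩ := (Nat.dvd_prime_pow hq.out).mp (orderOf_dvd_of_pow_eq_one hk')
  have hle := hmax ybar ⟨k', hk'⟩
  rw [hj, he0] at hle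
  have hje : j ≤ e + 1 := (Nat.pow_le_pow_iff_right hq.out.one_lt).mp hle
  apply orderOf_dvd_iff_pow_eq_one.mp
  rw [hj]
  exact pow_dvd_pow q hje

/-- In a Camina pair with `q ∣ |N|`, for a `q`-element `g ∉ N` the order of the centraliser of
`g N` in `G ⧸ N` is divisible by `q` times the order of `g N`. -/
theorem IsCamina.mul_orderOf_dvd_card_centralizer [Finite G] {N : Subgroup G} [hN : N.Normal]
    (hc : IsCamina N) (q : ℕ) [hq : Fact q.Prime] (hqN : q ∣ Nat.card N)
    (g : G) (hgN : g ∉ N) (b : ℕ) (hgb : g ^ (q ^ b) = 1) :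
    q * orderOf (g : G ⧸ N) ∣ Nat.card (Subgroup.centralizer {(g : G ⧸ N)}) := by
  set C := Subgroup.centralizer {g} with hC
  set D := Subgroup.centralizer {(g : G ⧸ N)} with hD
  have h1 : Nat.card (quotCent N g) = Nat.card N * Nat.card C := hc.card_quotCent hgN
  have h2 : Nat.card (quotCent N g) = Nat.card N * Nat.card D := by
    have := QuotientGroup.card_preimage_mk N (D : Set (G ⧸ N))
    exact this
  have hDC : Nat.card D = Nat.card C := by
    rw [h1] at h2
    exact (Nat.eq_of_mul_eq_mul_left Nat.card_pos h2).symm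
  rw [hDC]
  have h3 := card_inf_mul_relIndex N C
  have h4 : N.relIndex C = Nat.card (C.map (QuotientGroup.mk' N)) := by
    have := Subgroup.relIndex_ker (QuotientGroup.mk' N) (K := C)
    rw [QuotientGroup.ker_mk'] at this
    exact this
  have h5 : orderOf (g : G ⧸ N) ∣ N.relIndex C := by
    rw [h4]
    apply Subgroup.orderOf_dvd_natCard
    refine Subgroup.mem_map.mpr ⟨g, ?_, rfl⟩
    rw [hC, Subgroup.mem_centralizer_singleton_iff]
  have h6 : q ∣ Nat.card (N ⊓ C : Subgroup G) := by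
    obtain ⟨x, hxN, hxo, hxg⟩ := exists_orderOf_eq_prime_commute N q hqN g ⟨b, hgb⟩
    have hxC : x ∈ C := by
      rw [hC, Subgroup.mem_centralizer_singleton_iff]; exact hxg.eq
    have : orderOf (⟨x, Subgroup.mem_inf.mpr ⟨hxN, hxC⟩⟩ : (N ⊓ C : Subgroup G)) = q := by
      rw [← Subgroup.orderOf_coe]; exact hxo
    rw [← this]
    exact orderOf_dvd_natCard _
  rw [← h3]
  exact Nat.mul_dvd_mul h6 h5

/-- Pure group theory in `G ⧸ N`: a `q`-element `gbar` of maximal order `q ^ (e+1)` whose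
centraliser has order divisible by `q ^ (e+2)` commutes with an element `ybar` of order dividing
`q` which is not a power of `gbar`. -/
theorem exists_commuting_pElt {H : Type*} [Group H] [Finite H] (q : ℕ) [hq : Fact q.Prime]
    (gbar : H) (e : ℕ) (hord : orderOf gbar = q ^ (e + 1))
    (hexp : ∀ ybar : H, (∃ k : ℕ, ybar ^ (q ^ k) = 1) → ybar ^ (q ^ (e + 1)) = 1)
    (hdvd : q * q ^ (e + 1) ∣ Nat.card (Subgroup.centralizer {gbar})) :
    ∃ ybar : H, ybar ^ q = 1 ∧ ybar ∉ Subgroup.zpowers gbar ∧ ybar * gbar = gbar * ybar := by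
  set D := Subgroup.centralizer {gbar} with hD
  have hgD : gbar ∈ D := by rw [hD, Subgroup.mem_centralizer_singleton_iff]
  have hDmem : ∀ y : D, (y : H) * gbar = gbar * (y : H) :=
    fun y => Subgroup.mem_centralizer_singleton_iff.mp y.2
  -- a Sylow subgroup of D containing gbar
  have hzp : IsPGroup q (Subgroup.zpowers (⟨gbar, hgD⟩ : D)) := by
    apply IsPGroup.of_card (n := e + 1)
    rw [Nat.card_zpowers, ← Subgroup.orderOf_coe]
    exact hord
  obtain ⟨P, hP⟩ := hzp.exists_le_sylow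
  have hcardP : q ^ (e + 2) ∣ Nat.card P := by
    rw [Sylow.card_eq_multiplicity]
    apply pow_dvd_pow
    apply (hq.out.pow_dvd_iff_le_factorization Nat.card_pos.ne').mp
    rw [pow_succ' q (e + 1)]
    exact hdvd
  -- the central element c of P
  have hcP : (⟨gbar, hgD⟩ : D) ∈ (P : Subgroup D) := hP (Subgroup.mem_zpowers _)
  set c : (P : Subgroup D) := ⟨⟨gbar, hgD⟩, hcP⟩ with hc
  have hcc : c ∈ Subgroup.center (P : Subgroup D) := by
    rw [Subgroup.mem_center_iff]
    intro y
    apply Subtype.ext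
    apply Subtype.ext
    exact hDmem (y : D)
  have hco : orderOf c = q ^ (e + 1) := by
    rw [← Subgroup.orderOf_coe, ← Subgroup.orderOf_coe]
    exact hord
  have hexpP : ∀ y : (P : Subgroup D), y ^ (q ^ (e + 1)) = 1 := by
    intro y
    obtain ⟨k, hk⟩ := P.2 y
    have h1 : (((y : D) : H)) ^ (q ^ k) = 1 := by
      have := congrArg (fun t : (P : Subgroup D) => (((t : D)) : H)) hk
      simpa using this
    have h2 := hexp _ ⟨k, h1⟩
    apply Subtype.ext
    apply Subtype.ext
    simpa using h2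
  have hne : Subgroup.zpowers c ≠ ⊤ := by
    intro htop
    have h1 : Nat.card (Subgroup.zpowers c) = q ^ (e + 1) := by rw [Nat.card_zpowers, hco]
    rw [htop, Subgroup.card_top] at h1
    rw [h1] at hcardP
    have := (Nat.pow_dvd_pow_iff_le_right hq.out.one_lt).mp hcardP
    omega
  obtain ⟨y, hyq, hyc⟩ :=
    exists_pow_prime_eq_one_not_mem_zpowers q c hcc (e + 1) hco hexpP hne
  refine ⟨((y : D) : H), ?_, ?_, ?_⟩
  · have := congrArg (fun t : (P : Subgroup D) => (((t : D)) : H)) hyq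
    simpa using this
  · intro hmem
    apply hyc
    obtain ⟨i, hi⟩ := Subgroup.mem_zpowers_iff.mp hmem
    apply Subgroup.mem_zpowers_iff.mpr
    refine ⟨i, ?_⟩
    apply Subtype.ext
    apply Subtype.ext
    simpa using hi
  · exact hDmem (y : D)

/-- Case (α) core: a nontrivial abelian normal `s`-subgroup `V ≤ N` of `G` centralised by `N`
(`s ≠ q`) cannot exist in a Camina pair with `q ∣ |N|` and `q ∣ [G : N]`. -/
theorem IsCamina.false_of_central_V [Finite G] {N : Subgroup G} [hN : N.Normal] (hc : IsCamina N)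
    (q s : ℕ) [hq : Fact q.Prime] (hs : s.Prime) (hsq : s ≠ q) (hqN : q ∣ Nat.card N)
    (hqi : q ∣ N.index) (V : Subgroup G) [hVn : V.Normal] (hVN : V ≤ N) (hVne : V ≠ ⊥)
    (hVcomm : ∀ a ∈ V, ∀ b ∈ V, a * b = b * a) (hVs : ∀ v ∈ V, ∃ j : ℕ, v ^ (s ^ j) = 1)
    (hNV : N ≤ Subgroup.centralizer (V : Set G)) : False := by
  obtain ⟨gbar, e, hord, hexp⟩ := exists_max_pElt N q hqi
  have hgq : gbar ^ (q ^ (e + 1)) = 1 := by rw [← hord]; exact pow_orderOf_eq_one _
  obtain ⟨g, hg, b, hgb⟩ := exists_pElt_lift N q gbar (e + 1) hgq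
  have hgbar1 : gbar ≠ 1 := by
    intro h1
    rw [h1, orderOf_one] at hord
    have := Nat.one_lt_pow (Nat.succ_ne_zero e) hq.out.one_lt
    rw [← hord] at this
    exact lt_irrefl _ this
  have hgN : g ∉ N := by
    intro hmem
    apply hgbar1
    rw [← hg]
    exact (QuotientGroup.eq_one_iff _).mpr hmem
  have hdvd := hc.mul_orderOf_dvd_card_centralizer q hqN g hgN b hgb
  rw [hg, hord] at hdvd
  obtain ⟨ybar, hyq, hyz, hyg⟩ := exists_commuting_pElt q gbar e hord hexp hdvd
  obtain ⟨y, rfl⟩ := QuotientGroup.mk_surjective ybar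
  subst hg
  -- the two automorphisms
  set z : G := g ^ (q ^ e) with hz
  set Y : MulAut V := MulAut.conjNormal y with hY
  set Z : MulAut V := MulAut.conjNormal z with hZ
  have hone : ∀ n : G, (n : G ⧸ N) = 1 → (MulAut.conjNormal n : MulAut V) = 1 := by
    intro n hn
    have := conjNormal_eq_of_mk_eq N V hNV (a := n) (b := 1) (by rw [hn]; rfl)
    rw [this, map_one]
  have hyg' : Commute (y : G ⧸ N) (g : G ⧸ N) := hyg
  have hzbar : (z : G ⧸ N) = (g : G ⧸ N) ^ (q ^ e) := by rw [hz, QuotientGroup.mk_pow]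
  have hyz' : Commute (y : G ⧸ N) (z : G ⧸ N) := by rw [hzbar]; exact hyg'.pow_right _
  have hzq : (z : G ⧸ N) ^ q = 1 := by
    rw [hzbar, ← pow_mul, ← pow_succ]; exact hgq
  have hz1 : (z : G ⧸ N) ≠ 1 := by
    intro h1
    rw [hzbar] at h1
    have := orderOf_dvd_of_pow_eq_one h1
    rw [hord] at this
    have := (Nat.pow_dvd_pow_iff_le_right hq.out.one_lt).mp this
    omega
  have hy1 : (y : G ⧸ N) ≠ 1 := fun h1 => hyz (h1 ▸ one_mem _)
  have key : ∀ w : V, w = 1 := by
    apply trivial_of_klein_fpf' (fun a b => Subtype.ext (hVcomm a a.2 b b.2)) q Y Z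
    · -- commute
      unfold Commute SemiconjBy
      rw [hY, hZ, ← map_mul, ← map_mul]
      apply conjNormal_eq_of_mk_eq N V hNV
      rw [QuotientGroup.mk_mul, QuotientGroup.mk_mul]
      exact hyz'.eq
    · rw [hY, ← map_pow]
      apply hone
      rw [QuotientGroup.mk_pow]; exact hyq
    · rw [hZ, ← map_pow]
      apply hone
      rw [QuotientGroup.mk_pow]; exact hzq
    · intro w hw
      apply Subtype.ext
      apply hc.fpf_of_pElt q s hs hsq V hVN hVs hNV y 1 (by rw [pow_one]; exact hyq) hy1 w w.2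
      have := congrArg Subtype.val hw
      rw [hY, MulAut.conjNormal_apply] at this
      exact this
    · intro j w hw
      apply Subtype.ext
      have hmk : ((z * y ^ j : G) : G ⧸ N) = (z : G ⧸ N) * (y : G ⧸ N) ^ j := by
        rw [QuotientGroup.mk_mul, QuotientGroup.mk_pow N y j]
      have hcomm : Commute (z : G ⧸ N) ((y : G ⧸ N) ^ j) := (hyz'.pow_left j).symm
      apply hc.fpf_of_pElt q s hs hsq V hVN hVs hNV (z * y ^ j) 1 _ _ w w.2
      · have := congrArg Subtype.val hw
        rw [hY, hZ, ← map_pow, ← map_mul, MulAut.conjNormal_apply] at this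
        exact this
      · rw [pow_one, hmk, hcomm.mul_pow, hzq, ← pow_mul, mul_comm, pow_mul, hyq, one_pow, one_mul]
      · rw [hmk]
        intro h1
        by_cases hqj : q ∣ j
        · obtain ⟨m, rfl⟩ := hqj
          rw [pow_mul, hyq, one_pow, mul_one] at h1
          exact hz1 h1
        · apply hyz
          have hcop : Nat.Coprime j q := by
            rw [Nat.coprime_comm]
            exact (Nat.Prime.coprime_iff_not_dvd hq.out).2 hqj
          obtain ⟨m, -, hm⟩ := Nat.exists_mul_mod_eq_one_of_coprime hcop hq.out.one_lt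
          have h2 : (y : G ⧸ N) ^ j = ((z : G ⧸ N))⁻¹ := eq_inv_of_mul_eq_one_right h1
          have h3 : (y : G ⧸ N) = ((y : G ⧸ N) ^ j) ^ m := by
            rw [← pow_mul]
            have := pow_eq_pow_mod (j * m) hyq
            rw [hm, pow_one] at this
            exact this.symm
          rw [h3, h2, hzbar]
          exact Subgroup.pow_mem _ (Subgroup.inv_mem _ (Subgroup.pow_mem _ (Subgroup.mem_zpowers _) _)) _
    · intro w hw
      obtain ⟨j, hj⟩ := hVs w w.2
      apply Subtype.ext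
      have hw' : (w : G) ^ (q ^ 1) = 1 := by
        have := congrArg Subtype.val hw
        rw [Subgroup.coe_pow] at this
        rw [pow_one]; exact this
      exact eq_one_of_pow_prime_pow hq.out hs hsq.symm hw' hj
  apply hVne
  rw [eq_bot_iff]
  intro v hv
  have := key ⟨v, hv⟩
  rw [Subgroup.mem_bot]
  exact congrArg Subtype.val this

section MinimalCounterexample

variable [Finite G] (q : ℕ) [hq : Fact q.Prime] (IH : ∀ m < Nat.card G, MainStmt.{u} q m)
  (N : Subgroup G) [hN : N.Normal] (hc : IsCamina N) (hqN : q ∣ Nat.card N) (hqi : q ∣ N.index)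
  (hnot : ¬ ∃ k : ℕ, N.index = q ^ k)

include IH hc hqN hqi hnot in
/-- Sylow `s`-subgroups of `N` for `s ≠ q` are normal in `G`. -/
theorem normalizer_sylow_eq_top (s : ℕ) [hs : Fact s.Prime] (hsq : s ≠ q) (hsN : s ∣ Nat.card N)
    (S : Sylow s N) : Subgroup.normalizer ((S.map N.subtype : Subgroup G) : Set G) = ⊤ := by
  by_contra hne
  have hsup := Sylow.normalizer_sup_eq_top S
  have hp := isPGroup_inf_of_supplement q IH N hc hqN hqi hnot _ hsup hne
  have hsS : s ∣ Nat.card S := by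
    rw [Sylow.card_eq_multiplicity]
    apply dvd_pow_self
    have := (Nat.Prime.factorization_pos_of_dvd hs.out Nat.card_pos.ne' hsN)
    omega
  obtain ⟨x, hx⟩ := exists_prime_orderOf_dvd_card' (G := S) s hsS
  have hxm : ((x : N) : G) ∈ (S.map N.subtype : Subgroup G) :=
    Subgroup.mem_map.mpr ⟨(x : N), x.2, rfl⟩
  have hxN : ((x : N) : G) ∈ N := (x : N).2
  obtain ⟨k, hk⟩ := hp ⟨((x : N) : G), Subgroup.mem_inf.mpr ⟨hxN, Subgroup.le_normalizer hxm⟩⟩
  have hk' : ((x : N) : G) ^ (q ^ k) = 1 := by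
    have := congrArg Subtype.val hk
    rw [Subgroup.coe_pow] at this
    exact this
  have ho : orderOf ((x : N) : G) = s := by
    rw [Subgroup.orderOf_coe, Subgroup.orderOf_coe]; exact hx
  have := orderOf_dvd_of_pow_eq_one hk'
  rw [ho] at this
  exact hsq ((Nat.prime_dvd_prime_iff_eq hs.out hq.out).mp (hs.out.dvd_of_dvd_pow this))

include IH hc hqN hqi hnot in
/-- Case (β): a Sylow `q`-subgroup of `N` which is not normal in `G` leads to a contradiction. -/
theorem false_of_sylow_not_normal (hnotN : ¬ IsPGroup q N) (Q : Sylow q N)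
    (hne : Subgroup.normalizer ((Q.map N.subtype : Subgroup G) : Set G) ≠ ⊤) : False := by
  set Q₀ : Subgroup G := Q.map N.subtype with hQ₀
  set G₂ := Subgroup.normalizer (Q₀ : Set G) with hG₂
  have hsup : G₂ ⊔ N = ⊤ := Sylow.normalizer_sup_eq_top Q
  have hN₂ := isPGroup_inf_of_supplement q IH N hc hqN hqi hnot G₂ hsup hne
  have hcent : ∀ g ∈ G₂, g ∉ N → Subgroup.centralizer {g} ≤ G₂ :=
    fun g hg hgN => (hc.supplement G₂ hsup hg hgN).1
  have hidx₂ := index_subgroupOf_of_sup_eq_top N G₂ hsup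
  have hQ₀p : IsPGroup q Q₀ := Q.2.map _
  have hQ₀N : Q₀ ≤ N := Subgroup.map_subtype_le _
  -- (1) primes `r ≠ q` dividing the index do not divide `|N|`
  have hcop : ∀ r : ℕ, r.Prime → r ∣ N.index → r ≠ q → ¬ r ∣ Nat.card N := by
    intro r hr hri hrq hrN
    have : Fact r.Prime := ⟨hr⟩
    obtain ⟨g₂, hg₂, k, hk⟩ := exists_pElt_not_mem (N.subgroupOf G₂) r (hidx₂ ▸ hri)
    rw [Subgroup.mem_subgroupOf] at hg₂
    have hk' : (g₂ : G) ^ (r ^ k) = 1 := by
      have := congrArg Subtype.val hk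
      rw [Subgroup.coe_pow] at this; exact this
    obtain ⟨x, hxN, hxo, hxg⟩ := exists_orderOf_eq_prime_commute N r hrN (g₂ : G) ⟨k, hk'⟩
    have hxG₂ : x ∈ G₂ := by
      apply hcent g₂ g₂.2 hg₂
      rw [Subgroup.mem_centralizer_singleton_iff]; exact hxg.eq
    obtain ⟨j, hj⟩ := hN₂ ⟨x, Subgroup.mem_inf.mpr ⟨hxN, hxG₂⟩⟩
    have hj' : x ^ (q ^ j) = 1 := by
      have := congrArg Subtype.val hj
      rw [Subgroup.coe_pow] at this; exact this
    have := orderOf_dvd_of_pow_eq_one hj'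
    rw [hxo] at this
    exact hrq ((Nat.prime_dvd_prime_iff_eq hr hq.out).mp (hr.dvd_of_dvd_pow this))
  -- (2) a prime `r ≠ q` dividing the index
  have hidx0 : N.index ≠ 0 := Subgroup.index_ne_zero_of_finite
  obtain ⟨r, hr, hri, hrq⟩ : ∃ r : ℕ, r.Prime ∧ r ∣ N.index ∧ r ≠ q := by
    by_contra hcon
    push Not at hcon
    exact hnot ⟨_, Nat.eq_prime_pow_of_unique_prime_dvd hidx0 (fun {d} hd hdvd => hcon d hd hdvd)⟩
  have hrN := hcop r hr hri hrq
  have : Fact r.Prime := ⟨hr⟩
  -- (3) an element `h` of order `r` in `G₂`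
  have hrG₂ : r ∣ Nat.card G₂ := by
    have := (N.subgroupOf G₂).index_dvd_card
    rw [hidx₂] at this
    exact hri.trans this
  obtain ⟨h, hh⟩ := exists_prime_orderOf_dvd_card' (G := G₂) r hrG₂
  have hho : orderOf (h : G) = r := by rw [Subgroup.orderOf_coe]; exact hh
  have hhr : (h : G) ^ r = 1 := by rw [← hho]; exact pow_orderOf_eq_one _
  have hpowN : ∀ i, 0 < i → i < r → (h : G) ^ i ∉ N := by
    intro i hi0 hir hmem
    have ho : orderOf ((h : G) ^ i) = r := by
      rw [orderOf_pow, hho]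
      have : Nat.gcd r i = 1 :=
        (Nat.Prime.coprime_iff_not_dvd hr).2 (Nat.not_dvd_of_pos_of_lt hi0 hir)
      rw [this, Nat.div_one]
    have : orderOf (⟨(h : G) ^ i, hmem⟩ : N) = r := by rw [← Subgroup.orderOf_coe]; exact ho
    apply hrN
    rw [← this]; exact orderOf_dvd_natCard _
  have hhN : (h : G) ∉ N := by have := hpowN 1 one_pos hr.one_lt; simpa using this
  -- (4) a prime `s ≠ q` dividing `|N|` and the abelian normal `s`-subgroup `V`
  obtain ⟨s, hs, hsN, hsq⟩ : ∃ s : ℕ, s.Prime ∧ s ∣ Nat.card N ∧ s ≠ q := by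
    by_contra hcon
    push Not at hcon
    apply hnotN
    exact IsPGroup.of_card (Nat.eq_prime_pow_of_unique_prime_dvd Nat.card_pos.ne'
      (fun {d} hd hdvd => hcon d hd hdvd))
  have : Fact s.Prime := ⟨hs⟩
  have hsr : s ≠ r := fun e => hrN (e ▸ hsN)
  obtain ⟨S⟩ : Nonempty (Sylow s N) := inferInstance
  have hSn := normalizer_sylow_eq_top q IH N hc hqN hqi hnot s hsq hsN S
  set S₀ : Subgroup G := S.map N.subtype with hS₀
  have hS₀n : S₀.Normal := Subgroup.normalizer_eq_top_iff.mp hSn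
  have hS₀p : IsPGroup s S₀ := S.2.map _
  have hS₀N : S₀ ≤ N := Subgroup.map_subtype_le _
  have hS₀ne : S₀ ≠ ⊥ := by
    intro hbot
    have hsS : s ∣ Nat.card S := by
      rw [Sylow.card_eq_multiplicity]
      apply dvd_pow_self
      have := (Nat.Prime.factorization_pos_of_dvd hs Nat.card_pos.ne' hsN)
      omega
    obtain ⟨x, hx⟩ := exists_prime_orderOf_dvd_card' (G := S) s hsS
    have hxm : ((x : N) : G) ∈ S₀ := Subgroup.mem_map.mpr ⟨(x : N), x.2, rfl⟩
    rw [hbot, Subgroup.mem_bot] at hxm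
    have ho : orderOf ((x : N) : G) = s := by
      rw [Subgroup.orderOf_coe, Subgroup.orderOf_coe]; exact hx
    rw [hxm, orderOf_one] at ho
    exact hs.one_lt.ne ho
  obtain ⟨V, hVn, hVS, hVne, hVcomm, -⟩ := exists_abelian_normal_subgroup s S₀ hS₀n hS₀p hS₀ne
  have := hVn
  have hVs : ∀ v ∈ V, ∃ j : ℕ, v ^ (s ^ j) = 1 := by
    intro v hv
    obtain ⟨j, hj⟩ := hS₀p ⟨v, hVS hv⟩
    refine ⟨j, ?_⟩
    have := congrArg Subtype.val hj
    rw [Subgroup.coe_pow] at this; exact this
  have hVN : V ≤ N := hVS.trans hS₀N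
  have key : ∀ w : V, w = 1 := by
    apply trivial_of_frobenius_fpf' (fun a b => Subtype.ext (hVcomm a a.2 b b.2))
      (MulAut.conjNormal (H := V)) Q₀ (h : G) r hr.pos hhr
    · intro k hk
      exact (Subgroup.mem_normalizer_iff''.mp h.2 k).mp hk
    · intro i hi0 hir k hk hcomm
      have h1 : k ^ r = 1 := hc.pow_eq_one_of_commute (hpowN i hi0 hir) (hQ₀N hk) hcomm
        (by rw [← pow_mul, mul_comm, pow_mul, hhr, one_pow])
      obtain ⟨j, hj⟩ := hQ₀p ⟨k, hk⟩
      have hj' : k ^ (q ^ j) = 1 := by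
        have := congrArg Subtype.val hj
        rw [Subgroup.coe_pow] at this; exact this
      exact eq_one_of_pow_prime_pow hr hq.out hrq (a := 1) (by simpa using h1) hj'
    · intro w hw
      have hcomm : Commute (h : G) (w : G) := by
        have := congrArg Subtype.val hw
        rw [MulAut.conjNormal_apply] at this
        exact mul_inv_eq_iff_eq_mul.mp this
      have h1 : (w : G) ^ r = 1 := hc.pow_eq_one_of_commute hhN (hVN w.2) hcomm hhr
      obtain ⟨j, hj⟩ := hVs w w.2
      exact Subtype.ext (eq_one_of_pow_prime_pow hr hs hsr.symm (a := 1) (by simpa using h1) hj)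
    · intro w hw
      have hwc : (w : G) ∈ Subgroup.centralizer (Q₀ : Set G) := by
        rw [Subgroup.mem_centralizer_iff]
        intro k hk
        have := congrArg Subtype.val (hw k hk)
        rw [MulAut.conjNormal_apply] at this
        exact mul_inv_eq_iff_eq_mul.mp this
      have hwG₂ : (w : G) ∈ G₂ := Subgroup.centralizer_le_normalizer _ hwc
      obtain ⟨j, hj⟩ := hN₂ ⟨w, Subgroup.mem_inf.mpr ⟨hVN w.2, hwG₂⟩⟩
      have hj' : (w : G) ^ (q ^ j) = 1 := by
        have := congrArg Subtype.val hj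
        rw [Subgroup.coe_pow] at this; exact this
      obtain ⟨j'', hj''⟩ := hVs w w.2
      exact Subtype.ext (eq_one_of_pow_prime_pow hq.out hs hsq.symm hj' hj'')
    · intro w hw
      obtain ⟨a, ha⟩ := IsPGroup.iff_card.mp hQ₀p
      rw [ha] at hw
      have hw' : (w : G) ^ (q ^ a) = 1 := by
        have := congrArg Subtype.val hw
        rw [Subgroup.coe_pow] at this; exact this
      obtain ⟨j', hj'⟩ := hVs w w.2
      exact Subtype.ext (eq_one_of_pow_prime_pow hq.out hs hsq.symm hw' hj')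
  apply hVne
  rw [eq_bot_iff]
  intro v hv
  have := key ⟨v, hv⟩
  rw [Subgroup.mem_bot]
  exact congrArg Subtype.val this

end MinimalCounterexample

/-- The main inductive statement holds for every order `m`. -/
theorem mainStmt_all (q : ℕ) [hq : Fact q.Prime] : ∀ m : ℕ, MainStmt.{u} q m := by
  intro m
  induction m using Nat.strong_induction_on with
  | _ m IH =>
    intro G _ _ hcard N _ hc hqN hqi
    by_contra hcon
    push Not at hcon
    obtain ⟨hnotN, hnot'⟩ := hcon
    have hnot : ¬ ∃ k : ℕ, N.index = q ^ k := by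
      push Not
      exact hnot'
    subst hcard
    by_cases hall : ∀ (p : ℕ) [Fact p.Prime] (P : Sylow p N),
        Subgroup.normalizer ((P.map N.subtype : Subgroup G) : Set G) = ⊤
    · obtain ⟨s, V, hs, hsq, hVn, hVN, hVne, hVcomm, hVs, hNV⟩ :=
        exists_V_of_all_sylow_normal q N hnotN hall
      have := hVn
      exact hc.false_of_central_V q s hs hsq hqN hqi V hVN hVne hVcomm hVs hNV
    · push Not at hall
      obtain ⟨p, hp, P, hP⟩ := hall
      by_cases hpq : p = q
      · subst hpq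
        exact false_of_sylow_not_normal p IH N hc hqN hqi hnot hnotN P hP
      · by_cases hpN : p ∣ Nat.card N
        · exact hP (normalizer_sylow_eq_top q IH N hc hqN hqi hnot p hpq hpN P)
        · apply hP
          have h1 : Nat.card P = 1 := by
            rw [Sylow.card_eq_multiplicity, Nat.factorization_eq_zero_of_not_dvd hpN, pow_zero]
          have h2 : (P : Subgroup N) = ⊥ := Subgroup.card_eq_one.mp h1
          have h3 : (P.map N.subtype : Subgroup G) = ⊥ := by
            rw [h2, Subgroup.map_bot]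
          rw [h3]
          exact Subgroup.normalizer_eq_top_iff.mpr inferInstance

/-- **Camina's theorem.** -/
theorem camina_trichotomy {G : Type u} [Group G] [Finite G] (N : Subgroup G) [hN : N.Normal]
    (hN1 : N ≠ ⊥) (hN2 : N ≠ ⊤) (hcam : IsCamina N) :
    (∀ x ∈ N, x ≠ 1 → Subgroup.centralizer ({x} : Set G) ≤ N) ∨ IsPrimePow (Nat.card N) ∨
      IsPrimePow N.index := by
  by_cases hgcd : ∃ q : ℕ, q.Prime ∧ q ∣ Nat.card N ∧ q ∣ N.index
  · obtain ⟨q, hq, hqN, hqi⟩ := hgcd
    have : Fact q.Prime := ⟨hq⟩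
    right
    rcases mainStmt_all.{u} q (Nat.card G) G rfl N hcam hqN hqi with h | ⟨k, hk⟩
    · left
      obtain ⟨n, hn⟩ := IsPGroup.iff_card.mp h
      rw [isPrimePow_nat_iff]
      refine ⟨q, n, hq, ?_, hn.symm⟩
      rcases Nat.eq_zero_or_pos n with h0 | h0
      · exfalso
        rw [h0, pow_zero] at hn
        exact hN1 (Subgroup.card_eq_one.mp hn)
      · exact h0
    · right
      rw [isPrimePow_nat_iff]
      refine ⟨q, k, hq, ?_, hk.symm⟩
      rcases Nat.eq_zero_or_pos k with h0 | h0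
      · exfalso
        rw [h0, pow_zero] at hk
        exact hN2 (Subgroup.index_eq_one.mp hk)
      · exact h0
  · left
    push Not at hgcd
    intro x hxN hx1 y hy
    by_contra hyN
    rw [Subgroup.mem_centralizer_singleton_iff] at hy
    -- a prime dividing the order of `y N`
    have hybar : (y : G ⧸ N) ≠ 1 := fun h => hyN ((QuotientGroup.eq_one_iff y).mp h)
    have ho1 : orderOf (y : G ⧸ N) ≠ 1 := fun h => hybar (orderOf_eq_one_iff.mp h)
    obtain ⟨p, hp, hpo⟩ := Nat.exists_prime_and_dvd ho1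
    have hy0 : orderOf y ≠ 0 := (orderOf_pos y).ne'
    obtain ⟨k, m, hm, hkm⟩ := Nat.exists_eq_pow_mul_and_not_dvd hy0 p hp.ne_one
    set y' := y ^ m with hy'
    have hy'k : y' ^ (p ^ k) = 1 := by
      rw [hy', ← pow_mul, mul_comm, ← hkm, pow_orderOf_eq_one]
    have hy'bar : (y' : G ⧸ N) ≠ 1 := by
      intro h1
      rw [hy', QuotientGroup.mk_pow] at h1
      exact hm (hpo.trans (orderOf_dvd_of_pow_eq_one h1))
    have hy'N : y' ∉ N := fun h => hy'bar ((QuotientGroup.eq_one_iff y').mpr h)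
    have hcomm : Commute y' x := by
      rw [hy']
      exact (show Commute y x from hy).pow_left m
    have hxk : x ^ (p ^ k) = 1 := hcam.pow_eq_one_of_commute hy'N hxN hcomm hy'k
    -- p divides |N|
    have hpN : p ∣ Nat.card N := by
      obtain ⟨j, -, hj⟩ := (Nat.dvd_prime_pow hp).mp (orderOf_dvd_of_pow_eq_one hxk)
      have hj0 : j ≠ 0 := by
        intro h0
        rw [h0, pow_zero, orderOf_eq_one_iff] at hj
        exact hx1 hj
      have h1 : p ∣ orderOf x := by rw [hj]; exact dvd_pow_self p hj0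
      have h2 : orderOf (⟨x, hxN⟩ : N) = orderOf x := by rw [← Subgroup.orderOf_coe]
      exact h1.trans (h2 ▸ orderOf_dvd_natCard _)
    -- p divides the index
    have hpi : p ∣ N.index := by
      rw [Subgroup.index_eq_card]
      have h1 : (y' : G ⧸ N) ^ (p ^ k) = 1 := by
        rw [← QuotientGroup.mk_pow, hy'k]; rfl
      obtain ⟨j, -, hj⟩ := (Nat.dvd_prime_pow hp).mp (orderOf_dvd_of_pow_eq_one h1)
      have hj0 : j ≠ 0 := by
        intro h0
        rw [h0, pow_zero, orderOf_eq_one_iff] at hj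
        exact hy'bar hj
      have h2 : p ∣ orderOf (y' : G ⧸ N) := by rw [hj]; exact dvd_pow_self p hj0
      exact h2.trans (orderOf_dvd_natCard _)
    exact hgcd p hp hpN hpi

end Cfsg.Agent.Lib.Helper7.Camina
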