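import Mathlib
import Cfsg.Agent.Lib.Helper7.BrauerCount2
import Cfsg.Agent.Lib.Helper7.CentralDefect
import Cfsg.Agent.Lib.Helper7.CentralHom
import Cfsg.Agent.Lib.Helper7.DefectOrder
import Cfsg.Agent.S0914
import Cfsg.Agent.S0941

/-!
# `2`-blocks with a central defect group of order two

`K` a finite group, `x` a central involution, `b` a `2`-block of `K` with defect group `⟨x⟩`.
Then `b = {θ, θ'}` with `θ(xc) = θ(c)`, `θ'(xc) = -θ'(c)` and `θ' = θ` on the elements of odd order.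
-/

set_option autoImplicit false
open scoped ComplexConjugate
open Cfsg

namespace Cfsg.Agent.Lib.Helper7

open Cfsg.Agent.Lib.Helper24 Cfsg.Agent.Lib.Helper2

section CentralTwo

open Classical

variable {K : Type*} [Group K] [Fintype K] {M : Ideal Cfsg.AlgInt}

/-- a central involution acts on an irreducible character by a sign -/
theorem central_involution_sign (x : K) (hx : orderOf x = 2) (hxZ : x ∈ Subgroup.center K)
    (ψ : Cfsg.IrrCharacter K) :
    (∀ c : K, (ψ : K → ℂ) (x * c) = (ψ : K → ℂ) c) ∨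
      (∀ c : K, (ψ : K → ℂ) (x * c) = - (ψ : K → ℂ) c) := by
  have hle : Subgroup.zpowers x ≤ Subgroup.center K := by
    rw [Subgroup.zpowers_le]; exact hxZ
  obtain ⟨φ, hφ⟩ := exists_central_hom ψ (Subgroup.zpowers x) hle
  obtain ⟨t, ht⟩ : ∃ t : ℂˣ, t = φ ⟨x, Subgroup.mem_zpowers x⟩ := ⟨_, rfl⟩
  have ht2 : t ^ 2 = 1 := by
    rw [ht, ← map_pow]
    have : (⟨x, Subgroup.mem_zpowers x⟩ : Subgroup.zpowers x) ^ 2 = 1 := by
      apply Subtype.ext
      push_cast
      rw [← hx]; exact pow_orderOf_eq_one x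
    rw [this, map_one]
  have ht2' : ((t : ℂˣ) : ℂ) ^ 2 = 1 := by
    rw [← Units.val_pow_eq_pow_val, ht2, Units.val_one]
  have hcase : ((t : ℂˣ) : ℂ) = 1 ∨ ((t : ℂˣ) : ℂ) = -1 := by
    have h : (((t : ℂˣ) : ℂ) - 1) * (((t : ℂˣ) : ℂ) + 1) = 0 := by ring_nf; rw [ht2']; ring
    rcases mul_eq_zero.mp h with h | h
    · left; linear_combination h
    · right; linear_combination h
  rcases hcase with h | h
  · left
    intro c
    have := hφ ⟨x, Subgroup.mem_zpowers x⟩ c
    rw [← ht, h, one_mul] at this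
    exact this
  · right
    intro c
    have := hφ ⟨x, Subgroup.mem_zpowers x⟩ c
    rw [← ht, h] at this
    rw [this]; ring

/-- the elements of the group generated by an involution -/
theorem mem_zpowers_involution (x : K) (hx : orderOf x = 2) (u : K)
    (hu : u ∈ Subgroup.zpowers x) : u = 1 ∨ u = x := by
  obtain ⟨k, rfl⟩ := Subgroup.mem_zpowers_iff.mp hu
  rw [← zpow_mod_orderOf, hx]
  push_cast
  have h1 : 0 ≤ k % 2 := Int.emod_nonneg k (by norm_num)
  have h2 : k % 2 < 2 := Int.emod_lt_of_pos k (by norm_num)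
  have h3 : k % 2 = 0 ∨ k % 2 = 1 := by omega
  rcases h3 with h | h
  · left; rw [h]; simp
  · right; rw [h]; simp

/-- a sum over the group generated by an involution -/
theorem sum_zpowers_involution (x : K) (hx : orderOf x = 2) [Fintype (Subgroup.zpowers x)]
    (F : K → ℂ) : ∑ u : Subgroup.zpowers x, F (u : K) = F 1 + F x := by
  have hx1 : x ≠ 1 := by
    intro h; rw [h, orderOf_one] at hx; norm_num at hx
  rw [Fintype.sum_eq_add (1 : Subgroup.zpowers x) ⟨x, Subgroup.mem_zpowers x⟩]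
  · rfl
  · intro h
    exact hx1 (congrArg Subtype.val h).symm
  · rintro u ⟨h1, h2⟩
    exfalso
    rcases mem_zpowers_involution x hx u u.2 with h | h
    · exact h1 (Subtype.ext h)
    · exact h2 (Subtype.ext h)

/-- the degrees in a block with a defect group of order two -/
theorem index_factorization_le_of_defect_two (hM : Cfsg.IsPModular 2 M) (x : K)
    (hx : orderOf x = 2) (b : Set (Cfsg.IrrCharacter K)) (hb : Cfsg.IsPBlock M b)
    (hD : Cfsg.IsDefectGroup 2 M b (Subgroup.zpowers x)) (ψ : Cfsg.IrrCharacter K) (hψ : ψ ∈ b) :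
    (Subgroup.zpowers x).index.factorization 2
      ≤ (Cfsg.charDegree (ψ : K → ℂ)).factorization 2 := by
  haveI : Fact (Nat.Prime 2) := ⟨Nat.prime_two⟩
  have hcard := card_of_isDefectGroup hM b hb _ hD
  rw [Nat.card_zpowers, hx] at hcard
  have hd : Cfsg.blockDefect 2 b = 1 := by
    have : (2 : ℕ) ^ 1 = 2 ^ Cfsg.blockDefect 2 b := by rw [pow_one]; exact hcard
    exact (Nat.pow_right_injective (le_refl 2) this).symm
  unfold Cfsg.blockDefect at hd
  have hle : sInf ((fun χ : Cfsg.IrrCharacter K =>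
      (Cfsg.charDegree (χ : K → ℂ)).factorization 2) '' b)
      ≤ (Cfsg.charDegree (ψ : K → ℂ)).factorization 2 := Nat.sInf_le ⟨ψ, hψ, rfl⟩
  have hidx : (Nat.card K).factorization 2
      = 1 + (Subgroup.zpowers x).index.factorization 2 := by
    rw [← (Subgroup.zpowers x).card_mul_index, Nat.card_zpowers, hx,
      Nat.factorization_mul (by norm_num) Subgroup.index_ne_zero_of_finite, Finsupp.add_apply,
      Nat.Prime.factorization_self Nat.prime_two]
  omega

/-- the inner product of two characters vanishing off the `⟨x⟩`-sections, `x` acting on both by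
the same sign -/
theorem classInner_eq_two_mul_regular (x : K) (hx : orderOf x = 2)
    (hxZ : x ∈ Subgroup.center K) (f f' : K → ℂ)
    (hv : ∀ g, pPt 2 g ∉ Subgroup.zpowers x → f g = 0)
    (hs : ∀ c, f (x * c) * conj (f' (x * c)) = f c * conj (f' c)) :
    Cfsg.classInner f f' = 2 * Cfsg.classInner (Cfsg.pRegularPart 2 f) f' := by
  haveI : Fact (Nat.Prime 2) := ⟨Nat.prime_two⟩
  letI : Fintype (Subgroup.zpowers x) := Fintype.ofFinite _
  unfold Cfsg.classInner
  rw [← mul_assoc, mul_comm (2 : ℂ), mul_assoc]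
  congr 1
  have h1 : ∑ g : K, f g * conj (f' g)
      = ∑ g : K, if pPt 2 g ∈ Subgroup.zpowers x then f g * conj (f' g) else 0 := by
    apply Finset.sum_congr rfl
    intro g _
    by_cases hg : pPt 2 g ∈ Subgroup.zpowers x
    · rw [if_pos hg]
    · rw [if_neg hg, hv g hg, zero_mul]
  have hP : IsPGroup 2 (Subgroup.zpowers x) := by
    apply IsPGroup.of_card (n := 1)
    rw [Nat.card_zpowers, hx, pow_one]
  rw [h1, sum_pPt_mem 2 (Subgroup.zpowers x) hP (fun y _ u hu => by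
    have := Subgroup.mem_center_iff.mp
      ((Subgroup.zpowers_le.mpr hxZ : Subgroup.zpowers x ≤ Subgroup.center K) hu) y
    exact this.symm) (fun g => f g * conj (f' g))]
  rw [sum_zpowers_involution x hx
    (fun u => ∑ y : K, if 2 ∣ orderOf y then 0 else f (u * y) * conj (f' (u * y)))]
  have h2 : ∀ y : K, (if 2 ∣ orderOf y then (0 : ℂ) else f (x * y) * conj (f' (x * y)))
      = if 2 ∣ orderOf y then 0 else f (1 * y) * conj (f' (1 * y)) := by
    intro y
    by_cases hy : 2 ∣ orderOf y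
    · rw [if_pos hy, if_pos hy]
    · rw [if_neg hy, if_neg hy, one_mul, hs y]
  rw [Finset.sum_congr rfl (fun y _ => h2 y), ← two_mul]
  congr 1
  apply Finset.sum_congr rfl
  intro y _
  by_cases hy : 2 ∣ orderOf y
  · rw [if_pos hy, pRegularPart_of_singular 2 f y hy, zero_mul]
  · rw [if_neg hy, pRegularPart_of_regular 2 f y hy, one_mul]

/-- in a `2`-block with the central defect group `⟨x⟩` of order two only one character has `x` in
its kernel -/
theorem eq_of_kernel_of_defect_two (hM : Cfsg.IsPModular 2 M) (x : K)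
    (hx : orderOf x = 2) (hxZ : x ∈ Subgroup.center K)
    (b : Set (Cfsg.IrrCharacter K)) (hb : Cfsg.IsPBlock M b)
    (hD : Cfsg.IsDefectGroup 2 M b (Subgroup.zpowers x)) (θ ψ : Cfsg.IrrCharacter K)
    (hθ : θ ∈ b) (hψ : ψ ∈ b) (hθx : ∀ c : K, (θ : K → ℂ) (x * c) = (θ : K → ℂ) c)
    (hψx : ∀ c : K, (ψ : K → ℂ) (x * c) = (ψ : K → ℂ) c) : ψ = θ := by
  haveI : Fact (Nat.Prime 2) := ⟨Nat.prime_two⟩
  have hle : Subgroup.zpowers x ≤ Subgroup.center K := by
    rw [Subgroup.zpowers_le]; exact hxZ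
  haveI hDn : (Subgroup.zpowers x).Normal := by
    refine ⟨fun n hn g => ?_⟩
    have h1 := Subgroup.mem_center_iff.mp (hle hn) g
    have h2 : g * n * g⁻¹ = n := by rw [h1]; group
    rw [h2]; exact hn
  have hker : ∀ φ : Cfsg.IrrCharacter K, (∀ c : K, (φ : K → ℂ) (x * c) = (φ : K → ℂ) c) →
      ∀ n ∈ Subgroup.zpowers x, (φ : K → ℂ) n = (φ : K → ℂ) 1 := by
    intro φ hφ n hn
    rcases mem_zpowers_involution x hx n hn with h | h
    · rw [h]
    · rw [h]
      have := hφ 1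
      rwa [mul_one] at this
  obtain ⟨θ', hθ'irr, hθ'⟩ := Cfsg.Agent.Lib.Helper25.exists_deflation (Subgroup.zpowers x)
    θ.2 (hker θ hθx)
  obtain ⟨ψ', hψ'irr, hψ'⟩ := Cfsg.Agent.Lib.Helper25.exists_deflation (Subgroup.zpowers x)
    ψ.2 (hker ψ hψx)
  -- `θ'` has defect zero
  have hdeg : Cfsg.charDegree θ' = Cfsg.charDegree (θ : K → ℂ) := by
    unfold Cfsg.charDegree
    rw [hθ' 1]
    rfl
  have hdef0 : ¬ 2 ∣ Nat.card (K ⧸ Subgroup.zpowers x) / Cfsg.charDegree θ' := by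
    have hdvd : Cfsg.charDegree θ' ∣ Nat.card (K ⧸ Subgroup.zpowers x) :=
      Cfsg.Agent.Lib.Helper25.charDegree_dvd_card hθ'irr
    obtain ⟨m, hm⟩ := hdvd
    have hdpos : 0 < Cfsg.charDegree θ' := by rw [hdeg]; exact irr_charDegree_pos θ
    have hm' : Nat.card (K ⧸ Subgroup.zpowers x) / Cfsg.charDegree θ' = m := by
      rw [hm]; exact Nat.mul_div_cancel_left m hdpos
    rw [hm']
    have hmne : m ≠ 0 := by
      intro h0
      rw [h0, mul_zero] at hm
      exact Nat.card_pos.ne' hm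
    have h1 := index_factorization_le_of_defect_two hM x hx b hb hD θ hθ
    have h3 : (Nat.card (K ⧸ Subgroup.zpowers x)).factorization 2
        = (Cfsg.charDegree θ').factorization 2 + m.factorization 2 := by
      rw [hm, Nat.factorization_mul hdpos.ne' hmne, Finsupp.add_apply]
    rw [← Subgroup.index_eq_card, hdeg] at h3
    have h4 : m.factorization 2 = 0 := by omega
    rcases (Nat.factorization_eq_zero_iff m 2).mp h4 with h5 | h5 | h5
    · exact absurd Nat.prime_two h5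
    · exact h5
    · exact absurd h5 hmne
  have hsing := (Cfsg.Agent.S0914.result 2 M hM
    (⟨θ', hθ'irr⟩ : Cfsg.IrrCharacter (K ⧸ Subgroup.zpowers x))).mp hdef0
  have hC : ∃ k : ℕ, (Subgroup.centralizer ((Subgroup.zpowers x : Subgroup K) : Set K)).index
      = 2 ^ k := by
    refine ⟨0, ?_⟩
    have : Subgroup.centralizer ((Subgroup.zpowers x : Subgroup K) : Set K) = ⊤ := by
      rw [eq_top_iff]
      intro g _
      rw [Subgroup.mem_centralizer_iff]
      intro n hn
      exact (Subgroup.mem_center_iff.mp (hle hn) g).symm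
    rw [this, Subgroup.index_top, pow_zero]
  have hiff := (Cfsg.Agent.S0941.result 2 M hM (Subgroup.zpowers x)
    (IsPGroup.of_card (n := 1) (by rw [Nat.card_zpowers, hx, pow_one])) hC).1
    (⟨θ', hθ'irr⟩ : Cfsg.IrrCharacter (K ⧸ Subgroup.zpowers x))
    (⟨ψ', hψ'irr⟩ : Cfsg.IrrCharacter (K ⧸ Subgroup.zpowers x))
  have e1 : (θ' ∘ QuotientGroup.mk : K → ℂ) = (θ : K → ℂ) := by
    funext g; exact (hθ' g).symm
  have e2 : (ψ' ∘ QuotientGroup.mk : K → ℂ) = (ψ : K → ℂ) := by
    funext g; exact (hψ' g).symm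
  have hsame : Cfsg.SameBlock M θ' ψ' := by
    apply hiff.mpr
    show Cfsg.SameBlock M (θ' ∘ QuotientGroup.mk) (ψ' ∘ QuotientGroup.mk)
    rw [e1, e2]
    exact sameBlock_of_mem hM hb hθ hψ
  have hmem : (⟨ψ', hψ'irr⟩ : Cfsg.IrrCharacter (K ⧸ Subgroup.zpowers x))
      ∈ Cfsg.blockOf M θ' := hsame
  have hmem' : (⟨ψ', hψ'irr⟩ : Cfsg.IrrCharacter (K ⧸ Subgroup.zpowers x))
      ∈ ({⟨θ', hθ'irr⟩} : Set (Cfsg.IrrCharacter (K ⧸ Subgroup.zpowers x))) := by
    rw [← hsing]; exact hmem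
  rw [Set.mem_singleton_iff] at hmem'
  have hfun : ψ' = θ' := congrArg Subtype.val hmem'
  apply Subtype.ext
  rw [← e1, ← e2, hfun]

theorem classInner_pRegularPart_congr (p : ℕ) (f₁ f₂ g₁ g₂ : K → ℂ)
    (hf : ∀ y : K, ¬ p ∣ orderOf y → f₁ y = f₂ y)
    (hg : ∀ y : K, ¬ p ∣ orderOf y → g₁ y = g₂ y) :
    Cfsg.classInner (Cfsg.pRegularPart p f₁) g₁ = Cfsg.classInner (Cfsg.pRegularPart p f₂) g₂ := by
  unfold Cfsg.classInner
  congr 1
  apply Finset.sum_congr rfl
  intro y _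
  by_cases hy : p ∣ orderOf y
  · rw [pRegularPart_of_singular p f₁ y hy, pRegularPart_of_singular p f₂ y hy, zero_mul,
      zero_mul]
  · rw [pRegularPart_of_regular p f₁ y hy, pRegularPart_of_regular p f₂ y hy, hf y hy, hg y hy]

theorem classInner_pRegularPart_smul (p : ℕ) (c : ℂ) (f g : K → ℂ) :
    Cfsg.classInner (Cfsg.pRegularPart p (fun y => c * f y)) (fun y => c * g y)
      = c * conj c * Cfsg.classInner (Cfsg.pRegularPart p f) g := by
  unfold Cfsg.classInner
  rw [mul_comm (c * conj c), mul_assoc, Finset.sum_mul]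
  congr 1
  apply Finset.sum_congr rfl
  intro y _
  by_cases hy : p ∣ orderOf y
  · rw [pRegularPart_of_singular p _ y hy, pRegularPart_of_singular p f y hy]
    ring
  · rw [pRegularPart_of_regular p _ y hy, pRegularPart_of_regular p f y hy, map_mul]
    ring

/-- **the structure of a `2`-block with a central defect group of order two** -/
theorem central_defect_two_structure (hM : Cfsg.IsPModular 2 M) (x : K)
    (hx : orderOf x = 2) (hxZ : x ∈ Subgroup.center K)
    (b : Set (Cfsg.IrrCharacter K)) (hb : Cfsg.IsPBlock M b)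
    (hD : Cfsg.IsDefectGroup 2 M b (Subgroup.zpowers x)) (θ : Cfsg.IrrCharacter K)
    (hθ : θ ∈ b) (hθx : ∀ c : K, (θ : K → ℂ) (x * c) = (θ : K → ℂ) c) :
    ∃ θ' ∈ b, θ' ≠ θ ∧ b = {θ, θ'} ∧ (∀ c : K, (θ' : K → ℂ) (x * c) = - (θ' : K → ℂ) c) ∧
      ∀ y : K, ¬ 2 ∣ orderOf y → (θ' : K → ℂ) y = (θ : K → ℂ) y := by
  haveI : Fact (Nat.Prime 2) := ⟨Nat.prime_two⟩
  haveI : Fintype (Cfsg.IrrCharacter K) := Fintype.ofFinite _
  have hle : Subgroup.zpowers x ≤ Subgroup.center K := by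
    rw [Subgroup.zpowers_le]; exact hxZ
  have hvan : ∀ ψ ∈ b, ∀ g : K, pPt 2 g ∉ Subgroup.zpowers x → (ψ : K → ℂ) g = 0 :=
    fun ψ hψ => (central_defect_vanish 2 (Subgroup.zpowers x) hle ψ
      (index_factorization_le_of_defect_two hM x hx b hb hD ψ hψ)).1
  -- the characters other than `θ` have the minus sign
  have hminus : ∀ ψ ∈ b, ψ ≠ θ → ∀ c : K, (ψ : K → ℂ) (x * c) = - (ψ : K → ℂ) c := by
    intro ψ hψ hne
    rcases central_involution_sign x hx hxZ ψ with h | h
    · exact absurd (eq_of_kernel_of_defect_two hM x hx hxZ b hb hD θ ψ hθ hψ hθx h) hne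
    · exact h
  -- `γ ψ ψ = 1/2`
  have hhalf : ∀ ψ ∈ b, Cfsg.classInner (Cfsg.pRegularPart 2 (ψ : K → ℂ)) (ψ : K → ℂ)
      = 1 / 2 := by
    intro ψ hψ
    have h1 := classInner_eq_two_mul_regular x hx hxZ (ψ : K → ℂ) (ψ : K → ℂ) (hvan ψ hψ)
      (by
        intro c
        rcases central_involution_sign x hx hxZ ψ with h | h
        · rw [h c]
        · rw [h c, map_neg]; ring)
    rw [classInner_irrCharacter_self] at h1
    rw [h1]; ring
  -- `γ ψ ψ' = 0` for distinct characters with the minus sign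
  have hzero : ∀ ψ ∈ b, ∀ ψ' ∈ b, ψ ≠ θ → ψ' ≠ θ → ψ ≠ ψ' →
      Cfsg.classInner (Cfsg.pRegularPart 2 (ψ : K → ℂ)) (ψ' : K → ℂ) = 0 := by
    intro ψ hψ ψ' hψ' hne hne' hdiff
    have h1 := classInner_eq_two_mul_regular x hx hxZ (ψ : K → ℂ) (ψ' : K → ℂ) (hvan ψ hψ)
      (by
        intro c
        rw [hminus ψ hψ hne c, hminus ψ' hψ' hne' c, map_neg]; ring)
    rw [classInner_irrCharacter_ne hdiff] at h1
    have : (2 : ℂ) ≠ 0 := by norm_num
    exact (mul_eq_zero.mp h1.symm).resolve_left this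
  -- the expansion of the regular part
  have hexp : ∀ ψ ∈ b, ∀ g : K, Cfsg.pRegularPart 2 (ψ : K → ℂ) g
      = ∑ ψ' : Cfsg.IrrCharacter K, if ψ' ∈ b then
          Cfsg.classInner (Cfsg.pRegularPart 2 (ψ : K → ℂ)) (ψ' : K → ℂ) * (ψ' : K → ℂ) g
        else 0 := by
    intro ψ hψ g
    have h1 := blockProj_pRegularPart hM b hb ψ
    rw [if_pos hψ] at h1
    rw [← blockProj_apply, h1]
  have hdegθ : (θ : K → ℂ) 1 ≠ 0 := Cfsg.Agent.Lib.Helper25.irr_one_ne_zero θ.2
  have hx2 : 2 ∣ orderOf x := by rw [hx]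
  -- existence of another character
  have hex : ∃ θ' ∈ b, θ' ≠ θ := by
    by_contra hcon
    push Not at hcon
    have h1 := hexp θ hθ x
    rw [pRegularPart_of_singular 2 _ x hx2, Finset.sum_eq_single θ] at h1
    · rw [if_pos hθ, hhalf θ hθ] at h1
      have h2 := hθx 1
      rw [mul_one] at h2
      rw [h2] at h1
      have : (1 / 2 : ℂ) ≠ 0 := by norm_num
      exact hdegθ ((mul_eq_zero.mp h1.symm).resolve_left this)
    · intro ψ' _ hne
      by_cases hψ' : ψ' ∈ b
      · exact absurd (hcon ψ' hψ') hne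
      · rw [if_neg hψ']
    · intro h; exact absurd (Finset.mem_univ _) h
  obtain ⟨θ', hθ', hne'⟩ := hex
  -- `θ'` agrees with `θ` on the regular elements
  have hagree : ∀ ψ ∈ b, ψ ≠ θ → ∀ y : K, ¬ 2 ∣ orderOf y → (ψ : K → ℂ) y = (θ : K → ℂ) y := by
    intro ψ hψ hne
    obtain ⟨c, hc⟩ : ∃ c : ℂ, c = 2 * Cfsg.classInner (Cfsg.pRegularPart 2 (ψ : K → ℂ))
      (θ : K → ℂ) := ⟨_, rfl⟩
    have hrel : ∀ y : K, ¬ 2 ∣ orderOf y → (ψ : K → ℂ) y = c * (θ : K → ℂ) y := by
      intro y hy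
      have h1 := hexp ψ hψ y
      rw [pRegularPart_of_regular 2 _ y hy, ← Finset.add_sum_erase _ _ (Finset.mem_univ ψ),
        ← Finset.add_sum_erase _ _
          (Finset.mem_erase.mpr ⟨hne.symm, Finset.mem_univ θ⟩), if_pos hψ, if_pos hθ,
        hhalf ψ hψ, Finset.sum_eq_zero, add_zero] at h1
      · rw [hc]; linear_combination 2 * h1
      · intro ψ' hψ'mem
        rw [Finset.mem_erase, Finset.mem_erase] at hψ'mem
        by_cases hψ' : ψ' ∈ b
        · rw [if_pos hψ', hzero ψ hψ ψ' hψ' hne hψ'mem.1 (fun h => hψ'mem.2.1 h.symm), zero_mul]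
        · rw [if_neg hψ']
    -- `c * conj c = 1`
    have hcc : c * conj c = 1 := by
      have h1 := hhalf ψ hψ
      rw [classInner_pRegularPart_congr 2 (ψ : K → ℂ) (fun y => c * (θ : K → ℂ) y)
        (ψ : K → ℂ) (fun y => c * (θ : K → ℂ) y) hrel hrel,
        classInner_pRegularPart_smul, hhalf θ hθ] at h1
      linear_combination 2 * h1
    -- `c` is a positive real
    have hd : (ψ : K → ℂ) 1 = c * (θ : K → ℂ) 1 := hrel 1 (by rw [orderOf_one]; norm_num)
    have hψ1 : (ψ : K → ℂ) 1 = (Cfsg.charDegree (ψ : K → ℂ) : ℂ) :=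
      Cfsg.Agent.Lib.Helper25.char_one_eq_charDegree
        (Cfsg.Agent.Lib.Helper25.isCharacter_of_irr ψ.2)
    have hθ1 : (θ : K → ℂ) 1 = (Cfsg.charDegree (θ : K → ℂ) : ℂ) :=
      Cfsg.Agent.Lib.Helper25.char_one_eq_charDegree
        (Cfsg.Agent.Lib.Helper25.isCharacter_of_irr θ.2)
    have hdθpos : 0 < Cfsg.charDegree (θ : K → ℂ) := irr_charDegree_pos θ
    have hdψpos : 0 < Cfsg.charDegree (ψ : K → ℂ) := irr_charDegree_pos ψ
    have hdθne : (Cfsg.charDegree (θ : K → ℂ) : ℂ) ≠ 0 := by exact_mod_cast hdθpos.ne'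
    have hceq : c = (Cfsg.charDegree (ψ : K → ℂ) : ℂ) / (Cfsg.charDegree (θ : K → ℂ) : ℂ) := by
      rw [hψ1, hθ1] at hd
      field_simp
      exact hd.symm
    have hdeq : Cfsg.charDegree (ψ : K → ℂ) = Cfsg.charDegree (θ : K → ℂ) := by
      rw [hceq, map_div₀, Complex.conj_natCast, Complex.conj_natCast] at hcc
      field_simp at hcc
      have h2 : (Cfsg.charDegree (ψ : K → ℂ)) ^ 2 = (Cfsg.charDegree (θ : K → ℂ)) ^ 2 := by
        exact_mod_cast hcc
      exact Nat.pow_left_injective (by norm_num : 2 ≠ 0) h2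
    have hc1 : c = 1 := by
      rw [hceq, hdeq, div_self hdθne]
    intro y hy
    rw [hrel y hy, hc1, one_mul]
  refine ⟨θ', hθ', hne', ?_, hminus θ' hθ' hne', hagree θ' hθ' hne'⟩
  -- uniqueness
  ext ψ
  constructor
  · intro hψ
    by_cases h1 : ψ = θ
    · left; exact h1
    · right
      by_contra h2
      have h3 := hzero ψ hψ θ' hθ' h1 hne' h2
      rw [classInner_pRegularPart_congr 2 (ψ : K → ℂ) (θ : K → ℂ) (θ' : K → ℂ) (θ : K → ℂ)
        (hagree ψ hψ h1) (hagree θ' hθ' hne'), hhalf θ hθ] at h3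
      norm_num at h3
  · rintro (h | h)
    · rw [h]; exact hθ
    · rw [h]; exact hθ'

end CentralTwo

end Cfsg.Agent.Lib.Helper7
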