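import Mathlib
import Cfsg.Agent.Lib.Helper7.DefectOne
import Cfsg.Agent.Lib.Helper7.FirstMain
import Cfsg.Agent.Lib.Helper7.ExtFirstMain
import Cfsg.Agent.Lib.Helper24.ConjPairs
import Cfsg.Agent.S0958

/-!
# `2`-blocks with a defect group of order two: the blocks of the centralizers of involutions
-/

set_option autoImplicit false
open scoped ComplexConjugate
open Cfsg

namespace Cfsg.Agent.Lib.Helper7

open Cfsg.Agent.Lib.Helper24 Cfsg.Agent.Lib.Helper2

section

variable {G : Type*} [Group G] [Fintype G] {M : Ideal Cfsg.AlgInt}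

theorem mem_zpowers_involution' (x : G) (hx : orderOf x = 2) (u : G)
    (hu : u ∈ Subgroup.zpowers x) : u = 1 ∨ u = x :=
  mem_zpowers_involution x hx u hu

/-- the normalizer of the group generated by an involution is its centralizer -/
theorem centralizer_eq_normalizer_zpowers_involution (x : G) (hx : orderOf x = 2) :
    Subgroup.centralizer ({x} : Set G)
      = Subgroup.normalizer ((Subgroup.zpowers x : Subgroup G) : Set G) := by
  have hx1 : x ≠ 1 := by
    intro h; rw [h, orderOf_one] at hx; norm_num at hx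
  apply le_antisymm
  · have h1 : Subgroup.centralizer ((Subgroup.zpowers x : Subgroup G) : Set G)
        = Subgroup.centralizer ({x} : Set G) := by
      rw [Subgroup.zpowers_eq_closure, Subgroup.centralizer_closure]
    rw [← h1]
    exact Subgroup.centralizer_le_normalizer _
  · intro g hg
    rw [Subgroup.mem_centralizer_singleton_iff]
    have h1 := (Subgroup.mem_normalizer_iff.mp hg x).mp (Subgroup.mem_zpowers x)
    rcases mem_zpowers_involution x hx _ h1 with h | h
    · exfalso
      apply hx1
      have : x = g⁻¹ * (g * x * g⁻¹) * g := by group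
      rw [this, h]; group
    · calc g * x = (g * x * g⁻¹) * g := by group
        _ = x * g := by rw [h]

/-- the uniqueness part of the first main theorem for a subgroup equal to the normalizer -/
theorem first_main_unique_of_eq {p : ℕ} [Fact p.Prime] (hM : Cfsg.IsPModular p M)
    (D : Subgroup G) (hDp : IsPGroup p D) (H : Subgroup G)
    (hH : H = Subgroup.normalizer (D : Set G)) [Fintype H]
    (B : Set (Cfsg.IrrCharacter G)) (b₁ b₂ : Set (Cfsg.IrrCharacter H))
    (hdef₂ : Cfsg.IsDefectGroup p M b₂ (D.subgroupOf H))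
    (hind₁ : Cfsg.IsInducedBlock M H b₁ B) (hind₂ : Cfsg.IsInducedBlock M H b₂ B) :
    b₁ = b₂ := by
  subst hH
  exact first_main_unique hM D hDp B b₁ b₂ hdef₂ hind₁ hind₂

/-- only one block of the centralizer of the involution `x` induces a block with defect
group `⟨x⟩` -/
theorem unique_induced_block_involution (hM : Cfsg.IsPModular 2 M) (x : G) (hx : orderOf x = 2)
    (B : Set (Cfsg.IrrCharacter G))
    (hBD : Cfsg.IsDefectGroup 2 M B (Subgroup.zpowers x))
    (b₁ b₂ : Set (Cfsg.IrrCharacter (Subgroup.centralizer ({x} : Set G))))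
    (hind₁ : Cfsg.IsInducedBlock M (Subgroup.centralizer ({x} : Set G)) b₁ B)
    (hind₂ : Cfsg.IsInducedBlock M (Subgroup.centralizer ({x} : Set G)) b₂ B) : b₁ = b₂ := by
  classical
  haveI : Fact (Nat.Prime 2) := ⟨Nat.prime_two⟩
  letI : Fintype (Subgroup.centralizer ({x} : Set G)) := Fintype.ofFinite _
  have hP : IsPGroup 2 (Subgroup.zpowers x) := by
    apply IsPGroup.of_card (n := 1)
    rw [Nat.card_zpowers, hx, pow_one]
  have hPH : Subgroup.zpowers x ≤ Subgroup.centralizer ({x} : Set G) := by
    rw [Subgroup.zpowers_le, Subgroup.mem_centralizer_singleton_iff]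
  have hHN : Subgroup.centralizer ({x} : Set G)
      ≤ Subgroup.normalizer ((Subgroup.zpowers x : Subgroup G) : Set G) :=
    le_of_eq (centralizer_eq_normalizer_zpowers_involution x hx)
  have hdef₂ := isDefectGroup_of_isInducedBlock_of_le hM _ _ hPH hHN B hBD b₂ hind₂
  exact first_main_unique_of_eq hM (Subgroup.zpowers x) hP _
    (centralizer_eq_normalizer_zpowers_involution x hx) B b₁ b₂ hdef₂ hind₁ hind₂

/-- no block of the centralizer of an involution not conjugate to `x` induces a block with defect
group `⟨x⟩` -/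
theorem not_induced_of_not_isConj (hM : Cfsg.IsPModular 2 M) (x : G) (hx : orderOf x = 2)
    (B : Set (Cfsg.IrrCharacter G)) (hB : Cfsg.IsPBlock M B)
    (hBD : Cfsg.IsDefectGroup 2 M B (Subgroup.zpowers x)) (u : G) (hu : orderOf u = 2)
    (hux : ¬ IsConj x u)
    (b' : Set (Cfsg.IrrCharacter (Subgroup.centralizer ({u} : Set G)))) :
    ¬ Cfsg.IsInducedBlock M (Subgroup.centralizer ({u} : Set G)) b' B := by
  haveI : Fact (Nat.Prime 2) := ⟨Nat.prime_two⟩
  intro hind
  have hu1 : u ≠ 1 := by
    intro h; rw [h, orderOf_one] at hu; norm_num at hu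
  have hP : IsPGroup 2 (Subgroup.zpowers u) := by
    apply IsPGroup.of_card (n := 1)
    rw [Nat.card_zpowers, hu, pow_one]
  have hcent : Subgroup.centralizer ((Subgroup.zpowers u : Subgroup G) : Set G)
      = Subgroup.centralizer ({u} : Set G) := by
    rw [Subgroup.zpowers_eq_closure, Subgroup.centralizer_closure]
  have hPH : Subgroup.zpowers u ⊔ Subgroup.centralizer ((Subgroup.zpowers u : Subgroup G) : Set G)
      ≤ Subgroup.centralizer ({u} : Set G) := by
    rw [hcent]
    apply sup_le _ le_rfl
    rw [Subgroup.zpowers_le, Subgroup.mem_centralizer_singleton_iff]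
  have hHN : Subgroup.centralizer ({u} : Set G)
      ≤ Subgroup.normalizer ((Subgroup.zpowers u : Subgroup G) : Set G) :=
    le_of_eq (centralizer_eq_normalizer_zpowers_involution u hu)
  obtain ⟨D, hD, g, hg⟩ := (Cfsg.Agent.S0958.result 2 M hM (Subgroup.zpowers u)
    (Subgroup.centralizer ({u} : Set G)) hP hPH hHN B hB).mp ⟨b', hind⟩
  obtain ⟨h, hh⟩ := isDefectGroup_conj hM B hB hBD hD
  have h1 : g * u * g⁻¹ ∈ D := hg ⟨u, Subgroup.mem_zpowers u, rfl⟩
  rw [hh] at h1
  obtain ⟨v, hv, hv'⟩ := h1
  have hv'' : h * v * h⁻¹ = g * u * g⁻¹ := hv'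
  rcases mem_zpowers_involution x hx v hv with hv1 | hv1
  · apply hu1
    rw [hv1] at hv''
    have : u = g⁻¹ * (g * u * g⁻¹) * g := by group
    rw [this, ← hv'']; group
  · apply hux
    rw [hv1] at hv''
    rw [isConj_iff]
    refine ⟨g⁻¹ * h, ?_⟩
    have : u = g⁻¹ * (g * u * g⁻¹) * g := by group
    rw [this, ← hv'']; group

end

end Cfsg.Agent.Lib.Helper7
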