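import Mathlib
import Cfsg.Agent.Lib.Helper10.PGroup
import Cfsg.Agent.Lib.Helper7.QuotientPGroup

/-!
# Elements of order prime to `p` acting trivially on `D / D'` (helper7 library)

* `commutatorElement_mul_central`
* `mem_centralizer_of_comm_mem_central`
* `commutator_inf_centralizer_ne_bot`
* `mem_centralizer_of_comm_mem_commutator`: if `x` has order prime to `p` and `[d, x] ∈ D'` for all
  `d` in the normal `p`-subgroup `D`, then `x` centralizes `D`.
-/
set_option autoImplicit false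

universe u

namespace Cfsg.Agent.Lib.Helper7

open scoped commutatorElement

section
variable {G : Type*} [Group G]

/-- commutators are unchanged by multiplying with elements commuting with everything involved -/
theorem commutatorElement_mul_central {a b z w : G} (hza : Commute z a) (hzb : Commute z b)
    (hwa : Commute w a) (hwb : Commute w b) (hzw : Commute z w) :
    ⁅a * z, b * w⁆ = ⁅a, b⁆ := by
  rw [commutatorElement_def, commutatorElement_def]
  have h1 : (a * z)⁻¹ = a⁻¹ * z⁻¹ := by rw [mul_inv_rev, (hza.inv_left.inv_right).eq]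
  have h2 : (b * w)⁻¹ = b⁻¹ * w⁻¹ := by rw [mul_inv_rev, (hwb.inv_left.inv_right).eq]
  rw [h1, h2]
  calc a * z * (b * w) * (a⁻¹ * z⁻¹) * (b⁻¹ * w⁻¹)
      = a * (z * b) * (w * a⁻¹) * (z⁻¹ * b⁻¹) * w⁻¹ := by group
    _ = a * (b * z) * (a⁻¹ * w) * (b⁻¹ * z⁻¹) * w⁻¹ := by
        rw [hzb.eq, (hwa.inv_right).eq, (hzb.inv_left.inv_right).eq]
    _ = a * b * (z * a⁻¹) * (w * b⁻¹) * z⁻¹ * w⁻¹ := by group
    _ = a * b * (a⁻¹ * z) * (b⁻¹ * w) * z⁻¹ * w⁻¹ := by
        rw [(hza.inv_right).eq, (hwb.inv_right).eq]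
    _ = a * b * a⁻¹ * (z * b⁻¹) * (w * z⁻¹) * w⁻¹ := by group
    _ = a * b * a⁻¹ * (b⁻¹ * z) * (z⁻¹ * w) * w⁻¹ := by
        rw [(hzb.inv_right).eq, (hzw.symm.inv_right).eq]
    _ = a * b * a⁻¹ * b⁻¹ := by group

/-- If `x` has order prime to `p` and `[d, x] ∈ D' ∩ C_G(D)` for all `d` in the `p`-subgroup `D`,
then `x` centralizes `D`. -/
theorem mem_centralizer_of_comm_mem_central {p : ℕ} [hp : Fact p.Prime] [Finite G]
    (D : Subgroup G) (hD : IsPGroup p D) (x : G) (hx : ¬ p ∣ orderOf x)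
    (h : ∀ d ∈ D, d⁻¹ * (x * d * x⁻¹) ∈ ⁅D, D⁆ ⊓ Subgroup.centralizer (D : Set G)) :
    x ∈ Subgroup.centralizer (D : Set G) := by
  have hDD : ⁅D, D⁆ ≤ D := Subgroup.commutator_le_self D
  -- `x` centralizes the derived subgroup
  have h1 : ⁅D, D⁆ ≤ Subgroup.centralizer ({x} : Set G) := by
    rw [Subgroup.commutator_le]
    intro a ha b hb
    rw [Subgroup.mem_centralizer_singleton_iff]
    set z := a⁻¹ * (x * a * x⁻¹) with hz
    set w := b⁻¹ * (x * b * x⁻¹) with hw
    have hzK := h a ha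
    have hwK := h b hb
    have hzc : ∀ d ∈ D, Commute z d := fun d hd =>
      ((Subgroup.mem_centralizer_iff.mp hzK.2) d hd).symm
    have hwc : ∀ d ∈ D, Commute w d := fun d hd =>
      ((Subgroup.mem_centralizer_iff.mp hwK.2) d hd).symm
    have e1 : x * ⁅a, b⁆ * x⁻¹ = ⁅a * z, b * w⁆ := by
      rw [hz, hw, commutatorElement_def, commutatorElement_def]; group
    rw [commutatorElement_mul_central (hzc a ha) (hzc b hb) (hwc a ha) (hwc b hb)
      (hzc w (hDD hwK.1))] at e1
    calc ⁅a, b⁆ * x = (x * ⁅a, b⁆ * x⁻¹) * x := by rw [e1]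
      _ = x * ⁅a, b⁆ := by group
  rw [Subgroup.mem_centralizer_iff]
  intro d hd
  set u := d⁻¹ * (x * d * x⁻¹) with hu_def
  have huK := h d hd
  have hxu : x * u = u * x := ((Subgroup.mem_centralizer_singleton_iff.mp (h1 huK.1))).symm
  have e3 : (x⁻¹)⁻¹ * d * x⁻¹ = d * u := by rw [inv_inv, hu_def]; group
  have e4 : x⁻¹ * u = u * x⁻¹ := by
    have : Commute x u := hxu
    exact this.inv_left.eq
  have e5 := conj_pow_of_comm e3 e4 (orderOf x)
  rw [inv_pow, pow_orderOf_eq_one, inv_one, inv_one, one_mul, mul_one] at e5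
  have e6 : u ^ orderOf x = 1 := by
    have : d * u ^ orderOf x = d * 1 := by rw [mul_one]; exact e5.symm
    exact mul_left_cancel this
  have huD : u ∈ D := hDD huK.1
  obtain ⟨j, hj⟩ := (IsPGroup.iff_orderOf.mp hD) ⟨u, huD⟩
  have hj' : orderOf u = p ^ j := by rw [← hj, Subgroup.orderOf_mk]
  have h3 : orderOf u ∣ orderOf x := orderOf_dvd_of_pow_eq_one e6
  have hcop : Nat.Coprime (p ^ j) (orderOf x) :=
    Nat.Coprime.pow_left _ ((Nat.Prime.coprime_iff_not_dvd hp.out).mpr hx)
  have h4 : p ^ j = 1 := Nat.eq_one_of_dvd_coprimes hcop (dvd_refl _) (hj' ▸ h3)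
  rw [h4] at hj'
  have hu1 : u = 1 := orderOf_eq_one_iff.mp hj'
  rw [hu_def, inv_mul_eq_one] at hu1
  -- hu1 : d = x * d * x⁻¹
  calc d * x = (x * d * x⁻¹) * x := by rw [← hu1]
    _ = x * d := by group

end



/-- nontrivial derived subgroup of a `p`-subgroup meets its centre -/
theorem commutator_inf_centralizer_ne_bot {G : Type*} [Group G] [Finite G] {p : ℕ} [Fact p.Prime]
    (D : Subgroup G) (hD : IsPGroup p D) (hne : ⁅D, D⁆ ≠ ⊥) :
    ⁅D, D⁆ ⊓ Subgroup.centralizer (D : Set G) ≠ ⊥ := by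
  have hne' : _root_.commutator D ≠ ⊥ := by
    intro h
    apply hne
    rw [← Subgroup.map_subtype_commutator, h, Subgroup.map_bot]
  have h1 := Cfsg.Agent.Lib.Helper10.normal_inf_center_ne_bot hD (_root_.commutator D) hne'
  obtain ⟨⟨n, hn⟩, hn1'⟩ := (Subgroup.ne_bot_iff_exists_ne_one).mp h1
  have hn1 : n ≠ 1 := fun h => hn1' (Subtype.ext h)
  intro hbot
  apply hn1
  have : (n : G) ∈ ⁅D, D⁆ ⊓ Subgroup.centralizer (D : Set G) := by
    constructor
    · rw [← Subgroup.map_subtype_commutator]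
      exact ⟨n, hn.1, rfl⟩
    · show (n : G) ∈ Subgroup.centralizer (D : Set G)
      rw [Subgroup.mem_centralizer_iff]
      intro d hd
      have := (Subgroup.mem_center_iff.mp hn.2) ⟨d, hd⟩
      exact congrArg Subtype.val this
  rw [hbot, Subgroup.mem_bot] at this
  exact Subtype.ext this


theorem mem_centralizer_of_comm_mem_commutator_aux {p : ℕ} [hp : Fact p.Prime] (n : ℕ) :
    ∀ (G : Type u) [Group G] [Finite G] (D : Subgroup G) [D.Normal], Nat.card D = n →
      IsPGroup p D → ∀ x : G, ¬ p ∣ orderOf x →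
      (∀ d ∈ D, d⁻¹ * (x * d * x⁻¹) ∈ ⁅D, D⁆) → x ∈ Subgroup.centralizer (D : Set G) := by
  induction n using Nat.strong_induction_on with
  | _ n ih =>
    intro G _ _ D hDn hcard hD x hx h
    by_cases hbot : ⁅D, D⁆ = ⊥
    · apply mem_centralizer_of_comm_mem_central D hD x hx
      intro d hd
      have := h d hd
      rw [hbot, Subgroup.mem_bot] at this
      rw [this]
      exact Subgroup.one_mem _
    · set K : Subgroup G := ⁅D, D⁆ ⊓ Subgroup.centralizer (D : Set G) with hK
      have hKne : K ≠ ⊥ := commutator_inf_centralizer_ne_bot D hD hbot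
      have hKD : K ≤ D := inf_le_left.trans (Subgroup.commutator_le_self D)
      haveI hKn : K.Normal := by rw [hK]; infer_instance
      let f := QuotientGroup.mk' K
      haveI : (D.map f).Normal := hDn.map f (QuotientGroup.mk'_surjective K)
      have hlt : Nat.card (D.map f) < n := by
        rw [← hcard]
        letI : Fintype D := Fintype.ofFinite _
        letI : Fintype (D.map f) := Fintype.ofFinite _
        rw [Nat.card_eq_fintype_card, Nat.card_eq_fintype_card]
        apply Fintype.card_lt_of_surjective_not_injective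
          (fun d : D => (⟨f d, Subgroup.mem_map_of_mem f d.2⟩ : D.map f))
        · rintro ⟨y, d, hd, rfl⟩
          exact ⟨⟨d, hd⟩, rfl⟩
        · intro hinj
          obtain ⟨k, hk, hk1⟩ := (Subgroup.ne_bot_iff_exists_ne_one).mp hKne |>.elim
            (fun k hk => (⟨k.1, k.2, fun h => hk (Subtype.ext h)⟩ : ∃ k : G, k ∈ K ∧ k ≠ 1))
          have := @hinj ⟨k, hKD hk⟩ ⟨1, D.one_mem⟩ (by
            apply Subtype.ext
            show f k = f 1
            rw [map_one]
            exact (QuotientGroup.eq_one_iff k).mpr hk)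
          exact hk1 (congrArg Subtype.val this)
      have hx' : ¬ p ∣ orderOf (f x) := fun hdvd => hx (hdvd.trans (orderOf_map_dvd f x))
      have h' : ∀ d ∈ D.map f, d⁻¹ * (f x * d * (f x)⁻¹) ∈ ⁅D.map f, D.map f⁆ := by
        rintro _ ⟨d, hd, rfl⟩
        rw [← Subgroup.map_commutator]
        refine ⟨d⁻¹ * (x * d * x⁻¹), h d hd, ?_⟩
        simp only [map_mul, map_inv]
      have hcent := ih _ hlt (G ⧸ K) (D.map f) rfl (hD.map f) (f x) hx' h'
      apply mem_centralizer_of_comm_mem_central D hD x hx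
      intro d hd
      refine ⟨h d hd, ?_⟩
      have h2 := (Subgroup.mem_centralizer_iff.mp hcent) (f d) (Subgroup.mem_map_of_mem f hd)
      -- h2 : f d * f x = f x * f d
      have h3 : f (d⁻¹ * (x * d * x⁻¹)) = 1 := by
        simp only [map_mul, map_inv]
        rw [← h2]; group
      have h4 : d⁻¹ * (x * d * x⁻¹) ∈ K := (QuotientGroup.eq_one_iff _).mp h3
      exact h4.2

/-- If `x` has order prime to `p`, normalizes the normal `p`-subgroup `D` and acts trivially on
`D / D'`, then `x` centralizes `D`. -/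
theorem mem_centralizer_of_comm_mem_commutator {G : Type u} [Group G] [Finite G] {p : ℕ}
    [hp : Fact p.Prime] (D : Subgroup G) [D.Normal] (hD : IsPGroup p D) (x : G)
    (hx : ¬ p ∣ orderOf x) (h : ∀ d ∈ D, d⁻¹ * (x * d * x⁻¹) ∈ ⁅D, D⁆) :
    x ∈ Subgroup.centralizer (D : Set G) :=
  mem_centralizer_of_comm_mem_commutator_aux _ G D rfl hD x hx h

end Cfsg.Agent.Lib.Helper7
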