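import Mathlib
import Cfsg.Prelude.Def_Blocks
import Cfsg.Agent.Lib.Helper24.Loc

/-!
# Determinants over the local ring at `M` (helper7)

* `det_mul_eq_sum`: multilinear expansion of `det (A * B)` for rectangular `A`, `B`
  (the easy half of Cauchy–Binet).
* `exists_injective_det_not_memLocalIdeal`: if `det (A * B)` is a local unit then some `r` distinct
  columns of `A` form a matrix whose determinant is a local unit.
* `det_memLocalRing`, `det_sub_det_memLocalIdeal`: determinants of local-integral matrices, and of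
  entrywise congruent matrices.
* `memLocalIdeal_div_of_factorization_lt`, `unit_div_of_factorization_eq`: quotients of natural
  numbers by `p`-adic valuation.
-/

set_option autoImplicit false

namespace Cfsg.Agent.Lib.Helper7

open Cfsg.Agent.Lib.Helper24

section General

variable {R : Type*} [CommRing R]

/-- multilinear expansion of `det (A * B)` for rectangular matrices -/
theorem det_mul_eq_sum {ι : Type*} [Fintype ι] [DecidableEq ι] {r : ℕ}
    (A : Matrix (Fin r) ι R) (B : Matrix ι (Fin r) R) :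
    (A * B).det = ∑ f : Fin r → ι, (∏ j, B (f j) j) * (A.submatrix id f).det := by
  rw [← Matrix.det_transpose]
  have h1 : (A * B).transpose
      = Matrix.of (fun j : Fin r => ∑ b : ι, B b j • (fun i : Fin r => A i b)) := by
    ext j i
    simp only [Matrix.transpose_apply, Matrix.mul_apply, Matrix.of_apply, Finset.sum_apply,
      Pi.smul_apply, smul_eq_mul]
    apply Finset.sum_congr rfl
    intro b _
    ring
  rw [h1]
  have h2 := (Matrix.detRowAlternating (R := R) (n := Fin r)).toMultilinearMap.map_sum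
    (fun (j : Fin r) (b : ι) => B b j • (fun i : Fin r => A i b))
  have h3 : (Matrix.of (fun j : Fin r => ∑ b : ι, B b j • (fun i : Fin r => A i b))).det
      = (Matrix.detRowAlternating (R := R) (n := Fin r)).toMultilinearMap
          (fun j : Fin r => ∑ b : ι, B b j • (fun i : Fin r => A i b)) := rfl
  rw [h3, h2]
  apply Finset.sum_congr rfl
  intro f _
  have h4 := (Matrix.detRowAlternating (R := R) (n := Fin r)).toMultilinearMap.map_smul_univ
    (fun j : Fin r => B (f j) j) (fun (j : Fin r) => (fun i : Fin r => A i (f j)))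
  rw [h4, smul_eq_mul]
  congr 1
  rw [← Matrix.det_transpose (A.submatrix id f)]
  rfl

end General

section Local

variable {p : ℕ} {M : Ideal Cfsg.AlgInt}

theorem prod_sub_prod_memLocalIdeal (hM : Cfsg.IsPModular p M) {ι : Type*} (s : Finset ι)
    (f g : ι → ℂ) (hf : ∀ i ∈ s, Cfsg.MemLocalRing M (f i))
    (hg : ∀ i ∈ s, Cfsg.MemLocalRing M (g i))
    (hfg : ∀ i ∈ s, Cfsg.MemLocalIdeal M (f i - g i)) :
    Cfsg.MemLocalIdeal M (∏ i ∈ s, f i - ∏ i ∈ s, g i) := by
  classical
  induction s using Finset.induction_on with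
  | empty =>
    simp only [Finset.prod_empty, sub_self]
    exact memLocalIdeal_zero hM
  | insert a s ha ih =>
    rw [Finset.prod_insert ha, Finset.prod_insert ha]
    have e : f a * ∏ i ∈ s, f i - g a * ∏ i ∈ s, g i
        = f a * (∏ i ∈ s, f i - ∏ i ∈ s, g i) + (f a - g a) * ∏ i ∈ s, g i := by ring
    rw [e]
    apply memLocalIdeal_add hM
    · apply memLocalIdeal_mul_left hM (hf a (Finset.mem_insert_self a s))
      exact ih (fun i hi => hf i (Finset.mem_insert_of_mem hi))
        (fun i hi => hg i (Finset.mem_insert_of_mem hi))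
        (fun i hi => hfg i (Finset.mem_insert_of_mem hi))
    · apply memLocalIdeal_mul_right hM (hfg a (Finset.mem_insert_self a s))
      exact memLocalRing_prod hM _ _ (fun i hi => hg i (Finset.mem_insert_of_mem hi))

theorem det_memLocalRing (hM : Cfsg.IsPModular p M) {n : Type*} [Fintype n] [DecidableEq n]
    (A : Matrix n n ℂ) (hA : ∀ i j, Cfsg.MemLocalRing M (A i j)) :
    Cfsg.MemLocalRing M A.det := by
  rw [Matrix.det_apply]
  apply memLocalRing_sum hM
  intro σ _
  rw [Units.smul_def, zsmul_eq_mul]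
  apply memLocalRing_mul hM (memLocalRing_intCast hM _)
  exact memLocalRing_prod hM _ _ (fun i _ => hA _ _)

theorem det_sub_det_memLocalIdeal (hM : Cfsg.IsPModular p M) {n : Type*} [Fintype n]
    [DecidableEq n] (A A' : Matrix n n ℂ) (hA : ∀ i j, Cfsg.MemLocalRing M (A i j))
    (hA' : ∀ i j, Cfsg.MemLocalRing M (A' i j))
    (h : ∀ i j, Cfsg.MemLocalIdeal M (A i j - A' i j)) :
    Cfsg.MemLocalIdeal M (A.det - A'.det) := by
  rw [Matrix.det_apply, Matrix.det_apply, ← Finset.sum_sub_distrib]
  apply memLocalIdeal_sum hM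
  intro σ _
  rw [Units.smul_def, Units.smul_def, zsmul_eq_mul, zsmul_eq_mul, ← mul_sub]
  apply memLocalIdeal_mul_left hM (memLocalRing_intCast hM _)
  exact prod_sub_prod_memLocalIdeal hM _ _ _ (fun i _ => hA _ _) (fun i _ => hA' _ _)
    (fun i _ => h _ _)

/-- if `det (A * B)` is a local unit then some `r` distinct columns of `A` form a matrix whose
determinant is a local unit -/
theorem exists_injective_det_not_memLocalIdeal (hM : Cfsg.IsPModular p M) {ι : Type*}
    [Fintype ι] [DecidableEq ι] {r : ℕ} (A : Matrix (Fin r) ι ℂ) (B : Matrix ι (Fin r) ℂ)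
    (hA : ∀ i b, Cfsg.MemLocalRing M (A i b)) (hB : ∀ b j, Cfsg.MemLocalRing M (B b j))
    (h : ¬ Cfsg.MemLocalIdeal M (A * B).det) :
    ∃ f : Fin r → ι, Function.Injective f ∧ ¬ Cfsg.MemLocalIdeal M (A.submatrix id f).det := by
  by_contra hcon
  push Not at hcon
  apply h
  rw [det_mul_eq_sum]
  apply memLocalIdeal_sum hM
  intro f _
  by_cases hf : Function.Injective f
  · apply memLocalIdeal_mul_left hM _ (hcon f hf)
    exact memLocalRing_prod hM _ _ (fun j _ => hB _ _)
  · have h0 : (A.submatrix id f).det = 0 := by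
      rw [Function.Injective] at hf
      push Not at hf
      obtain ⟨j, j', hjj, hne⟩ := hf
      apply Matrix.det_zero_of_column_eq hne
      intro i
      simp only [Matrix.submatrix_apply, id_eq, hjj]
    rw [h0, mul_zero]
    exact memLocalIdeal_zero hM

/-- `m / n` lies in the local ideal when `ν_p(n) < ν_p(m)` -/
theorem memLocalIdeal_div_of_factorization_lt (hM : Cfsg.IsPModular p M) {m n : ℕ} (hm : m ≠ 0)
    (hn : n ≠ 0) (h : n.factorization p < m.factorization p) :
    Cfsg.MemLocalIdeal M ((m : ℂ) / (n : ℂ)) := by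
  have hp : p.Prime := hM.1
  set i := n.factorization p with hi
  have hn' : p ^ i * (n / p ^ i) = n := Nat.ordProj_mul_ordCompl_eq_self n p
  have hn'nd : ¬ p ∣ n / p ^ i := Nat.not_dvd_ordCompl hp hn
  have hdm : p ^ (i + 1) ∣ m := (hp.pow_dvd_iff_le_factorization hm).mpr h
  obtain ⟨m'', hm''⟩ := hdm
  set n' := n / p ^ i with hn'def
  have hn'0 : (n' : ℂ) ≠ 0 := by
    intro h0
    have : n' = 0 := by exact_mod_cast h0
    rw [this] at hn'nd
    exact hn'nd (dvd_zero p)
  have hp0 : (p : ℂ) ≠ 0 := by exact_mod_cast hp.ne_zero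
  have e : (m : ℂ) / (n : ℂ) = (p : ℂ) * ((m'' : ℂ) * (n' : ℂ)⁻¹) := by
    have h1 : (n : ℂ) = (p : ℂ) ^ i * (n' : ℂ) := by
      rw [← hn']; push_cast; ring
    rw [h1, hm'']
    push_cast
    field_simp
    ring
  rw [e]
  apply memLocalIdeal_mul_right hM
  · rw [memLocalIdeal_natCast_iff hM]
  · exact memLocalRing_mul hM (memLocalRing_natCast hM _) (memLocalRing_natCast_inv hM hn'nd)

/-- `m / n` is a local integer when `ν_p(n) ≤ ν_p(m)` -/
theorem memLocalRing_div_of_factorization_le (hM : Cfsg.IsPModular p M) {m n : ℕ} (hm : m ≠ 0)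
    (hn : n ≠ 0) (h : n.factorization p ≤ m.factorization p) :
    Cfsg.MemLocalRing M ((m : ℂ) / (n : ℂ)) := by
  have hp : p.Prime := hM.1
  set i := n.factorization p with hi
  have hn' : p ^ i * (n / p ^ i) = n := Nat.ordProj_mul_ordCompl_eq_self n p
  have hn'nd : ¬ p ∣ n / p ^ i := Nat.not_dvd_ordCompl hp hn
  have hdm : p ^ i ∣ m := (hp.pow_dvd_iff_le_factorization hm).mpr h
  obtain ⟨m'', hm''⟩ := hdm
  set n' := n / p ^ i with hn'def
  have hn'0 : (n' : ℂ) ≠ 0 := by
    intro h0
    have : n' = 0 := by exact_mod_cast h0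
    rw [this] at hn'nd
    exact hn'nd (dvd_zero p)
  have hp0 : (p : ℂ) ≠ 0 := by exact_mod_cast hp.ne_zero
  have e : (m : ℂ) / (n : ℂ) = (m'' : ℂ) * (n' : ℂ)⁻¹ := by
    have h1 : (n : ℂ) = (p : ℂ) ^ i * (n' : ℂ) := by
      rw [← hn']; push_cast; ring
    rw [h1, hm'']
    push_cast
    field_simp
  rw [e]
  exact memLocalRing_mul hM (memLocalRing_natCast hM _) (memLocalRing_natCast_inv hM hn'nd)

/-- `m / n` is a local unit when `ν_p(n) = ν_p(m)` -/
theorem not_memLocalIdeal_div_of_factorization_eq (hM : Cfsg.IsPModular p M) {m n : ℕ}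
    (hm : m ≠ 0) (hn : n ≠ 0) (h : n.factorization p = m.factorization p) :
    ¬ Cfsg.MemLocalIdeal M ((m : ℂ) / (n : ℂ)) := by
  intro hmem
  have h2 := memLocalRing_div_of_factorization_le hM hn hm (le_of_eq h.symm)
  have h3 := memLocalIdeal_mul_right hM hmem h2
  have hm0 : (m : ℂ) ≠ 0 := by exact_mod_cast hm
  have hn0 : (n : ℂ) ≠ 0 := by exact_mod_cast hn
  have e : (m : ℂ) / (n : ℂ) * ((n : ℂ) / (m : ℂ)) = 1 := by field_simp
  rw [e] at h3
  exact not_memLocalIdeal_one hM h3

end Local

end Cfsg.Agent.Lib.Helper7
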