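import Mathlib
import Cfsg.Agent.Lib.Helper13.Conj
import Cfsg.Agent.Lib.Helper13.SylowRel

set_option autoImplicit false

namespace Cfsg.Agent.Lib.Helper7

open Cfsg.Agent.Lib.Helper13

/-- Burnside's fusion lemma for subgroups normalized by a Sylow subgroup: if `A` and `B` are
normalized by the Sylow `p`-subgroup `S` and conjugate in `G`, they are conjugate in `N_G(S)`. -/
theorem burnside_fusion_subgroup {G : Type*} [Group G] [Finite G] {p : ℕ} [Fact p.Prime]
    (S : Sylow p G) (A B : Subgroup G)
    (hA : (S : Subgroup G) ≤ Subgroup.normalizer (A : Set G))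
    (hB : (S : Subgroup G) ≤ Subgroup.normalizer (B : Set G))
    (g : G) (hg : B = A.map (MulAut.conj g).toMonoidHom) :
    ∃ n ∈ Subgroup.normalizer ((S : Subgroup G) : Set G), B = A.map (MulAut.conj n).toMonoidHom := by
  have h2 : ((g • S : Sylow p G) : Subgroup G) ≤ Subgroup.normalizer (B : Set G) := by
    intro x hx
    rw [Sylow.coe_subgroup_smul, Subgroup.mem_pointwise_smul_iff_inv_smul_mem] at hx
    have hx' : g⁻¹ * x * g ∈ (S : Subgroup G) := by
      simpa [MulAut.smul_def] using hx
    have h3 := hA hx'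
    rw [hg, normalizer_map_conj, mem_map_conj_iff]
    exact h3
  obtain ⟨h, hh⟩ := MulAction.exists_smul_eq (Subgroup.normalizer (B : Set G))
    ((g • S).subtype h2) (S.subtype hB)
  simp_rw [Sylow.smul_subtype, Subgroup.smul_def, smul_smul] at hh
  refine ⟨h * g, Sylow.smul_eq_iff_mem_normalizer.mp (Sylow.subtype_injective hh), ?_⟩
  rw [map_conj_mul, ← hg]
  exact ((map_conj_eq_self_iff_mem_normalizer B h).mpr h.2).symm

end Cfsg.Agent.Lib.Helper7
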