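import Mathlib
import Cfsg.Prelude.Def_Blocks
import Cfsg.Agent.Lib.Helper24.Loc

/-!
# Galois conjugates and the maximal ideals over `p` (helper7 library)

`mem_of_forall_conj_mem`: let `x k = c₁ ∑ μ_i ^ k - c₂ ∑ ν_j ^ k` for `n`-th roots of unity
`μ_i`, `ν_j` and rationals `c₁ c₂`; if all `x k` (`k` a unit mod `n`) are algebraic integers lying
in the local ideal at one maximal ideal `M` over `p`, then `x 1` lies in every maximal ideal `M'`
over `p`.  (The Galois group of the cyclotomic field permutes the primes over `p` transitively.)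
-/

set_option autoImplicit false

namespace Cfsg.Agent.Lib.Helper7

open Cfsg.Agent.Lib.Helper24
open NumberField Polynomial
open scoped Pointwise

theorem under_eq_span_of_isPModular {p : ℕ} {M : Ideal Cfsg.AlgInt} (hM : Cfsg.IsPModular p M) :
    M.comap (algebraMap ℤ Cfsg.AlgInt) = Ideal.span {(p : ℤ)} := by
  have hp : p.Prime := hM.1
  haveI : M.IsMaximal := hM.2.1
  have hle : Ideal.span {(p : ℤ)} ≤ M.comap (algebraMap ℤ Cfsg.AlgInt) := by
    rw [Ideal.span_le, Set.singleton_subset_iff]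
    show algebraMap ℤ Cfsg.AlgInt (p : ℤ) ∈ M
    rw [map_natCast]
    exact hM.2.2
  have hmax : (Ideal.span {(p : ℤ)}).IsMaximal :=
    PrincipalIdealRing.isMaximal_of_irreducible
      (Nat.prime_iff_prime_int.mp hp).irreducible
  have hne : M.comap (algebraMap ℤ Cfsg.AlgInt) ≠ ⊤ := (Ideal.comap_isPrime _ M).ne_top
  exact (hmax.eq_of_le hne hle).symm

theorem mem_of_forall_conj_mem (n : ℕ) [NeZero n] {p : ℕ} {M M' : Ideal Cfsg.AlgInt}
    (hM : Cfsg.IsPModular p M) (hM' : Cfsg.IsPModular p M') (n1 n2 : ℕ)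
    (μ : Fin n1 → ℂ) (ν : Fin n2 → ℂ) (hμ : ∀ i, μ i ^ n = 1) (hν : ∀ j, ν j ^ n = 1)
    (c1 c2 : ℚ)
    (hint : ∀ k : (ZMod n)ˣ, IsIntegral ℤ
      ((c1 : ℂ) * ∑ i, μ i ^ (k : ZMod n).val - (c2 : ℂ) * ∑ j, ν j ^ (k : ZMod n).val))
    (hmem : ∀ k : (ZMod n)ˣ, Cfsg.MemLocalIdeal M
      ((c1 : ℂ) * ∑ i, μ i ^ (k : ZMod n).val - (c2 : ℂ) * ∑ j, ν j ^ (k : ZMod n).val)) :
    ∃ r : Cfsg.AlgInt, r ∈ M' ∧ (r : ℂ) = (c1 : ℂ) * ∑ i, μ i - (c2 : ℂ) * ∑ j, ν j := by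
  classical
  let K := CyclotomicField n ℚ
  haveI : IsCyclotomicExtension {n} ℚ K := CyclotomicField.isCyclotomicExtension n ℚ
  haveI : IsGalois ℚ K := IsCyclotomicExtension.isGalois {n} ℚ K
  haveI : FiniteDimensional ℚ K := IsCyclotomicExtension.finiteDimensional {n} ℚ K
  haveI : NumberField K := IsCyclotomicExtension.numberField {n} ℚ K
  haveI : M.IsMaximal := hM.2.1
  haveI : M'.IsMaximal := hM'.2.1
  set ζ0 : K := IsCyclotomicExtension.zeta n ℚ K with hζ0def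
  have hζ0 : IsPrimitiveRoot ζ0 n := IsCyclotomicExtension.zeta_spec n ℚ K
  let ι : K →ₐ[ℚ] ℂ := IsAlgClosed.lift
  have hιinj : Function.Injective ι := ι.toRingHom.injective
  have hζ : IsPrimitiveRoot (ι ζ0) n := hζ0.map_of_injective hιinj
  choose a ha1 ha2 using fun i => hζ.eq_pow_of_pow_eq_one (hμ i)
  choose b hb1 hb2 using fun j => hζ.eq_pow_of_pow_eq_one (hν j)
  set α0 : K := (algebraMap ℚ K c1) * ∑ i, ζ0 ^ a i - (algebraMap ℚ K c2) * ∑ j, ζ0 ^ b j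
    with hα0
  have hirr : Irreducible (cyclotomic n ℚ) := cyclotomic.irreducible_rat (NeZero.pos n)
  let e : (K ≃ₐ[ℚ] K) ≃* (ZMod n)ˣ := IsCyclotomicExtension.autEquivPow K hirr
  have hσ : ∀ σ : K ≃ₐ[ℚ] K, σ ζ0 = ζ0 ^ ((e σ : (ZMod n)ˣ) : ZMod n).val := by
    intro σ
    have h1 := IsPrimitiveRoot.autToPow_spec ℚ hζ0 σ
    rw [← h1]
    congr 2
  have hισ : ∀ σ : K ≃ₐ[ℚ] K, ι (σ α0)
      = (c1 : ℂ) * ∑ i, μ i ^ ((e σ : (ZMod n)ˣ) : ZMod n).val
        - (c2 : ℂ) * ∑ j, ν j ^ ((e σ : (ZMod n)ˣ) : ZMod n).val := by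
    intro σ
    rw [hα0, map_sub, map_sub, map_mul, map_mul, map_mul, map_mul, map_sum, map_sum, map_sum,
      map_sum, AlgEquiv.commutes, AlgEquiv.commutes, AlgHom.commutes, AlgHom.commutes]
    congr 1
    · congr 1
      apply Finset.sum_congr rfl; intro i _
      rw [map_pow, hσ, map_pow, map_pow, ← ha2 i, ← pow_mul, ← pow_mul, mul_comm]
    · congr 1
      apply Finset.sum_congr rfl; intro j _
      rw [map_pow, hσ, map_pow, map_pow, ← hb2 j, ← pow_mul, ← pow_mul, mul_comm]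
  have hια0 : ι α0 = (c1 : ℂ) * ∑ i, μ i - (c2 : ℂ) * ∑ j, ν j := by
    rw [hα0, map_sub, map_mul, map_mul, map_sum, map_sum, AlgHom.commutes, AlgHom.commutes]
    congr 1
    · congr 1
      apply Finset.sum_congr rfl; intro i _
      rw [map_pow, ha2]
    · congr 1
      apply Finset.sum_congr rfl; intro j _
      rw [map_pow, hb2]
  -- integrality of the conjugates
  have hintσ : ∀ σ : K ≃ₐ[ℚ] K, IsIntegral ℤ (σ α0) := by
    intro σ
    have h1 : IsIntegral ℤ (ι (σ α0)) := by rw [hισ]; exact hint _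
    exact (isIntegral_algHom_iff (ι.restrictScalars ℤ) hιinj).mp h1
  have hintα : IsIntegral ℤ α0 := by
    have := hintσ 1
    simpa using this
  -- the ring hom `𝓞 K → AlgInt`
  let j : 𝓞 K →+* Cfsg.AlgInt :=
    (ι.toRingHom.comp (algebraMap (𝓞 K) K)).codRestrict Cfsg.AlgInt (fun y => by
      show IsIntegral ℤ (ι (y : K))
      exact (RingOfIntegers.isIntegral_coe y).map (ι.restrictScalars ℤ))
  have hj : ∀ y : 𝓞 K, ((j y : Cfsg.AlgInt) : ℂ) = ι (y : K) := fun y => rfl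
  set P : Ideal (𝓞 K) := M.comap j with hP
  set P' : Ideal (𝓞 K) := M'.comap j with hP'
  haveI : P.IsPrime := Ideal.comap_isPrime j M
  haveI : P'.IsPrime := Ideal.comap_isPrime j M'
  have hunder : P.under ℤ = P'.under ℤ := by
    have h1 : ∀ (N : Ideal Cfsg.AlgInt), (N.comap j).under ℤ
        = N.comap (algebraMap ℤ Cfsg.AlgInt) := by
      intro N
      rw [Ideal.under_def, Ideal.comap_comap]
      congr 1
      exact RingHom.ext_int _ _
    rw [hP, hP', h1, h1, under_eq_span_of_isPModular hM, under_eq_span_of_isPModular hM']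
  obtain ⟨σ, hσP⟩ := Algebra.IsInvariant.exists_smul_of_under_eq ℤ (𝓞 K) (K ≃ₐ[ℚ] K) P P' hunder
  have hintα' : α0 ∈ integralClosure ℤ K := hintα
  obtain ⟨α1, hα1⟩ : ∃ α1 : 𝓞 K, (α1 : K) = α0 := ⟨⟨α0, hintα'⟩, rfl⟩
  refine ⟨j α1, ?_, ?_⟩
  · show α1 ∈ P'
    rw [hσP, Ideal.mem_pointwise_smul_iff_inv_smul_mem]
    show j (σ⁻¹ • α1) ∈ M
    rw [← memLocalIdeal_algInt_iff hM, hj]
    have : ((σ⁻¹ • α1 : 𝓞 K) : K) = σ⁻¹ (α1 : K) := rfl
    rw [this, hα1, hισ]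
    exact hmem _
  · rw [hj, hα1]
    exact hια0

end Cfsg.Agent.Lib.Helper7
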