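import Mathlib
import Cfsg.Prelude.Def_Blocks
import Cfsg.Agent.Lib.Helper7.MinMax

/-!
# Green's theorem on defect groups: the group-theoretic part (helper7)
-/

set_option autoImplicit false

namespace Cfsg.Agent.Lib.Helper7

variable {G : Type*} [Group G] [Finite G] {p : ℕ}

theorem card_map_conj (D : Subgroup G) (x : G) :
    Nat.card (D.map (MulAut.conj x).toMonoidHom) = Nat.card D :=
  (Nat.card_congr (Subgroup.equivMapOfInjective D (MulAut.conj x).toMonoidHom
    (MulAut.conj x).injective).toEquiv).symm

/-- a `p`-subgroup `T ⊇ D` centralizing `l` equals `D` when `SylCentLe p D l` -/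
theorem eq_of_sylCentLe [Fact p.Prime] {D : Subgroup G} {l : G} (h : SylCentLe p D l)
    (T : Subgroup G) (hT : IsPGroup p T) (hTl : T ≤ Subgroup.centralizer ({l} : Set G))
    (hDT : D ≤ T) : T = D := by
  haveI : Fintype G := Fintype.ofFinite G
  obtain ⟨x, hx⟩ := h.exists_le T hT hTl
  have h1 : Nat.card T ≤ Nat.card D := by
    rw [← card_map_conj D x]
    exact Subgroup.card_le_of_le hx
  have h2 : Nat.card D ≤ Nat.card T := Subgroup.card_le_of_le hDT
  have h3 : Nat.card D = Nat.card T := le_antisymm h2 h1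
  exact (Subgroup.eq_of_le_of_card_ge hDT (le_of_eq h3.symm)).symm

/-- `D` is the image of a Sylow `p`-subgroup of `C_G(l)` when `D` centralizes `l` and
`SylCentLe p D l` -/
theorem exists_sylow_map_eq_of_sylCentLe [Fact p.Prime] {D : Subgroup G} {l : G} (h : SylCentLe p D l)
    (hD : IsPGroup p D) (hDl : D ≤ Subgroup.centralizer ({l} : Set G)) :
    ∃ S : Sylow p (Subgroup.centralizer ({l} : Set G)),
      (S : Subgroup (Subgroup.centralizer ({l} : Set G))).map
        (Subgroup.centralizer ({l} : Set G)).subtype = D := by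
  have hD' : IsPGroup p (D.subgroupOf (Subgroup.centralizer ({l} : Set G))) :=
    hD.comap_of_injective (Subgroup.centralizer ({l} : Set G)).subtype
      (Subgroup.centralizer ({l} : Set G)).subtype_injective
  obtain ⟨S, hS⟩ := hD'.exists_le_sylow
  refine ⟨S, ?_⟩
  apply eq_of_sylCentLe h _ (S.2.map _)
  · intro u hu
    obtain ⟨v, _, rfl⟩ := hu
    exact v.2
  · intro u hu
    exact ⟨⟨u, hDl hu⟩, hS (by rw [Subgroup.mem_subgroupOf]; exact hu), rfl⟩

/-- **Green's theorem, group-theoretic part.**  If `g` centralizes the `p`-subgroup `D ≤ P`,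
`SylCentLe p D g` holds, and every `v ∈ N_P(D)` with `g⁻¹ v g ∈ P` commutes with `g`, then `D`
is (the image of) a Sylow `p`-subgroup of `C_G(g)` and `P ∩ g P g⁻¹ = D`. -/
theorem green_of_core [Fact p.Prime] (D : Subgroup G) (P : Sylow p G) (hDP : D ≤ P) (g : G)
    (hgD : g ∈ Subgroup.centralizer (D : Set G)) (hsyl : SylCentLe p D g)
    (hfix : ∀ v ∈ (P : Subgroup G), v ∈ Subgroup.normalizer (D : Set G) →
      g⁻¹ * v * g ∈ (P : Subgroup G) → v * g = g * v) :
    (∃ S : Sylow p (Subgroup.centralizer ({g} : Set G)),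
      (S : Subgroup (Subgroup.centralizer ({g} : Set G))).map
        (Subgroup.centralizer ({g} : Set G)).subtype = D) ∧
    (P : Subgroup G) ⊓ (P : Subgroup G).map (MulAut.conj g).toMonoidHom = D := by
  have hDp : IsPGroup p D := P.2.to_le hDP
  have hDg : D ≤ Subgroup.centralizer ({g} : Set G) := by
    intro d hd
    rw [Subgroup.mem_centralizer_iff] at hgD ⊢
    intro y hy
    rw [Set.mem_singleton_iff] at hy
    rw [hy]
    exact (hgD d hd).symm
  refine ⟨exists_sylow_map_eq_of_sylCentLe hsyl hDp hDg, ?_⟩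
  -- membership in the conjugate
  have hmemconj : ∀ v : G, v ∈ (P : Subgroup G).map (MulAut.conj g).toMonoidHom
      ↔ g⁻¹ * v * g ∈ (P : Subgroup G) := by
    intro v
    constructor
    · rintro ⟨w, hw, rfl⟩
      simp only [MulEquiv.coe_toMonoidHom, MulAut.conj_apply]
      have : g⁻¹ * (g * w * g⁻¹) * g = w := by group
      rw [this]; exact hw
    · intro hv
      refine ⟨g⁻¹ * v * g, hv, ?_⟩
      simp only [MulEquiv.coe_toMonoidHom, MulAut.conj_apply]
      group
  -- the subgroup `S = N_P(D) ∩ g P g⁻¹`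
  set S : Subgroup G := ((P : Subgroup G) ⊓ Subgroup.normalizer (D : Set G))
    ⊓ (P : Subgroup G).map (MulAut.conj g).toMonoidHom with hS
  have hSD : S ≤ D := by
    have hT : S ⊔ D = D := by
      apply eq_of_sylCentLe hsyl (S ⊔ D)
      · apply P.2.to_le
        exact sup_le (inf_le_left.trans inf_le_left) hDP
      · apply sup_le _ hDg
        intro v hv
        obtain ⟨⟨hv1, hv2⟩, hv3⟩ := hv
        rw [Subgroup.mem_centralizer_iff]
        intro y hy
        rw [Set.mem_singleton_iff] at hy
        rw [hy]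
        exact (hfix v hv1 hv2 ((hmemconj v).mp hv3)).symm
      · exact le_sup_right
    rw [← hT]
    exact le_sup_left
  apply le_antisymm
  · -- `P ∩ g P g⁻¹ ≤ D`
    by_contra hcon
    set R : Subgroup G := (P : Subgroup G) ⊓ (P : Subgroup G).map (MulAut.conj g).toMonoidHom
      with hR
    have hDR : D ≤ R := by
      refine le_inf hDP ?_
      intro d hd
      rw [hmemconj]
      have : g⁻¹ * d * g = d := by
        rw [Subgroup.mem_centralizer_iff] at hgD
        have := hgD d hd
        rw [mul_assoc, this, ← mul_assoc, inv_mul_cancel, one_mul]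
      rw [this]
      exact hDP hd
    have hRp : IsPGroup p R := P.2.to_le inf_le_left
    -- normalizers grow in the `p`-group `R`
    have hnil : Group.IsNilpotent R := hRp.isNilpotent
    have hlt : D.subgroupOf R < ⊤ := by
      rw [lt_top_iff_ne_top]
      intro h
      apply hcon
      intro r hr
      have : (⟨r, hr⟩ : R) ∈ D.subgroupOf R := by rw [h]; trivial
      rwa [Subgroup.mem_subgroupOf] at this
    have hnc := Group.normalizerCondition_of_isNilpotent (G := R) (D.subgroupOf R) hlt
    obtain ⟨r, hr1, hr2⟩ := SetLike.exists_of_lt hnc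
    apply hr2
    rw [Subgroup.mem_subgroupOf]
    apply hSD
    have hrR : (r : G) ∈ R := r.2
    refine ⟨⟨hrR.1, ?_⟩, hrR.2⟩
    -- `r` normalizes `D`
    change (r : G) ∈ Subgroup.normalizer (D : Set G)
    rw [Subgroup.mem_normalizer_iff]
    intro d
    rw [Subgroup.mem_normalizer_iff] at hr1
    constructor
    · intro hd
      have := (hr1 ⟨d, hDR hd⟩).mp (by rw [Subgroup.mem_subgroupOf]; exact hd)
      rw [Subgroup.mem_subgroupOf] at this
      simpa using this
    · intro hd
      have hdR : d ∈ R := by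
        have h1 : (r : G)⁻¹ * ((r : G) * d * (r : G)⁻¹) * (r : G) = d := by group
        rw [← h1]
        exact R.mul_mem (R.mul_mem (R.inv_mem hrR) (hDR hd)) hrR
      have := (hr1 ⟨d, hdR⟩).mpr (by
        rw [Subgroup.mem_subgroupOf]
        simpa using hd)
      rwa [Subgroup.mem_subgroupOf] at this
  · refine le_inf hDP ?_
    intro d hd
    rw [hmemconj]
    have : g⁻¹ * d * g = d := by
      rw [Subgroup.mem_centralizer_iff] at hgD
      have := hgD d hd
      rw [mul_assoc, this, ← mul_assoc, inv_mul_cancel, one_mul]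
    rw [this]
    exact hDP hd

end Cfsg.Agent.Lib.Helper7
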