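import Mathlib
import Cfsg.Prelude.Def_Blocks
import Cfsg.Agent.Lib.Helper24.Loc
import Cfsg.Agent.Lib.Helper24.CenterFn
import Cfsg.Agent.Lib.Helper24.BlockOrtho
import Cfsg.Agent.Lib.Helper7.MinMax
import Cfsg.Agent.Lib.Helper7.BrauerIdem
import Cfsg.Agent.Lib.Helper7.Functional
import Cfsg.Agent.Lib.Helper7.ResidueAlg
import Cfsg.Agent.Lib.Helper7.GreenGroup

/-!
# Green's theorem on defect groups (helper7)

* `exists_unit_commuting`: for a local-integral class function `ε` on `H`, idempotent and nonzero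
  modulo the local ideal, and a `p`-subgroup `Q`, there is `g` with `ε g` a local unit such that
  every `v ∈ Q ∩ g Q g⁻¹` commutes with `g`.
* `green`: a defect group `D ≤ P` of a block is `P ∩ g P g⁻¹` and a Sylow `p`-subgroup of `C(g)`
  for some `p`-regular `g`.
-/

set_option autoImplicit false

namespace Cfsg.Agent.Lib.Helper7

open Cfsg.Agent.Lib.Helper2 Cfsg.Agent.Lib.Helper24

section Twist

variable {H : Type*} [Group H]

/-- the subgroup `Q ∩ h Q h⁻¹` -/
def twistSub (Q : Subgroup H) (h : H) : Subgroup H where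
  carrier := {v | v ∈ Q ∧ h⁻¹ * v * h ∈ Q}
  mul_mem' := by
    rintro a b ⟨ha, ha'⟩ ⟨hb, hb'⟩
    refine ⟨Q.mul_mem ha hb, ?_⟩
    have : h⁻¹ * (a * b) * h = (h⁻¹ * a * h) * (h⁻¹ * b * h) := by group
    rw [this]; exact Q.mul_mem ha' hb'
  one_mem' := ⟨Q.one_mem, by simp⟩
  inv_mem' := by
    rintro a ⟨ha, ha'⟩
    refine ⟨Q.inv_mem ha, ?_⟩
    have : h⁻¹ * a⁻¹ * h = (h⁻¹ * a * h)⁻¹ := by group
    rw [this]; exact Q.inv_mem ha'

/-- the twisted conjugation action `v • u = (h⁻¹ v h) u v⁻¹` of `Q ∩ h Q h⁻¹` on `Q` -/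
@[reducible] def twistAction (Q : Subgroup H) (h : H) : MulAction (twistSub Q h) Q where
  smul v u := ⟨h⁻¹ * (v : H) * h * (u : H) * (v : H)⁻¹,
    Q.mul_mem (Q.mul_mem v.2.2 u.2) (Q.inv_mem v.2.1)⟩
  one_smul u := by
    apply Subtype.ext
    show h⁻¹ * ((1 : twistSub Q h) : H) * h * (u : H) * ((1 : twistSub Q h) : H)⁻¹ = u
    simp
  mul_smul v w u := by
    apply Subtype.ext
    show h⁻¹ * ((v * w : twistSub Q h) : H) * h * (u : H) * ((v * w : twistSub Q h) : H)⁻¹
      = h⁻¹ * (v : H) * h * (h⁻¹ * (w : H) * h * (u : H) * (w : H)⁻¹) * (v : H)⁻¹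
    simp [mul_assoc]

end Twist

section Unit

variable {p : ℕ} {M : Ideal Cfsg.AlgInt} {H : Type*} [Group H] [Fintype H]

open Classical in
/-- for a local-integral class function `ε` on `H`, idempotent and nonzero modulo the local
ideal, and a `p`-subgroup `Q`, there is `g` with `ε g` a local unit such that every
`v ∈ Q ∩ g Q g⁻¹` commutes with `g` -/
theorem exists_unit_commuting [Fact p.Prime] (hM : Cfsg.IsPModular p M)
    (Q : Subgroup H) (hQ : IsPGroup p Q) (ε : H → ℂ) (hcf : Cfsg.IsClassFunction H ε)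
    (hR : ∀ h, Cfsg.MemLocalRing M (ε h))
    (hid : ∀ h, Cfsg.MemLocalIdeal M (conv ε ε h - ε h))
    (hne : ∃ g, ¬ Cfsg.MemLocalIdeal M (ε g)) :
    ∃ g : H, ¬ Cfsg.MemLocalIdeal M (ε g) ∧ ∀ v ∈ Q, g⁻¹ * v * g ∈ Q → v * g = g * v := by
  obtain ⟨h, hh⟩ := exists_coset_sum_not_memLocalIdeal hM Q hQ ε hcf hR hid hne
  letI := twistAction Q h
  have hS : IsPGroup p (twistSub Q h) := hQ.to_le (fun v hv => hv.1)
  by_contra hcon
  push Not at hcon
  apply hh
  apply sum_memLocalIdeal_of_pgroup hM hS (fun u : Q => ε (h * (u : H)))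
  · intro v u
    show ε (h * (h⁻¹ * (v : H) * h * (u : H) * (v : H)⁻¹)) = ε (h * (u : H))
    have : h * (h⁻¹ * (v : H) * h * (u : H) * (v : H)⁻¹)
        = (v : H) * (h * (u : H)) * (v : H)⁻¹ := by group
    rw [this]; exact hcf _ _
  · intro u; exact hR _
  · intro u hfix
    by_contra hu
    obtain ⟨v, hvQ, hv1, hv2⟩ := hcon (h * (u : H)) hu
    have hv' : h⁻¹ * v * h ∈ Q := by
      have : h⁻¹ * v * h = (u : H) * ((h * (u : H))⁻¹ * v * (h * (u : H))) * (u : H)⁻¹ := by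
        group
      rw [this]; exact Q.mul_mem (Q.mul_mem u.2 hv1) (Q.inv_mem u.2)
    have h1 := hfix ⟨v, hvQ, hv'⟩
    have h2 : h⁻¹ * v * h * (u : H) * v⁻¹ = u := congrArg Subtype.val h1
    apply hv2
    calc v * (h * (u : H)) = h * (h⁻¹ * v * h * (u : H) * v⁻¹) * v := by group
      _ = h * (u : H) * v := by rw [h2]

end Unit

section Green

variable {G : Type*} [Group G] [Fintype G] {p : ℕ} {M : Ideal Cfsg.AlgInt}

/-- **Green's theorem**, analytic part: the element `g`. -/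
theorem exists_green_element [Fact p.Prime] (hM : Cfsg.IsPModular p M)
    (B : Set (Cfsg.IrrCharacter G)) (hB : Cfsg.IsPBlock M B) (D : Subgroup G)
    (hDp : IsPGroup p D) (g₀ : G) (hg₀D : g₀ ∈ Subgroup.centralizer (D : Set G))
    (hg₀ : ¬ Cfsg.MemLocalIdeal M (Cfsg.blockCoeff B g₀)) (P : Subgroup G) (hP : IsPGroup p P) :
    ∃ g : G, g ∈ Subgroup.centralizer (D : Set G) ∧
      ¬ Cfsg.MemLocalIdeal M (Cfsg.blockCoeff B g) ∧
      ∀ v ∈ P, v ∈ Subgroup.normalizer (D : Set G) → g⁻¹ * v * g ∈ P → v * g = g * v := by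
  classical
  set N : Subgroup G := Subgroup.normalizer (D : Set G) with hN
  haveI : Fintype N := Fintype.ofFinite _
  have ha : IsRCF M (Cfsg.blockCoeff B) := IsRCF.blockCoeff hM hB
  have hCN : Subgroup.centralizer (D : Set G) ≤ N := Subgroup.centralizer_le_normalizer _
  set ε : N → ℂ := truncTo N D (Cfsg.blockCoeff B) with hε
  have hεR : IsRCF M ε := truncTo_isRCF hM N D le_rfl _ ha
  have hid : ∀ h, Cfsg.MemLocalIdeal M (conv ε ε h - ε h) :=
    truncTo_idem hM N D hDp hCN _ ha (conv_blockCoeff_self B)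
  have hne : ∃ g, ¬ Cfsg.MemLocalIdeal M (ε g) := by
    refine ⟨⟨g₀, hCN hg₀D⟩, ?_⟩
    rw [hε, truncTo_apply, if_pos hg₀D]
    exact hg₀
  have hQ : IsPGroup p (P.subgroupOf N) :=
    hP.comap_of_injective N.subtype N.subtype_injective
  obtain ⟨g, hg1, hg2⟩ := exists_unit_commuting hM (P.subgroupOf N) hQ ε hεR.1 hεR.2 hid hne
  have hgD : (g : G) ∈ Subgroup.centralizer (D : Set G) := by
    by_contra hc
    apply hg1
    rw [hε, truncTo_apply, if_neg hc]
    exact memLocalIdeal_zero hM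
  refine ⟨g, hgD, ?_, ?_⟩
  · rw [hε, truncTo_apply, if_pos hgD] at hg1
    exact hg1
  · intro v hvP hvN hv
    have := hg2 ⟨v, hvN⟩ (by rw [Subgroup.mem_subgroupOf]; exact hvP)
      (by rw [Subgroup.mem_subgroupOf]; simpa using hv)
    exact congrArg Subtype.val this

/-- **Green's theorem**: a defect group `D ≤ P` of a block is `P ∩ x P x⁻¹` and a Sylow
`p`-subgroup of `C(x)` for some `p`-regular `x`. -/
theorem green [Fact p.Prime] (hM : Cfsg.IsPModular p M)
    (B : Set (Cfsg.IrrCharacter G)) (hB : Cfsg.IsPBlock M B) (D : Subgroup G)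
    (hD : Cfsg.IsDefectGroup p M B D) (P : Sylow p G) (hDP : D ≤ P) :
    ∃ x : G, ¬ p ∣ orderOf x ∧
      (∃ S : Sylow p (Subgroup.centralizer ({x} : Set G)),
        (S : Subgroup (Subgroup.centralizer ({x} : Set G))).map
          (Subgroup.centralizer ({x} : Set G)).subtype = D) ∧
      (P : Subgroup G) ⊓ (P : Subgroup G).map (MulAut.conj x).toMonoidHom = D := by
  obtain ⟨g₀, hcls, S₀, hS₀⟩ := hD
  have hDp : IsPGroup p D := P.2.to_le hDP
  have hg₀D : g₀ ∈ Subgroup.centralizer (D : Set G) := by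
    rw [Subgroup.mem_centralizer_iff]
    intro d hd
    rw [hS₀] at hd
    obtain ⟨c, _, rfl⟩ := hd
    have := c.2
    rw [Subgroup.mem_centralizer_iff] at this
    exact (this g₀ rfl).symm
  obtain ⟨g, hgD, hgu, hfix⟩ := exists_green_element hM B hB D hDp g₀ hg₀D hcls.2.1 P P.2
  obtain ⟨χ, hχ⟩ : ∃ χ, χ ∈ B := by
    obtain ⟨χ, rfl⟩ := hB
    exact ⟨χ, mem_blockOf_self hM χ⟩
  have hsyl : SylCentLe p D g := by
    rw [hS₀]
    exact minmax hM B hB g₀ g S₀ χ hχ (hcls.2.2 χ hχ) hgu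
  refine ⟨g, ?_, green_of_core D P hDP g hgD hsyl hfix⟩
  intro hdvd
  apply hgu
  rw [blockCoeff_eq_zero_of_singular hM B hB g hdvd]
  exact memLocalIdeal_zero hM

end Green

end Cfsg.Agent.Lib.Helper7
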