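import Mathlib
import Cfsg.Agent.Lib.Helper25.HS.Defs
import Cfsg.Agent.Lib.Helper20.PlaneCount
import Cfsg.Agent.Lib.Helper2.HC25.Planes

/-!
# S4025, PART C, the `orders` half (helper7)

`Γ ≤ Perm V` acting semilinearly in dimension one on `V ≃+ F`, `|V| = 2 ^ n`, transitive on the
subgroups of each order: `|Γ| ∈ {7, 21}` for `n = 3` and `|Γ| = 155` for `n = 5`.

Route: `Γ` embeds (conjugation by `e`) in `GammaL1 F` of order `(|F| - 1) * |Aut F| = (2 ^ n - 1) * n`;
and choosing for every subgroup `U` of a fixed order some `γ ∈ Γ` carrying a base subgroup onto `U` is an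
injection into `Γ`.
-/

set_option autoImplicit false

namespace Cfsg.Agent.Lib.Helper7.HC25Orders

open Cfsg.Agent.Lib.Helper25.HS

universe u

section gl

variable {F : Type*} [Field F]

/-- the permutation `x ↦ a * φ x` -/
def glPerm (a : Fˣ) (φ : F ≃+* F) : Equiv.Perm F where
  toFun x := (a : F) * φ x
  invFun y := φ.symm ((↑a⁻¹ : F) * y)
  left_inv x := by simp
  right_inv y := by simp

theorem glPerm_apply (a : Fˣ) (φ : F ≃+* F) (x : F) : glPerm a φ x = (a : F) * φ x := rfl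

theorem glPerm_mem (a : Fˣ) (φ : F ≃+* F) : glPerm a φ ∈ GammaL1 F := ⟨a, φ, fun _ => rfl⟩

theorem glPerm_injective :
    Function.Injective (fun q : Fˣ × (F ≃+* F) => glPerm q.1 q.2) := by
  rintro ⟨a, φ⟩ ⟨a', φ'⟩ h
  have h1 : ∀ x, (a : F) * φ x = (a' : F) * φ' x := fun x => by
    have h2 := DFunLike.congr_fun h x
    simpa [glPerm_apply] using h2
  have ha : a = a' := Units.ext (by simpa using h1 1)
  subst ha
  have hφ : φ = φ' := RingEquiv.ext fun x => mul_left_cancel₀ a.ne_zero (h1 x)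
  rw [hφ]

/-- `Fˣ × Aut F ≃ ΓL₁(F)` -/
noncomputable def glEquiv : (Fˣ × (F ≃+* F)) ≃ ↥(GammaL1 F) :=
  Equiv.ofBijective (fun q => ⟨glPerm q.1 q.2, glPerm_mem _ _⟩)
    ⟨fun _ _ h => glPerm_injective (congrArg Subtype.val h),
      fun ⟨_, a, φ, hs⟩ => ⟨(a, φ), Subtype.ext (Equiv.ext fun x => (hs x).symm)⟩⟩

theorem card_GammaL1 [Finite F] :
    Nat.card ↥(GammaL1 F) = (Nat.card F - 1) * Nat.card (F ≃+* F) := by
  rw [← Nat.card_congr (glEquiv (F := F)), Nat.card_prod, Nat.card_units]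

end gl

section main

variable {V : Type u} [AddCommGroup V] [Finite V]

omit [Finite V] in
/-- `Γ` embeds in `ΓL₁(F)` -/
theorem card_dvd [Nontrivial V] (Γ : Subgroup (Equiv.Perm V)) {F : Type} [Field F] [Fintype F]
    (e : V ≃+ F) (hsl : ∀ γ ∈ Γ, ∃ (a : F) (σ : F ≃+* F), ∀ v, e (γ v) = a * σ (e v)) :
    Nat.card ↥Γ ∣ (Nat.card F - 1) * Nat.card (F ≃+* F) := by
  rw [← card_GammaL1]
  have hmem : ∀ γ : ↥Γ,
      (e.toEquiv.permCongrHom.toMonoidHom.comp Γ.subtype) γ ∈ GammaL1 F := by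
    intro γ
    obtain ⟨a, σ, h⟩ := hsl γ γ.2
    have ha : a ≠ 0 := by
      intro ha
      obtain ⟨v, w, hvw⟩ := exists_pair_ne V
      apply hvw
      apply (γ : Equiv.Perm V).injective
      apply e.injective
      rw [h, h, ha, zero_mul, zero_mul]
    refine ⟨Units.mk0 a ha, σ, fun x => ?_⟩
    show e ((γ : Equiv.Perm V) (e.symm x)) = _
    rw [h]
    simp
  have hinj : Function.Injective
      ((e.toEquiv.permCongrHom.toMonoidHom.comp Γ.subtype).codRestrict (GammaL1 F) hmem) := by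
    intro γ γ' h
    have h1 : e.toEquiv.permCongrHom (γ : Equiv.Perm V)
        = e.toEquiv.permCongrHom (γ' : Equiv.Perm V) := congrArg Subtype.val h
    exact Subtype.ext (e.toEquiv.permCongrHom.injective h1)
  exact Subgroup.card_dvd_of_injective _ hinj

/-- the number of subgroups of a given order is at most `|Γ|` -/
theorem card_subgroups_le (Γ : Subgroup (Equiv.Perm V))
    (htr : ∀ U₁ U₂ : AddSubgroup V, Nat.card U₁ = Nat.card U₂ →
      ∃ γ ∈ Γ, ∀ v, v ∈ U₁ ↔ γ v ∈ U₂) (k : ℕ) :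
    Nat.card {U : AddSubgroup V // Nat.card ↥U = k} ≤ Nat.card ↥Γ := by
  classical
  rcases isEmpty_or_nonempty {U : AddSubgroup V // Nat.card ↥U = k} with h | ⟨⟨U0, hU0⟩⟩
  · rw [Nat.card_of_isEmpty]
    exact Nat.zero_le _
  · have hex : ∀ U : {U : AddSubgroup V // Nat.card ↥U = k},
        ∃ γ : ↥Γ, ∀ v, v ∈ U0 ↔ (γ : Equiv.Perm V) v ∈ U.1 := by
      intro U
      obtain ⟨γ, hγ, h⟩ := htr U0 U.1 (hU0.trans U.2.symm)
      exact ⟨⟨γ, hγ⟩, h⟩
    choose g hg using hex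
    refine Nat.card_le_card_of_injective g ?_
    intro U U' hUU'
    apply Subtype.ext
    ext w
    have h1 : ∀ (W : {U : AddSubgroup V // Nat.card ↥U = k}) (w : V),
        w ∈ W.1 ↔ (g W : Equiv.Perm V).symm w ∈ U0 := by
      intro W w
      rw [hg W]
      simp
    rw [h1 U, h1 U', hUU']

/-- for `p = 2`: the number of non-zero vectors is at most `|Γ|` -/
theorem card_sub_one_le (hexp : ∀ v : V, 2 • v = 0) (Γ : Subgroup (Equiv.Perm V))
    (hadd : ∀ γ ∈ Γ, ∀ v w : V, γ (v + w) = γ v + γ w)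
    (htr : ∀ U₁ U₂ : AddSubgroup V, Nat.card U₁ = Nat.card U₂ →
      ∃ γ ∈ Γ, ∀ v, v ∈ U₁ ↔ γ v ∈ U₂) :
    Nat.card V - 1 ≤ Nat.card ↥Γ := by
  classical
  have : Fact (Nat.Prime 2) := ⟨Nat.prime_two⟩
  have hcard : Nat.card {w : V // w ≠ 0} = Nat.card V - 1 := by
    have h1 : Nat.card {w : V // w ≠ 0} = (({0} : Set V)ᶜ).ncard := by
      rw [← Nat.card_coe_set_eq]
      rfl
    rw [h1, Set.ncard_compl, Set.ncard_singleton]
  rw [← hcard]
  rcases isEmpty_or_nonempty {w : V // w ≠ 0} with h | ⟨⟨v0, hv0⟩⟩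
  · rw [Nat.card_of_isEmpty]
    exact Nat.zero_le _
  · have hmemz : ∀ w x : V, x ∈ AddSubgroup.zmultiples w → x = 0 ∨ x = w := by
      intro w x hx
      obtain ⟨k, rfl⟩ := AddSubgroup.mem_zmultiples_iff.mp hx
      have h2 : (2 : ℤ) • w = 0 := by
        have := hexp w
        rw [← natCast_zsmul] at this
        simpa using this
      have hk : k = 2 * (k / 2) + k % 2 := (Int.mul_ediv_add_emod k 2).symm
      rcases Int.emod_two_eq_zero_or_one k with h3 | h3
      · left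
        rw [hk, h3, add_zero, mul_comm, mul_smul, h2, smul_zero]
      · right
        rw [hk, h3, add_smul, mul_comm, mul_smul, h2, smul_zero, zero_add, one_smul]
    have hex : ∀ w : {w : V // w ≠ 0}, ∃ γ : ↥Γ, (γ : Equiv.Perm V) v0 = w.1 := by
      intro w
      have hc : Nat.card ↥(AddSubgroup.zmultiples v0) = Nat.card ↥(AddSubgroup.zmultiples w.1) := by
        rw [Cfsg.Agent.Lib.Helper2.HC25.card_zmultiples_of_ne_zero (p := 2) hexp hv0,
          Cfsg.Agent.Lib.Helper2.HC25.card_zmultiples_of_ne_zero (p := 2) hexp w.2]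
      obtain ⟨γ, hγ, h⟩ := htr _ _ hc
      refine ⟨⟨γ, hγ⟩, ?_⟩
      have h4 : γ v0 ∈ AddSubgroup.zmultiples w.1 :=
        (h v0).mp (AddSubgroup.mem_zmultiples v0)
      rcases hmemz _ _ h4 with h5 | h5
      · exfalso
        have h0 : γ 0 = 0 := by
          have h6 := hadd γ hγ 0 0
          rw [add_zero] at h6
          exact left_eq_add.mp h6
        apply hv0
        apply γ.injective
        rw [h5, h0]
      · exact h5
    choose g hg using hex
    refine Nat.card_le_card_of_injective g ?_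
    intro w w' hww'
    apply Subtype.ext
    rw [← hg w, ← hg w', hww']

theorem orders (n : ℕ) (hV : Nat.card V = 2 ^ n) (hexp : ∀ v : V, 2 • v = 0)
    (Γ : Subgroup (Equiv.Perm V)) (hadd : ∀ γ ∈ Γ, ∀ v w : V, γ (v + w) = γ v + γ w)
    (htr : ∀ U₁ U₂ : AddSubgroup V, Nat.card U₁ = Nat.card U₂ →
      ∃ γ ∈ Γ, ∀ v, v ∈ U₁ ↔ γ v ∈ U₂)
    {F : Type} [Field F] [Fintype F] (e : V ≃+ F)
    (hsl : ∀ γ ∈ Γ, ∃ (a : F) (σ : F ≃+* F), ∀ v, e (γ v) = a * σ (e v)) :
    (n = 3 → Nat.card ↥Γ = 7 ∨ Nat.card ↥Γ = 21) ∧ (n = 5 → Nat.card ↥Γ = 155) := by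
  have : Fact (Nat.Prime 2) := ⟨Nat.prime_two⟩
  have hF : Nat.card F = 2 ^ n := by
    rw [← hV]
    exact (Nat.card_congr e.toEquiv).symm
  have hchar : CharP F 2 := Cfsg.Agent.Lib.Helper20.PlaneCount.charP_of_card hF
  have haut : Nat.card (F ≃+* F) = n := Cfsg.Agent.Lib.Helper20.PlaneCount.card_ringAut hF
  constructor
  · intro hn
    subst hn
    have hnt : Nontrivial V := Finite.one_lt_card_iff_nontrivial.mp (by rw [hV]; norm_num)
    have hdvd := card_dvd Γ e hsl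
    rw [hF, haut] at hdvd
    have hle := card_sub_one_le hexp Γ hadd htr
    rw [hV] at hle
    have hle2 : Nat.card ↥Γ ≤ 21 := Nat.le_of_dvd (by norm_num) hdvd
    have h7 : 7 ≤ Nat.card ↥Γ := hle
    generalize Nat.card ↥Γ = c at *
    interval_cases c <;> simp_all
  · intro hn
    subst hn
    have hnt : Nontrivial V := Finite.one_lt_card_iff_nontrivial.mp (by rw [hV]; norm_num)
    have hdvd := card_dvd Γ e hsl
    rw [hF, haut] at hdvd
    have hle := card_subgroups_le Γ htr (2 ^ 2)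
    have hpl := Cfsg.Agent.Lib.Helper2.HC25.card_planes_mul (p := 2) hV hexp
    have h155 : Nat.card {U : AddSubgroup V // Nat.card ↥U = 2 ^ 2} = 155 := by
      norm_num at hpl ⊢
      omega
    rw [h155] at hle
    have hle2 : Nat.card ↥Γ ≤ 155 := Nat.le_of_dvd (by norm_num) hdvd
    exact le_antisymm hle2 hle

end main

end Cfsg.Agent.Lib.Helper7.HC25Orders
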