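import Cfsg.Agent.Lib.Helper7.L34Data

/-! TC certificate B for S2088: `⟨y, v⟩` over `⟨y⟩`, 3 cosets (generated; helper5's TCk format). -/

set_option autoImplicit false

namespace Cfsg.Agent.Lib.Helper7.L34

open Cfsg.H5.TCk

set_option maxRecDepth 1000000 in
def tcDefsB : List (ℕ × ℕ) := [(0, 2), (0, 3)]

set_option maxRecDepth 1000000 in
def tcLogB : List ℕ := [
  2, 0, 4398054899713, 4, 8796097216521, 4398054899717]

end Cfsg.Agent.Lib.Helper7.L34
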