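import Cfsg.Agent.Lib.Helper7.L34Data

/-! TC certificate L for S2088: the lift of `L₃(2)` over `⟨y, v⟩`, 16 cosets (generated; helper5's TCk format). -/

set_option autoImplicit false

namespace Cfsg.Agent.Lib.Helper7.L34

open Cfsg.H5.TCk

set_option maxRecDepth 1000000 in
def tcDefsL : List (ℕ × ℕ) := [(0, 4), (0, 5), (1, 0), (1, 1), (1, 2), (2, 0), (2, 1), (2, 2), (2, 3), (3, 0), (4, 1), (5, 1), (6, 0), (9, 1), (11, 4)]

set_option maxRecDepth 1000000 in
def tcLogL : List ℕ := [
  2, 6, 0, 4, 8796101410825, 8, 39582473125901, 21990333218829, 12, 39582456348689, 16, 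
  39582477320213, 39582510874625, 20, 24, 48378599702557, 28, 21990308052997, 43980548997137, 
  21990320635905, 32, 8796097216549, 17592198627365, 35184388866085, 35184388866081, 36, 
  39582460543017, 40, 17592198627349, 43980561580053, 44, 26388279066673, 17592207015977, 
  39582447960113, 30786363326513, 48378591313969, 48, 39582460543029, 39582464737333, 17592236376117, 
  52, 26388279066681, 39582443765817, 39582452154425, 56, 39582481514557, 39582485708861, 
  43980536414269]

end Cfsg.Agent.Lib.Helper7.L34
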