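import Cfsg.Agent.Lib.Helper7.L34Data

/-! TC certificate Q for S2088: `⟨i, j⟩` over `⟨i⟩`, 2 cosets (generated; helper5's TCk format). -/

set_option autoImplicit false

namespace Cfsg.Agent.Lib.Helper7.L34

open Cfsg.H5.TCk

set_option maxRecDepth 1000000 in
def tcDefsQ : List (ℕ × ℕ) := [(0, 2)]

set_option maxRecDepth 1000000 in
def tcLogQ : List ℕ := [
  2, 0, 4398054899713, 35184384671745]

end Cfsg.Agent.Lib.Helper7.L34
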