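import Cfsg.Agent.Lib.Helper7.L34Data

/-! TC certificate T for S2088: the `3`-cover of `3² : Q₈` over the lift of `Q₈`, 27 cosets (generated; helper5's TCk format). -/

set_option autoImplicit false

namespace Cfsg.Agent.Lib.Helper7.L34

open Cfsg.H5.TCk

set_option maxRecDepth 1000000 in
def tcDefsT : List (ℕ × ℕ) := [(0, 4), (1, 0), (1, 1), (1, 2), (1, 3), (2, 0), (2, 2), (2, 3), (2, 4), (3, 4), (4, 4), (5, 4), (7, 4), (8, 4), (9, 0), (9, 2), (9, 3), (10, 1), (10, 2), (11, 1), (11, 2), (12, 0), (12, 1), (12, 3), (16, 4), (23, 4)]

set_option maxRecDepth 1000000 in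
def tcLogT : List ℕ := [
  2, 6, 0, 4398063288321, 4, 8, 12, 16, 20, 4398046511113, 13194215030785, 4398130397209, 
  4398134591513, 24, 8796118188037, 8796122382361, 4398080065545, 28, 13194143727649, 21990240944161, 
  17592232181781, 32, 4398063288329, 36, 4398063288333, 40, 4398063288337, 26388333592585, 44, 
  4398063288341, 17592236376065, 48, 4398063288349, 13194231808005, 52, 4398063288353, 
  17592253153333, 56, 4398138785829, 60, 35184468557853, 64, 30786384298053, 30786392686661, 68, 72, 
  26388358758445, 26388367147053, 76, 13194139533393, 21990253527121, 13194181476433, 80, 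
  21990270304341, 21990295470161, 17592257347669, 39582519263317, 26388400701493, 84, 30786375909465, 
  13194248585257, 8796206268489, 8796210462793, 88, 13194139533405, 21990257721437, 21990274498601, 
  92, 13194143727713, 21990240944225, 17592232181833, 30786392686689, 26388383924297, 96, 
  4398063288385, 8796143353941, 26388333592641, 100, 4398063288413, 8796143353905, 26388333592669]

end Cfsg.Agent.Lib.Helper7.L34
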