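import Cfsg.Agent.H5.StemTC
import Cfsg.Agent.H5.TCk2Main
import Cfsg.Agent.Lib.Helper7.L34CertB
import Cfsg.Agent.Lib.Helper7.L34CertL
import Cfsg.Agent.Lib.Helper7.L34CertP
import Cfsg.Agent.Lib.Helper7.L34CertQ
import Cfsg.Agent.Lib.Helper7.L34CertT

/-!
# S2088: the Todd–Coxeter certificates are accepted by helper5's checker (helper7)
-/

set_option autoImplicit false

namespace Cfsg.Agent.Lib.Helper7.L34

open Cfsg.H5.TCk

set_option maxRecDepth 1000000 in
theorem tcB_ok : check 24 6 (2 * 2) 3 3 tcDefsB relsB [[0]] tcLogB = true := by decide +kernel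

set_option maxRecDepth 1000000 in
theorem tcL_ok : check 24 6 (2 * 3) 16 16 tcDefsL relsL [[0], [2]] tcLogL = true := by decide +kernel

set_option maxRecDepth 1000000 in
theorem tcQ_ok : check 24 6 (2 * 2) 2 2 tcDefsQ relsQ [[0]] tcLogQ = true := by decide +kernel

set_option maxRecDepth 1000000 in
theorem tcT_ok : check 24 6 (2 * 3) 27 27 tcDefsT rels3 [[0], [2]] tcLogT = true := by decide +kernel

set_option maxRecDepth 1000000 in
theorem tcP_ok : Cfsg.H5.TCk2.checkS 12 6 (2 * 4) 1014 960 tcDefsP rels2 [[0], [2], [4]] tcLogP = true := by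
  decide +kernel

end Cfsg.Agent.Lib.Helper7.L34
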