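import Cfsg.Agent.Lib.Helper7.L34Card
import Cfsg.Agent.Lib.Helper7.L34Model
import Cfsg.Agent.Lib.Helper10.L34U2
import Cfsg.Agent.Lib.Helper10.L34U3
import Cfsg.Agent.Lib.Helper11.L34A
import Cfsg.Agent.Lib.Helper11.L34Perf
import Cfsg.Agent.Lib.Helper17.L34B
import Cfsg.Agent.Lib.Helper21.L34E3
import Cfsg.Agent.Lib.Helper21.L34FP
import Cfsg.Agent.Lib.Helper23.L34GC
import Cfsg.Agent.Lib.Helper23.L34T

/-!
# S2088: the Schur multiplier of `PSL₃(4)` is `C₃ × C₄ × C₄` (helper7, assembly)

Prime by prime.  `p = 2`: four generators of orders `7, 3, 3, 3`, subject only to power relators and conjugation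
relators (which hold exactly for the canonical lifts in a stem extension with `2`-group kernel), present the cover
`4² · L₃(4)` (Todd–Coxeter certificates `3 · 16 · 960` cosets over `⟨y⟩`); `p = 3`: the Sylow `3`-normaliser
`3² : Q₈` (certificates `2`, `27` cosets); existence: the presented cover with a permutation model on `960` points,
`SL₃(4)`, and their fibre product.  Pieces by helper10, helper11, helper17, helper19, helper21, helper23.
-/

set_option autoImplicit false

namespace Cfsg.Agent.Lib.Helper7.L34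

open Cfsg Cfsg.H5.TCk

universe u

theorem rels2_sub_relsCov : ∀ r ∈ rels2, r ∈ relsCov := by
  intro r hr
  unfold relsCov
  simp only [List.mem_append]
  exact Or.inl (Or.inl hr)

theorem main {F : Type u} [Field F] [Fintype F] (hF : Fintype.card F = 4) :
    HasSchurMultiplier (Matrix.ProjectiveSpecialLinearGroup (Fin 3) F)
      (Multiplicative (ZMod 3 × ZMod 4 × ZMod 4)) := by
  classical
  obtain ⟨hcard, g, h, hgen, hrelg, hka, hkb, hH, hrelh⟩ := exists_l34_data hF
  have : Finite (Matrix.ProjectiveSpecialLinearGroup (Fin 3) F) :=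
    Nat.finite_of_card_ne_zero (by rw [hcard]; norm_num)
  have hrel2 : ∀ r ∈ rels2, ev g r = 1 := fun r hr => hrelg r (rels2_sub_relsCov r hr)
  -- existence
  have hex2 := exists_cover_two (fun δ => card_le_of_rels2 δ) exists_model g hcard hgen hrelg ⟨hka, hkb⟩
  have hex3 := exists_cover_three hF
  have hcA : Nat.card (Multiplicative (ZMod 3)) = 3 := by
    rw [Nat.card_eq_fintype_card]; rfl
  have hcB : Nat.card (Multiplicative (ZMod 4 × ZMod 4)) = 16 := by
    rw [Nat.card_eq_fintype_card]; rfl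
  have hex := exists_stem_prod (A := Multiplicative (ZMod 3)) (B := Multiplicative (ZMod 4 × ZMod 4))
    (by rw [hcA, hcB]; decide) hex3 hex2
  have e : Multiplicative (ZMod 3) × Multiplicative (ZMod 4 × ZMod 4) ≃*
      Multiplicative (ZMod 3 × ZMod 4 × ZMod 4) :=
    (MulEquiv.prodMultiplicative (ZMod 3) (ZMod 4 × ZMod 4)).symm
  have hex' : ∃ (Γ : Type u) (_ : Group Γ) (_ : Finite Γ)
      (σ : Γ →* Matrix.ProjectiveSpecialLinearGroup (Fin 3) F), IsStemExtension σ ∧
      Nonempty (σ.ker ≃* Multiplicative (ZMod 3 × ZMod 4 × ZMod 4)) := by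
    obtain ⟨Γ, i1, i2, σ, hσ, ⟨f⟩⟩ := hex
    exact ⟨Γ, i1, i2, σ, hσ, ⟨f.trans e⟩⟩
  have hperf : commutator (Matrix.ProjectiveSpecialLinearGroup (Fin 3) F) = ⊤ :=
    psl3_commutator_eq_top (F := F)
  have hcT : Nat.card (Multiplicative (ZMod 3 × ZMod 4 × ZMod 4)) = 48 := by
    rw [Nat.card_eq_fintype_card]; rfl
  refine hasSchurMultiplier_of_card_le hex' ?_
  intro Γ _ _ σ hσ
  rw [hcT]
  exact card_ker_le_of_primes hcard hperf
    (fun Γ _ _ σ hσ h2 =>
      card_ker_le_two (fun δ => card_le_of_rels2 δ) g hcard hgen hrel2 Γ σ hσ h2)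
    (fun Γ _ _ σ hσ h3 =>
      card_ker_le_three (fun δ => card_le_of_relsQ δ) tcDefsT tcLogT tcT_ok h hcard hH hrelh Γ σ hσ h3)
    Γ σ hσ

end Cfsg.Agent.Lib.Helper7.L34
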