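import Cfsg.Agent.Lib.Helper28.BSGSPerm
import Cfsg.Agent.Lib.Helper7.L34Data
import Cfsg.Agent.Lib.Helper7.L34ModelData

/-!
# S2088: the permutation model of the cover `4² · L₃(4)` on `480 + 480` points: the relator checks (helper7)

Only the relators of `relsCov` are checked on the tables, and that the sixteen products `k_a ^ i * k_b ^ j` are told
apart by the images of the points `0` and `480`.
-/

set_option autoImplicit false

namespace Cfsg.Agent.Lib.Helper7.L34

open Cfsg.H5.TCk Cfsg.Agent.Lib.Helper28.BSGS

namespace Model

/-- the table of a letter -/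
def mtab : ℕ → ℕ
  | 0 => mtab0
  | 1 => mtab1
  | 2 => mtab2
  | 3 => mtab3
  | 4 => mtab4
  | 5 => mtab5
  | 6 => mtab6
  | 7 => mtab7
  | _ => 0

set_option maxRecDepth 100000 in
theorem pair0 : pairOK 960 10 mtab0 mtab1 = true := by decide +kernel
set_option maxRecDepth 100000 in
theorem pair1 : pairOK 960 10 mtab2 mtab3 = true := by decide +kernel
set_option maxRecDepth 100000 in
theorem pair2 : pairOK 960 10 mtab4 mtab5 = true := by decide +kernel
set_option maxRecDepth 100000 in
theorem pair3 : pairOK 960 10 mtab6 mtab7 = true := by decide +kernel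

/-- the four generators of the model -/
def mp : ℕ → Equiv.Perm (Fin 960)
  | 0 => permOf 960 10 mtab0 mtab1
  | 1 => permOf 960 10 mtab2 mtab3
  | 2 => permOf 960 10 mtab4 mtab5
  | 3 => permOf 960 10 mtab6 mtab7
  | _ => 1

set_option maxRecDepth 100000 in
theorem gl_acts : ∀ l, l < 8 → ∀ a : Fin 960, (gl mp l a).val = look 10 (mtab l) a.val
  | 0, _ => fun a => permOf_apply pair0 a
  | 1, _ => fun a => permOf_inv_apply pair0 a
  | 2, _ => fun a => permOf_apply pair1 a
  | 3, _ => fun a => permOf_inv_apply pair1 a
  | 4, _ => fun a => permOf_apply pair2 a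
  | 5, _ => fun a => permOf_inv_apply pair2 a
  | 6, _ => fun a => permOf_apply pair3 a
  | 7, _ => fun a => permOf_inv_apply pair3 a
  | (n + 8), h => absurd h (by omega)

theorem ev_acts (w : List ℕ) (hw : w.all (fun l => decide (l < 8)) = true) :
    ActsByW 960 10 (ev mp w) (w.map mtab) := by
  induction w with
  | nil => exact actsByW_one 960 10
  | cons l w ih =>
    rw [List.all_cons, Bool.and_eq_true] at hw
    exact actsByW_cons (gl_acts l (of_decide_eq_true hw.1)) (ih hw.2)

/-- Boolean test: the word fixes every point -/
def fixAll (w : List ℕ) : Bool :=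
  w.all (fun l => decide (l < 8)) && (List.range 960).all fun a => evalW 10 (w.map mtab) a == a

theorem ev_eq_one (w : List ℕ) (h : fixAll w = true) : ev mp w = 1 := by
  unfold fixAll at h
  rw [Bool.and_eq_true] at h
  obtain ⟨h1, h2⟩ := h
  rw [List.all_eq_true] at h2
  ext a
  rw [ev_acts w h1 a]
  have := h2 a.val (List.mem_range.mpr a.isLt)
  rw [beq_iff_eq] at this
  rw [this]
  rfl

set_option maxRecDepth 100000 in
theorem chunk0 : ((relsCov.drop (50 * 0)).take 50).all fixAll = true := by decide +kernel
set_option maxRecDepth 100000 in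
theorem chunk1 : ((relsCov.drop (50 * 1)).take 50).all fixAll = true := by decide +kernel
set_option maxRecDepth 100000 in
theorem chunk2 : ((relsCov.drop (50 * 2)).take 50).all fixAll = true := by decide +kernel
set_option maxRecDepth 100000 in
theorem chunk3 : ((relsCov.drop (50 * 3)).take 50).all fixAll = true := by decide +kernel
set_option maxRecDepth 100000 in
theorem chunk4 : ((relsCov.drop (50 * 4)).take 50).all fixAll = true := by decide +kernel
set_option maxRecDepth 100000 in
theorem chunk5 : ((relsCov.drop (50 * 5)).take 50).all fixAll = true := by decide +kernel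
set_option maxRecDepth 100000 in
theorem chunk6 : ((relsCov.drop (50 * 6)).take 50).all fixAll = true := by decide +kernel
set_option maxRecDepth 100000 in
theorem chunk7 : ((relsCov.drop (50 * 7)).take 50).all fixAll = true := by decide +kernel
set_option maxRecDepth 100000 in
theorem chunk8 : ((relsCov.drop (50 * 8)).take 50).all fixAll = true := by decide +kernel
set_option maxRecDepth 100000 in
theorem chunk9 : ((relsCov.drop (50 * 9)).take 50).all fixAll = true := by decide +kernel
set_option maxRecDepth 100000 in
theorem chunk10 : ((relsCov.drop (50 * 10)).take 50).all fixAll = true := by decide +kernel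

end Model

end Cfsg.Agent.Lib.Helper7.L34
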