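import Cfsg.Agent.Lib.Helper1.MinDegTv

/-!
# S2140 front (helper11): transport lemmas for the dichotomy F4 (helper7)

`H ≤ SL_n(F)` transitive on points: the groups `A v ⊓ H` are conjugate under `H`; stabilisers of `A v` on `G ⧸ H`;
conjugate elements have the same number of fixed points.  Everything lives in `…MinDeg.F4T`.
-/

set_option autoImplicit false

namespace Cfsg.Agent.Lib.Helper11.MinDeg.F4T

open Matrix Cfsg.Agent.Lib.Helper11.MinDeg
open scoped LinearAlgebra.Projectivization Pointwise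

variable {F : Type*} [Field F] {n : ℕ}

/-- transitivity on points, in terms of vectors -/
theorem exists_smul_eq_smul (H : Subgroup (SpecialLinearGroup (Fin n) F))
    (htr : MulAction.IsPretransitive H (ℙ F (Fin n → F))) {v v' : Fin n → F} (hv : v ≠ 0)
    (hv' : v' ≠ 0) : ∃ h ∈ H, ∃ c : F, c ≠ 0 ∧ v' = c • (h • v) := by
  obtain ⟨⟨h, hh⟩, hhp⟩ := htr.exists_smul_eq (Projectivization.mk F v hv)
    (Projectivization.mk F v' hv')
  refine ⟨h, hh, ?_⟩
  have h1 : (Projectivization.mk F v' hv').submodule = h • (F ∙ v) := by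
    rw [← hhp]
    show ((h : SpecialLinearGroup (Fin n) F) • Projectivization.mk F v hv).submodule = _
    rw [PSL.smul_submodule, Projectivization.submodule_mk]
  rw [Projectivization.submodule_mk, Submodule.smul_span, Set.smul_set_singleton] at h1
  have h2 : v' ∈ F ∙ (h • v) := by
    rw [← h1]; exact Submodule.mem_span_singleton_self v'
  obtain ⟨c, hc⟩ := Submodule.mem_span_singleton.1 h2
  refine ⟨c, ?_, hc.symm⟩
  rintro rfl
  rw [zero_smul] at hc
  exact hv' hc.symm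

/-- `A (c • h • v) ⊓ H = h (A v ⊓ H) h⁻¹` for `h ∈ H` -/
theorem mem_A_inf_transport (H : Subgroup (SpecialLinearGroup (Fin n) F))
    {h : SpecialLinearGroup (Fin n) F} (hh : h ∈ H) {c : F} (hc : c ≠ 0) (v : Fin n → F)
    (x : SpecialLinearGroup (Fin n) F) :
    x ∈ A (c • (h • v)) ⊓ H ↔ h⁻¹ * x * h ∈ A v ⊓ H := by
  rw [Subgroup.mem_inf, Subgroup.mem_inf, A_smul_scalar hc, mem_A_smul_iff]
  constructor
  · rintro ⟨h1, h2⟩
    exact ⟨h1, H.mul_mem (H.mul_mem (H.inv_mem hh) h2) hh⟩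
  · rintro ⟨h1, h2⟩
    refine ⟨h1, ?_⟩
    have := H.mul_mem (H.mul_mem hh h2) (H.inv_mem hh)
    have e : h * (h⁻¹ * x * h) * h⁻¹ = x := by group
    rwa [e] at this

/-- `A2 (c • h • v) (h • w) = h (A2 v w) h⁻¹` -/
theorem mem_A2_transport {h : SpecialLinearGroup (Fin n) F} {c : F} (hc : c ≠ 0)
    (v w : Fin n → F) (x : SpecialLinearGroup (Fin n) F) :
    x ∈ A2 (c • (h • v)) (h • w) ↔ h⁻¹ * x * h ∈ A2 v w := by
  rw [A2_smul_scalar hc, mem_A2_smul_iff]

/-- transport of alternative (ii) along `H` -/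
theorem A_inf_eq_A2_transport (H : Subgroup (SpecialLinearGroup (Fin n) F))
    {h : SpecialLinearGroup (Fin n) F} (hh : h ∈ H) {c : F} (hc : c ≠ 0) {v w : Fin n → F}
    (hvw : A v ⊓ H = A2 v w) : A (c • (h • v)) ⊓ H = A2 (c • (h • v)) (h • w) := by
  ext x
  rw [mem_A_inf_transport H hh hc, mem_A2_transport hc, hvw]

/-- `w ∉ F v` is transported as well -/
theorem not_mem_span_transport {h : SpecialLinearGroup (Fin n) F} {c : F} (hc : c ≠ 0)
    {v w : Fin n → F} (hw : w ∉ F ∙ v) : h • w ∉ F ∙ (c • (h • v)) := by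
  intro hm
  apply hw
  rw [Submodule.span_singleton_smul_eq (IsUnit.mk0 c hc)] at hm
  obtain ⟨d, hd⟩ := Submodule.mem_span_singleton.1 hm
  rw [Submodule.mem_span_singleton]
  refine ⟨d, ?_⟩
  have h1 : h⁻¹ • (d • h • v) = h⁻¹ • (h • w) := by rw [hd]
  rw [inv_smul_smul] at h1
  rw [← h1]
  rw [Matrix.SpecialLinearGroup.smul_def, Matrix.SpecialLinearGroup.smul_def]
  have : ((h⁻¹ : SpecialLinearGroup (Fin n) F) : Matrix (Fin n) (Fin n) F) •
      (d • ((h : Matrix (Fin n) (Fin n) F) • v)) =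
      d • (((h⁻¹ : SpecialLinearGroup (Fin n) F) : Matrix (Fin n) (Fin n) F) •
        ((h : Matrix (Fin n) (Fin n) F) • v)) := Matrix.mulVec_smul _ d _
  rw [this, ← Matrix.SpecialLinearGroup.smul_def, ← Matrix.SpecialLinearGroup.smul_def,
    inv_smul_smul]

/-- (b): `|A v ⊓ H|` does not depend on `v ≠ 0` -/
theorem card_A_inf_eq (H : Subgroup (SpecialLinearGroup (Fin n) F))
    (htr : MulAction.IsPretransitive H (ℙ F (Fin n → F))) {v v' : Fin n → F} (hv : v ≠ 0)
    (hv' : v' ≠ 0) : Nat.card ↥(A v' ⊓ H) = Nat.card ↥(A v ⊓ H) := by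
  obtain ⟨h, hh, c, hc, rfl⟩ := exists_smul_eq_smul H htr hv hv'
  refine Nat.card_congr ((MulAut.conj h⁻¹).toEquiv.subtypeEquiv ?_)
  intro x
  have := mem_A_inf_transport H hh hc v x
  simpa using this

/-- (b'): the stabiliser in `A v` of the coset `g H` is `g (A (g⁻¹ • v) ⊓ H) g⁻¹` -/
theorem card_stabilizer (H : Subgroup (SpecialLinearGroup (Fin n) F)) (v : Fin n → F)
    (g : SpecialLinearGroup (Fin n) F) :
    Nat.card ↥(MulAction.stabilizer ↥(A v)
      (QuotientGroup.mk g : SpecialLinearGroup (Fin n) F ⧸ H)) =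
      Nat.card ↥(A (g⁻¹ • v) ⊓ H) := by
  have key : ∀ a : ↥(A v), a ∈ MulAction.stabilizer ↥(A v)
      (QuotientGroup.mk g : SpecialLinearGroup (Fin n) F ⧸ H) ↔
      g⁻¹ * (a : SpecialLinearGroup (Fin n) F) * g ∈ H := by
    intro a
    rw [MulAction.mem_stabilizer_iff]
    show ((QuotientGroup.mk ((a : SpecialLinearGroup (Fin n) F) * g) :
      SpecialLinearGroup (Fin n) F ⧸ H) = QuotientGroup.mk g) ↔ _
    rw [eq_comm, QuotientGroup.eq, mul_assoc]
  let f : ↥(MulAction.stabilizer ↥(A v)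
      (QuotientGroup.mk g : SpecialLinearGroup (Fin n) F ⧸ H)) → ↥(A (g⁻¹ • v) ⊓ H) :=
    fun a => ⟨g⁻¹ * (a.1 : SpecialLinearGroup (Fin n) F) * g, by
      refine Subgroup.mem_inf.2 ⟨?_, (key a.1).1 a.2⟩
      rw [mem_A_smul_iff]
      have e : (g⁻¹)⁻¹ * (g⁻¹ * (a.1 : SpecialLinearGroup (Fin n) F) * g) * g⁻¹ = a.1 := by group
      rw [e]
      exact a.1.2⟩
  apply Nat.card_congr (Equiv.ofBijective f ⟨?_, ?_⟩)
  · intro a b hab
    have h1 : g⁻¹ * (a.1 : SpecialLinearGroup (Fin n) F) * g = g⁻¹ * (b.1 : SpecialLinearGroup (Fin n) F) * g :=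
      congrArg Subtype.val hab
    have h2 : (a.1 : SpecialLinearGroup (Fin n) F) = b.1 := by
      have := congrArg (fun y => g * y * g⁻¹) h1
      simpa [mul_assoc] using this
    exact Subtype.ext (Subtype.ext h2)
  · rintro ⟨y, hy⟩
    obtain ⟨hy1, hy2⟩ := Subgroup.mem_inf.1 hy
    have hm : g * y * g⁻¹ ∈ A v := by
      rw [mem_A_smul_iff] at hy1
      simpa using hy1
    refine ⟨⟨⟨g * y * g⁻¹, hm⟩, ?_⟩, ?_⟩
    · rw [key]
      show g⁻¹ * (g * y * g⁻¹) * g ∈ H
      have e : g⁻¹ * (g * y * g⁻¹) * g = y := by group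
      rw [e]; exact hy2
    · apply Subtype.ext
      show g⁻¹ * (g * y * g⁻¹) * g = y
      group

/-- (c), generic: conjugate elements have the same number of fixed points -/
theorem card_fixedBy_conj {G X : Type*} [Group G] [MulAction G X] (g t : G) :
    Nat.card (MulAction.fixedBy X (g * t * g⁻¹)) = Nat.card (MulAction.fixedBy X t) := by
  rw [← MulAction.smul_fixedBy]
  exact Nat.card_congr (Equiv.Set.image (fun x => g • x) _ (MulAction.injective g)).symm

end Cfsg.Agent.Lib.Helper11.MinDeg.F4T
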