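import Cfsg.Agent.Lib.Helper11.MinDeg.Defs

/-!
# S2140 front (helper11), second half of piece F3a (helper7): the groups `A v`, `A2 v w` and separating functionals

SPARE (unused): helper1's `Lib/Helper1/MinDegTv.lean` landed the whole of F3a minutes earlier and is the file to import.  The
statements here are the skeleton's, but they live in the namespace `Cfsg.Agent.Lib.Helper7.MinDegTvA` so that they cannot clash.
-/

set_option autoImplicit false

namespace Cfsg.Agent.Lib.Helper7.MinDegTvA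

open Matrix Cfsg.Agent.Lib.Helper11.MinDeg

section F3a
variable {F : Type*} [Field F] {n : ℕ}

/-- the action of `SL` commutes with scalars -/
theorem sl_smul_comm (g : SpecialLinearGroup (Fin n) F) (c : F) (v : Fin n → F) :
    g • (c • v) = c • (g • v) := by
  rw [Matrix.SpecialLinearGroup.smul_def, Matrix.SpecialLinearGroup.smul_def]
  exact Matrix.mulVec_smul _ c v

theorem tv_mem_A {v φ : Fin n → F} (h : φ ⬝ᵥ v = 0) : tv v φ ∈ A v := by
  rw [SpecialLinearGroup.mem_lineStab_iff]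
  intro w
  rw [tv_smul h, add_sub_cancel_left]
  exact Submodule.smul_mem _ _ (Submodule.mem_span_singleton_self v)

theorem mem_A_iff {v : Fin n → F} (hv : v ≠ 0) (g : SpecialLinearGroup (Fin n) F) :
    g ∈ A v ↔ ∃ φ : Fin n → F, φ ⬝ᵥ v = 0 ∧ g = tv v φ := by
  classical
  constructor
  · intro hg
    have hg' := (SpecialLinearGroup.mem_lineStab_iff g (F ∙ v)).1 hg
    have hex : ∀ j : Fin n, ∃ c : F, c • v = g • (Pi.single j 1 : Fin n → F) - Pi.single j 1 := fun j =>
      Submodule.mem_span_singleton.1 (hg' _)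
    choose φ hφ using hex
    have hmat : (g : Matrix (Fin n) (Fin n) F) = tvMat v φ := by
      ext i j
      have h1 := congrFun (hφ j) i
      rw [Matrix.SpecialLinearGroup.smul_def] at h1
      have h2 : ((g : Matrix (Fin n) (Fin n) F) • (Pi.single j 1 : Fin n → F)) i
          = (g : Matrix (Fin n) (Fin n) F) i j := by
        show ((g : Matrix (Fin n) (Fin n) F) *ᵥ (Pi.single j 1 : Fin n → F)) i = _
        rw [mulVec_single_one]
        rfl
      rw [Pi.sub_apply, h2, Pi.smul_apply, smul_eq_mul] at h1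
      unfold tvMat
      rw [Matrix.add_apply, vecMulVec_apply, Matrix.one_apply]
      rw [Pi.single_apply] at h1
      linear_combination -h1
    have hfix := SpecialLinearGroup.lineStab_fix_of_span v hv g hg
    have hφv : φ ⬝ᵥ v = 0 := by
      rw [Matrix.SpecialLinearGroup.smul_def, hmat] at hfix
      have h1 : tvMat v φ *ᵥ v = v + (φ ⬝ᵥ v) • v := tvMat_mulVec v φ v
      have h2 : (φ ⬝ᵥ v) • v = 0 := by
        have : v + (φ ⬝ᵥ v) • v = v := h1.symm.trans hfix
        exact add_eq_left.1 this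
      rcases smul_eq_zero.1 h2 with h | h
      · exact h
      · exact absurd h hv
    refine ⟨φ, hφv, ?_⟩
    apply Subtype.ext
    rw [hmat, tv_coe hφv]
  · rintro ⟨φ, hφ, rfl⟩
    exact tv_mem_A hφ

theorem mem_A2_iff {v : Fin n → F} (hv : v ≠ 0) (w : Fin n → F)
    (g : SpecialLinearGroup (Fin n) F) :
    g ∈ A2 v w ↔ ∃ φ : Fin n → F, φ ⬝ᵥ v = 0 ∧ φ ⬝ᵥ w = 0 ∧ g = tv v φ := by
  unfold A2
  rw [Subgroup.mem_inf, MulAction.mem_stabilizer_iff, mem_A_iff hv]
  constructor
  · rintro ⟨⟨φ, hφ, rfl⟩, hw⟩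
    refine ⟨φ, hφ, ?_, rfl⟩
    rw [tv_smul hφ] at hw
    have h2 : (φ ⬝ᵥ w) • v = 0 := add_eq_left.1 hw
    rcases smul_eq_zero.1 h2 with h | h
    · exact h
    · exact absurd h hv
  · rintro ⟨φ, hφ, hw, rfl⟩
    refine ⟨⟨φ, hφ, rfl⟩, ?_⟩
    rw [tv_smul hφ, hw, zero_smul, add_zero]

theorem A_comm (v : Fin n → F) {x y : SpecialLinearGroup (Fin n) F} (hx : x ∈ A v) (hy : y ∈ A v) :
    x * y = y * x := by
  by_cases hv : v = 0
  · subst hv
    have h1 : ∀ z : SpecialLinearGroup (Fin n) F, z ∈ A (0 : Fin n → F) → z = 1 := by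
      intro z hz
      have hz' := (SpecialLinearGroup.mem_lineStab_iff z _).1 hz
      apply Subtype.ext
      apply Matrix.ext_of_mulVec_single
      intro j
      have := hz' (Pi.single j 1)
      rw [Submodule.span_zero_singleton, Submodule.mem_bot, sub_eq_zero] at this
      rw [Matrix.SpecialLinearGroup.smul_def] at this
      rw [Matrix.SpecialLinearGroup.coe_one, one_mulVec]
      exact this
    rw [h1 x hx, h1 y hy]
  · exact SpecialLinearGroup.lineStab_isMulCommutative_of_span' v hv x y hx hy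

/-- `A (g • v) = g (A v) g⁻¹` -/
theorem mem_A_smul_iff (g x : SpecialLinearGroup (Fin n) F) (v : Fin n → F) :
    x ∈ A (g • v) ↔ g⁻¹ * x * g ∈ A v := by
  rw [SpecialLinearGroup.mem_lineStab_iff, SpecialLinearGroup.mem_lineStab_iff]
  constructor
  · intro h w
    obtain ⟨c, hc⟩ := Submodule.mem_span_singleton.1 (h (g • w))
    rw [Submodule.mem_span_singleton]
    refine ⟨c, ?_⟩
    rw [mul_smul, mul_smul]
    have : g⁻¹ • x • g • w - w = g⁻¹ • (x • g • w - g • w) := by
      rw [smul_sub, inv_smul_smul]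
    rw [this, ← hc, sl_smul_comm, inv_smul_smul]
  · intro h w
    obtain ⟨c, hc⟩ := Submodule.mem_span_singleton.1 (h (g⁻¹ • w))
    rw [Submodule.mem_span_singleton]
    refine ⟨c, ?_⟩
    rw [mul_smul, mul_smul, smul_inv_smul] at hc
    have : x • w - w = g • (g⁻¹ • x • w - g⁻¹ • w) := by
      rw [smul_sub, smul_inv_smul, smul_inv_smul]
    rw [this, ← hc, sl_smul_comm]

theorem A_smul_scalar {c : F} (hc : c ≠ 0) (v : Fin n → F) : A (c • v) = A v := by
  show SpecialLinearGroup.lineStab (F ∙ (c • v)) = SpecialLinearGroup.lineStab (F ∙ v)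
  rw [Submodule.span_singleton_smul_eq (IsUnit.mk0 c hc)]

theorem A2_smul_scalar {c : F} (hc : c ≠ 0) (v w : Fin n → F) : A2 (c • v) w = A2 v w := by
  unfold A2
  rw [A_smul_scalar hc]

/-- `A2 (g • v) (g • w) = g (A2 v w) g⁻¹` -/
theorem mem_A2_smul_iff (g x : SpecialLinearGroup (Fin n) F) (v w : Fin n → F) :
    x ∈ A2 (g • v) (g • w) ↔ g⁻¹ * x * g ∈ A2 v w := by
  unfold A2
  rw [Subgroup.mem_inf, Subgroup.mem_inf, mem_A_smul_iff, MulAction.mem_stabilizer_iff,
    MulAction.mem_stabilizer_iff]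
  constructor
  · rintro ⟨h1, h2⟩
    refine ⟨h1, ?_⟩
    rw [mul_smul, mul_smul, h2, inv_smul_smul]
  · rintro ⟨h1, h2⟩
    refine ⟨h1, ?_⟩
    rw [mul_smul, mul_smul, inv_smul_eq_iff] at h2
    exact h2

/-- separating functional: for `u` outside a subspace `S` -/
theorem exists_dual {S : Submodule F (Fin n → F)} {u : Fin n → F} (hu : u ∉ S) :
    ∃ ξ : Fin n → F, (∀ s ∈ S, ξ ⬝ᵥ s = 0) ∧ ξ ⬝ᵥ u = 1 := by
  classical
  obtain ⟨f, hfu, hfS⟩ := Submodule.exists_le_ker_of_notMem hu
  let ξ0 : Fin n → F := fun j => f (fun k => if j = k then 1 else 0)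
  have key : ∀ x : Fin n → F, ξ0 ⬝ᵥ x = f x := by
    intro x
    rw [LinearMap.pi_apply_eq_sum_univ f x]
    unfold dotProduct
    apply Finset.sum_congr rfl
    intro j _
    rw [smul_eq_mul, mul_comm]
  refine ⟨(f u)⁻¹ • ξ0, ?_, ?_⟩
  · intro s hs
    rw [smul_dotProduct, key, LinearMap.mem_ker.1 (hfS hs), smul_zero]
  · rw [smul_dotProduct, key, smul_eq_mul, inv_mul_cancel₀ hfu]

end F3a

end Cfsg.Agent.Lib.Helper7.MinDegTvA
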