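import Mathlib
import Cfsg.Prelude.Def_Blocks
import Cfsg.Agent.Lib.Helper2.Ito
import Cfsg.Agent.Lib.Helper2.Clifford
import Cfsg.Agent.Lib.Helper7.CanonicalChar
import Cfsg.Agent.Lib.Helper7.ExtFirstMain
import Cfsg.Agent.Lib.Helper7.HeightZero

/-!
# Heights in blocks with a normal defect group (helper7 library)

A block with a normal defect group `P` has all its characters of height zero iff `P` is abelian
(Reynolds).
-/

set_option autoImplicit false

namespace Cfsg.Agent.Lib.Helper7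

open Cfsg.Agent.Lib.Helper2 Cfsg.Agent.Lib.Helper24
open scoped ComplexConjugate Classical

universe u

section abelian

variable {G : Type u} [Group G] [Fintype G] {p : ℕ} [hp : Fact p.Prime] {M : Ideal Cfsg.AlgInt}

/-- abelian normal defect group: all heights are zero -/
theorem height_zero_of_abelian_normal_defect (hM : Cfsg.IsPModular p M)
    (B : Set (Cfsg.IrrCharacter G)) (hB : Cfsg.IsPBlock M B) (P : Subgroup G) [P.Normal]
    (hP : Cfsg.IsDefectGroup p M B P) (hab : ∀ a ∈ P, ∀ c ∈ P, a * c = c * a)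
    (χ : Cfsg.IrrCharacter G) (hχ : χ ∈ B) : Cfsg.blockHeight p B (χ : G → ℂ) = 0 := by
  have hcard := card_of_isDefectGroup hM B hB P hP
  unfold Cfsg.blockDefect at hcard
  unfold Cfsg.blockHeight
  set S := (fun ψ : Cfsg.IrrCharacter G => (Cfsg.charDegree (ψ : G → ℂ)).factorization p) '' B
    with hS
  set a₀ := (Nat.card G).factorization p with ha₀
  obtain ⟨d, hd, hdvd⟩ := ito_aux (Nat.card G) G rfl (χ : G → ℂ) χ.2 P hab
  have hd' : Cfsg.charDegree (χ : G → ℂ) = d := by
    have h1 := Cfsg.Agent.Lib.Helper25.char_one_eq_charDegree (IsIrrCharacter.isCharacter χ.2)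
    rw [hd] at h1
    exact_mod_cast h1.symm
  have hdpos : Cfsg.charDegree (χ : G → ℂ) ≠ 0 := (irr_charDegree_pos χ).ne'
  have h1 : sInf S ≤ (Cfsg.charDegree (χ : G → ℂ)).factorization p := Nat.sInf_le ⟨χ, hχ, rfl⟩
  have h2 : (Cfsg.charDegree (χ : G → ℂ)).factorization p ≤ a₀ :=
    (Nat.factorization_le_iff_dvd hdpos Nat.card_pos.ne').mpr
      (Cfsg.Agent.Lib.Helper25.charDegree_dvd_card χ.2) p
  have h3 : a₀ = P.index.factorization p + (Nat.card P).factorization p := by
    rw [ha₀, ← Subgroup.index_mul_card P,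
      Nat.factorization_mul Subgroup.index_ne_zero_of_finite Nat.card_pos.ne', Finsupp.add_apply]
  have h4 : (Nat.card P).factorization p = a₀ - sInf S := by
    rw [hcard, Nat.factorization_pow, Finsupp.smul_apply, Nat.Prime.factorization_self hp.out]
    simp
  have h5 : (Cfsg.charDegree (χ : G → ℂ)).factorization p ≤ P.index.factorization p := by
    rw [hd']
    rw [hd'] at hdpos
    exact (Nat.factorization_le_iff_dvd hdpos Subgroup.index_ne_zero_of_finite).mpr hdvd p
  omega

end abelian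

section nonabelian

/-- a non-abelian `p`-group has an irreducible character of degree divisible by `p` -/
theorem exists_irr_dvd_degree_of_not_comm {Q : Type*} [Group Q] [Finite Q] {p : ℕ}
    [hp : Fact p.Prime] (hQ : IsPGroup p Q) (hne : ∃ a c : Q, a * c ≠ c * a) :
    ∃ lam : Cfsg.IrrCharacter Q, p ∣ Cfsg.charDegree (lam : Q → ℂ) := by
  by_contra hcon
  push Not at hcon
  letI : Fintype Q := Fintype.ofFinite Q
  letI : Fintype (Cfsg.IrrCharacter Q) := Fintype.ofFinite _
  obtain ⟨n, hn⟩ := IsPGroup.iff_card.mp hQ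
  have hdeg1 : ∀ lam : Cfsg.IrrCharacter Q, (lam : Q → ℂ) 1 = 1 := by
    intro lam
    have h1 := Cfsg.Agent.Lib.Helper25.charDegree_dvd_card lam.2
    rw [hn] at h1
    obtain ⟨i, _, hi⟩ := (Nat.dvd_prime_pow hp.out).mp h1
    have h2 := hcon lam
    have hi0 : i = 0 := by
      by_contra h0
      apply h2
      rw [hi]
      exact dvd_pow_self p h0
    rw [hi0, pow_zero] at hi
    rw [Cfsg.Agent.Lib.Helper25.char_one_eq_charDegree (IsIrrCharacter.isCharacter lam.2), hi]
    simp
  have hsum := sum_irr_degree_sq (G := Q)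
  rw [Finset.sum_congr rfl (fun lam _ => by rw [hdeg1 lam, one_pow]), Finset.sum_const,
    Finset.card_univ, ← Nat.card_eq_fintype_card, card_irrCharacter] at hsum
  have hk : Nat.card (ConjClasses Q) = Nat.card Q := by
    have : ((Nat.card (ConjClasses Q) : ℕ) : ℂ) = ((Nat.card Q : ℕ) : ℂ) := by
      rw [← hsum]; simp
    exact_mod_cast this
  have hcp : commProb Q = 1 := by
    rw [commProb_def', hk]
    have : (Nat.card Q : ℚ) ≠ 0 := by exact_mod_cast Nat.card_pos.ne'
    field_simp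
  have hcomm := commProb_eq_one_iff.mp hcp
  obtain ⟨a, c, hac⟩ := hne
  exact hac (mul_comm' a c)

theorem subgroupOf_sup_centralizer_eq_top {G : Type*} [Group G] (P : Subgroup G) [hPn : P.Normal] :
    (P.subgroupOf (P ⊔ Subgroup.centralizer (P : Set G)))
      ⊔ Subgroup.centralizer ((P.subgroupOf (P ⊔ Subgroup.centralizer (P : Set G)) :
        Subgroup ↥(P ⊔ Subgroup.centralizer (P : Set G))) :
          Set ↥(P ⊔ Subgroup.centralizer (P : Set G))) = ⊤ := by
  apply top_le_iff.mp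
  intro l _
  have h : (l : G) ∈ ((P ⊔ Subgroup.centralizer (P : Set G) : Subgroup G) : Set G) := l.2
  rw [Subgroup.normal_mul] at h
  obtain ⟨u, hu, c, hc, huc⟩ := Set.mem_mul.mp h
  have huL : u ∈ P ⊔ Subgroup.centralizer (P : Set G) :=
    (le_sup_left : P ≤ P ⊔ Subgroup.centralizer (P : Set G)) hu
  have hcL : c ∈ P ⊔ Subgroup.centralizer (P : Set G) :=
    (le_sup_right : Subgroup.centralizer (P : Set G) ≤ P ⊔ Subgroup.centralizer (P : Set G)) hc
  have e : l = (⟨u, huL⟩ : ↥(P ⊔ Subgroup.centralizer (P : Set G))) * ⟨c, hcL⟩ := by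
    apply Subtype.ext
    exact huc.symm
  rw [e]
  apply Subgroup.mul_mem
  · apply (le_sup_left : P.subgroupOf (P ⊔ Subgroup.centralizer (P : Set G)) ≤ _)
    rw [Subgroup.mem_subgroupOf]
    exact hu
  · apply (le_sup_right : Subgroup.centralizer _ ≤ _)
    exact (mem_centralizer_subgroupOf_iff _ P le_sup_left ⟨c, hcL⟩).mpr hc

section main

variable {G : Type u} [Group G] [Fintype G] {p : ℕ} [hp : Fact p.Prime] {M : Ideal Cfsg.AlgInt}

/-- non-abelian normal defect group: some character has positive height -/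
theorem exists_height_ne_zero_of_not_comm (hM : Cfsg.IsPModular p M)
    (B : Set (Cfsg.IrrCharacter G)) (hB : Cfsg.IsPBlock M B) (P : Subgroup G) [hPn : P.Normal]
    (hP : Cfsg.IsDefectGroup p M B P) (hne : ∃ a ∈ P, ∃ c ∈ P, a * c ≠ c * a) :
    ∃ χ ∈ B, Cfsg.blockHeight p B (χ : G → ℂ) ≠ 0 := by
  have hcardP := card_of_isDefectGroup hM B hB P hP
  have hPp : IsPGroup p P := IsPGroup.of_card hcardP
  set L := P ⊔ Subgroup.centralizer (P : Set G) with hL
  letI : Fintype L := Fintype.ofFinite L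
  have hPL : P ≤ L := le_sup_left
  have hCL : Subgroup.centralizer (P : Set G) ≤ L := le_sup_right
  have hNtop : Subgroup.normalizer (P : Set G) = ⊤ := Subgroup.normalizer_eq_top_iff.mpr hPn
  have hLN : L ≤ Subgroup.normalizer (P : Set G) := by rw [hNtop]; exact le_top
  haveI hLn : L.Normal := by
    rw [← Subgroup.normalizer_eq_top_iff]
    apply top_le_iff.mp
    rw [← hNtop]
    exact normalizer_le_normalizer_sup_centralizer P
  obtain ⟨b, hbdef, hind⟩ := exists_isInducedBlock_defect_of_le hM L P hPL hCL hLN B hB hP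
  have hb := hind.1
  -- the group L
  set P' := P.subgroupOf L with hP'
  have hG' : P' ⊔ Subgroup.centralizer (P' : Set L) = ⊤ := subgroupOf_sup_centralizer_eq_top P
  haveI hP'n : P'.Normal := normal_of_sup_centralizer_eq_top P' hG'
  have hP'p : IsPGroup p P' := hPp.comap_of_injective _ (Subgroup.subtype_injective _)
  obtain ⟨θ, hθb, hker⟩ := exists_mem_ker_of_normal_pgroup hM P' hP'p b hb
  have hdeg := canonical_degree hM P' b hb hbdef θ hθb hker
  -- a nonlinear character of P'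
  obtain ⟨a, ha, c, hc, hac⟩ := hne
  have hne' : ∃ a' c' : P', a' * c' ≠ c' * a' := by
    refine ⟨⟨⟨a, hPL ha⟩, by rw [hP', Subgroup.mem_subgroupOf]; exact ha⟩,
      ⟨⟨c, hPL hc⟩, by rw [hP', Subgroup.mem_subgroupOf]; exact hc⟩, ?_⟩
    intro h
    apply hac
    have := congrArg (fun x : P' => ((x : L) : G)) h
    simpa using this
  obtain ⟨lam, hlam⟩ := exists_irr_dvd_degree_of_not_comm hP'p hne'
  set θl := thetaIrr P' hP'p hG' θ hker hdeg.ge lam with hθl
  have hθlb : θl ∈ b := by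
    rw [eq_blockOf_of_mem hM hb hθb]
    exact thetaIrr_mem_blockOf hM P' hP'p hG' θ hker hdeg.ge lam
  obtain ⟨χ, hχ⟩ := exists_irr_over L θl
  have hindχ := isInducedBlock_of_covering L hM P hPp hCL (Cfsg.blockOf M (χ : G → ℂ)) ⟨χ, rfl⟩
    b hb ⟨χ, mem_blockOf_self hM χ, θl, hθlb, hχ⟩
  obtain ⟨χB, hχB⟩ := isPBlock_nonempty hM hB
  have hχmem : χ ∈ B := by
    rw [eq_blockOf_of_mem hM hB hχB]
    intro g
    have h1 := hind.2.2 θl hθlb χB hχB g
    have h2 := hindχ.2.2 θl hθlb χ (mem_blockOf_self hM χ) g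
    have h3 := memLocalIdeal_sub hM h2 h1
    rwa [sub_sub_sub_cancel_left] at h3
  refine ⟨χ, hχmem, ?_⟩
  intro h0
  obtain ⟨g₀, hg₀, hPle, _⟩ := exists_of_isDefectGroup hP
  have hreg := isDefectClass_regular hM hB hg₀
  have hg₀C : g₀ ∈ Subgroup.centralizer (P : Set G) := by
    rw [Subgroup.mem_centralizer_iff]
    intro u hu
    have := hPle hu
    rw [Subgroup.mem_centralizer_singleton_iff] at this
    exact this
  have hg₀L : g₀ ∈ L := hCL hg₀C
  apply not_memLocalIdeal_of_height_zero hM B hB g₀ hg₀ χ hχmem h0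
  -- expand the restriction of χ to L
  letI : Fintype (Cfsg.IrrCharacter L) := Fintype.ofFinite _
  have hχc : Cfsg.IsCharacter G (χ : G → ℂ) := IsIrrCharacter.isCharacter χ.2
  have hres : Cfsg.IsCharacter L (fun l : L => (χ : G → ℂ) l) := IsCharacter.restrict hχc L
  have hexp := congr_fun (classFunction_expansion (fun l : L => (χ : G → ℂ) l)
    (IsCharacter.isClassFunction hres)) ⟨g₀, hg₀L⟩
  simp only at hexp
  rw [hexp, Finset.sum_apply]
  apply memLocalIdeal_sum hM
  intro ψ _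
  rw [Pi.smul_apply, smul_eq_mul]
  by_cases hψ : Cfsg.classInner (fun l : L => (χ : G → ℂ) l) (ψ : L → ℂ) = 0
  · rw [hψ, zero_mul]; exact memLocalIdeal_zero hM
  · obtain ⟨n, hn⟩ := classInner_isCharacter_nat hres (IsIrrCharacter.isCharacter ψ.2)
    have hconj : ∃ x : G, (ψ : L → ℂ) = conjFun L x (θl : L → ℂ) := by
      by_contra hcon
      push Not at hcon
      exact hψ (classInner_restrict_eq_zero_of_not_conj L χ.2 θl.2 hχ ψ.2 hcon)
    obtain ⟨x, hx⟩ := hconj
    rw [hn, hx, conjFun_apply]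
    have hreg' : ¬ p ∣ orderOf (⟨x * g₀ * x⁻¹, hLn.conj_mem g₀ hg₀L x⟩ : L) := by
      rw [← Subgroup.orderOf_coe]
      simp only
      have h1 : orderOf (x * g₀ * x⁻¹) = orderOf g₀ := by
        have := (MulAut.conj x).orderOf_eq g₀
        simpa [MulAut.conj_apply] using this
      rw [h1]; exact hreg
    have hval : (θl : L → ℂ) ⟨x * g₀ * x⁻¹, hLn.conj_mem g₀ hg₀L x⟩
        = (lam : P' → ℂ) 1 * (θ : L → ℂ) ⟨x * g₀ * x⁻¹, hLn.conj_mem g₀ hg₀L x⟩ := by
      show thetaFn p P' (lam : P' → ℂ) (θ : L → ℂ) _ = _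
      exact thetaFn_of_regular P' _ _ hreg'
    rw [hval, Cfsg.Agent.Lib.Helper25.char_one_eq_charDegree (IsIrrCharacter.isCharacter lam.2)]
    obtain ⟨m, hm⟩ := hlam
    rw [hm]
    have e : (n : ℂ) * (((p * m : ℕ) : ℂ) * (θ : L → ℂ) ⟨x * g₀ * x⁻¹, hLn.conj_mem g₀ hg₀L x⟩)
        = (p : ℂ) * ((n : ℂ) * (m : ℂ) * (θ : L → ℂ) ⟨x * g₀ * x⁻¹, hLn.conj_mem g₀ hg₀L x⟩) := by
      push_cast; ring
    rw [e]
    apply memLocalIdeal_mul_right hM ((memLocalIdeal_natCast_iff hM p).mpr dvd_rfl)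
    apply memLocalRing_mul hM (memLocalRing_mul hM (memLocalRing_natCast hM n)
      (memLocalRing_natCast hM m))
    exact memLocalRing_of_isIntegral hM (irr_value_isIntegral θ _)

end main

end nonabelian

end Cfsg.Agent.Lib.Helper7
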