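import Mathlib
import Cfsg.Prelude.Def_GeometricClasses
import Cfsg.Agent.Lib.Helper1.OEDefs
import Cfsg.Agent.Lib.Helper13.OrthMax
import Cfsg.Agent.Lib.Helper13.TensorOrth3
import Cfsg.Agent.Lib.Helper6.S5814CPLANE
import Cfsg.Agent.Lib.Helper6.S5814PSUBF
import Cfsg.Agent.Lib.Helper6.OETypeTC4
import Cfsg.Agent.Lib.Helper29.AschCorB
import Cfsg.Agent.Lib.Helper29.S5814AFLD
import Cfsg.Agent.Lib.Helper9.HubCorA1
import Cfsg.Agent.Lib.Helper21.OECorPIRR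
import Cfsg.Agent.Lib.Helper16.OECorPFLD
import Cfsg.Agent.Lib.Helper22.OECorPTEN
import Cfsg.Agent.Lib.Helper12.OECorE
import Cfsg.Agent.Lib.Helper23.OETypeTC6
import Cfsg.Agent.Lib.Helper3.OEC6
import Cfsg.Agent.Lib.Helper15.TensSwap
import Cfsg.Agent.Lib.Helper7.OETypeB
import Cfsg.Agent.Lib.Helper7.OETypeC

/-!
# Row S5874 (`Ω₁₂⁻`) from the even-orthogonal hub `HubOE Q` (helper7, on helper1's corollary skeleton)

`cases12m` : the verbatim conclusion of the frozen row S5874 from `HubOE Q`.  The generic exits (`eq_of_le_member`,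
`exit_nd`, `exit_plane`, ...) are those of helper1's `notes/OECorSkel_helper1.lean.txt`, with the pieces filled in by
the landed files of helper21 (P-IRR, P-DEC), helper16 (P-FLD), helper22 (P-TEN33), helper6 (P-SUB, E-PLANE3, TC4),
helper12 (E-ODD, E-PERP, E-PLANE2), helper23 (TC6), helper3 (C6), helper13 (`O₃(3) ⊗ O_m`), helper15 (tensor swap) and
helper7 (R1, R3).
-/

set_option autoImplicit false
set_option linter.unusedSectionVars false
set_option linter.unusedVariables false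

namespace Cfsg.Agent.Lib.Helper7.OECor12m

open Matrix Cfsg Cfsg.Geo Module QuadraticMap
open Cfsg.Agent.Lib.Helper1.OE
open Cfsg.Agent.Lib.Helper13 (toQF toQF_nondegenerate)

variable {F : Type*} [Field F] [Fintype F] {n : ℕ}

/-! ## 0. generic -/

theorem eq_of_le_member {G : Type*} [Group G] (S H M : Subgroup G) (hH : IsMaximalIn S H)
    (hle : H ≤ M) (hM : ¬ S ≤ M) : H = M ⊓ S := by
  have h1 : H ≤ M ⊓ S := le_inf hle hH.1.le
  rcases hH.2 _ h1 inf_le_right with h | h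
  · exact h.symm
  · exact absurd (h ▸ inf_le_left) hM

theorem omegaGL_le_iso (Q : (Fin n → F) → F) : omegaGL Q ≤ isometryGroup F Q := by
  rintro g ⟨x, -, rfl⟩
  exact x.2

theorem not_omega_le_subfield {Q : (Fin n → F) → F} (hQ : IsNondegenerateQuadraticForm Q) (h5 : 5 ≤ n)
    (F₀ : Subfield F) (hF₀ : F₀ ≠ ⊤) (P : GL (Fin n) F) : ¬ omegaGL Q ≤ subfieldSubgroup F₀ P :=
  Cfsg.Agent.Lib.Helper6.S5814PSUBF.not_omega_le_subfield (toQF Q hQ) (toQF_nondegenerate Q hQ)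
    (by rw [Fintype.card_fin]; exact h5) F₀ hF₀ P

theorem plane_le_stab {Q : (Fin n → F) → F} (hQ : IsNondegenerateQuadraticForm Q) (h5 : 5 ≤ n)
    (hq : Fintype.card F = 3) (W : Submodule F (Fin n → F)) (hdim : finrank F W = 2)
    (hW : IsNondegenerateOn (polar Q) W) (hWp : IsPlusTypeOn Q W) :
    ∃ W' : Submodule F (Fin n → F), finrank F W' + 1 = n ∧ IsNondegenerateOn (polar Q) W' ∧
      subspaceStabilizer W ⊓ omegaGL Q ≤ subspaceStabilizer W' := by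
  have h := Cfsg.Agent.Lib.Helper6.S5814CPLANE.plane_le_stab (toQF Q hQ) (toQF_nondegenerate Q hQ)
    (by rw [Fintype.card_fin]; exact h5) hq W hdim hW hWp
  rw [Fintype.card_fin] at h
  exact h

open Cfsg.Agent.Lib.Helper21.OECorPIRR (not_omega_le_stab not_omega_le_decomp_of_two_le)
open Cfsg.Agent.Lib.Helper16.OECorPFLD (not_omega_le_field)
open Cfsg.Agent.Lib.Helper22.OECorPTEN (not_omega_le_tensor33)
open Cfsg.Agent.Lib.Helper12.OECorE (odd_card_of_odd_finrank exists_perp plane_le_stab_two)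

section assembly

variable {Q : (Fin n → F) → F}

theorem ne_bot_of_finrank_pos (W : Submodule F (Fin n → F)) (h : 0 < finrank F W) : W ≠ ⊥ := by
  rintro rfl
  rw [finrank_bot] at h
  exact lt_irrefl _ h

theorem ne_top_of_finrank_lt (W : Submodule F (Fin n → F)) (h : finrank F W < n) : W ≠ ⊤ := by
  rintro rfl
  rw [finrank_top, Module.finrank_fintype_fun_eq_card, Fintype.card_fin] at h
  exact lt_irrefl _ h

theorem finrank_pos_of_ne_bot (W : Submodule F (Fin n → F)) (h : W ≠ ⊥) : 0 < finrank F W := by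
  rcases Nat.eq_zero_or_pos (finrank F W) with h0 | h0
  · exact absurd (Submodule.finrank_eq_zero.mp h0) h
  · exact h0

theorem finrank_lt_of_ne_top (W : Submodule F (Fin n → F)) (h : W ≠ ⊤) : finrank F W < n := by
  have hle : finrank F W ≤ n := by
    have := Submodule.finrank_le W
    rwa [Module.finrank_fintype_fun_eq_card, Fintype.card_fin] at this
  rcases hle.lt_or_eq with h1 | h1
  · exact h1
  · exfalso
    apply h
    apply Submodule.eq_top_of_finrank_eq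
    rw [h1, Module.finrank_fintype_fun_eq_card, Fintype.card_fin]

/-- a totally singular subspace is proper -/
theorem ts_ne_top (hQ : IsNondegenerateQuadraticForm Q) (hn : 0 < n) (W : Submodule F (Fin n → F))
    (hW : IsTotallySingularQuad Q W) : W ≠ ⊤ := by
  rintro rfl
  have hv : (Pi.single (⟨0, hn⟩ : Fin n) (1 : F) : Fin n → F) ≠ 0 := by
    intro h
    have := congrFun h ⟨0, hn⟩
    simp at this
  obtain ⟨⟨x, hx⟩, -⟩ := hQ.nondegenerate _ hv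
  apply hx
  unfold QuadraticMap.polar
  rw [hW _ Submodule.mem_top, hW x Submodule.mem_top, hW _ Submodule.mem_top]
  ring

/-- the exit for a non-degenerate subspace, first step -/
theorem exit_nd (hQ : IsNondegenerateQuadraticForm Q) (h5 : 5 ≤ n) (H : Subgroup (GL (Fin n) F))
    (hH : IsMaximalIn (omegaGL Q) H) (W : Submodule F (Fin n → F)) (hW0 : W ≠ ⊥) (hW1 : W ≠ ⊤)
    (hW : IsNondegenerateOn (polar Q) W) (hle : H ≤ subspaceStabilizer W) :
    ∃ W' : Submodule F (Fin n → F), 0 < finrank F W' ∧ 2 * finrank F W' ≤ n ∧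
      IsNondegenerateOn (polar Q) W' ∧ H = subspaceStabilizer W' ⊓ omegaGL Q := by
  have hHW : H = subspaceStabilizer W ⊓ omegaGL Q :=
    eq_of_le_member _ H _ hH hle (not_omega_le_stab hQ h5 W hW0 hW1)
  have hpos := finrank_pos_of_ne_bot W hW0
  have hlt := finrank_lt_of_ne_top W hW1
  by_cases hhalf : 2 * finrank F W ≤ n
  · exact ⟨W, hpos, hhalf, hW, hHW⟩
  · obtain ⟨W', hW', hadd, -, -, hstab⟩ := exists_perp hQ W hW
    exact ⟨W', by omega, by omega, hW', by rw [hHW, hstab]⟩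

/-- the exit for a non-degenerate plane -/
theorem exit_plane (hQ : IsNondegenerateQuadraticForm Q) (h5 : 5 ≤ n) (H : Subgroup (GL (Fin n) F))
    (hH : IsMaximalIn (omegaGL Q) H) (W : Submodule F (Fin n → F)) (hdim : finrank F W = 2)
    (hW : IsNondegenerateOn (polar Q) W) (hHW : H = subspaceStabilizer W ⊓ omegaGL Q) :
    (∃ W : Submodule F (Fin n → F), finrank F W = 2 ∧ IsNondegenerateOn (polar Q) W ∧ ¬ IsPlusTypeOn Q W ∧
      H = subspaceStabilizer W ⊓ omegaGL Q) ∨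
    (4 ≤ Fintype.card F ∧ ∃ W : Submodule F (Fin n → F), finrank F W = 2 ∧ IsNondegenerateOn (polar Q) W ∧
      IsPlusTypeOn Q W ∧ H = subspaceStabilizer W ⊓ omegaGL Q) ∨
    (Odd (Fintype.card F) ∧ ∃ W : Submodule F (Fin n → F), finrank F W + 1 = n ∧
      IsNondegenerateOn (polar Q) W ∧ H = subspaceStabilizer W ⊓ omegaGL Q) ∨
    (¬ Odd (Fintype.card F) ∧ ∃ v : Fin n → F, Q v ≠ 0 ∧
      H = subspaceStabilizer (Submodule.span F {v}) ⊓ omegaGL Q) := by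
  by_cases hp : IsPlusTypeOn Q W
  swap
  · exact Or.inl ⟨W, hdim, hW, hp, hHW⟩
  have hq1 : 1 < Fintype.card F := Fintype.one_lt_card
  by_cases hq4 : 4 ≤ Fintype.card F
  · exact Or.inr (Or.inl ⟨hq4, W, hdim, hW, hp, hHW⟩)
  have hq23 : Fintype.card F = 2 ∨ Fintype.card F = 3 := by omega
  rcases hq23 with hq | hq
  · -- `q = 2`
    obtain ⟨v, hv, hle⟩ := plane_le_stab_two hQ hq W hdim hW hp
    have hleH : H ≤ subspaceStabilizer (Submodule.span F {v}) := by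
      intro x hx
      rw [hHW] at hx
      exact hle ⟨hx.1, omegaGL_le_iso Q hx.2⟩
    have hv0 : v ≠ 0 := by
      rintro rfl
      apply hv
      have := hQ.smul 0 (0 : Fin n → F)
      rw [zero_smul] at this
      rw [this]
      ring
    have hs0 : Submodule.span F {v} ≠ ⊥ := by
      rw [Ne, Submodule.span_singleton_eq_bot]
      exact hv0
    have hs1 : Submodule.span F {v} ≠ ⊤ := by
      apply ne_top_of_finrank_lt
      rw [finrank_span_singleton hv0]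
      omega
    refine Or.inr (Or.inr (Or.inr ⟨by rw [hq]; decide, v, hv,
      eq_of_le_member _ H _ hH hleH (not_omega_le_stab hQ h5 _ hs0 hs1)⟩))
  · -- `q = 3`
    obtain ⟨W', hW'dim, hW'nd, hle⟩ := plane_le_stab hQ h5 hq W hdim hW hp
    have hleH : H ≤ subspaceStabilizer W' := by
      intro x hx
      rw [hHW] at hx
      exact hle hx
    have hs0 : W' ≠ ⊥ := ne_bot_of_finrank_pos W' (by omega)
    have hs1 : W' ≠ ⊤ := ne_top_of_finrank_lt W' (by omega)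
    refine Or.inr (Or.inr (Or.inl ⟨by rw [hq]; decide, W', hW'dim, hW'nd,
      eq_of_le_member _ H _ hH hleH (not_omega_le_stab hQ h5 _ hs0 hs1)⟩))

end assembly

/-! ## the row -/

open Cfsg.Agent.Lib.Helper7.OEType (isPlusTypeOn_top_of_decomposition_even isPlusTypeOn_top_iff_block)

/-- verbatim conclusion of S5874 -/
def Row12M (Q : (Fin 12 → F) → F) (H : Subgroup (Matrix.GeneralLinearGroup (Fin 12) F)) : Prop :=
    (∃ W : Submodule F (Fin 12 → F), W ≠ ⊥ ∧ Cfsg.Geo.IsTotallySingularQuad Q W ∧ H = Cfsg.Geo.subspaceStabilizer W ⊓ Cfsg.Geo.omegaGL Q) ∨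
    (Odd (Fintype.card F) ∧ ∃ W : Submodule F (Fin 12 → F), W ≠ ⊥ ∧ W ≠ ⊤ ∧ Odd (Module.finrank F W) ∧ 2 * Module.finrank F W ≠ 12 ∧ Cfsg.Geo.IsNondegenerateOn (QuadraticMap.polar Q) W ∧ H = Cfsg.Geo.subspaceStabilizer W ⊓ Cfsg.Geo.omegaGL Q) ∨
    (∃ W : Submodule F (Fin 12 → F), Module.finrank F W = 2 ∧ Cfsg.Geo.IsNondegenerateOn (QuadraticMap.polar Q) W ∧ ¬ Cfsg.Geo.IsPlusTypeOn Q W ∧ H = Cfsg.Geo.subspaceStabilizer W ⊓ Cfsg.Geo.omegaGL Q) ∨
    (4 ≤ Fintype.card F ∧ ∃ W : Submodule F (Fin 12 → F), Module.finrank F W = 2 ∧ Cfsg.Geo.IsNondegenerateOn (QuadraticMap.polar Q) W ∧ Cfsg.Geo.IsPlusTypeOn Q W ∧ H = Cfsg.Geo.subspaceStabilizer W ⊓ Cfsg.Geo.omegaGL Q) ∨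
    (∃ W : Submodule F (Fin 12 → F), Module.finrank F W = 4 ∧ Cfsg.Geo.IsNondegenerateOn (QuadraticMap.polar Q) W ∧ H = Cfsg.Geo.subspaceStabilizer W ⊓ Cfsg.Geo.omegaGL Q) ∨
    (∃ W : Submodule F (Fin 12 → F), Module.finrank F W = 6 ∧ Cfsg.Geo.IsNondegenerateOn (QuadraticMap.polar Q) W ∧ H = Cfsg.Geo.subspaceStabilizer W ⊓ Cfsg.Geo.omegaGL Q) ∨
    (¬ Odd (Fintype.card F) ∧ ∃ v : (Fin 12 → F), Q v ≠ 0 ∧ H = Cfsg.Geo.subspaceStabilizer (Submodule.span F {v}) ⊓ Cfsg.Geo.omegaGL Q) ∨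
    (∃ D : Fin 3 → Submodule F (Fin 12 → F), Cfsg.Geo.IsOrthogonalMDecomposition Q 4 D ∧ (∀ i, ¬ Cfsg.Geo.IsPlusTypeOn Q (D i)) ∧ H = Cfsg.Geo.decompositionStabilizer D ⊓ Cfsg.Geo.omegaGL Q) ∨
    (∃ K : Subalgebra F (Matrix (Fin 12) (Fin 12) F), Cfsg.Geo.IsFieldSubalgebra 2 K ∧ H = Cfsg.Geo.subalgebraNormalizer K ⊓ Cfsg.Geo.omegaGL Q) ∨
    (∃ K : Subalgebra F (Matrix (Fin 12) (Fin 12) F), Cfsg.Geo.IsFieldSubalgebra 3 K ∧ H = Cfsg.Geo.subalgebraNormalizer K ⊓ Cfsg.Geo.omegaGL Q) ∨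
    (Odd (Fintype.card F) ∧ 5 ≤ Fintype.card F ∧ ∃ (e : Fin 12 ≃ Fin 3 × Fin 4) (P : Matrix.GeneralLinearGroup (Fin 12) F) (f₁ : (Fin 3 → F) → (Fin 3 → F) → F) (f₂ : (Fin 4 → F) → (Fin 4 → F) → F), Cfsg.Geo.IsSymmetricForm f₁ ∧ Cfsg.Geo.IsSymmetricForm f₂ ∧ ¬ Cfsg.Geo.IsPlusTypeOn (fun v : Fin 4 → F => f₂ v v) ⊤ ∧ Cfsg.Geo.IsTensorFormStructure id (QuadraticMap.polar Q) f₁ f₂ e P ∧ H = Cfsg.Geo.tensorProductSubgroup 3 4 e P ⊓ Cfsg.Geo.omegaGL Q) ∨
    (∃ (F₀ : Subfield F) (r : ℕ) (P : Matrix.GeneralLinearGroup (Fin 12) F) (ζ : F), r.Prime ∧ Odd r ∧ Fintype.card F = Nat.card F₀ ^ r ∧ ζ ≠ 0 ∧ Cfsg.Geo.IsQuadFormRationalStructure (fun v : Fin 12 → F => ζ * Q v) F₀ P ∧ H = Cfsg.Geo.subfieldSubgroup F₀ P ⊓ Cfsg.Geo.omegaGL Q) ∨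
    Cfsg.Geo.InOrthogonalResidualClass H

theorem pow_ne_twelve {k t : ℕ} (hk : 2 ≤ k) (ht : 2 ≤ t) : k ^ t ≠ 12 := by
  intro h
  have hk4 : k < 4 := by
    by_contra hne
    have h4 : 4 ≤ k := by omega
    have : 4 ^ 2 ≤ k ^ t := (Nat.pow_le_pow_left h4 2).trans (Nat.pow_le_pow_right (by omega) ht)
    omega
  have ht4 : t < 4 := by
    by_contra hne
    have h4 : 4 ≤ t := by omega
    have : 2 ^ 4 ≤ k ^ t := (Nat.pow_le_pow_left hk 4).trans (Nat.pow_le_pow_right (by omega) h4)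
    omega
  interval_cases k <;> interval_cases t <;> omega

/-- the exit for `O₃ ⊗ O₄` in a minus-type 12-space -/
theorem exit_tensor34 (Q : (Fin 12 → F) → F) (hQ : IsNondegenerateQuadraticForm Q) (hminus : ¬ IsPlusTypeOn Q ⊤)
    (H : Subgroup (GL (Fin 12) F)) (hH : IsMaximalIn (omegaGL Q) H) (hq : Odd (Fintype.card F))
    (e : Fin 12 ≃ Fin 3 × Fin 4) (P : GL (Fin 12) F) (f₁ : (Fin 3 → F) → (Fin 3 → F) → F)
    (f₂ : (Fin 4 → F) → (Fin 4 → F) → F) (hf₁ : IsSymmetricForm f₁) (hf₂ : IsSymmetricForm f₂)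
    (hT : IsTensorFormStructure id (polar Q) f₁ f₂ e P) (hle : H ≤ tensorProductSubgroup 3 4 e P) :
    Odd (Fintype.card F) ∧ 5 ≤ Fintype.card F ∧ ∃ (e : Fin 12 ≃ Fin 3 × Fin 4) (P : Matrix.GeneralLinearGroup (Fin 12) F) (f₁ : (Fin 3 → F) → (Fin 3 → F) → F) (f₂ : (Fin 4 → F) → (Fin 4 → F) → F), Cfsg.Geo.IsSymmetricForm f₁ ∧ Cfsg.Geo.IsSymmetricForm f₂ ∧ ¬ Cfsg.Geo.IsPlusTypeOn (fun v : Fin 4 → F => f₂ v v) ⊤ ∧ Cfsg.Geo.IsTensorFormStructure id (QuadraticMap.polar Q) f₁ f₂ e P ∧ H = Cfsg.Geo.tensorProductSubgroup 3 4 e P ⊓ Cfsg.Geo.omegaGL Q := by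
  have h5 : 5 ≤ 12 := by norm_num
  have hp : ¬ IsPlusTypeOn (fun v : Fin 4 → F => f₂ v v) ⊤ := fun hp =>
    hminus (Cfsg.Agent.Lib.Helper6.OETypeTC4.isPlusTypeOn_top_of_tensorSymm_plus hQ hq e P f₁ f₂ hf₁ hf₂ hT hp)
  have hHX : H = tensorProductSubgroup 3 4 e P ⊓ omegaGL Q :=
    eq_of_le_member _ H _ hH hle (not_omega_le_tensor33 hQ h5 3 4 (le_refl 3) (by norm_num) e P)
  have hq5 : 5 ≤ Fintype.card F := by
    have hq1 : 1 < Fintype.card F := Fintype.one_lt_card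
    by_contra hlt
    have hq3 : Fintype.card F = 3 := by
      obtain ⟨j, hj⟩ := hq
      omega
    obtain ⟨K, hK1, hK2⟩ := Cfsg.Agent.Lib.Helper13.TNM.tensor_O3_not_maximal hq3 Q hQ.smul 4 (by norm_num) e P
      f₁ f₂ hf₁ hf₂ hT
    rw [← hHX] at hK1
    rcases hH.2 K hK1.le hK2.le with h | h
    · exact absurd h hK1.ne'
    · exact absurd h hK2.ne
  exact ⟨hq, hq5, e, P, f₁, f₂, hf₁, hf₂, hp, hT, hHX⟩

/-- **S5874** (`Ω₁₂⁻`) from the hub -/
theorem cases12m (Q : (Fin 12 → F) → F) (hQ : IsNondegenerateQuadraticForm Q) (hminus : ¬ IsPlusTypeOn Q ⊤)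
    (hub : HubOE Q) (H : Subgroup (GL (Fin 12) F)) (hH : IsMaximalIn (omegaGL Q) H) : Row12M Q H := by
  have h5 : 5 ≤ 12 := by norm_num
  have hΩI := omegaGL_le_iso Q
  have hc12 : Fintype.card (Fin 12) = 12 := Fintype.card_fin 12
  unfold Row12M
  rcases hub H (hH.1.le.trans hΩI) with ⟨M, hM, hHM⟩ | hres
  swap
  · exact Or.inr (Or.inr (Or.inr (Or.inr (Or.inr (Or.inr (Or.inr (Or.inr (Or.inr (Or.inr (Or.inr (Or.inr hres)))))))))))
  rcases hM with ⟨W, hW0, hW, rfl⟩ | ⟨W, hW0, hW1, hW, rfl⟩ | ⟨hq, v, hv, rfl⟩ | ⟨t, k, D, hD, -, rfl⟩ |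
    ⟨k, D, hD, hts, rfl⟩ | ⟨r, K, hr, hK, hsa, rfl⟩ | ⟨K, hK, hac, hnsa, hsim, rfl⟩ |
    ⟨n₁, n₂, e, P, f₁, f₂, hq, h1, h2, hf₁, hf₂, hT, rfl⟩ |
    ⟨n₁, n₂, e, P, f₁, f₂, h1, h2, hf₁, hf₂, hT, hpure, rfl⟩ | ⟨F₀, r, P, ζ, hr, hc, hζ, hrat, rfl⟩ |
    ⟨R, hq, hR, hirr, hRI, rfl⟩ | ⟨k, t, e, P, f₁, hq, hk, ht, hf₁, hT, rfl⟩ |
    ⟨k, t, e, P, f₁, hk, ht, hf₁, hT, hpure, rfl⟩
  · -- (1a) totally singular
    have hW1 : W ≠ ⊤ := ts_ne_top hQ (by norm_num) W hW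
    exact Or.inl ⟨W, hW0, hW, eq_of_le_member _ H _ hH (hHM.trans inf_le_left)
      (not_omega_le_stab hQ h5 W hW0 hW1)⟩
  · -- (1b) non-degenerate
    obtain ⟨W', hpos, hhalf, hW', hHW'⟩ := exit_nd hQ h5 H hH W hW0 hW1 hW (hHM.trans inf_le_left)
    have hW'0 := ne_bot_of_finrank_pos W' hpos
    have hW'1 := ne_top_of_finrank_lt W' (by omega)
    rcases Nat.even_or_odd (finrank F W') with hev | hodd
    · obtain ⟨j, hj⟩ := hev
      have hj123 : j = 1 ∨ j = 2 ∨ j = 3 := by omega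
      rcases hj123 with rfl | rfl | rfl
      · rcases exit_plane hQ h5 H hH W' (by omega) hW' hHW' with h | h | ⟨hq, W'', hdim, hnd, hHW''⟩ | h
        · exact Or.inr (Or.inr (Or.inl h))
        · exact Or.inr (Or.inr (Or.inr (Or.inl h)))
        · exact Or.inr (Or.inl ⟨hq, W'', ne_bot_of_finrank_pos W'' (by omega),
            ne_top_of_finrank_lt W'' (by omega), ⟨5, by omega⟩, by omega, hnd, hHW''⟩)
        · exact Or.inr (Or.inr (Or.inr (Or.inr (Or.inr (Or.inr (Or.inl h))))))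
      · exact Or.inr (Or.inr (Or.inr (Or.inr (Or.inl ⟨W', by omega, hW', hHW'⟩))))
      · exact Or.inr (Or.inr (Or.inr (Or.inr (Or.inr (Or.inl ⟨W', by omega, hW', hHW'⟩)))))
    · have h12 : 2 * finrank F W' ≠ 12 := by
        obtain ⟨j, hj⟩ := hodd
        omega
      exact Or.inr (Or.inl ⟨odd_card_of_odd_finrank hQ W' hW' hodd, W', hW'0, hW'1, hodd, h12, hW', hHW'⟩)
  · -- (1c) non-singular vector
    have hv0 : v ≠ 0 := by
      rintro rfl
      apply hv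
      have := hQ.smul 0 (0 : Fin 12 → F)
      rw [zero_smul] at this
      rw [this]
      ring
    have hs0 : Submodule.span F {v} ≠ ⊥ := by
      rw [Ne, Submodule.span_singleton_eq_bot]
      exact hv0
    have hs1 : Submodule.span F {v} ≠ ⊤ := by
      apply ne_top_of_finrank_lt
      rw [finrank_span_singleton hv0]
      norm_num
    exact Or.inr (Or.inr (Or.inr (Or.inr (Or.inr (Or.inr (Or.inl ⟨hq, v, hv,
      eq_of_le_member _ H _ hH (hHM.trans inf_le_left) (not_omega_le_stab hQ h5 _ hs0 hs1)⟩))))))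
  · -- (2a) isometric decomposition
    have hdim := Cfsg.Agent.Lib.Helper9.HubCor.mul_eq_card_of_isMDecomposition D hD.decomp.decomp
    rw [hc12] at hdim
    have ht2 := hD.decomp.decomp.two_le
    have ht12 : t ∣ 12 := Dvd.intro _ hdim
    have ht' : t ≤ 12 := Nat.le_of_dvd (by norm_num) ht12
    have hcases : (t = 2 ∧ k = 6) ∨ (t = 3 ∧ k = 4) ∨ (t = 4 ∧ k = 3) ∨ (t = 6 ∧ k = 2) ∨ (t = 12 ∧ k = 1) := by
      interval_cases t <;> omega
    rcases hcases with ⟨rfl, rfl⟩ | ⟨rfl, rfl⟩ | ⟨rfl, rfl⟩ | ⟨rfl, rfl⟩ | ⟨rfl, rfl⟩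
    · exact absurd (isPlusTypeOn_top_of_decomposition_even hQ D hD ⟨1, rfl⟩ (Or.inl ⟨3, rfl⟩)) hminus
    · have hall : ∀ i, ¬ IsPlusTypeOn Q (D i) := fun i hi =>
        hminus ((isPlusTypeOn_top_iff_block hQ D hD ⟨1, rfl⟩ ⟨2, rfl⟩ i).mpr hi)
      exact Or.inr (Or.inr (Or.inr (Or.inr (Or.inr (Or.inr (Or.inr (Or.inl ⟨D, hD, hall,
        eq_of_le_member _ H _ hH (hHM.trans inf_le_left)
          (not_omega_le_decomp_of_two_le hQ h5 (by norm_num) D hD.decomp)⟩)))))))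
    · exact absurd (isPlusTypeOn_top_of_decomposition_even hQ D hD ⟨2, rfl⟩ (Or.inr (Or.inl ⟨1, rfl⟩))) hminus
    · exact absurd (isPlusTypeOn_top_of_decomposition_even hQ D hD ⟨3, rfl⟩ (Or.inl ⟨1, rfl⟩)) hminus
    · exact absurd (isPlusTypeOn_top_of_decomposition_even hQ D hD ⟨6, rfl⟩ (Or.inr (Or.inl ⟨3, rfl⟩))) hminus
  · -- (2b) totally singular halves : plus type
    exfalso
    have hdim := Cfsg.Agent.Lib.Helper9.HubCor.mul_eq_card_of_isMDecomposition D hD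
    rw [hc12] at hdim
    apply hminus
    refine ⟨D 0, le_top, hts 0, ?_⟩
    rw [hD.finrank_eq 0, finrank_top, Module.finrank_fintype_fun_eq_card, hc12]
    omega
  · -- (3a) self-adjoint field
    have hdvd := Cfsg.Agent.Lib.Helper29.S5814.field_degree_dvd r K hK
    rw [hc12] at hdvd
    have hr23 : r = 2 ∨ r = 3 := by
      have h12 : (12 : ℕ) = 2 ^ 2 * 3 := by norm_num
      rw [h12] at hdvd
      rcases (Nat.Prime.dvd_mul hr).mp hdvd with h | h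
      · exact Or.inl ((Nat.prime_dvd_prime_iff_eq hr Nat.prime_two).mp (hr.dvd_of_dvd_pow h))
      · exact Or.inr ((Nat.prime_dvd_prime_iff_eq hr Nat.prime_three).mp h)
    rcases hr23 with rfl | rfl
    · exact Or.inr (Or.inr (Or.inr (Or.inr (Or.inr (Or.inr (Or.inr (Or.inr (Or.inl ⟨K, hK,
        eq_of_le_member _ H _ hH (hHM.trans inf_le_left) (not_omega_le_field hQ h5 2 hr K hK)⟩))))))))
    · exact Or.inr (Or.inr (Or.inr (Or.inr (Or.inr (Or.inr (Or.inr (Or.inr (Or.inr (Or.inl ⟨K, hK,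
        eq_of_le_member _ H _ hH (hHM.trans inf_le_left) (not_omega_le_field hQ h5 3 hr K hK)⟩)))))))))
  · -- (3b) unitary field
    exact Or.inr (Or.inr (Or.inr (Or.inr (Or.inr (Or.inr (Or.inr (Or.inr (Or.inl ⟨K, hK,
      eq_of_le_member _ H _ hH (hHM.trans inf_le_left)
        (not_omega_le_field hQ h5 2 Nat.prime_two K hK)⟩))))))))
  · -- (4o) symmetric tensor product
    have hcard := Fintype.card_congr e
    rw [hc12, Fintype.card_prod, Fintype.card_fin, Fintype.card_fin] at hcard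
    have h112 : n₁ ∣ 12 := Dvd.intro _ hcard.symm
    have h1' : n₁ ≤ 12 := Nat.le_of_dvd (by norm_num) h112
    have hcases : (n₁ = 2 ∧ n₂ = 6) ∨ (n₁ = 3 ∧ n₂ = 4) ∨ (n₁ = 4 ∧ n₂ = 3) ∨ (n₁ = 6 ∧ n₂ = 2) := by
      interval_cases n₁ <;> omega
    rcases hcases with ⟨rfl, rfl⟩ | ⟨rfl, rfl⟩ | ⟨rfl, rfl⟩ | ⟨rfl, rfl⟩
    · exact absurd (Cfsg.Agent.Lib.Helper6.OETypeTC4.isPlusTypeOn_top_of_tensorSymm_even hQ hq e P f₁ f₂ hf₁ hf₂ hT
        ⟨1, rfl⟩ ⟨3, rfl⟩) hminus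
    · exact Or.inr (Or.inr (Or.inr (Or.inr (Or.inr (Or.inr (Or.inr (Or.inr (Or.inr (Or.inr (Or.inl
        (exit_tensor34 Q hQ hminus H hH hq e P f₁ f₂ hf₁ hf₂ hT (hHM.trans inf_le_left))))))))))))
    · have hsw := Cfsg.Agent.Lib.Helper15.TensSwap.tensorProductSubgroup_swap 4 3 e P
      have hTsw := Cfsg.Agent.Lib.Helper15.TensSwap.isTensorFormStructure_swap id (polar Q) f₁ f₂ e P hT
      exact Or.inr (Or.inr (Or.inr (Or.inr (Or.inr (Or.inr (Or.inr (Or.inr (Or.inr (Or.inr (Or.inl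
        (exit_tensor34 Q hQ hminus H hH hq _ P f₂ f₁ hf₂ hf₁ hTsw
          (hsw ▸ (hHM.trans inf_le_left)))))))))))))
    · exact absurd (Cfsg.Agent.Lib.Helper6.OETypeTC4.isPlusTypeOn_top_of_tensorSymm_even hQ hq e P f₁ f₂ hf₁ hf₂ hT
        ⟨3, rfl⟩ ⟨1, rfl⟩) hminus
  · -- (4s) symplectic tensor product : plus type
    exact absurd (Cfsg.Agent.Lib.Helper6.OETypeTC4.isPlusTypeOn_top_of_tensorSymp hQ e P f₁ f₂ hf₁ hf₂ hT hpure) hminus
  · -- (5) subfield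
    rcases hr.eq_two_or_odd' with rfl | hodd
    · exact absurd (Cfsg.Agent.Lib.Helper23.OETypeTC6.isPlusTypeOn_top_of_subfield_two hQ
        (by rw [hc12]; exact ⟨6, rfl⟩) F₀ hc P ζ hζ hrat) hminus
    · exact Or.inr (Or.inr (Or.inr (Or.inr (Or.inr (Or.inr (Or.inr (Or.inr (Or.inr (Or.inr (Or.inr (Or.inl
        ⟨F₀, r, P, ζ, hr, hodd, hc, hζ, hrat, eq_of_le_member _ H _ hH (hHM.trans inf_le_left)
          (not_omega_le_subfield hQ h5 F₀
            (Cfsg.Agent.Lib.Helper29.AschCor.proper_of_card F₀ r hr hc) P)⟩)))))))))))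
  · -- (6) symplectic type : plus type
    exfalso
    obtain ⟨k, D, hk, -, hD⟩ := Cfsg.Agent.Lib.Helper3.OEC6.c6_decomposition hQ (by norm_num) R hR hirr hRI
    exact hminus (isPlusTypeOn_top_of_decomposition_even hQ D hD ⟨1, rfl⟩ (Or.inl hk))
  · -- (7o) symmetric tensor power : impossible in dimension 12
    exfalso
    have hcard := Fintype.card_congr e
    rw [hc12, Fintype.card_fun, Fintype.card_fin, Fintype.card_fin] at hcard
    exact pow_ne_twelve hk ht hcard.symm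
  · -- (7s) symplectic tensor power : impossible in dimension 12
    exfalso
    have hcard := Fintype.card_congr e
    rw [hc12, Fintype.card_fun, Fintype.card_fin, Fintype.card_fin] at hcard
    exact pow_ne_twelve hk ht hcard.symm

end Cfsg.Agent.Lib.Helper7.OECor12m
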