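import Mathlib
import Cfsg.Agent.Lib.Helper28.OTDefs
import Cfsg.Agent.Lib.Helper28.OTExitDefs
import Cfsg.Agent.Lib.Helper22.OTRootB
import Cfsg.Agent.Lib.Helper16.OTRootC
import Cfsg.Agent.Lib.Helper7.OTSuppBridge

/-!
# S5681 / S5709 EXIT (architect helper28), piece T2a  (helper7)

`π = ⟨k₁,k₂⟩` a totally singular line of `W`, `L = U ⊗ π`, `L^⊥ = U ⊗ π^⊥`.  An element `q` of `Q_L`-shape all of whose commutators with
the `1 ⊗ ρ_{k,d}` (`k ∈ π`, `d ∈ π^⊥`) are of the form `1 + c • nL` is `(element of Z_L-shape) * (1 ⊗ ρ_{k₁,d₁} ρ_{k₂,d₂})`.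

Main result : `t2a`  (exact signature of `notes/S5681Exit_helper28.lean.txt`).
-/

set_option autoImplicit false
set_option linter.unusedSectionVars false
set_option linter.unusedVariables false

namespace Cfsg.Agent.Lib.Helper7.OTT2a

open Matrix Module
open Cfsg.Agent.Lib.Helper16.Tens Cfsg.Agent.Lib.Helper10.TensFund
open Cfsg.Agent.Lib.Helper3.SpT (bf E adj uni Over)
open Cfsg.Agent.Lib.Helper13.TensSO (OrthG IsoG)
open Cfsg.Agent.Lib.Helper28.OT Cfsg.Agent.Lib.Helper28.OTX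
open Cfsg.Agent.Lib.Helper16.OTRootC (oneK oneK_val)
open Cfsg.Agent.Lib.Helper7.OTSupp (slice slice_pur)
open Cfsg.Agent.Lib.Helper7.OTSuppBridge (mem_tW_iff)
open scoped Kronecker

variable {F : Type*} [Field F] {a b : ℕ}
variable {J2 : Matrix (Fin b) (Fin b) F}
variable {k1 k2 : Fin b → F}

/-- contraction against `d` through the form `f₂` : `u ⊗ w ↦ f₂(w,d) u` -/
def Cd (J2 : Matrix (Fin b) (Fin b) F) (d : Fin b → F) : (Fin a × Fin b → F) →ₗ[F] (Fin a → F) :=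
  ctr (J2 *ᵥ d)

theorem Cd_pur (d : Fin b → F) (u : Fin a → F) (w : Fin b → F) :
    Cd (a := a) J2 d (pur u w) = bf J2 w d • u := ctr_pur _ _ _

theorem Cd_apply (d : Fin b → F) (v : Fin a × Fin b → F) (i : Fin a) :
    Cd J2 d v i = bf J2 (slice i v) d := rfl

theorem Cd_add (d d' : Fin b → F) (v : Fin a × Fin b → F) : Cd J2 (d + d') v = Cd J2 d v + Cd J2 d' v := by
  unfold Cd
  rw [Matrix.mulVec_add, ctr_add]

theorem Cd_smul (c : F) (d : Fin b → F) (v : Fin a × Fin b → F) : Cd J2 (c • d) v = c • Cd J2 d v := by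
  unfold Cd
  rw [Matrix.mulVec_smul, ctr_smul]

theorem Cd_neg (d : Fin b → F) (v : Fin a × Fin b → F) : Cd J2 (-d) v = - Cd J2 d v := by
  unfold Cd
  rw [Matrix.mulVec_neg]
  funext i
  simp [ctr_apply]

theorem ext_pur {M' : Type*} [AddCommGroup M'] [Module F M'] {f g : (Fin a × Fin b → F) →ₗ[F] M'}
    (h : ∀ u w, f (pur u w) = g (pur u w)) : f = g := by
  refine LinearMap.ext fun v => ?_
  refine Cfsg.Agent.Lib.Helper3.SpT.pur_induction (p := fun v => f v = g v) ?_ ?_ h v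
  · rw [map_zero, map_zero]
  · intro x y hx hy
    rw [map_add, map_add, hx, hy]

theorem mem_LpPerp_iff_Cd (v : Fin a × Fin b → F) :
    v ∈ LpPerp (a := a) J2 k1 k2 ↔ Cd J2 k1 v = 0 ∧ Cd J2 k2 v = 0 := by
  unfold LpPerp
  rw [mem_tW_iff]
  constructor
  · intro h
    refine ⟨funext fun i => ?_, funext fun i => ?_⟩
    · rw [Cd_apply]; exact (h i).1
    · rw [Cd_apply]; exact (h i).2
  · rintro ⟨h1, h2⟩ i
    refine ⟨?_, ?_⟩
    · rw [← Cd_apply, h1]; rfl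
    · rw [← Cd_apply, h2]; rfl

theorem Cd_eq_zero_of_mem {k : Fin b → F} (hk : k ∈ Submodule.span F {k1, k2}) {v : Fin a × Fin b → F}
    (hv : v ∈ LpPerp (a := a) J2 k1 k2) : Cd J2 k v = 0 := by
  obtain ⟨h1, h2⟩ := (mem_LpPerp_iff_Cd v).1 hv
  obtain ⟨c1, c2, rfl⟩ := Submodule.mem_span_pair.1 hk
  rw [Cd_add, Cd_smul, Cd_smul, h1, h2, smul_zero, smul_zero, add_zero]

theorem pur_mem_Lp {k : Fin b → F} (hk : k ∈ Submodule.span F {k1, k2}) (u : Fin a → F) :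
    pur u k ∈ Lp (a := a) k1 k2 := pur_mem_tW u hk

theorem pur_mem_LpPerp {d : Fin b → F} (hd : d ∈ piPerp J2 k1 k2) (u : Fin a → F) :
    pur u d ∈ LpPerp (a := a) J2 k1 k2 := pur_mem_tW u hd

theorem span_le_piPerp (hJ2 : OrthG J2) (h : Ts2 J2 k1 k2) : Submodule.span F {k1, k2} ≤ piPerp J2 k1 k2 := by
  rw [Submodule.span_le]
  rintro x hx
  rcases hx with rfl | hx
  · exact ⟨h.h11, h.h12⟩
  · rw [Set.mem_singleton_iff] at hx
    subst hx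
    exact ⟨by rw [hJ2.symm]; exact h.h12, h.h22⟩

theorem Lp_le_LpPerp (hJ2 : OrthG J2) (h : Ts2 J2 k1 k2) : Lp (a := a) k1 k2 ≤ LpPerp (a := a) J2 k1 k2 :=
  tW_mono (span_le_piPerp hJ2 h)

/-- `Cd d` kills `L = U ⊗ π` for `d ∈ π^⊥` -/
theorem Cd_eq_zero_of_mem_Lp (hJ2 : OrthG J2) {d : Fin b → F} (hd : d ∈ piPerp J2 k1 k2) {v : Fin a × Fin b → F}
    (hv : v ∈ Lp (a := a) k1 k2) : Cd J2 d v = 0 := by
  funext i
  rw [Cd_apply]
  have hi : slice i v ∈ Submodule.span F {k1, k2} := (mem_tW_iff _ _).1 hv i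
  obtain ⟨c1, c2, hc⟩ := Submodule.mem_span_pair.1 hi
  rw [← hc, Cfsg.Agent.Lib.Helper3.SpT.bf_add_left, Cfsg.Agent.Lib.Helper3.SpT.bf_smul_left,
    Cfsg.Agent.Lib.Helper3.SpT.bf_smul_left, hJ2.symm k1 d, hJ2.symm k2 d, hd.1, hd.2]
  simp

/-- the nilpotent part of `1 ⊗ ρ_{k,d}` -/
def Nn (J2 : Matrix (Fin b) (Fin b) F) (k d : Fin b → F) : (Fin a × Fin b → F) →ₗ[F] (Fin a × Fin b → F) :=
  purL k ∘ₗ Cd J2 d - purL d ∘ₗ Cd J2 k - (bf J2 d d / 2) • (purL k ∘ₗ Cd J2 k)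

theorem Nn_apply (k d : Fin b → F) (v : Fin a × Fin b → F) :
    Nn J2 k d v = pur (Cd J2 d v) k - pur (Cd J2 k v) d - (bf J2 d d / 2) • pur (Cd J2 k v) k := rfl

theorem act_oneK_pur (R : GL (Fin b) F) (u : Fin a → F) (w : Fin b → F) :
    act (oneK (a := a) R) (pur u w) = pur u ((R : Matrix (Fin b) (Fin b) F) *ᵥ w) := by
  rw [act_apply, oneK_val, kron_mulVec_pur, Matrix.one_mulVec]

theorem act_oneK_rhoW (hJ2 : OrthG J2) (h2 : (2 : F) ≠ 0) (k d : Fin b → F) (hk : bf J2 k k = 0) (hkd : bf J2 k d = 0)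
    (v : Fin a × Fin b → F) :
    act (oneK (a := a) (rhoW hJ2 h2 k d hk hkd)) v = v + Nn J2 k d v := by
  have key : ((act (oneK (a := a) (rhoW hJ2 h2 k d hk hkd))).toLinearMap : (Fin a × Fin b → F) →ₗ[F] (Fin a × Fin b → F)) =
      LinearMap.id + Nn J2 k d := by
    refine ext_pur fun u w => ?_
    rw [LinearEquiv.coe_coe, act_oneK_pur, rhoW_val, Matrix.add_mulVec, Matrix.one_mulVec, SgN_mulVec, LinearMap.add_apply,
      LinearMap.id_apply, Nn_apply, Cd_pur, Cd_pur]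
    rw [← purR_apply u, ← purR_apply u w, ← purL_apply k, ← purL_apply d, ← purL_apply k]
    simp only [map_add, map_sub, map_smul]
    simp only [purR_apply, purL_apply, smul_smul]
  exact LinearMap.congr_fun key v

/-- `nL = 1 ⊗ T2` on `V` -/
theorem nL_mulVec (v : Fin a × Fin b → F) :
    nL (a := a) J2 k1 k2 *ᵥ v = pur (Cd J2 k2 v) k1 - pur (Cd J2 k1 v) k2 := by
  have key : Matrix.mulVecLin (nL (a := a) J2 k1 k2) = purL k1 ∘ₗ Cd J2 k2 - purL k2 ∘ₗ Cd J2 k1 := by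
    refine ext_pur fun u w => ?_
    rw [Matrix.mulVecLin_apply, nL, kron_mulVec_pur, Matrix.one_mulVec, T2_mulVec, LinearMap.sub_apply,
      LinearMap.comp_apply, LinearMap.comp_apply, Cd_pur, Cd_pur, purL_apply, purL_apply]
    rw [← purR_apply u]
    simp only [map_sub, map_smul, purR_apply, pur_smul_left]
  exact LinearMap.congr_fun key v


/-- `x = q - 1` -/
def Xq (q : GL (Fin a × Fin b) F) : (Fin a × Fin b → F) →ₗ[F] (Fin a × Fin b → F) :=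
  (act q).toLinearMap - LinearMap.id

theorem Xq_apply (q : GL (Fin a × Fin b) F) (v : Fin a × Fin b → F) : Xq q v = act q v - v := rfl

theorem act_eq_add_Xq (q : GL (Fin a × Fin b) F) (v : Fin a × Fin b → F) : act q v = v + Xq q v := by
  rw [Xq_apply]; abel

theorem Nn_mem_LpPerp (hJ2 : OrthG J2) (h : Ts2 J2 k1 k2) {k d : Fin b → F} (hk : k ∈ Submodule.span F {k1, k2})
    (hd : d ∈ piPerp J2 k1 k2) (v : Fin a × Fin b → F) : Nn J2 k d v ∈ LpPerp (a := a) J2 k1 k2 := by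
  rw [Nn_apply]
  have hkp : k ∈ piPerp J2 k1 k2 := span_le_piPerp hJ2 h hk
  exact Submodule.sub_mem _ (Submodule.sub_mem _ (pur_mem_LpPerp hkp _) (pur_mem_LpPerp hd _))
    (Submodule.smul_mem _ _ (pur_mem_LpPerp hkp _))

theorem Nn_of_mem_LpPerp {k d : Fin b → F} (hk : k ∈ Submodule.span F {k1, k2}) {v : Fin a × Fin b → F}
    (hv : v ∈ LpPerp (a := a) J2 k1 k2) : Nn J2 k d v = pur (Cd J2 d v) k := by
  rw [Nn_apply, Cd_eq_zero_of_mem hk hv]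
  simp

theorem nL_mulVec_of_mem_LpPerp {v : Fin a × Fin b → F} (hv : v ∈ LpPerp (a := a) J2 k1 k2) :
    nL (a := a) J2 k1 k2 *ᵥ v = 0 := by
  obtain ⟨h1, h2⟩ := (mem_LpPerp_iff_Cd v).1 hv
  rw [nL_mulVec, h1, h2]
  simp

/-- the commutator relation, evaluated -/
theorem star (hJ2 : OrthG J2) (h2 : (2 : F) ≠ 0) (h : Ts2 J2 k1 k2) {q : GL (Fin a × Fin b) F} (hq : InQ J2 k1 k2 q)
    {k d : Fin b → F} (hk : k ∈ Submodule.span F {k1, k2}) (hd : d ∈ piPerp J2 k1 k2) (hk' : bf J2 k k = 0)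
    (hkd : bf J2 k d = 0) (c : F)
    (hc : ((q * oneK (a := a) (rhoW hJ2 h2 k d hk' hkd) * q⁻¹ * (oneK (a := a) (rhoW hJ2 h2 k d hk' hkd))⁻¹ :
          GL (Fin a × Fin b) F) : Matrix (Fin a × Fin b) (Fin a × Fin b) F) = 1 + c • nL (a := a) J2 k1 k2)
    (v : Fin a × Fin b → F) :
    - Xq q (pur (Cd J2 k v) d) = pur (Cd J2 d (Xq q v)) k + c • (pur (Cd J2 k2 v) k1 - pur (Cd J2 k1 v) k2) := by
  set r : GL (Fin a × Fin b) F := oneK (a := a) (rhoW hJ2 h2 k d hk' hkd) with hr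
  have hg : (q * r * q⁻¹ * r⁻¹) * (r * q) = q * r := by group
  have hact : ∀ w, act (q * r * q⁻¹ * r⁻¹) w = w + c • (nL (a := a) J2 k1 k2 *ᵥ w) := by
    intro w
    rw [act_apply, hc, Matrix.add_mulVec, Matrix.one_mulVec, Matrix.smul_mulVec]
  have hrv : ∀ w, act r w = w + Nn J2 k d w := fun w => act_oneK_rhoW hJ2 h2 k d hk' hkd w
  have hx : Xq q v ∈ LpPerp (a := a) J2 k1 k2 := hq.top v
  have e1 : act q (act r v) = act (q * r * q⁻¹ * r⁻¹) (act r (act q v)) := by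
    rw [← act_mul, ← act_mul r q, ← act_mul, hg]
  rw [hact, hrv, hrv, act_eq_add_Xq q v, act_eq_add_Xq q (v + Nn J2 k d v)] at e1
  -- simplify the `nL` term
  have e2 : nL (a := a) J2 k1 k2 *ᵥ (v + Xq q v + Nn J2 k d (v + Xq q v)) = nL (a := a) J2 k1 k2 *ᵥ v := by
    rw [Matrix.mulVec_add, Matrix.mulVec_add, nL_mulVec_of_mem_LpPerp hx,
      nL_mulVec_of_mem_LpPerp (Nn_mem_LpPerp hJ2 h hk hd _), add_zero, add_zero]
  rw [e2, nL_mulVec] at e1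
  -- `x (n v)`
  have e3 : Xq q (Nn J2 k d v) = - Xq q (pur (Cd J2 k v) d) := by
    rw [Nn_apply, map_sub, map_sub, map_smul]
    have z1 : ∀ u, Xq q (pur u k) = 0 := by
      intro u
      rw [Xq_apply, hq.fix _ (pur_mem_Lp hk u), sub_self]
    rw [z1, z1]
    simp
  -- `n (x v)`
  have e4 : Nn J2 k d (Xq q v) = pur (Cd J2 d (Xq q v)) k := Nn_of_mem_LpPerp hk hx
  rw [map_add, map_add, e3, e4] at e1
  -- e1 : v + n v + (x v + - x(pur..)) = v + x v + (n v + pur ..) + c • (..)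
  have e5 : - Xq q (pur (Cd J2 k v) d) =
      (v + Nn J2 k d v + (Xq q v + - Xq q (pur (Cd J2 k v) d))) - (v + Nn J2 k d v + Xq q v) := by abel
  rw [e5, e1]
  abel


/-- `(π^⊥)^⊥ = π` -/
theorem mem_span_of_perp_piPerp (hJ2 : OrthG J2) {l1 l2 : Fin b → F} (hl11 : bf J2 l1 k1 = 1) (hl12 : bf J2 l1 k2 = 0)
    (hl21 : bf J2 l2 k1 = 0) (hl22 : bf J2 l2 k2 = 1) {w : Fin b → F}
    (hw : ∀ d ∈ piPerp J2 k1 k2, bf J2 w d = 0) : w ∈ Submodule.span F {k1, k2} := by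
  have hw0 : w - (bf J2 w l1 • k1 + bf J2 w l2 • k2) = 0 := by
    apply hJ2.nondeg
    intro z
    have hz0 : z - bf J2 z k1 • l1 - bf J2 z k2 • l2 ∈ piPerp J2 k1 k2 := by
      refine ⟨?_, ?_⟩
      · rw [Cfsg.Agent.Lib.Helper3.SpT.bf_sub_left, Cfsg.Agent.Lib.Helper3.SpT.bf_sub_left,
          Cfsg.Agent.Lib.Helper3.SpT.bf_smul_left, Cfsg.Agent.Lib.Helper3.SpT.bf_smul_left, hl11, hl21]
        ring
      · rw [Cfsg.Agent.Lib.Helper3.SpT.bf_sub_left, Cfsg.Agent.Lib.Helper3.SpT.bf_sub_left,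
          Cfsg.Agent.Lib.Helper3.SpT.bf_smul_left, Cfsg.Agent.Lib.Helper3.SpT.bf_smul_left, hl12, hl22]
        ring
    have h1 := hw _ hz0
    rw [Cfsg.Agent.Lib.Helper3.SpT.bf_sub_right, Cfsg.Agent.Lib.Helper3.SpT.bf_sub_right,
      Cfsg.Agent.Lib.Helper3.SpT.bf_smul_right, Cfsg.Agent.Lib.Helper3.SpT.bf_smul_right] at h1
    rw [Cfsg.Agent.Lib.Helper3.SpT.bf_sub_left, Cfsg.Agent.Lib.Helper3.SpT.bf_add_left,
      Cfsg.Agent.Lib.Helper3.SpT.bf_smul_left, Cfsg.Agent.Lib.Helper3.SpT.bf_smul_left, hJ2.symm k1 z, hJ2.symm k2 z]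
    linear_combination h1
  rw [sub_eq_zero] at hw0
  rw [hw0]
  exact Submodule.add_mem _ (Submodule.smul_mem _ _ (Submodule.subset_span (by simp)))
    (Submodule.smul_mem _ _ (Submodule.subset_span (by simp)))

section main

variable (hJ2 : OrthG J2) (h2 : (2 : F) ≠ 0) (h : Ts2 J2 k1 k2) {q : GL (Fin a × Fin b) F} (hq : InQ J2 k1 k2 q)
  (hc : ∀ (k d : Fin b → F) (hk : k ∈ Submodule.span F {k1, k2}) (hd : d ∈ piPerp J2 k1 k2) (hk' : bf J2 k k = 0)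
      (hkd : bf J2 k d = 0), ∃ c : F,
        ((q * oneK (a := a) (rhoW hJ2 h2 k d hk' hkd) * q⁻¹ * (oneK (a := a) (rhoW hJ2 h2 k d hk' hkd))⁻¹ :
          GL (Fin a × Fin b) F) : Matrix (Fin a × Fin b) (Fin a × Fin b) F) = 1 + c • nL (a := a) J2 k1 k2)
  {l1 l2 : Fin b → F} (hl11 : bf J2 l1 k1 = 1) (hl12 : bf J2 l1 k2 = 0)
  (hl21 : bf J2 l2 k1 = 0) (hl22 : bf J2 l2 k2 = 1)

include hJ2 h2 h hq hc hl11 hl12 hl21 hl22 in
/-- the three consequences of the commutator relations for a fixed `d ∈ π^⊥` -/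
theorem key_d {d : Fin b → F} (hd : d ∈ piPerp J2 k1 k2) :
    ∃ c1 c2 : F, (∀ u : Fin a → F, Cd J2 d (Xq q (pur u l2)) = (-c1) • u) ∧
      (∀ u : Fin a → F, Cd J2 d (Xq q (pur u l1)) = c2 • u) ∧
      (∀ u : Fin a → F, Xq q (pur u d) = (-c2) • pur u k1 + c1 • pur u k2) := by
  have hk1 : k1 ∈ Submodule.span F {k1, k2} := Submodule.subset_span (by simp)
  have hk2 : k2 ∈ Submodule.span F {k1, k2} := Submodule.subset_span (by simp)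
  have hk1d : bf J2 k1 d = 0 := by rw [hJ2.symm]; exact hd.1
  have hk2d : bf J2 k2 d = 0 := by rw [hJ2.symm]; exact hd.2
  have hk1ne : k1 ≠ 0 := by
    intro h0
    have := (h.indep 1 0 (by rw [h0]; simp)).1
    exact one_ne_zero this
  have hk2ne : k2 ≠ 0 := by
    intro h0
    have := (h.indep 0 1 (by rw [h0]; simp)).2
    exact one_ne_zero this
  obtain ⟨c1, hc1⟩ := hc k1 d hk1 hd h.h11 hk1d
  obtain ⟨c2, hc2⟩ := hc k2 d hk2 hd h.h22 hk2d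
  have s1 := star hJ2 h2 h hq hk1 hd h.h11 hk1d c1 hc1
  have s2 := star hJ2 h2 h hq hk2 hd h.h22 hk2d c2 hc2
  have hI : ∀ u : Fin a → F, Cd J2 d (Xq q (pur u l2)) = (-c1) • u := by
    intro u
    have e := s1 (pur u l2)
    rw [Cd_pur, Cd_pur, hl21, hl22, zero_smul, one_smul, pur_zero_left, map_zero, neg_zero, pur_zero_left, sub_zero,
      ← pur_smul_left, ← pur_add_left] at e
    have e' : purL (F := F) (a := a) k1 (Cd J2 d (Xq q (pur u l2)) + c1 • u) = purL k1 0 := by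
      rw [purL_apply, purL_apply, ← e, pur_zero_left]
    have e'' := purL_injective hk1ne e'
    rw [neg_smul]
    exact eq_neg_of_add_eq_zero_left e''
  have hII : ∀ u : Fin a → F, Cd J2 d (Xq q (pur u l1)) = c2 • u := by
    intro u
    have e := s2 (pur u l1)
    rw [Cd_pur, Cd_pur, hl11, hl12, zero_smul, one_smul, pur_zero_left, map_zero, neg_zero, pur_zero_left, zero_sub,
      smul_neg, ← pur_smul_left, ← sub_eq_add_neg] at e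
    have e' : purL (F := F) (a := a) k2 (Cd J2 d (Xq q (pur u l1))) = purL k2 (c2 • u) := by
      rw [purL_apply, purL_apply]
      exact (sub_eq_zero.1 e.symm)
    exact purL_injective hk2ne e'
  refine ⟨c1, c2, hI, hII, ?_⟩
  intro u
  have e := s1 (pur u l1)
  rw [Cd_pur, Cd_pur, hl11, hl12, zero_smul, one_smul, pur_zero_left, zero_sub, hII, pur_smul_left] at e
  rw [← neg_eq_iff_eq_neg.2 e.symm]
  rw [neg_smul, smul_neg]
  abel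


include hJ2 h2 h hq hc hl11 hl12 hl21 hl22 in
/-- the vectors `δ₁, δ₂ ∈ π^⊥` : the `U ⊗ π^⊥`-components of `x (u ⊗ k₁*)`, `x (u ⊗ k₂*)` are `u ⊗ δ₁`, `u ⊗ δ₂` -/
theorem exists_delta (ha : 0 < a) :
    ∃ s1 s2 : Fin b → F, s1 ∈ piPerp J2 k1 k2 ∧ s2 ∈ piPerp J2 k1 k2 ∧
      ∀ d ∈ piPerp J2 k1 k2, (∀ u : Fin a → F, Cd J2 d (Xq q (pur u l1)) = bf J2 s1 d • u) ∧
        (∀ u : Fin a → F, Cd J2 d (Xq q (pur u l2)) = bf J2 s2 d • u) ∧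
        (∀ u : Fin a → F, Xq q (pur u d) = (-bf J2 s1 d) • pur u k1 + (-bf J2 s2 d) • pur u k2) := by
  set i0 : Fin a := ⟨0, ha⟩
  set e0 : Fin a → F := Pi.single i0 1
  refine ⟨slice i0 (Xq q (pur e0 l1)), slice i0 (Xq q (pur e0 l2)),
    (mem_tW_iff _ _).1 (hq.top (pur e0 l1)) i0, (mem_tW_iff _ _).1 (hq.top (pur e0 l2)) i0, ?_⟩
  intro d hd
  obtain ⟨c1, c2, hI, hII, hIII⟩ := key_d hJ2 h2 h hq hc hl11 hl12 hl21 hl22 hd
  have hc2 : bf J2 (slice i0 (Xq q (pur e0 l1))) d = c2 := by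
    rw [← Cd_apply, hII e0]
    simp [e0]
  have hc1 : bf J2 (slice i0 (Xq q (pur e0 l2))) d = -c1 := by
    rw [← Cd_apply, hI e0]
    simp [e0]
  refine ⟨?_, ?_, ?_⟩
  · intro u; rw [hc2]; exact hII u
  · intro u; rw [hc1]; exact hI u
  · intro u; rw [hc2, hc1, neg_neg]; exact hIII u


end main

/-- `Z = k₁ ⊗ Cd d₁ + k₂ ⊗ Cd d₂` -/
def Zm (J2 : Matrix (Fin b) (Fin b) F) (k1 k2 d1 d2 : Fin b → F) : (Fin a × Fin b → F) →ₗ[F] (Fin a × Fin b → F) :=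
  purL k1 ∘ₗ Cd J2 d1 + purL k2 ∘ₗ Cd J2 d2

theorem Zm_apply (d1 d2 : Fin b → F) (v : Fin a × Fin b → F) :
    Zm J2 k1 k2 d1 d2 v = pur (Cd J2 d1 v) k1 + pur (Cd J2 d2 v) k2 := rfl

theorem Zm_mem_Lp (d1 d2 : Fin b → F) (v : Fin a × Fin b → F) : Zm J2 k1 k2 d1 d2 v ∈ Lp (a := a) k1 k2 := by
  rw [Zm_apply]
  exact Submodule.add_mem _ (pur_mem_Lp (Submodule.subset_span (by simp)) _) (pur_mem_Lp (Submodule.subset_span (by simp)) _)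

/-- `n_{k,d} w ≡ - Cd k w ⊗ d` modulo `L` -/
theorem Nn_mod_Lp {k : Fin b → F} (hk : k ∈ Submodule.span F {k1, k2}) (d : Fin b → F) (w : Fin a × Fin b → F) :
    Nn J2 k d w + pur (Cd J2 k w) d ∈ Lp (a := a) k1 k2 := by
  have e : Nn J2 k d w + pur (Cd J2 k w) d = pur (Cd J2 d w) k - (bf J2 d d / 2) • pur (Cd J2 k w) k := by
    rw [Nn_apply]; abel
  rw [e]
  exact Submodule.sub_mem _ (pur_mem_Lp hk _) (Submodule.smul_mem _ _ (pur_mem_Lp hk _))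

section fin

variable (hJ2 : OrthG J2) (h2 : (2 : F) ≠ 0) (h : Ts2 J2 k1 k2) {q : GL (Fin a × Fin b) F} (hq : InQ J2 k1 k2 q)
  {l1 l2 : Fin b → F} (hl11 : bf J2 l1 k1 = 1) (hl12 : bf J2 l1 k2 = 0)
  (hl21 : bf J2 l2 k1 = 0) (hl22 : bf J2 l2 k2 = 1)
  {d1 d2 : Fin b → F} (hd1 : d1 ∈ piPerp J2 k1 k2) (hd2 : d2 ∈ piPerp J2 k1 k2)
  (hP1 : ∀ d ∈ piPerp J2 k1 k2, ∀ u : Fin a → F, Cd J2 d (Xq q (pur u l1)) = (-bf J2 d1 d) • u)
  (hP2 : ∀ d ∈ piPerp J2 k1 k2, ∀ u : Fin a → F, Cd J2 d (Xq q (pur u l2)) = (-bf J2 d2 d) • u)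
  (hP3 : ∀ d ∈ piPerp J2 k1 k2, ∀ u : Fin a → F, Xq q (pur u d) = bf J2 d1 d • pur u k1 + bf J2 d2 d • pur u k2)

include hJ2 hP3 in
/-- (A) : `x = Z` on `L^⊥` -/
theorem Xq_eq_Zm {v : Fin a × Fin b → F} (hv : v ∈ LpPerp (a := a) J2 k1 k2) : Xq q v = Zm J2 k1 k2 d1 d2 v := by
  have hle : LpPerp (a := a) J2 k1 k2 ≤ LinearMap.eqLocus (Xq q) (Zm J2 k1 k2 d1 d2) := by
    unfold LpPerp tW
    rw [Submodule.span_le]
    rintro _ ⟨u, w, hw, rfl⟩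
    rw [SetLike.mem_coe, LinearMap.mem_eqLocus, hP3 w hw u, Zm_apply, Cd_pur, Cd_pur, pur_smul_left, pur_smul_left,
      hJ2.symm w d1, hJ2.symm w d2]
  exact hle hv

include hJ2 hq hl11 hl12 hl21 hl22 hd1 hP1 in
/-- (B1) -/
theorem Xq_l1_mod (u : Fin a → F) : Xq q (pur u l1) + pur u d1 ∈ Lp (a := a) k1 k2 := by
  unfold Lp
  rw [mem_tW_iff]
  intro i
  apply mem_span_of_perp_piPerp hJ2 hl11 hl12 hl21 hl22
  intro d hd
  rw [← Cd_apply, map_add, hP1 d hd u, Cd_pur]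
  simp

include hJ2 hq hl11 hl12 hl21 hl22 hd2 hP2 in
/-- (B2) -/
theorem Xq_l2_mod (u : Fin a → F) : Xq q (pur u l2) + pur u d2 ∈ Lp (a := a) k1 k2 := by
  unfold Lp
  rw [mem_tW_iff]
  intro i
  apply mem_span_of_perp_piPerp hJ2 hl11 hl12 hl21 hl22
  intro d hd
  rw [← Cd_apply, map_add, hP2 d hd u, Cd_pur]
  simp

include hJ2 hq hl11 hl12 hl21 hl22 hd1 hd2 hP1 hP2 in
/-- (B) : `x v ≡ - Cd k₁ v ⊗ d₁ - Cd k₂ v ⊗ d₂` modulo `L` -/
theorem Xq_mod_Lp (v : Fin a × Fin b → F) :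
    Xq q v + pur (Cd J2 k1 v) d1 + pur (Cd J2 k2 v) d2 ∈ Lp (a := a) k1 k2 := by
  set v0 : Fin a × Fin b → F := v - pur (Cd J2 k1 v) l1 - pur (Cd J2 k2 v) l2 with hv0
  have hv0m : v0 ∈ LpPerp (a := a) J2 k1 k2 := by
    rw [mem_LpPerp_iff_Cd]
    refine ⟨?_, ?_⟩
    · rw [hv0, map_sub, map_sub, Cd_pur, Cd_pur, hl11, hl21]
      simp
    · rw [hv0, map_sub, map_sub, Cd_pur, Cd_pur, hl12, hl22]
      simp
  have hv : v = v0 + pur (Cd J2 k1 v) l1 + pur (Cd J2 k2 v) l2 := by rw [hv0]; abel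
  have e : Xq q v + pur (Cd J2 k1 v) d1 + pur (Cd J2 k2 v) d2 =
      (Xq q v0 - 0) + (Xq q (pur (Cd J2 k1 v) l1) + pur (Cd J2 k1 v) d1) +
        (Xq q (pur (Cd J2 k2 v) l2) + pur (Cd J2 k2 v) d2) := by
    have hX : Xq q v = Xq q v0 + Xq q (pur (Cd J2 k1 v) l1) + Xq q (pur (Cd J2 k2 v) l2) := by
      rw [← map_add, ← map_add, ← hv]
    rw [hX]
    abel
  rw [e]
  refine Submodule.add_mem _ (Submodule.add_mem _ ?_ (Xq_l1_mod hJ2 hq hl11 hl12 hl21 hl22 hd1 hP1 _))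
    (Xq_l2_mod hJ2 hq hl11 hl12 hl21 hl22 hd2 hP2 _)
  rw [sub_zero, Xq_apply]
  exact hq.mid v0 hv0m


include hJ2 h in
/-- the element `1 ⊗ ρ_{k₁,d₁} ρ_{k₂,d₂}` -/
theorem act_r0 (hk1d1 : bf J2 k1 d1 = 0) (hk2d2 : bf J2 k2 d2 = 0) (v : Fin a × Fin b → F) :
    act (oneK (a := a) (rhoW hJ2 h2 k1 d1 h.h11 hk1d1 * rhoW hJ2 h2 k2 d2 h.h22 hk2d2)) v =
      v + Nn J2 k2 d2 v + Nn J2 k1 d1 (v + Nn J2 k2 d2 v) := by
  rw [map_mul, act_mul, act_oneK_rhoW, act_oneK_rhoW]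

include hJ2 h hd1 hd2 in
/-- on `L^⊥` the element `1 ⊗ ρ_{k₁,d₁} ρ_{k₂,d₂}` is `1 + Z` -/
theorem act_r0_of_mem (hk1d1 : bf J2 k1 d1 = 0) (hk2d2 : bf J2 k2 d2 = 0) {w : Fin a × Fin b → F}
    (hw : w ∈ LpPerp (a := a) J2 k1 k2) :
    act (oneK (a := a) (rhoW hJ2 h2 k1 d1 h.h11 hk1d1 * rhoW hJ2 h2 k2 d2 h.h22 hk2d2)) w =
      w + Zm J2 k1 k2 d1 d2 w := by
  have hk1 : k1 ∈ Submodule.span F {k1, k2} := Submodule.subset_span (by simp)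
  have hk2 : k2 ∈ Submodule.span F {k1, k2} := Submodule.subset_span (by simp)
  rw [act_r0 hJ2 h2 h hk1d1 hk2d2, Nn_of_mem_LpPerp hk2 hw]
  have hw2 : w + pur (Cd J2 d2 w) k2 ∈ LpPerp (a := a) J2 k1 k2 :=
    Submodule.add_mem _ hw (Lp_le_LpPerp hJ2 h (pur_mem_Lp hk2 _))
  rw [Nn_of_mem_LpPerp hk1 hw2, map_add, Cd_pur, hJ2.symm k2 d1, hd1.2, zero_smul, add_zero, Zm_apply]
  abel

include hJ2 h2 h hq hl11 hl12 hl21 hl22 hd1 hd2 hP1 hP2 hP3 in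
theorem inZ_of (hk1d1 : bf J2 k1 d1 = 0) (hk2d2 : bf J2 k2 d2 = 0) :
    InZ J2 k1 k2 (q * (oneK (a := a) (rhoW hJ2 h2 k1 d1 h.h11 hk1d1 * rhoW hJ2 h2 k2 d2 h.h22 hk2d2))⁻¹) := by
  have hk1 : k1 ∈ Submodule.span F {k1, k2} := Submodule.subset_span (by simp)
  have hk2 : k2 ∈ Submodule.span F {k1, k2} := Submodule.subset_span (by simp)
  set r0 : GL (Fin a × Fin b) F := oneK (a := a) (rhoW hJ2 h2 k1 d1 h.h11 hk1d1 * rhoW hJ2 h2 k2 d2 h.h22 hk2d2) with hr0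
  constructor
  · -- rng
    have main : ∀ w, act q w - act r0 w ∈ Lp (a := a) k1 k2 := by
      intro w
      have e0 : act r0 w = w + Nn J2 k2 d2 w + Nn J2 k1 d1 (w + Nn J2 k2 d2 w) := act_r0 hJ2 h2 h hk1d1 hk2d2 w
      have hC : Cd J2 k1 (w + Nn J2 k2 d2 w) = Cd J2 k1 w := by
        rw [map_add, ((mem_LpPerp_iff_Cd _).1 (Nn_mem_LpPerp hJ2 h hk2 hd2 w)).1, add_zero]
      have e : act q w - act r0 w =
          (Xq q w + pur (Cd J2 k1 w) d1 + pur (Cd J2 k2 w) d2) - (Nn J2 k2 d2 w + pur (Cd J2 k2 w) d2) -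
            (Nn J2 k1 d1 (w + Nn J2 k2 d2 w) + pur (Cd J2 k1 (w + Nn J2 k2 d2 w)) d1) := by
        rw [hC, e0, act_eq_add_Xq]
        abel
      rw [e]
      exact Submodule.sub_mem _ (Submodule.sub_mem _ (Xq_mod_Lp hJ2 hq hl11 hl12 hl21 hl22 hd1 hd2 hP1 hP2 w)
        (Nn_mod_Lp hk2 d2 w)) (Nn_mod_Lp hk1 d1 _)
    intro v
    have e := main (act r0⁻¹ v)
    rwa [act_act_inv, ← act_mul] at e
  · -- fix
    intro v hv
    set v' : Fin a × Fin b → F := v - Zm J2 k1 k2 d1 d2 v with hv'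
    have hZv : Zm J2 k1 k2 d1 d2 v ∈ Lp (a := a) k1 k2 := Zm_mem_Lp d1 d2 v
    have hv'm : v' ∈ LpPerp (a := a) J2 k1 k2 := Submodule.sub_mem _ hv (Lp_le_LpPerp hJ2 h hZv)
    have hZZ : Zm J2 k1 k2 d1 d2 (Zm J2 k1 k2 d1 d2 v) = 0 := by
      rw [Zm_apply (v := Zm J2 k1 k2 d1 d2 v), Cd_eq_zero_of_mem_Lp hJ2 hd1 hZv, Cd_eq_zero_of_mem_Lp hJ2 hd2 hZv]
      simp
    have hZv' : Zm J2 k1 k2 d1 d2 v' = Zm J2 k1 k2 d1 d2 v := by
      rw [hv', map_sub, hZZ, sub_zero]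
    have e1 : act r0 v' = v := by
      rw [hr0, act_r0_of_mem hJ2 h2 h hd1 hd2 hk1d1 hk2d2 hv'm, hZv', hv']
      abel
    have e2 : act r0⁻¹ v = v' := by
      rw [← e1, act_inv_act]
    have e3 : act q v' = v := by
      rw [act_eq_add_Xq, Xq_eq_Zm hJ2 hP3 hv'm, hZv', hv']
      abel
    rw [act_mul, e2, e3]

end fin

/-- the case `a = 0` -/
theorem inZ_of_subsingleton (ha : a = 0) (g : GL (Fin a × Fin b) F) : InZ J2 k1 k2 g := by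
  subst ha
  have hsub : ∀ v : Fin 0 × Fin b → F, v = 0 := fun v => funext fun p => p.1.elim0
  constructor
  · intro v
    rw [hsub (act g v - v)]
    exact Submodule.zero_mem _
  · intro v _
    rw [hsub (act g v), hsub v]

/-- **T2a** -/
theorem t2a_core [Fintype F] (hJ2 : OrthG J2) (h2 : (2 : F) ≠ 0) (h : Ts2 J2 k1 k2) (q : GL (Fin a × Fin b) F) (hq : InQ J2 k1 k2 q)
    (hc : ∀ (k d : Fin b → F) (hk : k ∈ Submodule.span F {k1, k2}) (hd : d ∈ piPerp J2 k1 k2) (hk' : bf J2 k k = 0)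
      (hkd : bf J2 k d = 0), ∃ c : F,
        ((q * oneK (a := a) (rhoW hJ2 h2 k d hk' hkd) * q⁻¹ * (oneK (a := a) (rhoW hJ2 h2 k d hk' hkd))⁻¹ :
          GL (Fin a × Fin b) F) : Matrix (Fin a × Fin b) (Fin a × Fin b) F) = 1 + c • nL (a := a) J2 k1 k2) :
    ∃ (d1 d2 : Fin b → F) (hd1 : bf J2 k1 d1 = 0) (hd2 : bf J2 k2 d2 = 0), d1 ∈ piPerp J2 k1 k2 ∧ d2 ∈ piPerp J2 k1 k2 ∧
      InZ J2 k1 k2 (q * (oneK (a := a) (rhoW hJ2 h2 k1 d1 h.h11 hd1 * rhoW hJ2 h2 k2 d2 h.h22 hd2))⁻¹) := by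
  rcases Nat.eq_zero_or_pos a with ha | ha
  · exact ⟨0, 0, by simp, by simp, Submodule.zero_mem _, Submodule.zero_mem _, inZ_of_subsingleton ha _⟩
  obtain ⟨⟨l1, hl11, hl12⟩, ⟨l2, hl21, hl22⟩⟩ := Cfsg.Agent.Lib.Helper22.OTRootB.exists_dual_pair hJ2 h.indep
  obtain ⟨s1, s2, hs1, hs2, hP⟩ := exists_delta hJ2 h2 h hq hc hl11 hl12 hl21 hl22 ha
  have hd1 : -s1 ∈ piPerp J2 k1 k2 := Submodule.neg_mem _ hs1
  have hd2 : -s2 ∈ piPerp J2 k1 k2 := Submodule.neg_mem _ hs2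
  have hk1d1 : bf J2 k1 (-s1) = 0 := by rw [hJ2.symm]; exact hd1.1
  have hk2d2 : bf J2 k2 (-s2) = 0 := by rw [hJ2.symm]; exact hd2.2
  refine ⟨-s1, -s2, hk1d1, hk2d2, hd1, hd2, ?_⟩
  refine inZ_of hJ2 h2 h hq hl11 hl12 hl21 hl22 hd1 hd2 ?_ ?_ ?_ hk1d1 hk2d2
  · intro d hd u
    rw [Cfsg.Agent.Lib.Helper3.SpT.bf_neg_left, neg_neg]
    exact (hP d hd).1 u
  · intro d hd u
    rw [Cfsg.Agent.Lib.Helper3.SpT.bf_neg_left, neg_neg]
    exact (hP d hd).2.1 u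
  · intro d hd u
    rw [Cfsg.Agent.Lib.Helper3.SpT.bf_neg_left, Cfsg.Agent.Lib.Helper3.SpT.bf_neg_left]
    exact (hP d hd).2.2 u

/-- **T2a**, exact signature of `notes/S5681Exit_helper28.lean.txt` -/
theorem t2a [Fintype F] {J1 : Matrix (Fin a) (Fin a) F} {Q : QuadraticForm F (Fin a × Fin b → F)}
    (hS : SetupO J1 J2 Q) (hb : 5 ≤ b) (h : Ts2 J2 k1 k2) (q : GL (Fin a × Fin b) F) (hq : InQ J2 k1 k2 q)
    (hc : ∀ (k d : Fin b → F) (hk : k ∈ Submodule.span F {k1, k2}) (hd : d ∈ piPerp J2 k1 k2) (hk' : bf J2 k k = 0)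
      (hkd : bf J2 k d = 0), ∃ c : F,
        ((q * oneK (a := a) (rhoW hS.h2 hS.two k d hk' hkd) * q⁻¹ * (oneK (a := a) (rhoW hS.h2 hS.two k d hk' hkd))⁻¹ :
          GL (Fin a × Fin b) F) : Matrix (Fin a × Fin b) (Fin a × Fin b) F) = 1 + c • nL (a := a) J2 k1 k2) :
    ∃ (d1 d2 : Fin b → F) (hd1 : bf J2 k1 d1 = 0) (hd2 : bf J2 k2 d2 = 0), d1 ∈ piPerp J2 k1 k2 ∧ d2 ∈ piPerp J2 k1 k2 ∧
      InZ J2 k1 k2 (q * (oneK (a := a) (rhoW hS.h2 hS.two k1 d1 h.h11 hd1 * rhoW hS.h2 hS.two k2 d2 h.h22 hd2))⁻¹) :=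
  t2a_core hS.h2 hS.two h q hq hc

end Cfsg.Agent.Lib.Helper7.OTT2a
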