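import Mathlib
import Cfsg.Agent.Lib.Helper7.SylowBasic
import Cfsg.Agent.Lib.Helper7.PSingCount
import Cfsg.Agent.Lib.Helper7.SylowPrime
import Cfsg.Agent.Lib.Helper3.SLTransport
import Cfsg.Agent.S1230
import Cfsg.Agent.S3993

/-!
# A simple group of order 4080 is `PSL₂(𝔽₁₆)` (helper7)

Counting `p`-singular elements for `p = 3, 5, 17` forces `|C(P₃)| = |C(P₅)| = 15`, `|C(P₁₇)| = 17`;
Frobenius' theorem then gives exactly 256 two-elements, a single class of 255 involutions with
elementary abelian centralizers of order 16, and the Brauer–Suzuki–Wall type theorem S1230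
identifies the group.
-/

set_option autoImplicit false
set_option linter.style.haveILetI false
set_option linter.unusedSectionVars false

namespace Cfsg.Agent.Lib.Helper7.Ord4080

open Subgroup Cfsg.Agent.Lib.Helper7 Cfsg.Agent.Lib.Helper7.SylowPrime

/-! ### arithmetic -/

theorem arith17 (n m c : ℕ) (hm : m ∣ 16) (hm1 : m ≠ 1) (h : n * (m * c) = 4080) (hc : 17 ∣ c)
    (hn : n % 17 = 1) (hn1 : n ≠ 1) : n = 120 ∧ m = 2 ∧ c = 17 := by
  obtain ⟨c', rfl⟩ := hc
  have hm16 : m ≤ 16 := Nat.le_of_dvd (by norm_num) hm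
  have hm0 : 0 < m := Nat.pos_of_dvd_of_pos hm (by norm_num)
  have hc'pos : 0 < c' := by
    rcases Nat.eq_zero_or_pos c' with h0 | h0
    · rw [h0] at h; simp at h
    · exact h0
  have hnle : n ≤ 240 := by
    have : n * (m * (17 * c')) = 17 * (n * (m * c')) := by ring
    rw [this] at h
    have h2 : n * (m * c') = 240 := by omega
    calc n = n * 1 := (mul_one n).symm
      _ ≤ n * (m * c') := Nat.mul_le_mul_left n (Nat.mul_pos hm0 hc'pos)
      _ = 240 := h2
  have hn' : n = 18 ∨ n = 35 ∨ n = 52 ∨ n = 69 ∨ n = 86 ∨ n = 103 ∨ n = 120 ∨ n = 137 ∨ n = 154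
      ∨ n = 171 ∨ n = 188 ∨ n = 205 ∨ n = 222 ∨ n = 239 := by omega
  interval_cases m <;> first | omega | (rcases hn' with rfl | rfl | rfl | rfl | rfl | rfl | rfl |
    rfl | rfl | rfl | rfl | rfl | rfl | rfl <;> omega)

theorem arith5 (n m c : ℕ) (hm : m ∣ 4) (hm1 : m ≠ 1) (h : n * (m * c) = 4080) (hc : 15 ∣ c)
    (hc17 : ¬ 17 ∣ c) (hn : n % 5 = 1) : n = 136 ∧ m = 2 ∧ c = 15 := by
  obtain ⟨c', rfl⟩ := hc
  have hm4 : m ≤ 4 := Nat.le_of_dvd (by norm_num) hm
  have hm0 : 0 < m := Nat.pos_of_dvd_of_pos hm (by norm_num)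
  have hc'pos : 0 < c' := by
    rcases Nat.eq_zero_or_pos c' with h0 | h0
    · rw [h0] at h; simp at h
    · exact h0
  have h17 : (17 : ℕ) ∣ n * (m * c') := by
    have : n * (m * (15 * c')) = 15 * (n * (m * c')) := by ring
    rw [this] at h
    have h2 : n * (m * c') = 272 := by omega
    rw [h2]; norm_num
  have hp17 : Nat.Prime 17 := by norm_num
  have hc'17 : ¬ 17 ∣ c' := fun hd => hc17 (Dvd.dvd.mul_left hd 15)
  have hn17 : 17 ∣ n := by
    rcases (Nat.Prime.dvd_mul hp17).mp h17 with h1 | h1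
    · exact h1
    · rcases (Nat.Prime.dvd_mul hp17).mp h1 with h2 | h2
      · exfalso
        have := Nat.le_of_dvd hm0 h2
        omega
      · exact absurd h2 hc'17
  obtain ⟨k, rfl⟩ := hn17
  have hk : k ≤ 16 := by
    have : 17 * k * (m * (15 * c')) = 255 * (k * (m * c')) := by ring
    rw [this] at h
    have h2 : k * (m * c') = 16 := by omega
    calc k = k * 1 := (mul_one k).symm
      _ ≤ k * (m * c') := Nat.mul_le_mul_left k (Nat.mul_pos hm0 hc'pos)
      _ = 16 := h2
  have hc'le : c' ≤ 16 := by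
    have : 17 * k * (m * (15 * c')) = 255 * (c' * (m * k)) := by ring
    rw [this] at h
    have h2 : c' * (m * k) = 16 := by omega
    have hk0 : 0 < k := by
      rcases Nat.eq_zero_or_pos k with h0 | h0
      · rw [h0] at h2; simp at h2
      · exact h0
    calc c' = c' * 1 := (mul_one c').symm
      _ ≤ c' * (m * k) := Nat.mul_le_mul_left c' (Nat.mul_pos hm0 hk0)
      _ = 16 := h2
  interval_cases m <;> interval_cases k <;> interval_cases c' <;> omega

/-- a divisor of `4080` not dividing `16` is divisible by `3`, `5` or `17` -/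
theorem arith_odd (d : ℕ) (hd : d ∣ 4080) (h3 : ¬ 3 ∣ d) (h5 : ¬ 5 ∣ d) (h17 : ¬ 17 ∣ d) :
    d ∣ 16 := by
  have c3 : Nat.Coprime d 3 := ((Nat.Prime.coprime_iff_not_dvd (by norm_num)).mpr h3).symm
  have c5 : Nat.Coprime d 5 := ((Nat.Prime.coprime_iff_not_dvd (by norm_num)).mpr h5).symm
  have c17 : Nat.Coprime d 17 := ((Nat.Prime.coprime_iff_not_dvd (by norm_num)).mpr h17).symm
  have c255 : Nat.Coprime d 255 := by
    have : (255 : ℕ) = 3 * 5 * 17 := by norm_num
    rw [this]
    exact (c3.mul_right c5).mul_right c17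
  have : d ∣ 16 * 255 := by norm_num; exact hd
  exact c255.dvd_of_dvd_mul_right this

/-- an odd divisor of `4080` divides `255` -/
theorem arith_odd' (d : ℕ) (hd : d ∣ 4080) (h2 : ¬ 2 ∣ d) : d ∣ 255 := by
  have c2 : Nat.Coprime d 2 := ((Nat.Prime.coprime_iff_not_dvd (by norm_num)).mpr h2).symm
  have c16 : Nat.Coprime d 16 := by
    have : (16 : ℕ) = 2 ^ 4 := by norm_num
    rw [this]
    exact c2.pow_right 4
  have : d ∣ 16 * 255 := by norm_num; exact hd
  exact c16.dvd_of_dvd_mul_left this


/-! ### Sylow data -/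

section Main

variable {G : Type*} [Group G] [Finite G] [IsSimpleGroup G]

theorem card_sylow17 (hG : Nat.card G = 4080) (P : Sylow 17 G) :
    Nat.card (P : Subgroup G) = 17 := by
  have : Fact (Nat.Prime 17) := ⟨by norm_num⟩
  have := card_sylow_subgroup_eq P 1 240 (by rw [hG]; norm_num) (by norm_num)
  simpa using this

theorem card_sylow5 (hG : Nat.card G = 4080) (P : Sylow 5 G) :
    Nat.card (P : Subgroup G) = 5 := by
  have : Fact (Nat.Prime 5) := ⟨by norm_num⟩
  have := card_sylow_subgroup_eq P 1 816 (by rw [hG]; norm_num) (by norm_num)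
  simpa using this

theorem card_sylow3 (hG : Nat.card G = 4080) (P : Sylow 3 G) :
    Nat.card (P : Subgroup G) = 3 := by
  have : Fact (Nat.Prime 3) := ⟨by norm_num⟩
  have := card_sylow_subgroup_eq P 1 1360 (by rw [hG]; norm_num) (by norm_num)
  simpa using this

theorem card_sylow2 (hG : Nat.card G = 4080) (P : Sylow 2 G) :
    Nat.card (P : Subgroup G) = 16 := by
  have : Fact (Nat.Prime 2) := ⟨by norm_num⟩
  have := card_sylow_subgroup_eq P 4 255 (by rw [hG]; norm_num) (by norm_num)
  simpa using this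

/-- `n₁₇ = 120` and `|C(P₁₇)| = 17` -/
theorem data17 (hG : Nat.card G = 4080) (P : Sylow 17 G) :
    Nat.card (Sylow 17 G) = 120 ∧
      Nat.card (Subgroup.centralizer ((P : Subgroup G) : Set G)) = 17 := by
  have : Fact (Nat.Prime 17) := ⟨by norm_num⟩
  have hc := card_sylow17 hG P
  obtain ⟨m, hm, hm1, hprod, hdvd, hmod⟩ := sylow_prime_data P hc (by rw [hG]; norm_num)
  have hn1 : Nat.card (Sylow 17 G) ≠ 1 :=
    card_sylow_ne_one_of_simple P (by rw [hc]; norm_num) (by rw [hc, hG]; norm_num)
  rw [hG] at hprod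
  obtain ⟨h1, _, h3⟩ := arith17 _ _ _ hm hm1 hprod hdvd hmod hn1
  exact ⟨h1, h3⟩

theorem count17 [Fintype G] (hG : Nat.card G = 4080) :
    (Finset.univ.filter (fun x : G => 17 ∣ orderOf x)).card = 1920 := by
  have : Fact (Nat.Prime 17) := ⟨by norm_num⟩
  obtain ⟨P⟩ : Nonempty (Sylow 17 G) := inferInstance
  have h := card_filter_pSingular_mul P (card_sylow17 hG P)
  obtain ⟨h1, h2⟩ := data17 hG P
  rw [h1, h2] at h
  omega

theorem count3 [Fintype G] (hG : Nat.card G = 4080) :
    (Finset.univ.filter (fun x : G => 3 ∣ orderOf x)).card = 1360 := by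
  have : Fact (Nat.Prime 3) := ⟨by norm_num⟩
  obtain ⟨P⟩ : Nonempty (Sylow 3 G) := inferInstance
  have hc := card_sylow3 hG P
  have h := card_filter_pSingular_mul P hc
  obtain ⟨m, hm, hm1, hprod, hdvd, hmod⟩ := sylow_prime_data P hc (by rw [hG]; norm_num)
  have hm2 : m = 2 := by
    have hle : m ≤ 2 := Nat.le_of_dvd (by norm_num) hm
    have hpos : 0 < m := Nat.pos_of_dvd_of_pos hm (by norm_num)
    omega
  rw [hm2, hG] at hprod
  have h3 : Nat.card (Sylow 3 G) * (Nat.card (Subgroup.centralizer ((P : Subgroup G) : Set G)) *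
      (3 - 1)) = 4080 := by rw [← hprod]; ring
  rw [h3] at h
  omega

theorem count5 [Fintype G] (hG : Nat.card G = 4080) :
    816 ≤ (Finset.univ.filter (fun x : G => 5 ∣ orderOf x)).card := by
  have : Fact (Nat.Prime 5) := ⟨by norm_num⟩
  obtain ⟨P⟩ : Nonempty (Sylow 5 G) := inferInstance
  have hc := card_sylow5 hG P
  have h := card_filter_pSingular_mul P hc
  obtain ⟨m, hm, hm1, hprod, hdvd, hmod⟩ := sylow_prime_data P hc (by rw [hG]; norm_num)
  rw [hG] at hprod
  have hle : m ≤ 4 := Nat.le_of_dvd (by norm_num) hm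
  have h3 : (Finset.univ.filter (fun x : G => 5 ∣ orderOf x)).card * 5 * m = 4080 * 4 := by
    rw [h, ← hprod]; ring
  have hpos : 0 < m := Nat.pos_of_dvd_of_pos hm (by norm_num)
  interval_cases m <;> omega

/-- some element has order divisible by `15` -/
theorem exists_mixed (hG : Nat.card G = 4080) : ∃ x : G, 3 ∣ orderOf x ∧ 5 ∣ orderOf x := by
  classical
  have : Fact (Nat.Prime 17) := ⟨by norm_num⟩
  haveI : Fintype G := Fintype.ofFinite G
  by_contra hno
  push Not at hno
  obtain ⟨P⟩ : Nonempty (Sylow 17 G) := inferInstance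
  have hc17 := (data17 hG P).2
  have hP := card_sylow17 hG P
  have d1 : Disjoint (Finset.univ.filter (fun x : G => 17 ∣ orderOf x))
      (Finset.univ.filter (fun x : G => 3 ∣ orderOf x)) := by
    rw [Finset.disjoint_filter]
    intro x _ h17 h3
    have := dvd_card_centralizer_of_mixed P hP h17 h3
    rw [hc17] at this
    omega
  have d2 : Disjoint (Finset.univ.filter (fun x : G => 17 ∣ orderOf x) ∪
      Finset.univ.filter (fun x : G => 3 ∣ orderOf x))
      (Finset.univ.filter (fun x : G => 5 ∣ orderOf x)) := by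
    rw [Finset.disjoint_union_left]
    constructor
    · rw [Finset.disjoint_filter]
      intro x _ h17 h5
      have := dvd_card_centralizer_of_mixed P hP h17 h5
      rw [hc17] at this
      omega
    · rw [Finset.disjoint_filter]
      intro x _ h3 h5
      exact hno x h3 h5
  have hcard := Finset.card_le_univ ((Finset.univ.filter (fun x : G => 17 ∣ orderOf x) ∪
      Finset.univ.filter (fun x : G => 3 ∣ orderOf x)) ∪
      (Finset.univ.filter (fun x : G => 5 ∣ orderOf x)))
  rw [Finset.card_union_of_disjoint d2, Finset.card_union_of_disjoint d1, count17 hG, count3 hG,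
    ← Nat.card_eq_fintype_card, hG] at hcard
  have := count5 hG
  omega

/-- `|C(P₅)| = 15` -/
theorem data5 (hG : Nat.card G = 4080) (P : Sylow 5 G) :
    Nat.card (Subgroup.centralizer ((P : Subgroup G) : Set G)) = 15 := by
  have : Fact (Nat.Prime 17) := ⟨by norm_num⟩
  have : Fact (Nat.Prime 5) := ⟨by norm_num⟩
  have hc := card_sylow5 hG P
  obtain ⟨m, hm, hm1, hprod, hdvd, hmod⟩ := sylow_prime_data P hc (by rw [hG]; norm_num)
  rw [hG] at hprod
  obtain ⟨x, h3, h5⟩ := exists_mixed hG
  have h3c : 3 ∣ Nat.card (Subgroup.centralizer ((P : Subgroup G) : Set G)) :=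
    dvd_card_centralizer_of_mixed P hc h5 h3
  have h15 : 15 ∣ Nat.card (Subgroup.centralizer ((P : Subgroup G) : Set G)) :=
    Nat.Coprime.mul_dvd_of_dvd_of_dvd (by norm_num : Nat.Coprime 3 5) h3c hdvd
  have h17 : ¬ 17 ∣ Nat.card (Subgroup.centralizer ((P : Subgroup G) : Set G)) := by
    intro h
    obtain ⟨Q⟩ : Nonempty (Sylow 17 G) := inferInstance
    have := dvd_card_centralizer_symm P hc Q (card_sylow17 hG Q) h
    rw [(data17 hG Q).2] at this
    omega
  exact (arith5 _ _ _ hm hm1 hprod h15 h17 hmod).2.2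

/-- `n₃ ≡ 1 mod 5`: a Sylow 5-subgroup normalizes exactly one Sylow 3-subgroup -/
theorem card_sylow3_mod5 (hG : Nat.card G = 4080) : Nat.card (Sylow 3 G) % 5 = 1 := by
  classical
  have : Fact (Nat.Prime 5) := ⟨by norm_num⟩
  have : Fact (Nat.Prime 3) := ⟨by norm_num⟩
  obtain ⟨Q5⟩ : Nonempty (Sylow 5 G) := inferInstance
  have hQ5 := card_sylow5 hG Q5
  have hc5 := data5 hG Q5
  have hR := PSing.ncard_pRegular_centralizer_mul Q5 hQ5
  rw [hc5] at hR
  have hR3 : {x : G | x ∈ Subgroup.centralizer ((Q5 : Subgroup G) : Set G) ∧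
      ¬ 5 ∣ orderOf x}.ncard = 3 := by omega
  have key : ∀ Q : Sylow 3 G,
      (∀ g ∈ (Q5 : Subgroup G), g ∈ Subgroup.normalizer ((Q : Subgroup G) : Set G)) →
      ((Q : Subgroup G) : Set G) =
        {x : G | x ∈ Subgroup.centralizer ((Q5 : Subgroup G) : Set G) ∧ ¬ 5 ∣ orderOf x} := by
    intro Q hQ
    have hQc := card_sylow3 hG Q
    have hsub : ((Q : Subgroup G) : Set G) ⊆
        {x : G | x ∈ Subgroup.centralizer ((Q5 : Subgroup G) : Set G) ∧ ¬ 5 ∣ orderOf x} := by
      intro a ha
      refine ⟨?_, ?_⟩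
      · rw [Subgroup.mem_centralizer_iff]
        intro g hg
        have hgn := hQ g hg
        have hcop : Nat.Coprime (orderOf g) (Nat.card (MulAut (Q : Subgroup G))) := by
          have hcyc : IsCyclic (Q : Subgroup G) := isCyclic_of_prime_card hQc
          rw [hcyc.card_mulAut, hQc, Nat.totient_prime (by norm_num : Nat.Prime 3)]
          have h5 : orderOf g ∣ 5 := by
            rw [← hQ5]; exact Subgroup.orderOf_dvd_natCard _ hg
          have : Nat.Coprime 5 2 := by norm_num
          exact Nat.Coprime.coprime_dvd_left h5 this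
        have hgc := mem_centralizer_of_mem_normalizer_of_coprime (Q : Subgroup G) hgn hcop
        exact ((Subgroup.mem_centralizer_iff.mp hgc) a ha).symm
      · intro h5
        have h3 : orderOf a ∣ 3 := by
          rw [← hQc]; exact Subgroup.orderOf_dvd_natCard _ ha
        have := Nat.le_of_dvd (by norm_num) (h5.trans h3)
        omega
    apply Set.eq_of_subset_of_ncard_le hsub _ (Set.toFinite _)
    rw [hR3]
    have : ((Q : Subgroup G) : Set G).ncard = Nat.card (Q : Subgroup G) := rfl
    rw [this, hQc]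
  have h3dvd : 3 ∣ Nat.card (Subgroup.centralizer ((Q5 : Subgroup G) : Set G)) := by
    rw [hc5]; norm_num
  obtain ⟨w, hw⟩ := exists_prime_orderOf_dvd_card' 3 h3dvd
  have hw' : orderOf (w : G) = 3 := by rw [Subgroup.orderOf_coe]; exact hw
  have hmult : 3 ^ (Nat.card G).factorization 3 = 3 := by
    obtain ⟨P⟩ : Nonempty (Sylow 3 G) := inferInstance
    rw [← Sylow.card_eq_multiplicity P, card_sylow3 hG P]
  have hz : Nat.card (Subgroup.zpowers (w : G)) = 3 ^ (Nat.card G).factorization 3 := by
    rw [Nat.card_zpowers, hw', hmult]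
  have hQ0 : ∀ g ∈ (Q5 : Subgroup G),
      g ∈ Subgroup.normalizer (((Sylow.ofCard _ hz : Sylow 3 G) : Subgroup G) : Set G) := by
    intro g hg
    apply Subgroup.centralizer_le_normalizer
    rw [Subgroup.mem_centralizer_iff]
    intro q hq
    have hq' : q ∈ Subgroup.zpowers (w : G) := hq
    obtain ⟨i, rfl⟩ := Subgroup.mem_zpowers_iff.mp hq'
    have hc : Commute (w : G) g := ((Subgroup.mem_centralizer_iff.mp w.2) g hg).symm
    exact (hc.zpow_left i).eq
  have hfix : MulAction.fixedPoints ↥(Q5 : Subgroup G) (Sylow 3 G) =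
      {(Sylow.ofCard _ hz : Sylow 3 G)} := by
    ext Q
    rw [MulAction.mem_fixedPoints, Set.mem_singleton_iff]
    constructor
    · intro h
      have hQn : ∀ g ∈ (Q5 : Subgroup G),
          g ∈ Subgroup.normalizer ((Q : Subgroup G) : Set G) := by
        intro g hg
        have := h ⟨g, hg⟩
        rw [Subgroup.smul_def] at this
        exact Sylow.smul_eq_iff_mem_normalizer.mp this
      apply Sylow.ext
      apply SetLike.coe_injective
      rw [key Q hQn, key _ hQ0]
    · rintro rfl g
      rw [Subgroup.smul_def]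
      exact Sylow.smul_eq_iff_mem_normalizer.mpr (hQ0 g g.2)
  have hmod := Q5.isPGroup'.card_modEq_card_fixedPoints (Sylow 3 G)
  rw [hfix] at hmod
  have h1 : Nat.card ↥({(Sylow.ofCard _ hz : Sylow 3 G)} : Set (Sylow 3 G)) = 1 := by
    rw [Nat.card_coe_set_eq, Set.ncard_singleton]
  rw [h1] at hmod
  exact hmod

/-- `|C(P₃)| = 15` -/
theorem data3 (hG : Nat.card G = 4080) (P : Sylow 3 G) :
    Nat.card (Subgroup.centralizer ((P : Subgroup G) : Set G)) = 15 := by
  have : Fact (Nat.Prime 17) := ⟨by norm_num⟩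
  have : Fact (Nat.Prime 3) := ⟨by norm_num⟩
  have hc := card_sylow3 hG P
  obtain ⟨m, hm, hm1, hprod, hdvd, hmod⟩ := sylow_prime_data P hc (by rw [hG]; norm_num)
  have hm2 : m = 2 := by
    have hle : m ≤ 2 := Nat.le_of_dvd (by norm_num) hm
    have hpos : 0 < m := Nat.pos_of_dvd_of_pos hm (by norm_num)
    omega
  rw [hG, hm2] at hprod
  obtain ⟨x, h3, h5⟩ := exists_mixed hG
  have h5c : 5 ∣ Nat.card (Subgroup.centralizer ((P : Subgroup G) : Set G)) :=
    dvd_card_centralizer_of_mixed P hc h3 h5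
  have h15 : 15 ∣ Nat.card (Subgroup.centralizer ((P : Subgroup G) : Set G)) :=
    Nat.Coprime.mul_dvd_of_dvd_of_dvd (by norm_num : Nat.Coprime 3 5) hdvd h5c
  have h17 : ¬ 17 ∣ Nat.card (Subgroup.centralizer ((P : Subgroup G) : Set G)) := by
    intro h
    obtain ⟨Q⟩ : Nonempty (Sylow 17 G) := inferInstance
    have := dvd_card_centralizer_symm P hc Q (card_sylow17 hG Q) h
    rw [(data17 hG Q).2] at this
    omega
  exact (arith5 _ 2 _ (by norm_num) (by norm_num) hprod h15 h17 (card_sylow3_mod5 hG)).2.2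

/-- an element commuting with an involution is a 2-element -/
theorem pow16_of_commute_involution (hG : Nat.card G = 4080) {t c : G} (ht : orderOf t = 2)
    (hc : Commute t c) : c ^ 16 = 1 := by
  have : Fact (Nat.Prime 17) := ⟨by norm_num⟩
  have : Fact (Nat.Prime 5) := ⟨by norm_num⟩
  have : Fact (Nat.Prime 3) := ⟨by norm_num⟩
  have hd : orderOf c ∣ 4080 := by rw [← hG]; exact orderOf_dvd_natCard c
  apply orderOf_dvd_iff_pow_eq_one.mp
  apply arith_odd _ hd
  · intro h3
    obtain ⟨P⟩ : Nonempty (Sylow 3 G) := inferInstance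
    have hw : orderOf (c ^ (orderOf c / 3)) = 3 :=
      orderOf_pow_orderOf_div (orderOf_pos c).ne' h3
    have := orderOf_dvd_card_centralizer P (card_sylow3 hG P) hw (hc.pow_right _)
    rw [ht, data3 hG P] at this
    omega
  · intro h5
    obtain ⟨P⟩ : Nonempty (Sylow 5 G) := inferInstance
    have hw : orderOf (c ^ (orderOf c / 5)) = 5 :=
      orderOf_pow_orderOf_div (orderOf_pos c).ne' h5
    have := orderOf_dvd_card_centralizer P (card_sylow5 hG P) hw (hc.pow_right _)
    rw [ht, data5 hG P] at this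
    omega
  · intro h17
    obtain ⟨P⟩ : Nonempty (Sylow 17 G) := inferInstance
    have hw : orderOf (c ^ (orderOf c / 17)) = 17 :=
      orderOf_pow_orderOf_div (orderOf_pos c).ne' h17
    have := orderOf_dvd_card_centralizer P (card_sylow17 hG P) hw (hc.pow_right _)
    rw [ht, (data17 hG P).2] at this
    omega

/-- every element is a `2`-element or has odd order -/
theorem pow16_or_pow255 (hG : Nat.card G = 4080) (x : G) : x ^ 16 = 1 ∨ x ^ 255 = 1 := by
  by_cases h2 : 2 ∣ orderOf x
  · left
    have ht : orderOf (x ^ (orderOf x / 2)) = 2 :=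
      orderOf_pow_orderOf_div (orderOf_pos x).ne' h2
    exact pow16_of_commute_involution hG ht ((Commute.refl x).pow_left _)
  · right
    have hd : orderOf x ∣ 4080 := by rw [← hG]; exact orderOf_dvd_natCard x
    exact orderOf_dvd_iff_pow_eq_one.mp (arith_odd' _ hd h2)

/-- there are exactly 256 two-elements -/
theorem card_two_elements [Fintype G] [DecidableEq G] (hG : Nat.card G = 4080) :
    (Finset.univ.filter (fun x : G => x ^ 16 = 1)).card = 256 := by
  have hunion : Finset.univ.filter (fun x : G => x ^ 16 = 1) ∪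
      Finset.univ.filter (fun x : G => x ^ 255 = 1) = Finset.univ := by
    ext x
    simp only [Finset.mem_union, Finset.mem_filter, Finset.mem_univ, true_and, iff_true]
    exact pow16_or_pow255 hG x
  have hinter : Finset.univ.filter (fun x : G => x ^ 16 = 1) ∩
      Finset.univ.filter (fun x : G => x ^ 255 = 1) = {1} := by
    ext x
    simp only [Finset.mem_inter, Finset.mem_filter, Finset.mem_univ, true_and,
      Finset.mem_singleton]
    constructor
    · rintro ⟨h1, h2⟩
      have d1 := orderOf_dvd_of_pow_eq_one h1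
      have d2 := orderOf_dvd_of_pow_eq_one h2
      have : orderOf x ∣ Nat.gcd 16 255 := Nat.dvd_gcd d1 d2
      have h3 : Nat.gcd 16 255 = 1 := by norm_num
      rw [h3, Nat.dvd_one] at this
      exact orderOf_eq_one_iff.mp this
    · rintro rfl
      simp
  have h := Finset.card_union_add_card_inter (Finset.univ.filter (fun x : G => x ^ 16 = 1))
    (Finset.univ.filter (fun x : G => x ^ 255 = 1))
  rw [hunion, hinter, Finset.card_univ, ← Nat.card_eq_fintype_card, hG,
    Finset.card_singleton] at h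
  have h16 : 16 ∣ (Finset.univ.filter (fun x : G => x ^ 16 = 1)).card := by
    have := Cfsg.Agent.S3993.result (G := G) 16 (by rw [hG]; norm_num)
    rwa [Nat.card_eq_fintype_card, Fintype.card_subtype] at this
  have h255 : 255 ∣ (Finset.univ.filter (fun x : G => x ^ 255 = 1)).card := by
    have := Cfsg.Agent.S3993.result (G := G) 255 (by rw [hG]; norm_num)
    rwa [Nat.card_eq_fintype_card, Fintype.card_subtype] at this
  omega

/-- every `2`-element has order at most 2 -/
theorem sq_eq_one_of_pow16 (hG : Nat.card G = 4080) (x : G) (hx : x ^ 16 = 1) : x ^ 2 = 1 := by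
  classical
  have : Fact (Nat.Prime 2) := ⟨by norm_num⟩
  have : Fintype G := Fintype.ofFinite G
  have hA := card_two_elements hG
  -- an involution
  obtain ⟨t, ht⟩ := exists_prime_orderOf_dvd_card' (G := G) 2 (by rw [hG]; norm_num)
  have ht1 : t ≠ 1 := by
    intro h; rw [h, orderOf_one] at ht; omega
  have ht2 : t ^ 2 = 1 := by rw [← ht]; exact pow_orderOf_eq_one t
  -- its centralizer is a 2-group
  have hC2 : IsPGroup 2 ↥(Subgroup.centralizer ({t} : Set G)) := by
    intro c
    refine ⟨4, ?_⟩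
    have hc : Commute t (c : G) := (Subgroup.mem_centralizer_singleton_iff.mp c.2).symm
    have := pow16_of_commute_involution hG ht hc
    apply Subtype.ext
    simpa using this
  obtain ⟨S, hS⟩ := hC2.exists_le_sylow
  have hCdvd : Nat.card ↥(Subgroup.centralizer ({t} : Set G)) ∣ 16 := by
    rw [← card_sylow2 hG S]
    exact Subgroup.card_dvd_of_le hS
  -- the class of t
  have hidx := MulAction.index_stabilizer (ConjAct G) t
  have hmul := Subgroup.card_mul_index (MulAction.stabilizer (ConjAct G) t)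
  rw [hidx, ← Subgroup.nat_card_centralizer_nat_card_stabilizer t] at hmul
  have hcardG : Nat.card (ConjAct G) = 4080 := hG
  rw [hcardG] at hmul
  have hOge : 255 ≤ (MulAction.orbit (ConjAct G) t).ncard := by
    have hle : Nat.card ↥(Subgroup.centralizer ({t} : Set G)) ≤ 16 :=
      Nat.le_of_dvd (by norm_num) hCdvd
    by_contra hlt
    push Not at hlt
    have : Nat.card ↥(Subgroup.centralizer ({t} : Set G)) *
        (MulAction.orbit (ConjAct G) t).ncard ≤ 16 * 254 :=
      Nat.mul_le_mul hle (by omega)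
    omega
  have hsub : MulAction.orbit (ConjAct G) t ⊆
      (((Finset.univ.filter (fun x : G => x ^ 16 = 1)).erase 1 : Finset G) : Set G) := by
    intro y hy
    obtain ⟨g, rfl⟩ := MulAction.mem_orbit_iff.mp hy
    rw [ConjAct.smul_def, Finset.mem_coe, Finset.mem_erase, Finset.mem_filter]
    refine ⟨?_, Finset.mem_univ _, ?_⟩
    · intro h
      apply ht1
      have : t = (ConjAct.ofConjAct g)⁻¹ * (ConjAct.ofConjAct g * t * (ConjAct.ofConjAct g)⁻¹) *
          ConjAct.ofConjAct g := by group
      rw [this, h]; group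
    · rw [conj_pow]
      have : t ^ 16 = 1 := by
        have : t ^ 16 = (t ^ 2) ^ 8 := by rw [← pow_mul]
        rw [this, ht2, one_pow]
      rw [this]; group
  have hcardE : ((Finset.univ.filter (fun x : G => x ^ 16 = 1)).erase 1).card = 255 := by
    rw [Finset.card_erase_of_mem (by simp), hA]
  have heq : MulAction.orbit (ConjAct G) t =
      (((Finset.univ.filter (fun x : G => x ^ 16 = 1)).erase 1 : Finset G) : Set G) := by
    apply Set.eq_of_subset_of_ncard_le hsub _ (Finset.finite_toSet _)
    rw [Set.ncard_coe_finset, hcardE]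
    exact hOge
  by_cases hx1 : x = 1
  · rw [hx1, one_pow]
  · have hxmem : x ∈ (((Finset.univ.filter (fun x : G => x ^ 16 = 1)).erase 1 : Finset G) :
        Set G) := by
      rw [Finset.mem_coe, Finset.mem_erase, Finset.mem_filter]
      exact ⟨hx1, Finset.mem_univ _, hx⟩
    rw [← heq] at hxmem
    obtain ⟨g, rfl⟩ := MulAction.mem_orbit_iff.mp hxmem
    rw [ConjAct.smul_def, conj_pow, ht2]
    group

/-- **A simple group of order 4080 is `PSL₂(𝔽₁₆)`.** -/
theorem order4080_main (hG : Nat.card G = 4080) {F : Type*} [Field F] [Fintype F]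
    (hF : Fintype.card F = 16) :
    Nonempty (G ≃* Matrix.ProjectiveSpecialLinearGroup (Fin 2) F) := by
  classical
  have : Fact (Nat.Prime 2) := ⟨by norm_num⟩
  obtain ⟨T⟩ : Nonempty (Sylow 2 G) := inferInstance
  have hT := card_sylow2 hG T
  have hsq : ∀ x ∈ (T : Subgroup G), x ^ 2 = 1 := by
    intro x hx
    apply sq_eq_one_of_pow16 hG
    have : orderOf x ∣ 16 := by rw [← hT]; exact Subgroup.orderOf_dvd_natCard _ hx
    exact orderOf_dvd_iff_pow_eq_one.mp this
  have hnc : ¬ IsCyclic (T : Subgroup G) := by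
    intro hcyc
    obtain ⟨g, hg⟩ := hcyc.exists_generator
    have ho : orderOf g = 16 := by
      rw [orderOf_eq_card_of_forall_mem_zpowers hg]; exact hT
    have h2 : g ^ 2 = 1 := Subtype.ext (by simpa using hsq g.1 g.2)
    have := orderOf_dvd_of_pow_eq_one h2
    rw [ho] at this
    omega
  have hnn : ¬ (T : Subgroup G).Normal := by
    intro hn
    rcases hn.eq_bot_or_eq_top with h | h
    · rw [h] at hT; simp at hT
    · rw [h] at hT; simp [hG] at hT
  have hC : ∀ t : G, orderOf t = 2 →
      IsMulCommutative (Subgroup.centralizer ({t} : Set G)) ∧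
        ∀ c ∈ Subgroup.centralizer ({t} : Set G), c ^ 2 = 1 := by
    intro t ht
    have h2 : ∀ c ∈ Subgroup.centralizer ({t} : Set G), c ^ 2 = 1 := by
      intro c hc
      apply sq_eq_one_of_pow16 hG
      exact pow16_of_commute_involution hG ht
        (Subgroup.mem_centralizer_singleton_iff.mp hc).symm
    refine ⟨⟨⟨fun a b => ?_⟩⟩, h2⟩
    apply Subtype.ext
    have haa : (a : G) * a = 1 := by rw [← pow_two]; exact h2 a.1 a.2
    have hbb : (b : G) * b = 1 := by rw [← pow_two]; exact h2 b.1 b.2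
    have hab : (a : G) * b * (a * b) = 1 := by
      rw [← pow_two]; exact h2 _ (mul_mem a.2 b.2)
    show (a : G) * b = b * a
    calc (a : G) * b = a * (a * b * (a * b)) * b := by rw [hab, mul_one]
      _ = (a * a) * (b * a) * (b * b) := by group
      _ = b * a := by rw [haa, hbb, one_mul, mul_one]
  obtain ⟨F0, hfield, hfin, hcard, ⟨e⟩⟩ := Cfsg.Agent.S1230.result T hnc hnn hC
  letI := hfield
  letI := hfin
  have hcc : Fintype.card F0 = Fintype.card F := by rw [hcard, hF]; exact hT
  let re : F0 ≃+* F := FiniteField.ringEquivOfCardEq hcc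
  exact ⟨e.trans (Cfsg.Agent.Lib.Helper3.SLTransport.quotientCenterEquiv
    (Cfsg.Agent.Lib.Helper3.SLTransport.mapEquiv re))⟩

end Main

end Cfsg.Agent.Lib.Helper7.Ord4080
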