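import Mathlib
import Cfsg.Prelude.Def_Blocks
import Cfsg.Agent.Lib.Helper24.Loc
import Cfsg.Agent.Lib.Helper24.CenterFn
import Cfsg.Agent.Lib.Helper24.BlockBasic
import Cfsg.Agent.Lib.Helper24.Defect
import Cfsg.Agent.Lib.Helper24.Knorr
import Cfsg.Agent.Lib.Helper2.Induction
import Cfsg.Agent.Lib.Helper2.Expansion
import Cfsg.Agent.Lib.Helper2.Column
import Cfsg.Agent.Lib.Helper14.IndValues
import Cfsg.Agent.Lib.Helper25.CharBasic
import Cfsg.Agent.Lib.Helper7.MinMax
import Cfsg.Agent.Lib.Helper7.DefectOrder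
import Cfsg.Agent.Lib.Helper7.DetLocal
import Cfsg.Agent.Lib.Helper7.PPrimeNormal
import Cfsg.Agent.Lib.Helper7.GreenGroup

/-!
# Blocks with a given defect group from `p`-separated classes (helper7)

`separated_classes`: if `x₁, …, x_r` are pairwise non-conjugate, `D` is a Sylow `p`-subgroup of each
`C_G(xᵢ)`, and no quotient `g h⁻¹` of conjugates of the `xᵢ` is a nontrivial `p`-element, then there
are `r` distinct blocks with defect group `D` whose height-zero characters have `det (χᵢ(xⱼ))` a
local unit.
-/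

set_option autoImplicit false

namespace Cfsg.Agent.Lib.Helper7

open Cfsg.Agent.Lib.Helper2 Cfsg.Agent.Lib.Helper24

section Identity

variable {G : Type*} [Group G] [Fintype G]

theorem classIndicator_inv_inv (y k : G) : classIndicator y⁻¹ k⁻¹ = classIndicator y k := by
  unfold classIndicator
  have : IsConj y⁻¹ k⁻¹ ↔ IsConj y k := by
    rw [isConj_iff, isConj_iff]
    constructor
    · rintro ⟨c, hc⟩
      refine ⟨c, ?_⟩
      have := congrArg (·⁻¹) hc
      simpa [mul_assoc] using this
    · rintro ⟨c, hc⟩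
      refine ⟨c, ?_⟩
      rw [← hc]
      group
  by_cases h : IsConj y k
  · rw [if_pos h, if_pos (this.mpr h)]
  · rw [if_neg h, if_neg (fun h' => h (this.mp h'))]

/-- the counting identity: if `Θ` vanishes at the nontrivial quotients `g h⁻¹` of conjugates of `x`
and `y`, only the diagonal contributes -/
theorem sum_conv_classIndicator_mul (Θ : G → ℂ) (x y : G)
    (hΘ : ∀ g h : G, IsConj x g → IsConj y h → g * h⁻¹ ≠ 1 → Θ (g * h⁻¹) = 0) :
    ∑ u : G, conv (classIndicator x) (classIndicator y⁻¹) u * Θ u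
      = Θ 1 * ∑ h : G, classIndicator x h * classIndicator y h := by
  classical
  have h1 : ∀ u : G, conv (classIndicator x) (classIndicator y⁻¹) u * Θ u
      = ∑ h : G, classIndicator x h * classIndicator y⁻¹ (h⁻¹ * u) * Θ u := by
    intro u
    rw [conv_apply, Finset.sum_mul]
  rw [Finset.sum_congr rfl (fun u _ => h1 u), Finset.sum_comm]
  rw [Finset.mul_sum]
  apply Finset.sum_congr rfl
  intro h _
  -- reindex `u = h * k⁻¹`
  have h2 : ∑ u : G, classIndicator x h * classIndicator y⁻¹ (h⁻¹ * u) * Θ u
      = ∑ k : G, classIndicator x h * classIndicator y k * Θ (h * k⁻¹) := by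
    rw [← Equiv.sum_comp ((Equiv.inv G).trans (Equiv.mulLeft h))]
    apply Finset.sum_congr rfl
    intro k _
    simp only [Equiv.trans_apply, Equiv.inv_apply, Equiv.coe_mulLeft, inv_mul_cancel_left]
    rw [classIndicator_inv_inv]
  rw [h2]
  have h3 : ∀ k : G, classIndicator x h * classIndicator y k * Θ (h * k⁻¹)
      = if h = k then Θ 1 * (classIndicator x h * classIndicator y h) else 0 := by
    intro k
    by_cases hk : h = k
    · subst hk
      rw [if_pos rfl, mul_inv_cancel]
      ring
    · rw [if_neg hk]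
      unfold classIndicator
      by_cases hx : IsConj x h
      · by_cases hy : IsConj y k
        · rw [if_pos hx, if_pos hy, hΘ h k hx hy]
          · ring
          · intro h0
            apply hk
            have := mul_inv_eq_one.mp h0
            exact this
        · rw [if_neg hy]; ring
      · rw [if_neg hx]; ring
  rw [Finset.sum_congr rfl (fun k _ => h3 k), Finset.sum_ite_eq]
  simp

/-- evaluation of `∑ conv a b u * Θ u` by characters -/
theorem sum_conv_mul_eq_sum_irr [Fintype (Cfsg.IrrCharacter G)] (a b Θ : G → ℂ)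
    (ha : Cfsg.IsClassFunction G a) (hb : Cfsg.IsClassFunction G b)
    (hΘ : Cfsg.IsClassFunction G Θ) :
    ∑ u : G, conv a b u * Θ u
      = ∑ χ : Cfsg.IrrCharacter G, Cfsg.classInner Θ (χ : G → ℂ)
          * ((χ : G → ℂ) 1 * (omega (χ : G → ℂ) a * omega (χ : G → ℂ) b)) := by
  have h1 : ∀ u : G, Θ u
      = ∑ χ : Cfsg.IrrCharacter G, Cfsg.classInner Θ (χ : G → ℂ) * (χ : G → ℂ) u := by
    intro u
    have := congrFun (classFunction_expansion Θ hΘ) u
    rw [Finset.sum_apply] at this
    simpa using this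
  have h2 : ∀ u : G, conv a b u * Θ u
      = ∑ χ : Cfsg.IrrCharacter G,
          Cfsg.classInner Θ (χ : G → ℂ) * (conv a b u * (χ : G → ℂ) u) := by
    intro u
    conv_lhs => rw [h1 u]
    rw [Finset.mul_sum]
    apply Finset.sum_congr rfl
    intro χ _
    ring
  rw [Finset.sum_congr rfl (fun u _ => h2 u), Finset.sum_comm]
  apply Finset.sum_congr rfl
  intro χ _
  rw [← Finset.mul_sum]
  congr 1
  rw [← omega_conv χ a b ha hb]
  unfold omega
  have hne : (χ : G → ℂ) 1 ≠ 0 := Cfsg.Agent.Lib.Helper25.irr_one_ne_zero χ.2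
  field_simp

end Identity

section Units

variable {p : ℕ} {M : Ideal Cfsg.AlgInt}

theorem prod_not_memLocalIdeal (hM : Cfsg.IsPModular p M) {ι : Type*} (s : Finset ι) (f : ι → ℂ)
    (hf : ∀ i ∈ s, Cfsg.MemLocalRing M (f i)) (hf' : ∀ i ∈ s, ¬ Cfsg.MemLocalIdeal M (f i)) :
    ¬ Cfsg.MemLocalIdeal M (∏ i ∈ s, f i) := by
  classical
  induction s using Finset.induction_on with
  | empty =>
    rw [Finset.prod_empty]
    exact not_memLocalIdeal_one hM
  | insert a s ha ih =>
    rw [Finset.prod_insert ha]
    intro h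
    rcases memLocalIdeal_or_of_mul hM (hf a (Finset.mem_insert_self a s))
      (memLocalRing_prod hM _ _ (fun i hi => hf i (Finset.mem_insert_of_mem hi))) h with h1 | h1
    · exact hf' a (Finset.mem_insert_self a s) h1
    · exact ih (fun i hi => hf i (Finset.mem_insert_of_mem hi))
        (fun i hi => hf' i (Finset.mem_insert_of_mem hi)) h1

end Units

section Sylow

variable {G : Type*} [Group G] [Fintype G] {p : ℕ}

/-- the permutation character on the cosets of a Sylow `p`-subgroup vanishes off the
`p`-elements -/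
theorem indFun_sylow_eq_zero [Fact p.Prime] (S : Sylow p G) (u : G)
    (hu : ∀ k : ℕ, orderOf u ≠ p ^ k) :
    Cfsg.indFun (S : Subgroup G) (fun _ => (1 : ℂ)) u = 0 := by
  apply Cfsg.Agent.Lib.Helper14.indFun_eq_zero_of_forall_not_mem
  intro x hx
  obtain ⟨k, hk⟩ := (IsPGroup.iff_orderOf.mp S.2) ⟨x⁻¹ * u * x, hx⟩
  rw [Subgroup.orderOf_mk] at hk
  apply hu k
  rw [← hk]
  have := (MulAut.conj x⁻¹).orderOf_eq u
  rw [MulAut.conj_apply, inv_inv] at this
  exact this.symm

theorem indFun_sylow_one (S : Sylow p G) :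
    Cfsg.indFun (S : Subgroup G) (fun _ => (1 : ℂ)) 1 = ((S : Subgroup G).index : ℂ) := by
  rw [Cfsg.Agent.Lib.Helper14.indFun_central (S : Subgroup G) _ 1 (Subgroup.one_mem _)
    (Subgroup.one_mem _), mul_one]

end Sylow

section Key

variable {G : Type*} [Group G] [Fintype G] {p : ℕ}

theorem centralizer_singleton_inv (g : G) :
    Subgroup.centralizer ({g⁻¹} : Set G) = Subgroup.centralizer ({g} : Set G) := by
  ext c
  rw [Subgroup.mem_centralizer_singleton_iff, Subgroup.mem_centralizer_singleton_iff]
  constructor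
  · intro h
    have : c * g = g * (g⁻¹ * c) * g := by group
    rw [this, ← h]; group
  · intro h
    have : c * g⁻¹ = g⁻¹ * (g * c) * g⁻¹ := by group
    rw [this, ← h]; group

theorem sum_classIndicator_mul_self (x : G) :
    ∑ h : G, classIndicator x h * classIndicator x h
      = ((Subgroup.centralizer ({x} : Set G)).index : ℂ) := by
  classical
  unfold classIndicator
  have : ∀ h : G, (if IsConj x h then (1 : ℂ) else 0) * (if IsConj x h then (1 : ℂ) else 0)
      = if IsConj x h then 1 else 0 := by
    intro h; split_ifs <;> simp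
  rw [Finset.sum_congr rfl (fun h _ => this h), Finset.sum_boole, index_centralizer_eq_card_conj,
    Nat.card_eq_fintype_card, Fintype.card_subtype]

theorem sum_classIndicator_mul_of_not_isConj (x y : G) (h : ¬ IsConj x y) :
    ∑ g : G, classIndicator x g * classIndicator y g = 0 := by
  apply Finset.sum_eq_zero
  intro g _
  unfold classIndicator
  by_cases hx : IsConj x g
  · by_cases hy : IsConj y g
    · exact absurd (hx.trans hy.symm) h
    · rw [if_neg hy, mul_zero]
  · rw [if_neg hx, zero_mul]

/-- the key identity for the permutation character `Θ` on the cosets of a Sylow `p`-subgroup -/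
theorem key_identity [Fact p.Prime] [Fintype (Cfsg.IrrCharacter G)] (S : Sylow p G) (x y : G)
    (hsep : ∀ g h : G, IsConj x g → IsConj y h → ∀ k : ℕ, 0 < k → orderOf (g * h⁻¹) ≠ p ^ k) :
    ((Subgroup.centralizer ({y} : Set G)).index : ℂ)
      * ∑ χ : Cfsg.IrrCharacter G,
          Cfsg.classInner (Cfsg.indFun (S : Subgroup G) (fun _ => (1 : ℂ))) (χ : G → ℂ)
            * (Cfsg.centralChar (χ : G → ℂ) x * (χ : G → ℂ) y⁻¹)
      = ((S : Subgroup G).index : ℂ) * ∑ h : G, classIndicator x h * classIndicator y h := by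
  set Θ := Cfsg.indFun (S : Subgroup G) (fun _ => (1 : ℂ)) with hΘdef
  have hΘcf : Cfsg.IsClassFunction G Θ := indFun_isClassFunction _ _
  have hvan : ∀ g h : G, IsConj x g → IsConj y h → g * h⁻¹ ≠ 1 → Θ (g * h⁻¹) = 0 := by
    intro g h hg hh hne
    apply indFun_sylow_eq_zero S
    intro k
    rcases Nat.eq_zero_or_pos k with h0 | hpos
    · rw [h0, pow_zero]
      intro h1
      exact hne (orderOf_eq_one_iff.mp h1)
    · exact hsep g h hg hh k hpos
  have h1 := sum_conv_classIndicator_mul Θ x y hvan
  have h2 := sum_conv_mul_eq_sum_irr (classIndicator x) (classIndicator y⁻¹) Θ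
    (classIndicator_isClassFunction x) (classIndicator_isClassFunction y⁻¹) hΘcf
  rw [h1] at h2
  rw [← indFun_sylow_one S, h2, Finset.mul_sum]
  apply Finset.sum_congr rfl
  intro χ _
  rw [omega_classIndicator _ (IrrCharacter.isClassFunction χ),
    omega_classIndicator _ (IrrCharacter.isClassFunction χ)]
  have hne : (χ : G → ℂ) 1 ≠ 0 := Cfsg.Agent.Lib.Helper25.irr_one_ne_zero χ.2
  have e : (χ : G → ℂ) 1 * Cfsg.centralChar (χ : G → ℂ) y⁻¹
      = ((Subgroup.centralizer ({y} : Set G)).index : ℂ) * (χ : G → ℂ) y⁻¹ := by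
    unfold Cfsg.centralChar
    rw [centralizer_singleton_inv]
    field_simp
  symm
  calc Cfsg.classInner Θ (χ : G → ℂ) * ((χ : G → ℂ) 1
        * (Cfsg.centralChar (χ : G → ℂ) x * Cfsg.centralChar (χ : G → ℂ) y⁻¹))
      = Cfsg.classInner Θ (χ : G → ℂ) * (Cfsg.centralChar (χ : G → ℂ) x
        * ((χ : G → ℂ) 1 * Cfsg.centralChar (χ : G → ℂ) y⁻¹)) := by ring
    _ = _ := by rw [e]; ring

end Key

section Main

variable {G : Type*} [Group G] [Fintype G] {p : ℕ} {M : Ideal Cfsg.AlgInt}

/-- the value of a character at an element whose class has smaller `p`-part than the degree lies in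
the local ideal -/
theorem irr_apply_memLocalIdeal_of_factorization_lt (hM : Cfsg.IsPModular p M)
    (χ : Cfsg.IrrCharacter G) (y : G)
    (h : ((Subgroup.centralizer ({y} : Set G)).index).factorization p
      < (Cfsg.charDegree (χ : G → ℂ)).factorization p) :
    Cfsg.MemLocalIdeal M ((χ : G → ℂ) y) := by
  have hχ1 : (χ : G → ℂ) 1 = (Cfsg.charDegree (χ : G → ℂ) : ℂ) :=
    Cfsg.Agent.Lib.Helper25.char_one_eq_charDegree (Cfsg.Agent.Lib.Helper25.isCharacter_of_irr χ.2)
  have hnpos : 0 < Cfsg.charDegree (χ : G → ℂ) := irr_charDegree_pos χ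
  have hkne : (Subgroup.centralizer ({y} : Set G)).index ≠ 0 := Subgroup.index_ne_zero_of_finite
  have hk0 : ((Subgroup.centralizer ({y} : Set G)).index : ℂ) ≠ 0 := by exact_mod_cast hkne
  have hn0 : (Cfsg.charDegree (χ : G → ℂ) : ℂ) ≠ 0 := by exact_mod_cast hnpos.ne'
  have e : (χ : G → ℂ) y = Cfsg.centralChar (χ : G → ℂ) y
      * ((Cfsg.charDegree (χ : G → ℂ) : ℂ) / ((Subgroup.centralizer ({y} : Set G)).index : ℂ)) := by
    unfold Cfsg.centralChar
    rw [hχ1]
    field_simp
  rw [e]
  apply memLocalIdeal_mul_left hM (centralChar_memLocalRing hM χ y)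
  exact memLocalIdeal_div_of_factorization_lt hM hnpos.ne' hkne h

/-- a character whose block does not have `D` as a defect group contributes to the local ideal -/
theorem term_memLocalIdeal [Fact p.Prime] (hM : Cfsg.IsPModular p M) (D : Subgroup G) (x y : G)
    (Sx : Sylow p (Subgroup.centralizer ({x} : Set G)))
    (hSx : (Sx : Subgroup (Subgroup.centralizer ({x} : Set G))).map
      (Subgroup.centralizer ({x} : Set G)).subtype = D)
    (hy : Nat.card D = p ^ (Nat.card (Subgroup.centralizer ({y} : Set G))).factorization p)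
    (χ : Cfsg.IrrCharacter G)
    (hχ : ¬ Cfsg.IsDefectGroup p M (Cfsg.blockOf M (χ : G → ℂ)) D) :
    Cfsg.MemLocalIdeal M (Cfsg.centralChar (χ : G → ℂ) x * (χ : G → ℂ) y) := by
  have hp : p.Prime := Fact.out
  by_cases hω : Cfsg.MemLocalIdeal M (Cfsg.centralChar (χ : G → ℂ) x)
  · exact memLocalIdeal_mul_right hM hω (memLocalRing_of_isIntegral hM (irr_value_isIntegral χ y))
  · set B' := Cfsg.blockOf M (χ : G → ℂ) with hB'def
    have hB' : Cfsg.IsPBlock M B' := ⟨χ, rfl⟩
    have hχB : χ ∈ B' := mem_blockOf_self hM χ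
    obtain ⟨g₀, hg₀⟩ := exists_isDefectClass hM B' hB'
    have hmm := minmax hM B' hB' x g₀ Sx χ hχB hω hg₀.2.1
    rw [hSx] at hmm
    obtain ⟨Q'⟩ : Nonempty (Sylow p (Subgroup.centralizer ({g₀} : Set G))) := inferInstance
    set D' := (Q' : Subgroup (Subgroup.centralizer ({g₀} : Set G))).map
      (Subgroup.centralizer ({g₀} : Set G)).subtype with hD'def
    have hD' : Cfsg.IsDefectGroup p M B' D' := ⟨g₀, hg₀, Q', rfl⟩
    obtain ⟨c, hc⟩ := hmm.forall Q'
    have hcardle : Nat.card D' ≤ Nat.card D := by
      rw [← card_map_conj D c]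
      exact Subgroup.card_le_of_le hc
    have hlt : Nat.card D' < Nat.card D := by
      rcases lt_or_eq_of_le hcardle with h | h
      · exact h
      · exfalso
        apply hχ
        have heq : D' = D.map (MulAut.conj c).toMonoidHom := by
          apply Subgroup.eq_of_le_of_card_ge hc
          rw [card_map_conj, h]
        have h2 := isDefectGroup_map_conj hD' c⁻¹
        rw [heq, map_conj_map_conj, inv_mul_cancel] at h2
        have h3 : D.map (MulAut.conj (1 : G)).toMonoidHom = D := by
          ext g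
          simp
        rw [h3] at h2
        exact h2
    have hcardD' : Nat.card D'
        = p ^ (Nat.card (Subgroup.centralizer ({g₀} : Set G))).factorization p := by
      rw [hD'def, Subgroup.card_map_of_injective (Subgroup.subtype_injective _)]
      exact Q'.card_eq_multiplicity
    rw [hcardD', hy] at hlt
    have hlt' := (Nat.pow_lt_pow_iff_right hp.one_lt).mp hlt
    have hsInf := sInf_factorization_of_isDefectClass hM B' hB' g₀ hg₀
    have hle : sInf ((fun χ : Cfsg.IrrCharacter G =>
        (Cfsg.charDegree (χ : G → ℂ)).factorization p) '' B')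
        ≤ (Cfsg.charDegree (χ : G → ℂ)).factorization p := Nat.sInf_le ⟨χ, hχB, rfl⟩
    rw [hsInf] at hle
    have hidx := factorization_index_centralizer (p := p) y
    have hya : (Nat.card (Subgroup.centralizer ({y} : Set G))).factorization p
        ≤ (Nat.card G).factorization p := by
      have hdvd : Nat.card (Subgroup.centralizer ({y} : Set G)) ∣ Nat.card G :=
        Subgroup.card_subgroup_dvd_card _
      exact (Nat.factorization_le_iff_dvd Nat.card_pos.ne' Nat.card_pos.ne').mpr hdvd p
    apply memLocalIdeal_mul_left hM (centralChar_memLocalRing hM χ x)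
    apply irr_apply_memLocalIdeal_of_factorization_lt hM
    omega

open Classical in
/-- **Blocks from `p`-separated classes.** -/
theorem separated_classes [Fact p.Prime] (hM : Cfsg.IsPModular p M) (D : Subgroup G) {r : ℕ}
    (x : Fin r → G) (hx : ∀ i j : Fin r, IsConj (x i) (x j) → i = j)
    (hD : ∀ i : Fin r, ∃ S : Sylow p ↥(Subgroup.centralizer ({x i} : Set G)),
      (S : Subgroup ↥(Subgroup.centralizer ({x i} : Set G))).map
        (Subgroup.centralizer ({x i} : Set G)).subtype = D)
    (hsep : ∀ i j : Fin r, ∀ g h : G, IsConj (x i) g → IsConj (x j) h → ∀ k : ℕ, 0 < k →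
      orderOf (g * h⁻¹) ≠ p ^ k) :
    ∃ B : Fin r → Set (Cfsg.IrrCharacter G), Function.Injective B ∧
      (∀ i : Fin r, Cfsg.IsPBlock M (B i) ∧ Cfsg.IsDefectGroup p M (B i) D) ∧
      ∀ χ : Fin r → Cfsg.IrrCharacter G,
        (∀ i : Fin r, χ i ∈ B i ∧ Cfsg.blockHeight p (B i) (χ i : G → ℂ) = 0) →
        ¬ Cfsg.MemLocalIdeal M
          (Matrix.det (Matrix.of fun i j : Fin r => (χ i : G → ℂ) (x j))) := by
  have hp : p.Prime := Fact.out
  haveI : Fintype (Cfsg.IrrCharacter G) := Fintype.ofFinite _
  obtain ⟨S₀⟩ : Nonempty (Sylow p G) := inferInstance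
  set Θ := Cfsg.indFun (S₀ : Subgroup G) (fun _ => (1 : ℂ)) with hΘdef
  have hΘchar : Cfsg.IsCharacter G Θ :=
    indFun_isCharacter _ _ (IsIrrCharacter.isCharacter
      (Cfsg.Agent.Lib.Helper25.isIrrCharacter_one (G := (S₀ : Subgroup G))))
  set m := (S₀ : Subgroup G).index with hmdef
  have hm : ¬ p ∣ m := S₀.not_dvd_index
  set c : Cfsg.IrrCharacter G → ℂ := fun χ => Cfsg.classInner Θ (χ : G → ℂ) with hcdef
  have hcR : ∀ χ, Cfsg.MemLocalRing M (c χ) := by
    intro χ
    obtain ⟨n, hn⟩ := classInner_isCharacter_nat hΘchar (IsIrrCharacter.isCharacter χ.2)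
    rw [hcdef]
    simp only
    rw [hn]
    exact memLocalRing_natCast hM n
  -- the orders
  choose Sx hSx using hD
  have hcardD : ∀ j : Fin r, Nat.card D
      = p ^ (Nat.card (Subgroup.centralizer ({x j} : Set G))).factorization p := by
    intro j
    rw [← hSx j, Subgroup.card_map_of_injective (Subgroup.subtype_injective _)]
    exact (Sx j).card_eq_multiplicity
  have hcardD' : ∀ j : Fin r, Nat.card D
      = p ^ (Nat.card (Subgroup.centralizer ({(x j)⁻¹} : Set G))).factorization p := by
    intro j
    rw [centralizer_singleton_inv]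
    exact hcardD j
  have hidxne : ∀ j : Fin r, ((Subgroup.centralizer ({x j} : Set G)).index : ℂ) ≠ 0 := by
    intro j
    have : (Subgroup.centralizer ({x j} : Set G)).index ≠ 0 := Subgroup.index_ne_zero_of_finite
    exact_mod_cast this
  -- the key identity
  have hT : ∀ i j : Fin r,
      ∑ χ : Cfsg.IrrCharacter G, c χ * (Cfsg.centralChar (χ : G → ℂ) (x i) * (χ : G → ℂ) (x j)⁻¹)
        = if i = j then (m : ℂ) else 0 := by
    intro i j
    have hk := key_identity S₀ (x i) (x j) (hsep i j)
    by_cases hij : i = j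
    · subst hij
      rw [if_pos rfl]
      rw [sum_classIndicator_mul_self] at hk
      have := mul_left_cancel₀ (hidxne i) (hk.trans (mul_comm _ _))
      exact this
    · rw [if_neg hij]
      rw [sum_classIndicator_mul_of_not_isConj _ _ (fun h => hij (hx i j h)), mul_zero] at hk
      rcases mul_eq_zero.mp hk with h0 | h0
      · exact absurd h0 (hidxne j)
      · exact h0
  -- the blocks with defect group `D`
  set ι := {B : Set (Cfsg.IrrCharacter G) // Cfsg.IsPBlock M B ∧ Cfsg.IsDefectGroup p M B D}
    with hιdef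
  haveI : Fintype ι := Fintype.ofFinite _
  have hrep : ∀ b : ι, ∃ χ : Cfsg.IrrCharacter G, χ ∈ b.1 := fun b => isPBlock_nonempty hM b.2.1
  choose rep hrepmem using hrep
  set Ω : Matrix (Fin r) ι ℂ := fun i b => Cfsg.centralChar (rep b : G → ℂ) (x i) with hΩdef
  set Y : Matrix ι (Fin r) ℂ := fun b j =>
    ∑ χ : Cfsg.IrrCharacter G, if χ ∈ b.1 then c χ * (χ : G → ℂ) (x j)⁻¹ else 0 with hYdef
  have hΩR : ∀ i b, Cfsg.MemLocalRing M (Ω i b) := fun i b => centralChar_memLocalRing hM _ _
  have hYR : ∀ b j, Cfsg.MemLocalRing M (Y b j) := by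
    intro b j
    apply memLocalRing_sum hM
    intro χ _
    split_ifs
    · exact memLocalRing_mul hM (hcR χ)
        (memLocalRing_of_isIntegral hM (irr_value_isIntegral χ _))
    · exact memLocalRing_zero hM
  have hΩYR : ∀ i j, Cfsg.MemLocalRing M ((Ω * Y) i j) := by
    intro i j
    rw [Matrix.mul_apply]
    exact memLocalRing_sum hM _ _ (fun b _ => memLocalRing_mul hM (hΩR i b) (hYR b j))
  -- congruence with the diagonal matrix
  have hcong : ∀ i j : Fin r, Cfsg.MemLocalIdeal M
      ((Ω * Y) i j - (Matrix.diagonal (fun _ : Fin r => (m : ℂ))) i j) := by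
    intro i j
    rw [Matrix.diagonal_apply, ← hT i j, Matrix.mul_apply]
    have h1 : ∑ b : ι, Ω i b * Y b j
        = ∑ χ : Cfsg.IrrCharacter G, ∑ b : ι,
            if χ ∈ b.1 then Ω i b * (c χ * (χ : G → ℂ) (x j)⁻¹) else 0 := by
      rw [Finset.sum_comm]
      apply Finset.sum_congr rfl
      intro b _
      rw [hYdef]
      simp only
      rw [Finset.mul_sum]
      apply Finset.sum_congr rfl
      intro χ _
      split_ifs
      · rfl
      · rw [mul_zero]
    rw [h1, ← Finset.sum_sub_distrib]
    apply memLocalIdeal_sum hM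
    intro χ _
    by_cases hχ : Cfsg.IsDefectGroup p M (Cfsg.blockOf M (χ : G → ℂ)) D
    · set b₀ : ι := ⟨Cfsg.blockOf M (χ : G → ℂ), ⟨χ, rfl⟩, hχ⟩ with hb₀
      have h2 : ∑ b : ι, (if χ ∈ b.1 then Ω i b * (c χ * (χ : G → ℂ) (x j)⁻¹) else 0)
          = Ω i b₀ * (c χ * (χ : G → ℂ) (x j)⁻¹) := by
        rw [Finset.sum_eq_single b₀]
        · rw [if_pos (mem_blockOf_self hM χ)]
        · intro b _ hb
          rw [if_neg]
          intro hmem
          apply hb
          apply Subtype.ext
          exact eq_blockOf_of_mem hM b.2.1 hmem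
        · intro h; exact absurd (Finset.mem_univ _) h
      rw [h2]
      have e : Ω i b₀ * (c χ * (χ : G → ℂ) (x j)⁻¹)
          - c χ * (Cfsg.centralChar (χ : G → ℂ) (x i) * (χ : G → ℂ) (x j)⁻¹)
          = (Ω i b₀ - Cfsg.centralChar (χ : G → ℂ) (x i)) * (c χ * (χ : G → ℂ) (x j)⁻¹) := by
        ring
      rw [e]
      apply memLocalIdeal_mul_right hM
      · have hsb : Cfsg.SameBlock M (χ : G → ℂ) (rep b₀ : G → ℂ) := hrepmem b₀
        have := memLocalIdeal_neg (hsb (x i))
        rw [neg_sub] at this
        exact this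
      · exact memLocalRing_mul hM (hcR χ)
          (memLocalRing_of_isIntegral hM (irr_value_isIntegral χ _))
    · have h2 : ∑ b : ι, (if χ ∈ b.1 then Ω i b * (c χ * (χ : G → ℂ) (x j)⁻¹) else 0) = 0 := by
        apply Finset.sum_eq_zero
        intro b _
        rw [if_neg]
        intro hmem
        apply hχ
        rw [← eq_blockOf_of_mem hM b.2.1 hmem]
        exact b.2.2
      rw [h2, zero_sub]
      apply memLocalIdeal_neg
      apply memLocalIdeal_mul_left hM (hcR χ)
      exact term_memLocalIdeal hM D (x i) (x j)⁻¹ (Sx i) (hSx i) (hcardD' j) χ hχ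
  -- the determinant is a unit
  have hdet : ¬ Cfsg.MemLocalIdeal M (Ω * Y).det := by
    intro hmem
    have h1 := det_sub_det_memLocalIdeal hM (Ω * Y) (Matrix.diagonal (fun _ : Fin r => (m : ℂ)))
      hΩYR (by
        intro i j
        rw [Matrix.diagonal_apply]
        split_ifs
        · exact memLocalRing_natCast hM m
        · exact memLocalRing_zero hM) hcong
    have h2 := memLocalIdeal_sub hM hmem h1
    rw [sub_sub_cancel, Matrix.det_diagonal, Finset.prod_const, Finset.card_univ,
      Fintype.card_fin] at h2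
    have h3 : ((m : ℂ)) ^ r = ((m ^ r : ℕ) : ℂ) := by push_cast; rfl
    rw [h3, memLocalIdeal_natCast_iff hM] at h2
    exact hm (hp.dvd_of_dvd_pow h2)
  obtain ⟨f, hf, hfdet⟩ := exists_injective_det_not_memLocalIdeal hM Ω Y hΩR hYR hdet
  refine ⟨fun i => (f i).1, ?_, fun i => (f i).2, ?_⟩
  · intro i j hij
    exact hf (Subtype.ext hij)
  · intro χ hχ
    -- the matrix of central characters
    set W : Matrix (Fin r) (Fin r) ℂ :=
      Matrix.of fun i j => Cfsg.centralChar (χ i : G → ℂ) (x j) with hWdef
    have hWR : ∀ i j, Cfsg.MemLocalRing M (W i j) := fun i j => centralChar_memLocalRing hM _ _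
    have hWdet : ¬ Cfsg.MemLocalIdeal M W.det := by
      intro hmem
      apply hfdet
      have h1 := det_sub_det_memLocalIdeal hM W (Ω.submatrix id f).transpose hWR
        (fun i j => hΩR _ _) (by
          intro i j
          simp only [hWdef, Matrix.of_apply, Matrix.transpose_apply, Matrix.submatrix_apply, id_eq]
          exact sameBlock_of_mem hM (f i).2.1 (hχ i).1 (hrepmem (f i)) (x j))
      have h2 := memLocalIdeal_sub hM hmem h1
      rw [sub_sub_cancel, Matrix.det_transpose] at h2
      exact h2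
    -- factor out the unit
    set u : Fin r → ℂ := fun i => (χ i : G → ℂ) 1 with hudef
    set v : Fin r → ℂ := fun j => ((Subgroup.centralizer ({x j} : Set G)).index : ℂ)⁻¹ with hvdef
    have hN : (Matrix.of fun i j : Fin r => (χ i : G → ℂ) (x j))
        = Matrix.of fun i j : Fin r => u i * (Matrix.of fun i j : Fin r => v j * W i j) i j := by
      ext i j
      simp only [Matrix.of_apply, hudef, hvdef, hWdef]
      unfold Cfsg.centralChar
      have hne : (χ i : G → ℂ) 1 ≠ 0 := Cfsg.Agent.Lib.Helper25.irr_one_ne_zero (χ i).2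
      have := hidxne j
      field_simp
    rw [hN, Matrix.det_mul_column, Matrix.det_mul_row, ← mul_assoc, ← Finset.prod_mul_distrib]
    intro hmem
    have hUR : ∀ i ∈ (Finset.univ : Finset (Fin r)), Cfsg.MemLocalRing M (u i * v i)
        ∧ ¬ Cfsg.MemLocalIdeal M (u i * v i) := by
      intro i _
      have hχ1 : (χ i : G → ℂ) 1 = (Cfsg.charDegree (χ i : G → ℂ) : ℂ) :=
        Cfsg.Agent.Lib.Helper25.char_one_eq_charDegree
          (Cfsg.Agent.Lib.Helper25.isCharacter_of_irr (χ i).2)
      have hnpos : 0 < Cfsg.charDegree (χ i : G → ℂ) := irr_charDegree_pos (χ i)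
      have hkne : (Subgroup.centralizer ({x i} : Set G)).index ≠ 0 :=
        Subgroup.index_ne_zero_of_finite
      obtain ⟨g, hg, _, hgcard⟩ := exists_of_isDefectGroup (f i).2.2
      have h0 := factorization_of_height_zero hM (f i).1 (f i).2.1 g hg (χ i) (hχ i).1 (hχ i).2
      have h1 := factorization_index_centralizer (p := p) g
      have h2 := factorization_index_centralizer (p := p) (x i)
      have h3 : (Nat.card (Subgroup.centralizer ({g} : Set G))).factorization p
          = (Nat.card (Subgroup.centralizer ({x i} : Set G))).factorization p := by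
        have := (hgcard.symm.trans (hcardD i))
        exact Nat.pow_right_injective hp.two_le this
      have heq : ((Subgroup.centralizer ({x i} : Set G)).index).factorization p
          = (Cfsg.charDegree (χ i : G → ℂ)).factorization p := by
        rw [h0, h1, h2, h3]
      have e : u i * v i = (Cfsg.charDegree (χ i : G → ℂ) : ℂ)
          / ((Subgroup.centralizer ({x i} : Set G)).index : ℂ) := by
        simp only [hudef, hvdef]
        rw [hχ1, div_eq_mul_inv]
      rw [e]
      exact ⟨memLocalRing_div_of_factorization_le hM hnpos.ne' hkne (le_of_eq heq),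
        not_memLocalIdeal_div_of_factorization_eq hM hnpos.ne' hkne heq⟩
    have hU := prod_not_memLocalIdeal hM Finset.univ (fun i => u i * v i)
      (fun i hi => (hUR i hi).1) (fun i hi => (hUR i hi).2)
    rcases memLocalIdeal_or_of_mul hM
      (memLocalRing_prod hM _ _ (fun i hi => (hUR i hi).1)) (det_memLocalRing hM W hWR) hmem
      with h | h
    · exact hU h
    · exact hWdet h

end Main

end Cfsg.Agent.Lib.Helper7
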