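import Mathlib
import Cfsg.Prelude.Def_Blocks
import Cfsg.Agent.Lib.Helper24.Loc
import Cfsg.Agent.Lib.Helper24.CenterFn
import Cfsg.Agent.Lib.Helper24.BlockBasic
import Cfsg.Agent.Lib.Helper2.Column
import Cfsg.Agent.Lib.Helper2.PermLemma
import Cfsg.Agent.Lib.Helper25.CharBasic
import Cfsg.Agent.Lib.Helper25.Codegree
import Cfsg.Agent.Lib.Helper25.EvenDegree
import Cfsg.Agent.Lib.Helper7.DefectOrder
import Cfsg.Agent.Lib.Helper7.DetLocal
import Cfsg.Agent.Lib.Helper7.SeparatedClasses

/-!
# Elements of order `3` and characters of `2`-defect zero (helper7)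

`card_le_card_defectZero_of_orderThree`: the number of classes of elements of order `3` normalizing
no nontrivial `2`-subgroup is at most the number of irreducible characters of `2`-defect zero.
-/

set_option autoImplicit false

namespace Cfsg.Agent.Lib.Helper7

section GroupTheory

variable {G : Type*} [Group G]

/-- if `a³ = 1`, `t` is an involution and `(a t)³ = 1`, then `a` normalizes the four-group
generated by `t` and `a t a⁻¹` -/
theorem exists_two_subgroup_of_involution (a t : G) (ha : a ^ 3 = 1) (ht : t * t = 1)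
    (ht1 : t ≠ 1) (hat : (a * t) ^ 3 = 1) :
    ∃ Q : Subgroup G, IsPGroup 2 Q ∧ a ∈ Subgroup.normalizer (Q : Set G) ∧ Q ≠ ⊥ := by
  set s := a * t * a⁻¹ with hs
  set r := a * s * a⁻¹ with hr
  have hss : s * s = 1 := by
    rw [hs]
    have : a * t * a⁻¹ * (a * t * a⁻¹) = a * (t * t) * a⁻¹ := by group
    rw [this, ht]; group
  have ha' : a * a * a = 1 := by rw [← ha, pow_succ, pow_two]
  have hainv : a⁻¹ = a * a := by
    have : a⁻¹ = a⁻¹ * (a * a * a) := by rw [ha', mul_one]
    rw [this]; group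
  have hinv2 : a⁻¹ * a⁻¹ = a := by
    have : a⁻¹ * a⁻¹ = a⁻¹ * a⁻¹ * (a * a * a) := by rw [ha', mul_one]
    rw [this]; group
  have hsrt : s * r * t = 1 := by
    have h1 : s * r * t = a * t * a * t * (a⁻¹ * a⁻¹) * t := by
      rw [hr, hs]; group
    have h2 : a * t * a * t * a * t = (a * t) ^ 3 := by
      rw [pow_succ, pow_two]; group
    rw [h1, hinv2, h2, hat]
  have hrr : r * r = 1 := by
    rw [hr]
    have : a * s * a⁻¹ * (a * s * a⁻¹) = a * (s * s) * a⁻¹ := by group
    rw [this, hss]; group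
  -- `s r = t`
  have hsr : s * r = t := by
    have : s * r = s * r * t * t := by rw [mul_assoc (s * r), ht, mul_one]
    rw [this, hsrt, one_mul]
  have hr_eq : r = s * t := by
    have : r = s * (s * r) := by rw [← mul_assoc, hss, one_mul]
    rw [this, hsr]
  have hst : s * t = t * s := by
    -- `(s t)² = r² = 1`
    have h1 : s * t * (s * t) = 1 := by rw [← hr_eq]; exact hrr
    have : t * s = (s * s) * (t * s) * (t * t) := by rw [hss, ht, one_mul, mul_one]
    rw [this]
    have : s * s * (t * s) * (t * t) = s * (s * t * (s * t)) * t := by group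
    rw [this, h1, mul_one]
  set Q := Subgroup.closure ({t, s} : Set G) with hQ
  have htQ : t ∈ Q := Subgroup.subset_closure (by simp)
  have hsQ : s ∈ Q := Subgroup.subset_closure (by simp)
  -- every element of `Q` commutes with `t` and `s`
  have hcent : ∀ x ∈ Q, x * t = t * x ∧ x * s = s * x := by
    intro x hx
    induction hx using Subgroup.closure_induction with
    | mem y hy =>
      rcases hy with rfl | hy
      · exact ⟨rfl, hst.symm⟩
      · rw [Set.mem_singleton_iff] at hy
        subst hy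
        exact ⟨hst, rfl⟩
    | one => simp
    | mul x y _ _ hx hy =>
      constructor
      · rw [mul_assoc, hy.1, ← mul_assoc, hx.1, mul_assoc]
      · rw [mul_assoc, hy.2, ← mul_assoc, hx.2, mul_assoc]
    | inv x _ hx =>
      constructor
      · have : x⁻¹ * t = x⁻¹ * (t * x) * x⁻¹ := by group
        rw [this, ← hx.1]; group
      · have : x⁻¹ * s = x⁻¹ * (s * x) * x⁻¹ := by group
        rw [this, ← hx.2]; group
  have hcomm : ∀ x ∈ Q, ∀ y ∈ Q, x * y = y * x := by
    intro x hx y hy
    induction hy using Subgroup.closure_induction with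
    | mem z hz =>
      rcases hz with rfl | hz
      · exact (hcent x hx).1
      · rw [Set.mem_singleton_iff] at hz
        subst hz
        exact (hcent x hx).2
    | one => simp
    | mul y z _ _ hy hz =>
      rw [← mul_assoc, hy, mul_assoc, hz, mul_assoc]
    | inv y _ hy =>
      have : x * y⁻¹ = y⁻¹ * (y * x) * y⁻¹ := by group
      rw [this, ← hy]; group
  have hsq : ∀ x ∈ Q, x * x = 1 := by
    intro x hx
    induction hx using Subgroup.closure_induction with
    | mem z hz =>
      rcases hz with rfl | hz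
      · exact ht
      · rw [Set.mem_singleton_iff] at hz
        subst hz
        exact hss
    | one => simp
    | mul y z hy hz hyy hzz =>
      have : y * z * (y * z) = y * (z * y) * z := by group
      rw [this, hcomm z hz y hy]
      have : y * (y * z) * z = (y * y) * (z * z) := by group
      rw [this, hyy, hzz, one_mul]
    | inv y _ hy =>
      have : y⁻¹ * y⁻¹ = (y * y)⁻¹ := by group
      rw [this, hy, inv_one]
  have hconj : ∀ x ∈ Q, a * x * a⁻¹ ∈ Q := by
    have : Q ≤ Q.comap (MulAut.conj a).toMonoidHom := by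
      rw [hQ, Subgroup.closure_le]
      intro y hy
      rcases hy with rfl | hy
      · show a * y * a⁻¹ ∈ Subgroup.closure ({y, s} : Set G)
        exact hsQ
      · rw [Set.mem_singleton_iff] at hy
        subst hy
        show a * s * a⁻¹ ∈ Q
        rw [← hr, hr_eq]
        exact Q.mul_mem hsQ htQ
    intro x hx
    exact this hx
  refine ⟨Q, ?_, ?_, ?_⟩
  · intro x
    refine ⟨1, ?_⟩
    apply Subtype.ext
    have := hsq x.1 x.2
    simp only [pow_one, Subgroup.coe_pow, Subgroup.coe_one]
    rw [pow_two]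
    exact this
  · rw [Subgroup.mem_normalizer_iff]
    intro x
    constructor
    · exact hconj x
    · intro hx
      have h2 := hconj _ (hconj _ hx)
      have e : a * (a * (a * x * a⁻¹) * a⁻¹) * a⁻¹ = (a * a * a) * x * (a * a * a)⁻¹ := by group
      rw [e, ha'] at h2
      simpa using h2
  · intro hbot
    rw [hbot, Subgroup.mem_bot] at htQ
    exact ht1 htQ


theorem isConj_pow_eq_one {k g : G} (h : IsConj k g) {n : ℕ} (hk : k ^ n = 1) : g ^ n = 1 := by
  obtain ⟨c, hc⟩ := isConj_iff.mp h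
  rw [← hc, conj_pow, hk]; group

open Classical in
/-- the number of factorizations `w = g * g'` with `g`, `g'` conjugate to an element `k` of order
dividing `3` is congruent mod `2` to `[k ∼ w⁻¹]`, when `w³ = 1` normalizes no nontrivial
`2`-subgroup -/
theorem card_conj_pairs_modEq [Fintype G] (k w : G) (hk : k ^ 3 = 1) (hw : w ^ 3 = 1)
    (hgood : ∀ Q : Subgroup G, IsPGroup 2 Q → w ∈ Subgroup.normalizer (Q : Set G) → Q = ⊥) :
    Fintype.card {g : G // IsConj k g ∧ IsConj k (g⁻¹ * w)}
      ≡ (if IsConj k w⁻¹ then 1 else 0) [MOD 2] := by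
  have hw' : w * w * w = 1 := by rw [← hw, pow_succ, pow_two]
  have hwinv2 : w⁻¹ * w⁻¹ = w := by
    have : w⁻¹ * w⁻¹ = w⁻¹ * w⁻¹ * (w * w * w) := by rw [hw', mul_one]
    rw [this]; group
  have hww : w * w = w⁻¹ := by
    have : w * w = w * w * w * w⁻¹ := by group
    rw [this, hw', one_mul]
  set α := {g : G // IsConj k g ∧ IsConj k (g⁻¹ * w)} with hα
  have hmap : ∀ g : G, IsConj k g ∧ IsConj k (g⁻¹ * w) →
      IsConj k (w⁻¹ * g⁻¹ * w⁻¹) ∧ IsConj k ((w⁻¹ * g⁻¹ * w⁻¹)⁻¹ * w) := by
    rintro g ⟨h1, h2⟩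
    constructor
    · have e : w⁻¹ * g⁻¹ * w⁻¹ = w⁻¹ * (g⁻¹ * w) * w⁻¹⁻¹ := by
        have : w⁻¹ * (g⁻¹ * w) * w⁻¹⁻¹ = w⁻¹ * g⁻¹ * (w * w) := by group
        rw [this, hww]
      rw [e]
      exact h2.trans (isConj_iff.mpr ⟨w⁻¹, rfl⟩)
    · have e : (w⁻¹ * g⁻¹ * w⁻¹)⁻¹ * w = w * g * w⁻¹ := by
        have : (w⁻¹ * g⁻¹ * w⁻¹)⁻¹ * w = w * g * (w * w) := by group
        rw [this, hww]
      rw [e]
      exact h1.trans (isConj_iff.mpr ⟨w, rfl⟩)
  let f : Function.End α := fun g => ⟨w⁻¹ * g.1⁻¹ * w⁻¹, hmap g.1 g.2⟩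
  have hf : f ^ 2 ^ 1 = 1 := by
    rw [pow_one, pow_two]
    funext g
    apply Subtype.ext
    show w⁻¹ * (w⁻¹ * g.1⁻¹ * w⁻¹)⁻¹ * w⁻¹ = g.1
    group
  have : Fact (Nat.Prime 2) := ⟨Nat.prime_two⟩
  have hmod := Equiv.Perm.card_fixedPoints_modEq (f := f) (p := 2) (n := 1) hf
  refine hmod.trans ?_
  -- the fixed points
  have hfix : ∀ g : α, g ∈ Function.fixedPoints f → g.1 = w⁻¹ := by
    intro g hg
    have hg' : w⁻¹ * g.1⁻¹ * w⁻¹ = g.1 := congrArg Subtype.val hg
    by_contra hne
    set t := w * g.1 with ht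
    have htt : t * t = 1 := by
      have : t * t = w * (w⁻¹ * g.1⁻¹ * w⁻¹)⁻¹⁻¹ * w * g.1 := by rw [hg', ht]; group
      rw [this]; group
    have ht1 : t ≠ 1 := by
      intro h1
      apply hne
      have : g.1 = w⁻¹ * t := by rw [ht]; group
      rw [this, h1, mul_one]
    have ha : (w⁻¹) ^ 3 = 1 := by rw [inv_pow, hw, inv_one]
    have hat : (w⁻¹ * t) ^ 3 = 1 := by
      have : w⁻¹ * t = g.1 := by rw [ht]; group
      rw [this]
      exact isConj_pow_eq_one g.2.1 hk
    obtain ⟨Q, hQ2, hQn, hQne⟩ := exists_two_subgroup_of_involution w⁻¹ t ha htt ht1 hat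
    apply hQne
    apply hgood Q hQ2
    have := (Subgroup.normalizer (Q : Set G)).inv_mem hQn
    simpa using this
  by_cases hc : IsConj k w⁻¹
  · rw [if_pos hc]
    have hmem : IsConj k w⁻¹ ∧ IsConj k (w⁻¹⁻¹ * w) := by
      refine ⟨hc, ?_⟩
      rw [inv_inv, hww]
      exact hc
    have : Fintype.card (Function.fixedPoints f) = 1 := by
      rw [Fintype.card_eq_one_iff]
      refine ⟨⟨⟨w⁻¹, hmem⟩, ?_⟩, ?_⟩
      · show f ⟨w⁻¹, hmem⟩ = ⟨w⁻¹, hmem⟩
        apply Subtype.ext
        show w⁻¹ * w⁻¹⁻¹ * w⁻¹ = w⁻¹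
        group
      · intro y
        apply Subtype.ext
        apply Subtype.ext
        exact hfix y.1 y.2
    rw [this]
  · rw [if_neg hc]
    have : Fintype.card (Function.fixedPoints f) = 0 := by
      rw [Fintype.card_eq_zero_iff]
      refine ⟨fun y => ?_⟩
      apply hc
      have := hfix y.1 y.2
      rw [← this]
      exact y.1.2.1
    rw [this]

end GroupTheory

section Main

open Cfsg.Agent.Lib.Helper2 Cfsg.Agent.Lib.Helper24
open scoped ComplexConjugate

variable {G : Type*} [Group G] [Fintype G]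

open Classical in
theorem conv_classIndicator_self (k w : G) :
    conv (classIndicator k) (classIndicator k) w
      = (Fintype.card {g : G // IsConj k g ∧ IsConj k (g⁻¹ * w)} : ℂ) := by
  rw [conv_apply]
  unfold classIndicator
  have : ∀ h : G, (if IsConj k h then (1 : ℂ) else 0) * (if IsConj k (h⁻¹ * w) then (1 : ℂ) else 0)
      = if (IsConj k h ∧ IsConj k (h⁻¹ * w)) then 1 else 0 := by
    intro h
    by_cases h1 : IsConj k h
    · by_cases h2 : IsConj k (h⁻¹ * w)
      · rw [if_pos h1, if_pos h2, if_pos ⟨h1, h2⟩, mul_one]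
      · rw [if_neg h2, if_neg (show ¬ (IsConj k h ∧ IsConj k (h⁻¹ * w)) from fun h' => h2 h'.2),
          mul_zero]
    · rw [if_neg h1, if_neg (show ¬ (IsConj k h ∧ IsConj k (h⁻¹ * w)) from fun h' => h1 h'.1),
        zero_mul]
  rw [Finset.sum_congr rfl (fun h _ => this h), Finset.sum_boole, Fintype.card_subtype]

theorem conv_eq_sum_irr [Fintype (Cfsg.IrrCharacter G)] (a b : G → ℂ)
    (ha : Cfsg.IsClassFunction G a) (hb : Cfsg.IsClassFunction G b) (v : G) :
    conv a b v = (Nat.card G : ℂ)⁻¹ * ∑ χ : Cfsg.IrrCharacter G,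
        conj ((χ : G → ℂ) v) * ((χ : G → ℂ) 1 * (omega (χ : G → ℂ) a * omega (χ : G → ℂ) b)) := by
  classical
  have h := sum_conv_mul_eq_sum_irr a b (classIndicator v) ha hb (classIndicator_isClassFunction v)
  have hcf := conv_isClassFunction a b ha hb
  have hL : ∑ u : G, conv a b u * classIndicator v u
      = (Nat.card {x : G // IsConj v x} : ℂ) * conv a b v := by
    have : ∀ u : G, conv a b u * classIndicator v u = if IsConj v u then conv a b v else 0 := by
      intro u
      unfold classIndicator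
      by_cases hu : IsConj v u
      · rw [if_pos hu, if_pos hu, mul_one]
        obtain ⟨c, hc⟩ := isConj_iff.mp hu
        rw [← hc]
        exact hcf v c
      · rw [if_neg hu, if_neg hu, mul_zero]
    rw [Finset.sum_congr rfl (fun u _ => this u), ← Finset.sum_filter, Finset.sum_const,
      nsmul_eq_mul, Nat.card_eq_fintype_card, Fintype.card_subtype]
  have hR : ∑ χ : Cfsg.IrrCharacter G, Cfsg.classInner (classIndicator v) (χ : G → ℂ)
      * ((χ : G → ℂ) 1 * (omega (χ : G → ℂ) a * omega (χ : G → ℂ) b))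
      = (Nat.card {x : G // IsConj v x} : ℂ) * ((Nat.card G : ℂ)⁻¹ * ∑ χ : Cfsg.IrrCharacter G,
        conj ((χ : G → ℂ) v)
          * ((χ : G → ℂ) 1 * (omega (χ : G → ℂ) a * omega (χ : G → ℂ) b))) := by
    rw [Finset.mul_sum, Finset.mul_sum]
    apply Finset.sum_congr rfl
    intro χ _
    rw [classInner_classIndicator v _ (IrrCharacter.isClassFunction χ)]
    ring
  rw [hL, hR] at h
  have hN : (Nat.card {x : G // IsConj v x} : ℂ) ≠ 0 := by
    have : Nat.card {x : G // IsConj v x} ≠ 0 := by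
      have : Nonempty {x : G // IsConj v x} := ⟨⟨v, IsConj.refl v⟩⟩
      exact Nat.card_pos.ne'
    exact_mod_cast this
  exact mul_left_cancel₀ hN h

theorem conv_classIndicator_self_eq_sum [Fintype (Cfsg.IrrCharacter G)] (x y : G) :
    conv (classIndicator x) (classIndicator x) y⁻¹
      = (Nat.card (Subgroup.centralizer ({x} : Set G)) : ℂ)⁻¹
        * ∑ χ : Cfsg.IrrCharacter G,
            Cfsg.centralChar (χ : G → ℂ) x * (χ : G → ℂ) x * (χ : G → ℂ) y := by
  rw [conv_eq_sum_irr _ _ (classIndicator_isClassFunction x) (classIndicator_isClassFunction x)]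
  have hcard : (Nat.card G : ℂ) = (Nat.card (Subgroup.centralizer ({x} : Set G)) : ℂ)
      * ((Subgroup.centralizer ({x} : Set G)).index : ℂ) := by
    rw [← Nat.cast_mul, Subgroup.card_mul_index]
  have hc0 : (Nat.card (Subgroup.centralizer ({x} : Set G)) : ℂ) ≠ 0 := by
    have : Nat.card (Subgroup.centralizer ({x} : Set G)) ≠ 0 := Nat.card_pos.ne'
    exact_mod_cast this
  have hi0 : ((Subgroup.centralizer ({x} : Set G)).index : ℂ) ≠ 0 := by
    have : (Subgroup.centralizer ({x} : Set G)).index ≠ 0 := Subgroup.index_ne_zero_of_finite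
    exact_mod_cast this
  rw [hcard, Finset.mul_sum, Finset.mul_sum]
  apply Finset.sum_congr rfl
  intro χ _
  rw [omega_classIndicator _ (IrrCharacter.isClassFunction χ), IrrCharacter.apply_inv,
    Complex.conj_conj]
  have hne : (χ : G → ℂ) 1 ≠ 0 := Cfsg.Agent.Lib.Helper25.irr_one_ne_zero χ.2
  have e : (χ : G → ℂ) 1 * Cfsg.centralChar (χ : G → ℂ) x
      = ((Subgroup.centralizer ({x} : Set G)).index : ℂ) * (χ : G → ℂ) x := by
    unfold Cfsg.centralChar
    field_simp
  calc ((Nat.card (Subgroup.centralizer ({x} : Set G)) : ℂ)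
        * ((Subgroup.centralizer ({x} : Set G)).index : ℂ))⁻¹
        * ((χ : G → ℂ) y * ((χ : G → ℂ) 1
          * (Cfsg.centralChar (χ : G → ℂ) x * Cfsg.centralChar (χ : G → ℂ) x)))
      = ((Nat.card (Subgroup.centralizer ({x} : Set G)) : ℂ)
        * ((Subgroup.centralizer ({x} : Set G)).index : ℂ))⁻¹
        * ((χ : G → ℂ) y * (((χ : G → ℂ) 1 * Cfsg.centralChar (χ : G → ℂ) x)
          * Cfsg.centralChar (χ : G → ℂ) x)) := by ring
    _ = _ := by
      rw [e]
      field_simp


/-- an element normalizing no nontrivial `2`-subgroup has a centralizer of odd order -/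
theorem not_two_dvd_card_centralizer_of_good (x : G)
    (hgood : ∀ Q : Subgroup G, IsPGroup 2 Q → x ∈ Subgroup.normalizer (Q : Set G) → Q = ⊥) :
    ¬ 2 ∣ Nat.card (Subgroup.centralizer ({x} : Set G)) := by
  intro h2
  have : Fact (Nat.Prime 2) := ⟨Nat.prime_two⟩
  obtain ⟨t, ht⟩ := exists_prime_orderOf_dvd_card' 2 h2
  have htc : x * (t : G) = (t : G) * x := by
    have := t.2
    rw [Subgroup.mem_centralizer_singleton_iff] at this
    exact this.symm
  set Q := Subgroup.zpowers (t : G) with hQ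
  have hQcard : Nat.card Q = 2 := by
    rw [hQ, Nat.card_zpowers, Subgroup.orderOf_coe, ht]
  have hQ2 : IsPGroup 2 Q := IsPGroup.of_card (n := 1) (by rw [hQcard, pow_one])
  have hnorm : x ∈ Subgroup.normalizer (Q : Set G) := by
    rw [Subgroup.mem_normalizer_iff]
    intro h
    have hcomm : ∀ y ∈ Q, x * y * x⁻¹ = y := by
      intro y hy
      obtain ⟨n, rfl⟩ := Subgroup.mem_zpowers_iff.mp hy
      have : Commute x ((t : G) ^ n) := Commute.zpow_right htc n
      rw [this.eq]; group
    constructor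
    · intro hh
      rw [hcomm h hh]; exact hh
    · intro hh
      have := hcomm _ hh
      have e : x⁻¹ * (x * (x * h * x⁻¹) * x⁻¹) * x = x * h * x⁻¹ := by group
      have e2 : x⁻¹ * (x * h * x⁻¹) * x = h := by group
      rw [this, e2] at e
      rw [e]; exact hh
  have hbot := hgood Q hQ2 hnorm
  rw [hbot] at hQcard
  simp at hQcard

theorem memLocalIdeal_natCast_sub_of_modEq {p : ℕ} {M : Ideal Cfsg.AlgInt}
    (hM : Cfsg.IsPModular p M) {n d : ℕ} (h : n ≡ d [MOD p]) :
    Cfsg.MemLocalIdeal M ((n : ℂ) - (d : ℂ)) := by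
  have h' := (Nat.modEq_iff_dvd.mp h)
  obtain ⟨m, hm⟩ := h'
  have e : (n : ℂ) - (d : ℂ) = (p : ℂ) * (-(m : ℂ)) := by
    have : ((d : ℤ) : ℂ) - ((n : ℤ) : ℂ) = ((p : ℤ) : ℂ) * ((m : ℤ) : ℂ) := by
      rw [← Int.cast_sub, hm, Int.cast_mul]
    simp only [Int.cast_natCast] at this
    linear_combination -this
  rw [e]
  apply memLocalIdeal_mul_right hM ((memLocalIdeal_natCast_iff hM p).mpr dvd_rfl)
  exact memLocalRing_neg (memLocalRing_intCast hM m)

open Classical in
/-- **Classes of good elements of order `3` and characters of `2`-defect zero.** -/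
theorem card_le_card_defectZero_of_orderThree [Fintype (Cfsg.IrrCharacter G)] {r : ℕ}
    (x : Fin r → G) (hx3 : ∀ i, orderOf (x i) = 3)
    (hgood : ∀ i, ∀ Q : Subgroup G, IsPGroup 2 Q → x i ∈ Subgroup.normalizer (Q : Set G) → Q = ⊥)
    (hx : ∀ i j : Fin r, IsConj (x i) (x j) → i = j) :
    r ≤ Fintype.card {χ : Cfsg.IrrCharacter G //
      (Cfsg.charDegree (χ : G → ℂ)).factorization 2 = (Nat.card G).factorization 2} := by
  have : Fact (Nat.Prime 2) := ⟨Nat.prime_two⟩
  obtain ⟨M, hM⟩ := Cfsg.Agent.Lib.Helper25.exists_isPModular 2 Nat.prime_two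
  have hodd : ∀ i, ¬ 2 ∣ Nat.card (Subgroup.centralizer ({x i} : Set G)) :=
    fun i => not_two_dvd_card_centralizer_of_good (x i) (hgood i)
  have hx3' : ∀ i, (x i) ^ 3 = 1 := by
    intro i
    rw [← hx3 i]
    exact pow_orderOf_eq_one _
  set P : Cfsg.IrrCharacter G → Prop := fun χ =>
    (Cfsg.charDegree (χ : G → ℂ)).factorization 2 = (Nat.card G).factorization 2 with hP
  -- characters of positive defect have central character values in the ideal
  have hcc : ∀ i, ∀ χ : Cfsg.IrrCharacter G, ¬ P χ →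
      Cfsg.MemLocalIdeal M (Cfsg.centralChar (χ : G → ℂ) (x i)) := by
    intro i χ hχ
    by_contra hcon
    apply hχ
    have h1 := factorization_index_le_of_centralChar hM χ (x i) hcon
    rw [factorization_index_centralizer (p := 2) (x i)] at h1
    have h0 : (Nat.card (Subgroup.centralizer ({x i} : Set G))).factorization 2 = 0 :=
      Nat.factorization_eq_zero_of_not_dvd (hodd i)
    rw [h0, Nat.sub_zero] at h1
    have hdvd := Cfsg.Agent.Lib.Helper25.charDegree_dvd_card χ.2
    have h2 : (Cfsg.charDegree (χ : G → ℂ)).factorization 2 ≤ (Nat.card G).factorization 2 :=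
      (Nat.factorization_le_iff_dvd (irr_charDegree_pos χ).ne' Nat.card_pos.ne').mpr hdvd 2
    exact le_antisymm h2 h1
  set cinv : Fin r → ℂ := fun i => (Nat.card (Subgroup.centralizer ({x i} : Set G)) : ℂ)⁻¹
    with hcinv
  have hcinvR : ∀ i, Cfsg.MemLocalRing M (cinv i) := fun i => memLocalRing_natCast_inv hM (hodd i)
  set F : Fin r → Fin r → Cfsg.IrrCharacter G → ℂ := fun i j χ =>
    cinv i * (Cfsg.centralChar (χ : G → ℂ) (x i) * (χ : G → ℂ) (x i)) * (χ : G → ℂ) (x j) with hF
  set A : Matrix (Fin r) {χ : Cfsg.IrrCharacter G // P χ} ℂ := fun i χ =>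
    cinv i * (Cfsg.centralChar ((χ : Cfsg.IrrCharacter G) : G → ℂ) (x i)
      * ((χ : Cfsg.IrrCharacter G) : G → ℂ) (x i)) with hA
  set B : Matrix {χ : Cfsg.IrrCharacter G // P χ} (Fin r) ℂ := fun χ j =>
    ((χ : Cfsg.IrrCharacter G) : G → ℂ) (x j) with hB
  have hvalR : ∀ (χ : Cfsg.IrrCharacter G) (g : G), Cfsg.MemLocalRing M ((χ : G → ℂ) g) :=
    fun χ g => memLocalRing_of_isIntegral hM (irr_value_isIntegral χ g)
  have hAR : ∀ i b, Cfsg.MemLocalRing M (A i b) := by
    intro i b
    exact memLocalRing_mul hM (hcinvR i)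
      (memLocalRing_mul hM (centralChar_memLocalRing hM _ _) (hvalR _ _))
  have hBR : ∀ b j, Cfsg.MemLocalRing M (B b j) := fun b j => hvalR _ _
  -- the entries of `A * B` are congruent to the identity matrix
  have hAB : ∀ i j, Cfsg.MemLocalIdeal M ((A * B) i j - (1 : Matrix (Fin r) (Fin r) ℂ) i j) := by
    intro i j
    have hN := conv_classIndicator_self_eq_sum (x i) (x j)
    rw [conv_classIndicator_self] at hN
    have hmod := card_conj_pairs_modEq (x i) (x j)⁻¹ (hx3' i)
      (by rw [inv_pow, hx3' j, inv_one])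
      (by
        intro Q hQ hn
        apply hgood j Q hQ
        have := (Subgroup.normalizer (Q : Set G)).inv_mem hn
        simpa using this)
    rw [inv_inv] at hmod
    have hδ : (if IsConj (x i) (x j) then 1 else 0 : ℕ)
        = if i = j then 1 else 0 := by
      by_cases hij : i = j
      · subst hij
        rw [if_pos rfl, if_pos (IsConj.refl _)]
      · rw [if_neg hij, if_neg (fun h => hij (hx i j h))]
    rw [hδ] at hmod
    have h1 := memLocalIdeal_natCast_sub_of_modEq hM hmod
    rw [hN] at h1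
    have hsplit := Fintype.sum_subtype_add_sum_subtype P (fun χ => F i j χ)
    have hmul : (A * B) i j = ∑ χ : {χ : Cfsg.IrrCharacter G // P χ}, F i j χ := by
      rw [Matrix.mul_apply]
    have hsumeq : (Nat.card (Subgroup.centralizer ({x i} : Set G)) : ℂ)⁻¹
        * ∑ χ : Cfsg.IrrCharacter G,
            Cfsg.centralChar (χ : G → ℂ) (x i) * (χ : G → ℂ) (x i) * (χ : G → ℂ) (x j)
        = ∑ χ : Cfsg.IrrCharacter G, F i j χ := by
      rw [Finset.mul_sum]
      apply Finset.sum_congr rfl
      intro χ _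
      rw [hF]
      simp only [hcinv]
      ring
    rw [hsumeq, ← hsplit, ← hmul] at h1
    have hrest : Cfsg.MemLocalIdeal M (∑ χ : {χ : Cfsg.IrrCharacter G // ¬ P χ}, F i j χ) := by
      apply memLocalIdeal_sum hM
      intro χ _
      rw [hF]
      simp only
      apply memLocalIdeal_mul_right hM _ (hvalR _ _)
      apply memLocalIdeal_mul_left hM (hcinvR i)
      exact memLocalIdeal_mul_right hM (hcc i χ.1 χ.2) (hvalR _ _)
    have hone : (1 : Matrix (Fin r) (Fin r) ℂ) i j = ((if i = j then 1 else 0 : ℕ) : ℂ) := by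
      rw [Matrix.one_apply]
      split_ifs <;> simp
    rw [hone]
    have := memLocalIdeal_sub hM h1 hrest
    have e : (A * B) i j + ∑ χ : {χ : Cfsg.IrrCharacter G // ¬ P χ}, F i j χ
        - ((if i = j then 1 else 0 : ℕ) : ℂ) - ∑ χ : {χ : Cfsg.IrrCharacter G // ¬ P χ}, F i j χ
        = (A * B) i j - ((if i = j then 1 else 0 : ℕ) : ℂ) := by ring
    rw [e] at this
    exact this
  have hABR : ∀ i j, Cfsg.MemLocalRing M ((A * B) i j) := by
    intro i j
    rw [Matrix.mul_apply]
    apply memLocalRing_sum hM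
    intro χ _
    exact memLocalRing_mul hM (hAR _ _) (hBR _ _)
  have h1R : ∀ i j, Cfsg.MemLocalRing M ((1 : Matrix (Fin r) (Fin r) ℂ) i j) := by
    intro i j
    rw [Matrix.one_apply]
    split_ifs
    · exact memLocalRing_one hM
    · exact memLocalRing_zero hM
  have hdet := det_sub_det_memLocalIdeal hM (A * B) 1 hABR h1R hAB
  rw [Matrix.det_one] at hdet
  have hdetne : ¬ Cfsg.MemLocalIdeal M (A * B).det := by
    intro h
    apply not_memLocalIdeal_one hM
    have := memLocalIdeal_sub hM h hdet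
    simpa using this
  obtain ⟨f, hf, _⟩ := exists_injective_det_not_memLocalIdeal hM A B hAR hBR hdetne
  have := Fintype.card_le_of_injective f hf
  rw [Fintype.card_fin] at this
  exact this

end Main

end Cfsg.Agent.Lib.Helper7
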