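import Mathlib

/-!
# Elementary facts on a subgroup isomorphic to the quaternion group of order 8
-/

set_option autoImplicit false

namespace Cfsg.Agent.Lib.Helper7

namespace Quat

open QuaternionGroup

theorem q8_sq : ∀ x : QuaternionGroup 2, x * x = 1 ∨ x * x = a 2 := by decide

theorem q8_invol : ∀ x : QuaternionGroup 2, x * x = 1 → x = 1 ∨ x = a 2 := by decide

theorem q8_cent : ∀ x : QuaternionGroup 2, x * x = a 2 → ∀ y : QuaternionGroup 2, y * x = x * y →
    y = 1 ∨ y = x ∨ y = a 2 ∨ y = x⁻¹ := by decide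

theorem q8_inv_conj : ∀ x : QuaternionGroup 2, ∃ y : QuaternionGroup 2, y * x * y⁻¹ = x⁻¹ := by
  decide

theorem q8_central : ∀ x : QuaternionGroup 2, x * a 2 = a 2 * x := by decide

theorem q8_z_ne_one : (a 2 : QuaternionGroup 2) ≠ 1 := by decide

theorem q8_z_sq : (a 2 : QuaternionGroup 2) * a 2 = 1 := by decide

theorem q8_a1_sq : (a 1 : QuaternionGroup 2) * a 1 = a 2 := by decide

variable {G : Type*} [Group G] (S : Subgroup G) (e : S ≃* QuaternionGroup 2)

/-- the central involution of a quaternion subgroup -/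
noncomputable def zz : G := ((e.symm (a 2) : S) : G)

theorem zz_mem : zz S e ∈ S := (e.symm (a 2)).2

theorem zz_ne_one : zz S e ≠ 1 := by
  intro h
  have h1 : (e.symm (a 2) : S) = 1 := Subtype.ext h
  have h2 : (a 2 : QuaternionGroup 2) = 1 := by
    have := congrArg e h1
    rwa [MulEquiv.apply_symm_apply, map_one] at this
  exact q8_z_ne_one h2

theorem zz_mul_self : zz S e * zz S e = 1 := by
  have h1 : (e.symm (a 2) : S) * e.symm (a 2) = 1 := by
    rw [← map_mul, q8_z_sq, map_one]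
  exact congrArg Subtype.val h1

theorem orderOf_zz : orderOf (zz S e) = 2 := by
  apply orderOf_eq_prime
  · rw [pow_two]; exact zz_mul_self S e
  · exact zz_ne_one S e

include e in
theorem card_eq : Nat.card S = 8 := by
  rw [Nat.card_congr e.toEquiv, Nat.card_eq_fintype_card, QuaternionGroup.card]

theorem mul_self_cases {x : G} (hx : x ∈ S) : x * x = 1 ∨ x * x = zz S e := by
  rcases q8_sq (e ⟨x, hx⟩) with h | h
  · left
    have h1 : (⟨x, hx⟩ : S) * ⟨x, hx⟩ = 1 := by
      apply e.injective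
      rw [map_mul, h, map_one]
    exact congrArg Subtype.val h1
  · right
    have h1 : (⟨x, hx⟩ : S) * ⟨x, hx⟩ = e.symm (a 2) := by
      apply e.injective
      rw [map_mul, h, MulEquiv.apply_symm_apply]
    exact congrArg Subtype.val h1

theorem eq_of_mul_self_eq_one {x : G} (hx : x ∈ S) (h : x * x = 1) : x = 1 ∨ x = zz S e := by
  have h0 : e ⟨x, hx⟩ * e ⟨x, hx⟩ = 1 := by
    rw [← map_mul]
    have : (⟨x, hx⟩ : S) * ⟨x, hx⟩ = 1 := Subtype.ext h
    rw [this, map_one]
  rcases q8_invol (e ⟨x, hx⟩) h0 with h | h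
  · left
    have h1 : (⟨x, hx⟩ : S) = 1 := by
      apply e.injective
      rw [h, map_one]
    exact congrArg Subtype.val h1
  · right
    have h1 : (⟨x, hx⟩ : S) = e.symm (a 2) := by
      apply e.injective
      rw [h, MulEquiv.apply_symm_apply]
    exact congrArg Subtype.val h1

theorem centralizer_cases {x : G} (hx : x ∈ S) (h : x * x = zz S e) {y : G} (hy : y ∈ S)
    (hc : y * x = x * y) : y = 1 ∨ y = x ∨ y = zz S e ∨ y = x⁻¹ := by
  have h0 : e ⟨x, hx⟩ * e ⟨x, hx⟩ = a 2 := by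
    rw [← map_mul]
    have : (⟨x, hx⟩ : S) * ⟨x, hx⟩ = e.symm (a 2) := Subtype.ext h
    rw [this, MulEquiv.apply_symm_apply]
  have h1 : e ⟨y, hy⟩ * e ⟨x, hx⟩ = e ⟨x, hx⟩ * e ⟨y, hy⟩ := by
    rw [← map_mul, ← map_mul]
    have : (⟨y, hy⟩ : S) * ⟨x, hx⟩ = ⟨x, hx⟩ * ⟨y, hy⟩ := Subtype.ext hc
    rw [this]
  rcases q8_cent (e ⟨x, hx⟩) h0 (e ⟨y, hy⟩) h1 with h2 | h2 | h2 | h2
  · left
    have h3 : (⟨y, hy⟩ : S) = 1 := by
      apply e.injective
      rw [h2, map_one]
    exact congrArg Subtype.val h3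
  · right; left
    have h3 : (⟨y, hy⟩ : S) = ⟨x, hx⟩ := e.injective h2
    exact congrArg Subtype.val h3
  · right; right; left
    have h3 : (⟨y, hy⟩ : S) = e.symm (a 2) := by
      apply e.injective
      rw [h2, MulEquiv.apply_symm_apply]
    exact congrArg Subtype.val h3
  · right; right; right
    have h3 : (⟨y, hy⟩ : S) = (⟨x, hx⟩ : S)⁻¹ := by
      apply e.injective
      rw [h2, map_inv]
    exact congrArg Subtype.val h3

include e in
theorem exists_conj_inv {x : G} (hx : x ∈ S) : ∃ y ∈ S, y * x * y⁻¹ = x⁻¹ := by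
  obtain ⟨q, hq⟩ := q8_inv_conj (e ⟨x, hx⟩)
  refine ⟨(e.symm q : S), (e.symm q).2, ?_⟩
  have h1 : (e.symm q : S) * ⟨x, hx⟩ * (e.symm q : S)⁻¹ = (⟨x, hx⟩ : S)⁻¹ := by
    apply e.injective
    rw [map_mul, map_mul, map_inv, map_inv, MulEquiv.apply_symm_apply, hq]
  exact congrArg Subtype.val h1

theorem zz_comm {x : G} (hx : x ∈ S) : x * zz S e = zz S e * x := by
  have h1 : (⟨x, hx⟩ : S) * e.symm (a 2) = e.symm (a 2) * ⟨x, hx⟩ := by
    apply e.injective
    rw [map_mul, map_mul, MulEquiv.apply_symm_apply, q8_central]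
  exact congrArg Subtype.val h1

theorem exists_sq_eq_zz : ∃ u ∈ S, u * u = zz S e := by
  refine ⟨(e.symm (a 1) : S), (e.symm (a 1)).2, ?_⟩
  have h1 : (e.symm (a 1) : S) * e.symm (a 1) = e.symm (a 2) := by
    rw [← map_mul, q8_a1_sq]
  exact congrArg Subtype.val h1

/-- an element of the quaternion subgroup squaring to `zz` has order 4 -/
theorem orderOf_of_sq_eq_zz {u : G} (h : u * u = zz S e) : orderOf u = 4 := by
  have h4 : u ^ 4 = 1 := by
    have : u ^ 4 = (u * u) * (u * u) := by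
      rw [show (4 : ℕ) = 2 + 2 from rfl, pow_add, pow_two]
    rw [this, h, zz_mul_self]
  have h2 : u ^ 2 ≠ 1 := by
    rw [pow_two, h]
    exact zz_ne_one S e
  have hd : orderOf u ∣ 2 ^ 2 := by
    rw [show (2 : ℕ) ^ 2 = 4 by norm_num]
    exact orderOf_dvd_of_pow_eq_one h4
  obtain ⟨k, hk, hk2⟩ := (Nat.dvd_prime_pow Nat.prime_two).mp hd
  interval_cases k
  · exfalso; apply h2
    rw [pow_zero, orderOf_eq_one_iff] at hk2
    rw [hk2, one_pow]
  · exfalso; apply h2
    rw [pow_one] at hk2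
    rw [← hk2]; exact pow_orderOf_eq_one u
  · rw [hk2]; norm_num

/-- a nontrivial element of the quaternion subgroup is `zz` or squares to `zz` -/
theorem eq_zz_or_sq_eq_zz {x : G} (hx : x ∈ S) (h1 : x ≠ 1) : x = zz S e ∨ x * x = zz S e := by
  rcases mul_self_cases S e hx with h | h
  · rcases eq_of_mul_self_eq_one S e hx h with h' | h'
    · exact absurd h' h1
    · exact Or.inl h'
  · exact Or.inr h

end Quat

end Cfsg.Agent.Lib.Helper7
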