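import Mathlib
import Cfsg.Prelude.Def_Solvable
import Cfsg.Agent.Lib.Helper18.Cores
import Cfsg.Agent.Lib.Helper1.Cores

/-!
# Groups with a cyclic Sylow 2-subgroup have a normal 2-complement
-/

set_option autoImplicit false

namespace Cfsg.Agent.Lib.Helper7

/-- a group of even order with a cyclic Sylow `2`-subgroup `P` has a normal `2`-complement:
the index of `O_{2'}` is `|P|` -/
theorem index_pPrimeCore_of_isCyclic_sylow {H : Type*} [Group H] [Finite H] (P : Sylow 2 H)
    (hcyc : IsCyclic P) (heven : 2 ∣ Nat.card H) :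
    (Cfsg.pPrimeCore 2 H).index = Nat.card P := by
  haveI : Fact (Nat.Prime 2) := ⟨Nat.prime_two⟩
  have hp : (Nat.card H).minFac = 2 := (Nat.minFac_eq_two_iff _).mpr heven
  have hcomp := IsCyclic.isComplement' hp hcyc
  have hcore := Cfsg.Agent.Lib.Helper18.pPrimeCore_eq_of_isComplement' P _ hcomp
  rw [hcore]
  exact hcomp.symm.index_eq_card

/-- in that situation the index of `O_{2'}` is a power of `2` -/
theorem exists_index_pPrimeCore_eq_pow {H : Type*} [Group H] [Finite H] (P : Sylow 2 H)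
    (hcyc : IsCyclic P) (heven : 2 ∣ Nat.card H) :
    ∃ k : ℕ, (Cfsg.pPrimeCore 2 H).index = 2 ^ k := by
  haveI : Fact (Nat.Prime 2) := ⟨Nat.prime_two⟩
  obtain ⟨k, hk⟩ := IsPGroup.iff_card.mp P.2
  exact ⟨k, by rw [index_pPrimeCore_of_isCyclic_sylow P hcyc heven, hk]⟩

end Cfsg.Agent.Lib.Helper7
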