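import Mathlib
import Cfsg.Agent.Lib.Helper7.QuatFacts
import Cfsg.Agent.Lib.Helper7.TwoComplement
import Cfsg.Agent.Lib.Helper13.Sylow
import Cfsg.Agent.Lib.Helper18.Basic
import Cfsg.Agent.Lib.Helper17.ZStarMin

/-!
# Groups with a quaternion Sylow 2-subgroup of order 8 and a centre of order 2
-/

set_option autoImplicit false

namespace Cfsg.Agent.Lib.Helper7

namespace Quat

variable {G : Type*} [Group G] [Finite G] (S : Sylow 2 G)
  (e : (S : Subgroup G) ≃* QuaternionGroup 2)

/-- an element of the centre is `1` or the involution of `S` -/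
theorem center_cases (hZ : Nat.card (Subgroup.center G) = 2) {c : G}
    (hc : c ∈ Subgroup.center G) : c = 1 ∨ c = zz (S : Subgroup G) e := by
  haveI : Fact (Nat.Prime 2) := ⟨Nat.prime_two⟩
  have hZp : IsPGroup 2 (Subgroup.center G) := IsPGroup.of_card (n := 1) (by rw [hZ, pow_one])
  have hle : Subgroup.center G ≤ (S : Subgroup G) := hZp.le_sylow_of_normal S
  have h2 : c * c = 1 := by
    have h3 : (⟨c, hc⟩ : Subgroup.center G) ^ Nat.card (Subgroup.center G) = 1 :=
      pow_card_eq_one'
    rw [hZ, pow_two] at h3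
    exact congrArg Subtype.val h3
  exact eq_of_mul_self_eq_one _ e (hle hc) h2

theorem zz_mem_center (hZ : Nat.card (Subgroup.center G) = 2) :
    zz (S : Subgroup G) e ∈ Subgroup.center G := by
  have hne : Subgroup.center G ≠ ⊥ := by
    intro h
    rw [h, Subgroup.card_bot] at hZ
    omega
  obtain ⟨⟨c, hc⟩, hc1⟩ := (Subgroup.ne_bot_iff_exists_ne_one).mp hne
  rcases center_cases S e hZ hc with h | h
  · exact absurd (Subtype.ext h) hc1
  · rw [← h]; exact hc

theorem zz_comm_all (hZ : Nat.card (Subgroup.center G) = 2) (g : G) :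
    g * zz (S : Subgroup G) e = zz (S : Subgroup G) e * g :=
  Subgroup.mem_center_iff.mp (zz_mem_center S e hZ) g

theorem conj_zz (hZ : Nat.card (Subgroup.center G) = 2) (g : G) :
    g * zz (S : Subgroup G) e * g⁻¹ = zz (S : Subgroup G) e := by
  rw [zz_comm_all S e hZ g, mul_assoc, mul_inv_cancel, mul_one]

/-- a nontrivial `2`-element is the central involution or squares to it -/
theorem two_element_cases (hZ : Nat.card (Subgroup.center G) = 2) (g : G)
    (hg : ∃ k : ℕ, orderOf g = 2 ^ k) (hg1 : g ≠ 1) :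
    g = zz (S : Subgroup G) e ∨ g * g = zz (S : Subgroup G) e := by
  haveI : Fact (Nat.Prime 2) := ⟨Nat.prime_two⟩
  obtain ⟨k, hk⟩ := hg
  obtain ⟨c, hc⟩ := Cfsg.Agent.Lib.Helper13.exists_conj_mem_sylow S g
    ⟨k, by rw [← hk]; exact pow_orderOf_eq_one g⟩
  have hne : c * g * c⁻¹ ≠ 1 := by
    intro h
    apply hg1
    have : g = c⁻¹ * (c * g * c⁻¹) * c := by group
    rw [this, h]; group
  rcases eq_zz_or_sq_eq_zz _ e hc hne with h | h
  · left
    have : g = c⁻¹ * (c * g * c⁻¹) * c⁻¹⁻¹ := by group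
    rw [this, h, conj_zz S e hZ]
  · right
    have : g * g = c⁻¹ * ((c * g * c⁻¹) * (c * g * c⁻¹)) * c⁻¹⁻¹ := by group
    rw [this, h, conj_zz S e hZ]

/-- the Sylow `2`-subgroups of the centralizer of an element of order 4 are cyclic -/
theorem isCyclic_sylow_centralizer (hZ : Nat.card (Subgroup.center G) = 2) (u : G)
    (hu : u * u = zz (S : Subgroup G) e) (T : Sylow 2 (Subgroup.centralizer ({u} : Set G))) :
    IsCyclic (T : Subgroup (Subgroup.centralizer ({u} : Set G))) := by
  haveI : Fact (Nat.Prime 2) := ⟨Nat.prime_two⟩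
  obtain ⟨C, hC⟩ : ∃ C, C = Subgroup.centralizer ({u} : Set G) := ⟨_, rfl⟩
  have huC : u ∈ Subgroup.centralizer ({u} : Set G) := by
    rw [Subgroup.mem_centralizer_singleton_iff]
  -- `u` lies in `T`
  have huT : (⟨u, huC⟩ : Subgroup.centralizer ({u} : Set G)) ∈ (T : Subgroup _) := by
    have hn : (Subgroup.zpowers (⟨u, huC⟩ : Subgroup.centralizer ({u} : Set G))).Normal := by
      constructor
      intro n hn g
      have hcomm : g * n * g⁻¹ = n := by
        obtain ⟨i, rfl⟩ := Subgroup.mem_zpowers_iff.mp hn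
        have h1 : (g : G) * u = u * (g : G) :=
          ((Subgroup.mem_centralizer_singleton_iff).mp g.2)
        have h2 : Commute g (⟨u, huC⟩ : Subgroup.centralizer ({u} : Set G)) :=
          Subtype.ext h1
        have h3 := (h2.zpow_right i).eq
        rw [h3, mul_assoc, mul_inv_cancel, mul_one]
      rw [hcomm]; exact hn
    have hp : IsPGroup 2 (Subgroup.zpowers (⟨u, huC⟩ : Subgroup.centralizer ({u} : Set G))) := by
      apply IsPGroup.of_card (n := 2)
      rw [Nat.card_zpowers, Subgroup.orderOf_mk, orderOf_of_sq_eq_zz _ e hu]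
      norm_num
    exact (hp.le_sylow_of_normal T) (Subgroup.mem_zpowers _)
  -- conjugate the image of `T` into `S`
  obtain ⟨k, -, hk⟩ := Cfsg.Agent.Lib.Helper18.exists_conj_le_sylow_of_le S ⊤ le_top
    ((T : Subgroup _).map (Subgroup.centralizer ({u} : Set G)).subtype)
    (T.2.map _) le_top
  have hmemS : ∀ y : Subgroup.centralizer ({u} : Set G), y ∈ (T : Subgroup _) →
      k * (y : G) * k⁻¹ ∈ (S : Subgroup G) := by
    intro y hy
    apply hk
    exact ⟨(y : G), ⟨y, hy, rfl⟩, rfl⟩
  have hu' : (k * u * k⁻¹) * (k * u * k⁻¹) = zz (S : Subgroup G) e := by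
    have : (k * u * k⁻¹) * (k * u * k⁻¹) = k * (u * u) * k⁻¹ := by group
    rw [this, hu, conj_zz S e hZ]
  have hall : ∀ y : Subgroup.centralizer ({u} : Set G), y ∈ (T : Subgroup _) →
      y ∈ Subgroup.zpowers (⟨u, huC⟩ : Subgroup.centralizer ({u} : Set G)) := by
    intro y hy
    have hyc : (y : G) * u = u * (y : G) := (Subgroup.mem_centralizer_singleton_iff).mp y.2
    have hcomm : (k * (y : G) * k⁻¹) * (k * u * k⁻¹) = (k * u * k⁻¹) * (k * (y : G) * k⁻¹) := by
      have h1 : (k * (y : G) * k⁻¹) * (k * u * k⁻¹) = k * ((y : G) * u) * k⁻¹ := by group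
      have h2 : (k * u * k⁻¹) * (k * (y : G) * k⁻¹) = k * (u * (y : G)) * k⁻¹ := by group
      rw [h1, h2, hyc]
    have hback : ∀ w : G, k * (y : G) * k⁻¹ = k * w * k⁻¹ → (y : G) = w := by
      intro w hw
      have := mul_left_cancel (mul_right_cancel hw)
      exact this
    rcases centralizer_cases _ e (hmemS _ huT) hu' (hmemS y hy) hcomm with h | h | h | h
    · have : (y : G) = 1 := hback 1 (by rw [h]; group)
      have hy1 : y = 1 := Subtype.ext this
      rw [hy1]; exact Subgroup.one_mem _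
    · have : (y : G) = u := hback u h
      have hy1 : y = ⟨u, huC⟩ := Subtype.ext this
      rw [hy1]; exact Subgroup.mem_zpowers _
    · have : (y : G) = u * u := hback (u * u) (by rw [h, hu, conj_zz S e hZ])
      have hy1 : y = ⟨u, huC⟩ * ⟨u, huC⟩ := Subtype.ext this
      rw [hy1]
      exact Subgroup.mul_mem _ (Subgroup.mem_zpowers _) (Subgroup.mem_zpowers _)
    · have : (y : G) = u⁻¹ := hback u⁻¹ (by rw [h]; group)
      have hy1 : y = (⟨u, huC⟩ : Subgroup.centralizer ({u} : Set G))⁻¹ := Subtype.ext this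
      rw [hy1]
      exact Subgroup.inv_mem _ (Subgroup.mem_zpowers _)
  have heq : (T : Subgroup (Subgroup.centralizer ({u} : Set G)))
      = Subgroup.zpowers (⟨u, huC⟩ : Subgroup.centralizer ({u} : Set G)) := by
    apply le_antisymm
    · exact hall
    · rw [Subgroup.zpowers_le]; exact huT
  rw [heq]
  infer_instance

/-- the centralizer of an element of order 4 has a normal `2`-complement -/
theorem exists_index_pPrimeCore_centralizer (hZ : Nat.card (Subgroup.center G) = 2) (u : G)
    (hu : u * u = zz (S : Subgroup G) e) :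
    ∃ k : ℕ, (Cfsg.pPrimeCore 2 (Subgroup.centralizer ({u} : Set G))).index = 2 ^ k := by
  haveI : Fact (Nat.Prime 2) := ⟨Nat.prime_two⟩
  obtain ⟨T⟩ : Nonempty (Sylow 2 (Subgroup.centralizer ({u} : Set G))) := inferInstance
  have huC : u ∈ Subgroup.centralizer ({u} : Set G) := by
    rw [Subgroup.mem_centralizer_singleton_iff]
  have heven : 2 ∣ Nat.card (Subgroup.centralizer ({u} : Set G)) := by
    have h1 : orderOf (⟨u, huC⟩ : Subgroup.centralizer ({u} : Set G)) ∣ Nat.card _ :=
      orderOf_dvd_natCard _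
    rw [Subgroup.orderOf_mk, orderOf_of_sq_eq_zz _ e hu] at h1
    exact (by norm_num : (2 : ℕ) ∣ 4).trans h1
  exact exists_index_pPrimeCore_eq_pow T (isCyclic_sylow_centralizer S e hZ u hu T) heven

section Quotient

/-- the image of `S` in `G ⧸ Z(G)` -/
noncomputable def barS : Sylow 2 (G ⧸ Subgroup.center G) :=
  S.mapSurjective (QuotientGroup.mk'_surjective (Subgroup.center G))

theorem coe_barS : ((barS S : Sylow 2 (G ⧸ Subgroup.center G)) : Subgroup (G ⧸ Subgroup.center G))
    = (S : Subgroup G).map (QuotientGroup.mk' (Subgroup.center G)) := rfl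

include e in
theorem center_le (hZ : Nat.card (Subgroup.center G) = 2) :
    Subgroup.center G ≤ (S : Subgroup G) := by
  have hZp : IsPGroup 2 (Subgroup.center G) := IsPGroup.of_card (n := 1) (by rw [hZ, pow_one])
  exact hZp.le_sylow_of_normal S

include e in
theorem comap_barS (hZ : Nat.card (Subgroup.center G) = 2) :
    ((barS S : Sylow 2 (G ⧸ Subgroup.center G)) : Subgroup (G ⧸ Subgroup.center G)).comap
      (QuotientGroup.mk' (Subgroup.center G)) = (S : Subgroup G) := by
  rw [coe_barS, Subgroup.comap_map_eq, QuotientGroup.ker_mk']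
  exact sup_eq_left.mpr (center_le S e hZ)

include e in
theorem index_barS (hZ : Nat.card (Subgroup.center G) = 2) :
    ((barS S : Sylow 2 (G ⧸ Subgroup.center G)) : Subgroup (G ⧸ Subgroup.center G)).index
      = (S : Subgroup G).index := by
  rw [← comap_barS S e hZ,
    Subgroup.index_comap_of_surjective _ (QuotientGroup.mk'_surjective (Subgroup.center G))]

include e in
theorem card_barS (hZ : Nat.card (Subgroup.center G) = 2) :
    Nat.card ((barS S : Sylow 2 (G ⧸ Subgroup.center G)) : Subgroup (G ⧸ Subgroup.center G))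
      = 4 := by
  have h1 := Subgroup.card_eq_card_quotient_mul_card_subgroup (Subgroup.center G)
  have h2 := Subgroup.card_mul_index (S : Subgroup G)
  have h3 := Subgroup.card_mul_index
    ((barS S : Sylow 2 (G ⧸ Subgroup.center G)) : Subgroup (G ⧸ Subgroup.center G))
  rw [index_barS S e hZ] at h3
  rw [card_eq (S : Subgroup G) e] at h2
  rw [hZ, ← h3, ← h2] at h1
  have hi : 0 < (S : Subgroup G).index := Nat.pos_of_ne_zero Subgroup.index_ne_zero_of_finite
  have h4 : (4 * (S : Subgroup G).index) * 2 = (Nat.card ((barS S : Sylow 2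
      (G ⧸ Subgroup.center G)) : Subgroup (G ⧸ Subgroup.center G)) * (S : Subgroup G).index) * 2 := by
    rw [← h1]; ring
  have h5 := Nat.eq_of_mul_eq_mul_right (by norm_num : 0 < 2) h4
  exact (Nat.eq_of_mul_eq_mul_right hi h5).symm

include e in
theorem isKleinFour_barS (hZ : Nat.card (Subgroup.center G) = 2) :
    IsKleinFour ((barS S : Sylow 2 (G ⧸ Subgroup.center G)) : Subgroup (G ⧸ Subgroup.center G)) := by
  refine ⟨card_barS S e hZ, ?_⟩
  have hd : Monoid.exponent ((barS S : Sylow 2 (G ⧸ Subgroup.center G)) :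
      Subgroup (G ⧸ Subgroup.center G)) ∣ 2 := by
    apply Monoid.exponent_dvd_of_forall_pow_eq_one
    rintro ⟨x, hx⟩
    rw [coe_barS] at hx
    obtain ⟨y, hy, rfl⟩ := hx
    apply Subtype.ext
    rw [SubgroupClass.coe_pow, Subgroup.coe_one, pow_two, ← map_mul]
    rcases mul_self_cases _ e hy with h | h
    · rw [h, map_one]
    · rw [h]
      exact (QuotientGroup.eq_one_iff _).mpr (zz_mem_center S e hZ)
  rcases (Nat.dvd_prime Nat.prime_two).mp hd with h | h
  · exfalso
    rw [Monoid.exp_eq_one_iff] at h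
    have := card_barS S e hZ
    rw [Nat.card_eq_one_iff_unique.mpr ⟨h, ⟨1⟩⟩] at this
    omega
  · exact h

include e in
/-- under `O(G) = 1` and `G ≠ S` the normalizer of the image of `S` in `G/Z(G)` acts
non-trivially on it -/
theorem not_normalizer_le_centralizer (hZ : Nat.card (Subgroup.center G) = 2)
    (hO : ∀ N : Subgroup G, N.Normal → Odd (Nat.card N) → N = ⊥)
    (hG : (S : Subgroup G) ≠ ⊤) :
    ¬ (Subgroup.normalizer (((barS S : Sylow 2 (G ⧸ Subgroup.center G)) :
        Subgroup (G ⧸ Subgroup.center G)) : Set (G ⧸ Subgroup.center G))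
      ≤ Subgroup.centralizer (((barS S : Sylow 2 (G ⧸ Subgroup.center G)) :
        Subgroup (G ⧸ Subgroup.center G)) : Set (G ⧸ Subgroup.center G))) := by
  intro h
  have hcomp := MonoidHom.ker_transferSylow_isComplement' (barS S) h
  obtain ⟨Kb, hKb⟩ : ∃ Kb, Kb = (MonoidHom.transferSylow (barS S) h).ker := ⟨_, rfl⟩
  rw [← hKb] at hcomp
  haveI hKbn : Kb.Normal := by rw [hKb]; infer_instance
  obtain ⟨K, hK⟩ : ∃ K, K = Kb.comap (QuotientGroup.mk' (Subgroup.center G)) := ⟨_, rfl⟩
  haveI hKn : K.Normal := by rw [hK]; infer_instance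
  have hKidx : K.index = 4 := by
    rw [hK, Subgroup.index_comap_of_surjective _
      (QuotientGroup.mk'_surjective (Subgroup.center G)), hcomp.symm.index_eq_card,
      card_barS S e hZ]
  have hcardK : Nat.card K = 2 * (S : Subgroup G).index := by
    have h1 := Subgroup.card_mul_index K
    have h2 := Subgroup.card_mul_index (S : Subgroup G)
    rw [card_eq (S : Subgroup G) e] at h2
    rw [hKidx, ← h2] at h1
    omega
  have hodd : ¬ 2 ∣ (S : Subgroup G).index := S.not_dvd_index
  -- the core of `G` is trivial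
  have hcoreG : Cfsg.pPrimeCore 2 G = ⊥ := by
    apply hO _ (Cfsg.Agent.Lib.Helper1.pPrimeCore_normal 2)
    exact Nat.coprime_two_right.mp (Cfsg.Agent.Lib.Helper1.pPrimeCore_coprime 2)
  have hcoreK : Cfsg.pPrimeCore 2 ↥K = ⊥ := by
    have h1 := Cfsg.Agent.Lib.Helper17.map_pPrimeCore_le_of_normal 2 K
    rw [hcoreG, le_bot_iff] at h1
    exact (Subgroup.map_eq_bot_iff_of_injective _ K.subtype_injective).mp h1
  -- a Sylow 2-subgroup of `K` has order 2
  obtain ⟨Q⟩ : Nonempty (Sylow 2 ↥K) := inferInstance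
  have hcardQ : Nat.card Q = 2 := by
    rw [Sylow.card_eq_multiplicity, hcardK,
      Nat.factorization_mul (by norm_num) Subgroup.index_ne_zero_of_finite]
    rw [Finsupp.add_apply, Nat.Prime.factorization_self Nat.prime_two,
      Nat.factorization_eq_zero_of_not_dvd hodd]
    norm_num
  have hcyc : IsCyclic (Q : Subgroup ↥K) := isCyclic_of_prime_card hcardQ
  have heven : 2 ∣ Nat.card ↥K := by rw [hcardK]; exact dvd_mul_right _ _
  have hidx := index_pPrimeCore_of_isCyclic_sylow Q hcyc heven
  rw [hcoreK, Subgroup.index_bot, hcardQ, hcardK] at hidx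
  apply hG
  rw [← Subgroup.index_eq_one]
  omega

/-- transitivity on the involutions of the image of `S` gives the fusion of the elements of
order 4 -/
theorem isConj_of_trans (hZ : Nat.card (Subgroup.center G) = 2)
    (htrans : ∀ a ∈ ((barS S : Sylow 2 (G ⧸ Subgroup.center G)) :
        Subgroup (G ⧸ Subgroup.center G)), ∀ b ∈ ((barS S : Sylow 2 (G ⧸ Subgroup.center G)) :
        Subgroup (G ⧸ Subgroup.center G)), a ≠ 1 → b ≠ 1 → ∃ t, t * a * t⁻¹ = b)
    (u v : G) (hu : u * u = zz (S : Subgroup G) e) (hv : v * v = zz (S : Subgroup G) e) :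
    IsConj u v := by
  -- reduce to elements of `S`
  have key : ∀ u v : G, u ∈ (S : Subgroup G) → v ∈ (S : Subgroup G) →
      u * u = zz (S : Subgroup G) e → v * v = zz (S : Subgroup G) e → IsConj u v := by
    intro u v huS hvS hu hv
    have hne : ∀ w : G, w * w = zz (S : Subgroup G) e →
        (QuotientGroup.mk' (Subgroup.center G) w) ≠ 1 := by
      intro w hw h1
      have h2 : w ∈ Subgroup.center G := (QuotientGroup.eq_one_iff w).mp h1
      rcases center_cases S e hZ h2 with h3 | h3
      · rw [h3, mul_one] at hw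
        exact zz_ne_one _ e hw.symm
      · rw [h3, zz_mul_self] at hw
        exact zz_ne_one _ e hw.symm
    obtain ⟨tb, htb⟩ := htrans _ (Subgroup.mem_map_of_mem _ huS) _ (Subgroup.mem_map_of_mem _ hvS)
      (hne u hu) (hne v hv)
    obtain ⟨t, rfl⟩ := QuotientGroup.mk'_surjective (Subgroup.center G) tb
    rw [← map_inv, ← map_mul, ← map_mul] at htb
    have h1 : (t * u * t⁻¹)⁻¹ * v ∈ Subgroup.center G := QuotientGroup.eq.mp htb
    rcases center_cases S e hZ h1 with h2 | h2
    · rw [isConj_iff]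
      refine ⟨t, ?_⟩
      exact (inv_mul_eq_one.mp h2)
    · -- `t u t⁻¹ = v⁻¹`
      have h3 : v = t * u * t⁻¹ * zz (S : Subgroup G) e := by
        rw [← h2]; group
      have h4 : t * u * t⁻¹ = v⁻¹ := by
        have h5 : v * v * (v * v) = 1 := by rw [hv, zz_mul_self]
        have h6 : t * u * t⁻¹ = v * zz (S : Subgroup G) e := by
          have h7 : v * zz (S : Subgroup G) e
              = t * u * t⁻¹ * (zz (S : Subgroup G) e * zz (S : Subgroup G) e) := by
            rw [← mul_assoc, ← h3]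
          rw [h7, zz_mul_self, mul_one]
        rw [h6, ← hv]
        apply eq_inv_of_mul_eq_one_left
        rw [← h5]; group
      obtain ⟨y, -, hy⟩ := exists_conj_inv _ e hvS
      rw [isConj_iff]
      refine ⟨y⁻¹ * t, ?_⟩
      have : y⁻¹ * t * u * (y⁻¹ * t)⁻¹ = y⁻¹ * (t * u * t⁻¹) * y := by group
      rw [this, h4, ← hy]; group
  obtain ⟨c, hc⟩ := Cfsg.Agent.Lib.Helper13.exists_conj_mem_sylow S u
    ⟨2, by
      have : u ^ 2 ^ 2 = u * u * (u * u) := by
        rw [show (2 : ℕ) ^ 2 = 2 + 2 from rfl, pow_add, pow_two]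
      rw [this, hu, zz_mul_self]⟩
  obtain ⟨d, hd⟩ := Cfsg.Agent.Lib.Helper13.exists_conj_mem_sylow S v
    ⟨2, by
      have : v ^ 2 ^ 2 = v * v * (v * v) := by
        rw [show (2 : ℕ) ^ 2 = 2 + 2 from rfl, pow_add, pow_two]
      rw [this, hv, zz_mul_self]⟩
  have hu' : (c * u * c⁻¹) * (c * u * c⁻¹) = zz (S : Subgroup G) e := by
    have : (c * u * c⁻¹) * (c * u * c⁻¹) = c * (u * u) * c⁻¹ := by group
    rw [this, hu, conj_zz S e hZ]
  have hv' : (d * v * d⁻¹) * (d * v * d⁻¹) = zz (S : Subgroup G) e := by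
    have : (d * v * d⁻¹) * (d * v * d⁻¹) = d * (v * v) * d⁻¹ := by group
    rw [this, hv, conj_zz S e hZ]
  have h1 := key _ _ hc hd hu' hv'
  have h2 : IsConj u (c * u * c⁻¹) := isConj_iff.mpr ⟨c, rfl⟩
  have h3 : IsConj v (d * v * d⁻¹) := isConj_iff.mpr ⟨d, rfl⟩
  exact (h2.trans h1).trans h3.symm

end Quotient

end Quat

end Cfsg.Agent.Lib.Helper7
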