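import Mathlib
import Cfsg.Prelude.Def_Blocks
import Cfsg.Prelude.Def_BlockRank
import Cfsg.Agent.Lib.Helper2.Expansion
import Cfsg.Agent.Lib.Helper7.QuotientPGroup
import Cfsg.Agent.Lib.Helper7.BrauerCount2
import Cfsg.Agent.Lib.Helper25.Kernel
import Cfsg.Agent.Lib.Helper24.BlockRegular

/-!
# The rank of a block of `G ⧸ Q` and of the block of `G` containing it (helper7 library)

`Q` is a normal `p`-subgroup whose centralizer has `p`-power index.

* `regular_lift_unique`: a `p`-regular element of `G ⧸ Q` has a unique `p`-regular lift.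
* `inflReg`: the linear map `f ↦ (f ∘ π)⁰`.
* `blockRank_blockOf_inflation`: the block of an inflated character has the same rank as the
  block of the character in the quotient.
-/

set_option autoImplicit false

namespace Cfsg.Agent.Lib.Helper7

open Cfsg.Agent.Lib.Helper2 Cfsg.Agent.Lib.Helper24
open scoped ComplexConjugate

section Lift

variable {G : Type*} [Group G] [Finite G] {p : ℕ} [hp : Fact p.Prime]

omit [Finite G] in
/-- a `p`-regular element of `G ⧸ Q` has at most one `p`-regular lift -/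
theorem regular_lift_unique (Q : Subgroup G) [Q.Normal] (hQ : IsPGroup p Q)
    (hreg : ∀ x : G, ¬ p ∣ orderOf x → x ∈ Subgroup.centralizer (Q : Set G))
    (x y : G) (hx : ¬ p ∣ orderOf x) (hy : ¬ p ∣ orderOf y)
    (hxy : (x : G ⧸ Q) = (y : G ⧸ Q)) : x = y := by
  have hu : x⁻¹ * y ∈ Q := QuotientGroup.eq.mp hxy
  obtain ⟨k, hk⟩ := (IsPGroup.iff_orderOf.mp hQ) ⟨x⁻¹ * y, hu⟩
  rw [Subgroup.orderOf_mk] at hk
  have hcomm : Commute x (x⁻¹ * y) := by
    have := (Subgroup.mem_centralizer_iff.mp (hreg x hx)) (x⁻¹ * y) hu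
    exact this.symm
  have hyeq : y = x * (x⁻¹ * y) := by group
  have h1 : y ^ orderOf x = (x⁻¹ * y) ^ orderOf x := by
    conv_lhs => rw [hyeq]
    rw [hcomm.mul_pow, pow_orderOf_eq_one, one_mul]
  -- the order of `u ^ o(x)` divides both a power of `p` and the order of `y`
  have h2 : orderOf ((x⁻¹ * y) ^ orderOf x) ∣ p ^ k := by
    rw [← hk]; exact orderOf_pow_dvd _
  have h3 : orderOf ((x⁻¹ * y) ^ orderOf x) ∣ orderOf y := by
    rw [← h1]; exact orderOf_pow_dvd _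
  have hcop : Nat.Coprime (p ^ k) (orderOf y) :=
    Nat.Coprime.pow_left k ((Nat.Prime.coprime_iff_not_dvd hp.out).mpr hy)
  have h4 : orderOf ((x⁻¹ * y) ^ orderOf x) = 1 := Nat.eq_one_of_dvd_coprimes hcop h2 h3
  have h5 : (x⁻¹ * y) ^ orderOf x = 1 := orderOf_eq_one_iff.mp h4
  have h6 : orderOf (x⁻¹ * y) ∣ orderOf x := orderOf_dvd_of_pow_eq_one h5
  have hcop2 : Nat.Coprime (p ^ k) (orderOf x) :=
    Nat.Coprime.pow_left k ((Nat.Prime.coprime_iff_not_dvd hp.out).mpr hx)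
  have h7 : orderOf (x⁻¹ * y) = 1 := by
    apply Nat.eq_one_of_dvd_coprimes hcop2 _ h6
    rw [hk]
  have h8 : x⁻¹ * y = 1 := orderOf_eq_one_iff.mp h7
  calc x = x * (x⁻¹ * y) := by rw [h8, mul_one]
    _ = y := by group

omit [Finite G] hp in
theorem not_dvd_orderOf_mk (Q : Subgroup G) [Q.Normal] (x : G) (hx : ¬ p ∣ orderOf x) :
    ¬ p ∣ orderOf (x : G ⧸ Q) := by
  intro h
  apply hx
  exact dvd_trans h (orderOf_map_dvd (QuotientGroup.mk' Q) x)

end Lift

section Infl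

variable {G : Type*} [Group G] (p : ℕ)

/-- the linear map `f ↦ (f ∘ π)⁰` -/
noncomputable def inflReg (Q : Subgroup G) [Q.Normal] : (G ⧸ Q → ℂ) →ₗ[ℂ] (G → ℂ) :=
  (pRegLin p G).comp (LinearMap.funLeft ℂ ℂ (QuotientGroup.mk : G → G ⧸ Q))

theorem inflReg_eq (Q : Subgroup G) [Q.Normal] (f : G ⧸ Q → ℂ) :
    inflReg p Q f = Cfsg.pRegularPart p (f ∘ QuotientGroup.mk) := rfl

theorem inflReg_of_regular (Q : Subgroup G) [Q.Normal] (f : G ⧸ Q → ℂ) (g : G)
    (hg : ¬ p ∣ orderOf g) : inflReg p Q f g = f (g : G ⧸ Q) := by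
  rw [inflReg_eq, Cfsg.Agent.Lib.Helper24.pRegularPart_of_regular _ hg]
  rfl

theorem inflReg_of_singular (Q : Subgroup G) [Q.Normal] (f : G ⧸ Q → ℂ) (g : G)
    (hg : p ∣ orderOf g) : inflReg p Q f g = 0 := by
  rw [inflReg_eq, Cfsg.Agent.Lib.Helper24.pRegularPart_of_singular _ hg]

/-- `Λ (f⁰) = (f ∘ π)⁰` -/
theorem inflReg_pRegularPart (Q : Subgroup G) [Q.Normal] (f : G ⧸ Q → ℂ) :
    inflReg p Q (Cfsg.pRegularPart p f) = Cfsg.pRegularPart p (f ∘ QuotientGroup.mk) := by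
  funext g
  by_cases hg : p ∣ orderOf g
  · rw [inflReg_of_singular p Q _ g hg, Cfsg.Agent.Lib.Helper24.pRegularPart_of_singular _ hg]
  · rw [inflReg_of_regular p Q _ g hg, Cfsg.Agent.Lib.Helper24.pRegularPart_of_regular _ hg,
      Cfsg.Agent.Lib.Helper24.pRegularPart_of_regular _ (not_dvd_orderOf_mk Q g hg)]
    rfl

end Infl

section Rank

variable {G : Type*} [Group G] [Fintype G] {p : ℕ} [hp : Fact p.Prime] {M : Ideal Cfsg.AlgInt}

/-- `Λ` is injective on functions vanishing at the `p`-singular elements -/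
theorem inflReg_eq_zero (Q : Subgroup G) [Q.Normal] (f : G ⧸ Q → ℂ)
    (hf : ∀ q : G ⧸ Q, p ∣ orderOf q → f q = 0) (h0 : inflReg p Q f = 0) : f = 0 := by
  funext q
  by_cases hq : p ∣ orderOf q
  · exact hf q hq
  · obtain ⟨x, rfl, hx⟩ := exists_regular_lift Q q hq
    rw [← inflReg_of_regular p Q f x hx, h0]
    rfl

/-- the regular part of a class function of `G` comes from a class function of `G ⧸ Q` -/
theorem exists_inflReg_eq (Q : Subgroup G) [Q.Normal] (hQ : IsPGroup p Q)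
    (hreg : ∀ x : G, ¬ p ∣ orderOf x → x ∈ Subgroup.centralizer (Q : Set G))
    (θ : G → ℂ) (hθ : Cfsg.IsClassFunction G θ) :
    ∃ f : G ⧸ Q → ℂ, Cfsg.IsClassFunction (G ⧸ Q) f ∧ inflReg p Q f = Cfsg.pRegularPart p θ := by
  classical
  obtain ⟨f, hf⟩ : ∃ f : G ⧸ Q → ℂ, f = fun q =>
      if h : ¬ p ∣ orderOf q then θ (Classical.choose (exists_regular_lift Q q h)) else 0 :=
    ⟨_, rfl⟩
  have hfreg : ∀ x : G, ¬ p ∣ orderOf x → f (x : G ⧸ Q) = θ x := by
    intro x hx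
    have hq := not_dvd_orderOf_mk Q x hx
    rw [hf]
    simp only [dif_pos hq]
    obtain ⟨h1, h2⟩ := Classical.choose_spec (exists_regular_lift Q (x : G ⧸ Q) hq)
    rw [regular_lift_unique Q hQ hreg _ x h2 hx h1]
  have hfsing : ∀ q : G ⧸ Q, p ∣ orderOf q → f q = 0 := by
    intro q hq
    rw [hf]
    simp only [dif_neg (not_not.mpr hq)]
  refine ⟨f, ?_, ?_⟩
  · intro q a
    by_cases hq : p ∣ orderOf q
    · have hq' : p ∣ orderOf (a * q * a⁻¹) := by
        rwa [Cfsg.Agent.Lib.Helper24.orderOf_conj_eq]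
      rw [hfsing q hq, hfsing _ hq']
    · obtain ⟨x, rfl, hx⟩ := exists_regular_lift Q q hq
      obtain ⟨g, rfl⟩ := QuotientGroup.mk_surjective a
      have hx' : ¬ p ∣ orderOf (g * x * g⁻¹) := by
        rwa [Cfsg.Agent.Lib.Helper24.orderOf_conj_eq]
      have e : (g : G ⧸ Q) * (x : G ⧸ Q) * (g : G ⧸ Q)⁻¹ = ((g * x * g⁻¹ : G) : G ⧸ Q) := rfl
      rw [e, hfreg _ hx', hfreg _ hx, hθ]
  · funext g
    by_cases hg : p ∣ orderOf g
    · rw [inflReg_of_singular p Q _ g hg, Cfsg.Agent.Lib.Helper24.pRegularPart_of_singular _ hg]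
    · rw [inflReg_of_regular p Q _ g hg, Cfsg.Agent.Lib.Helper24.pRegularPart_of_regular _ hg,
        hfreg g hg]

/-- **the block of an inflated character has the same rank as the block of the character in the
quotient**, for a normal `p`-subgroup whose centralizer has `p`-power index -/
theorem blockRank_blockOf_inflation (hM : Cfsg.IsPModular p M) (Q : Subgroup G) [Q.Normal]
    (hQ : IsPGroup p Q) (hC : ∃ k : ℕ, (Subgroup.centralizer (Q : Set G)).index = p ^ k)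
    (χ₀ : Cfsg.IrrCharacter (G ⧸ Q)) :
    Cfsg.blockRank p (Cfsg.blockOf M ((χ₀ : G ⧸ Q → ℂ) ∘ QuotientGroup.mk))
      = Cfsg.blockRank p (Cfsg.blockOf M (χ₀ : G ⧸ Q → ℂ)) := by
  classical
  letI : Fintype (G ⧸ Q) := Fintype.ofFinite _
  haveI : Fintype (Cfsg.IrrCharacter (G ⧸ Q)) := Fintype.ofFinite _
  have hreg : ∀ x : G, ¬ p ∣ orderOf x → x ∈ Subgroup.centralizer (Q : Set G) := fun x hx =>
    mem_of_regular_of_index_pow _ hp.out hC x hx
  -- inflation of irreducible characters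
  obtain ⟨infl, hinfl⟩ : ∃ infl : Cfsg.IrrCharacter (G ⧸ Q) → Cfsg.IrrCharacter G,
      ∀ ψ, ((infl ψ : Cfsg.IrrCharacter G) : G → ℂ) = (ψ : G ⧸ Q → ℂ) ∘ QuotientGroup.mk :=
    ⟨fun ψ => ⟨_, Cfsg.Agent.Lib.Helper25.isIrrCharacter_inflation Q ψ.2⟩, fun ψ => rfl⟩
  obtain ⟨B, hBdef⟩ : ∃ B, B = Cfsg.blockOf M ((χ₀ : G ⧸ Q → ℂ) ∘ QuotientGroup.mk) := ⟨_, rfl⟩
  obtain ⟨Bq, hBqdef⟩ : ∃ Bq, Bq = Cfsg.blockOf M (χ₀ : G ⧸ Q → ℂ) := ⟨_, rfl⟩
  rw [← hBdef, ← hBqdef]
  have hB : Cfsg.IsPBlock M B := ⟨infl χ₀, by rw [hBdef, hinfl]⟩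
  have hmem : ∀ ψ : Cfsg.IrrCharacter (G ⧸ Q), infl ψ ∈ B ↔ ψ ∈ Bq := by
    intro ψ
    rw [hBdef, hBqdef]
    show Cfsg.SameBlock M _ _ ↔ Cfsg.SameBlock M _ _
    rw [hinfl]
    exact (sameBlock_inflation_iff hM Q hQ hC χ₀ ψ).symm
  -- the two spans
  have hmap : Submodule.span ℂ
      ((fun χ : Cfsg.IrrCharacter G => Cfsg.pRegularPart p (χ : G → ℂ)) '' B)
      = (Submodule.span ℂ ((fun χ : Cfsg.IrrCharacter (G ⧸ Q) =>
          Cfsg.pRegularPart p (χ : G ⧸ Q → ℂ)) '' Bq)).map (inflReg p Q) := by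
    rw [Submodule.map_span, Set.image_image]
    have himage : ∀ ψ : Cfsg.IrrCharacter (G ⧸ Q),
        inflReg p Q (Cfsg.pRegularPart p (ψ : G ⧸ Q → ℂ))
          = Cfsg.pRegularPart p ((infl ψ : Cfsg.IrrCharacter G) : G → ℂ) := by
      intro ψ
      rw [inflReg_pRegularPart, hinfl]
    apply le_antisymm
    · rw [Submodule.span_le]
      rintro _ ⟨χ, hχ, rfl⟩
      -- expand the regular part of `χ`
      obtain ⟨f, hfcl, hf⟩ := exists_inflReg_eq Q hQ hreg (χ : G → ℂ)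
        (IrrCharacter.isClassFunction χ)
      have hexp := classFunction_expansion f hfcl
      have h1 : Cfsg.pRegularPart p (χ : G → ℂ)
          = ∑ ψ : Cfsg.IrrCharacter (G ⧸ Q), Cfsg.classInner f (ψ : G ⧸ Q → ℂ) •
              Cfsg.pRegularPart p ((infl ψ : Cfsg.IrrCharacter G) : G → ℂ) := by
        rw [← hf]
        conv_lhs => rw [hexp]
        rw [map_sum]
        apply Finset.sum_congr rfl
        intro ψ _
        rw [map_smul, inflReg_eq, hinfl]
      have h2 : blockProj B (Cfsg.pRegularPart p (χ : G → ℂ))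
          = Cfsg.pRegularPart p (χ : G → ℂ) := by
        rw [blockProj_pRegularPart hM B hB χ, if_pos hχ]
      have h3 : Cfsg.pRegularPart p (χ : G → ℂ)
          = ∑ ψ : Cfsg.IrrCharacter (G ⧸ Q), Cfsg.classInner f (ψ : G ⧸ Q → ℂ) •
              (if infl ψ ∈ B then Cfsg.pRegularPart p ((infl ψ : Cfsg.IrrCharacter G) : G → ℂ)
                else 0) := by
        conv_lhs => rw [← h2, h1]
        rw [map_sum]
        apply Finset.sum_congr rfl
        intro ψ _
        rw [map_smul, blockProj_pRegularPart hM B hB (infl ψ)]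
      show Cfsg.pRegularPart p (χ : G → ℂ) ∈ (_ : Submodule ℂ (G → ℂ))
      rw [h3]
      apply Submodule.sum_mem
      intro ψ _
      by_cases hψ : infl ψ ∈ B
      · rw [if_pos hψ]
        apply Submodule.smul_mem
        apply Submodule.subset_span
        exact ⟨ψ, (hmem ψ).mp hψ, himage ψ⟩
      · rw [if_neg hψ, smul_zero]
        exact Submodule.zero_mem _
    · rw [Submodule.span_le]
      rintro _ ⟨ψ, hψ, rfl⟩
      apply Submodule.subset_span
      exact ⟨infl ψ, (hmem ψ).mpr hψ, (himage ψ).symm⟩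
  unfold Cfsg.blockRank
  rw [hmap]
  -- injectivity on the span
  obtain ⟨W, hW⟩ : ∃ W, W = Submodule.span ℂ ((fun χ : Cfsg.IrrCharacter (G ⧸ Q) =>
          Cfsg.pRegularPart p (χ : G ⧸ Q → ℂ)) '' Bq) := ⟨_, rfl⟩
  rw [← hW]
  have hWsing : ∀ f ∈ W, ∀ q : G ⧸ Q, p ∣ orderOf q → f q = 0 := by
    intro f hf
    rw [hW] at hf
    refine Submodule.span_induction ?_ ?_ ?_ ?_ hf
    · rintro _ ⟨ψ, _, rfl⟩ q hq
      exact Cfsg.Agent.Lib.Helper24.pRegularPart_of_singular _ hq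
    · intro q _; rfl
    · intro a b _ _ ha hb q hq
      rw [Pi.add_apply, ha q hq, hb q hq, add_zero]
    · intro c a _ ha q hq
      rw [Pi.smul_apply, ha q hq, smul_zero]
  have hinj : Function.Injective ((inflReg p Q).domRestrict W) := by
    rw [injective_iff_map_eq_zero]
    intro w hw
    apply Subtype.ext
    exact inflReg_eq_zero Q (w : G ⧸ Q → ℂ) (hWsing _ w.2) hw
  have hrange : LinearMap.range ((inflReg p Q).domRestrict W) = W.map (inflReg p Q) :=
    LinearMap.range_domRestrict _ _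
  rw [← hrange]
  exact LinearMap.finrank_range_of_inj hinj

end Rank

end Cfsg.Agent.Lib.Helper7
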