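import Mathlib
import Cfsg.Agent.Lib.Helper7.QuatFusion
import Cfsg.Agent.Lib.Helper7.QuatBlock
import Cfsg.Agent.Lib.Helper7.QuotientRank

/-!
# The principal 2-block of a group with quaternion Sylow 2-subgroup of order 8

Given Brauer–Suzuki (the centre has order 2), the principal block has exactly 7 characters.
-/

set_option autoImplicit false
open Cfsg
open Cfsg.Agent.Lib.Helper2 Cfsg.Agent.Lib.Helper24

namespace Cfsg.Agent.Lib.Helper7

namespace Quat

theorem card_principalBlock_of_quaternion {G : Type*} [Group G] [Finite G]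
    (M : Ideal Cfsg.AlgInt) (hM : Cfsg.IsPModular 2 M) (S : Sylow 2 G)
    (e : (S : Subgroup G) ≃* QuaternionGroup 2)
    (hO : ∀ N : Subgroup G, N.Normal → Odd (Nat.card N) → N = ⊥)
    (hG : (S : Subgroup G) ≠ ⊤) (hZ : Nat.card (Subgroup.center G) = 2) :
    Nat.card (Cfsg.principalBlock M G) = 7 := by
  classical
  letI : Fintype G := Fintype.ofFinite G
  obtain ⟨z, hz⟩ : ∃ z, z = zz (S : Subgroup G) e := ⟨_, rfl⟩
  obtain ⟨u₀, hu₀S, hu₀⟩ := exists_sq_eq_zz (S : Subgroup G) e
  rw [← hz] at hu₀
  have hz1 : z ≠ 1 := by rw [hz]; exact zz_ne_one _ e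
  have hzz : z * z = 1 := by rw [hz]; exact zz_mul_self _ e
  have hzc : ∀ g : G, g * z * g⁻¹ = z := by intro g; rw [hz]; exact conj_zz S e hZ g
  -- the Klein four quotient
  obtain ⟨hl, htrans⟩ := kleinFour_principal hM (barS S) (isKleinFour_barS S e hZ)
    (not_normalizer_le_centralizer S e hZ hO hG)
  -- `l(B₀(G)) = 3`
  have hlG : Cfsg.blockRank 2 (Cfsg.principalBlock M G) = 3 := by
    have hZp : IsPGroup 2 (Subgroup.center G) :=
      IsPGroup.of_card (n := 1) (by rw [hZ, pow_one])
    have hC : ∃ k : ℕ, (Subgroup.centralizer ((Subgroup.center G : Subgroup G) : Set G)).index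
        = 2 ^ k := by
      refine ⟨0, ?_⟩
      rw [Subgroup.centralizer_eq_top_iff_subset.mpr (le_refl _), Subgroup.index_top, pow_zero]
    have h := blockRank_blockOf_inflation hM (Subgroup.center G) hZp hC
      (trivIrr (G ⧸ Subgroup.center G))
    rw [← hl]
    exact h
  -- the representatives
  have hzu : z ≠ u₀ := by
    intro h
    rw [← h, hzz] at hu₀
    exact hz1 hu₀.symm
  have hu1 : u₀ ≠ 1 := by
    intro h
    rw [h, mul_one] at hu₀
    exact hz1 hu₀.symm
  have h1X : (1 : G) ∉ ({z, u₀} : Finset G) := by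
    intro h
    rcases Finset.mem_insert.mp h with h | h
    · exact hz1 h.symm
    · exact hu1 (Finset.mem_singleton.mp h).symm
  have hX : ∀ x ∈ ({z, u₀} : Finset G), ∃ k : ℕ, orderOf x = 2 ^ k := by
    intro x hx
    rcases Finset.mem_insert.mp hx with h | h
    · refine ⟨1, ?_⟩
      rw [h, hz, orderOf_zz, pow_one]
    · refine ⟨2, ?_⟩
      rw [Finset.mem_singleton.mp h, orderOf_of_sq_eq_zz (S : Subgroup G) e (by rw [← hz]; exact hu₀)]
      norm_num
  have hXrep : ∀ g : G, (∃ k : ℕ, orderOf g = 2 ^ k) → g ≠ 1 →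
      ∃! x, x ∈ ({z, u₀} : Finset G) ∧ IsConj g x := by
    intro g hg hg1
    have hcentral : ∀ w : G, IsConj w z → w = z := by
      intro w hw
      obtain ⟨c, hc⟩ := isConj_iff.mp hw.symm
      rw [← hc, hzc]
    rcases two_element_cases S e hZ g hg hg1 with h | h
    · rw [← hz] at h
      refine ⟨z, ⟨Finset.mem_insert_self _ _, by rw [h]⟩, ?_⟩
      rintro x ⟨hx, hgx⟩
      rcases Finset.mem_insert.mp hx with h' | h'
      · exact h'
      · exfalso
        rw [Finset.mem_singleton.mp h', h] at hgx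
        exact hzu (hcentral u₀ hgx.symm).symm
    · rw [← hz] at h
      refine ⟨u₀, ⟨Finset.mem_insert_of_mem (Finset.mem_singleton_self _),
        isConj_of_trans S e hZ htrans g u₀ (by rw [← hz]; exact h) (by rw [← hz]; exact hu₀)⟩, ?_⟩
      rintro x ⟨hx, hgx⟩
      rcases Finset.mem_insert.mp hx with h' | h'
      · exfalso
        rw [h'] at hgx
        have := hcentral g hgx
        rw [this, hzz] at h
        exact hz1 h.symm
      · exact Finset.mem_singleton.mp h'
  have hcount := card_principalBlock_eq hM ({z, u₀} : Finset G) h1X hX hXrep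
  rw [Finset.sum_pair hzu, hlG] at hcount
  -- the centralizer of `z`
  have hCz : Subgroup.centralizer ({z} : Set G) = ⊤ := by
    rw [Subgroup.centralizer_eq_top_iff_subset]
    intro w hw
    rw [Set.mem_singleton_iff.mp hw, hz]
    exact zz_mem_center S e hZ
  have hlz : Cfsg.blockRank 2 (Cfsg.principalBlock M (Subgroup.centralizer ({z} : Set G))) = 3 := by
    rw [← hlG]
    exact (blockRank_principalBlock_congr
      ((MulEquiv.subgroupCongr hCz).trans Subgroup.topEquiv) 2 M).symm
  have hlu : Cfsg.blockRank 2 (Cfsg.principalBlock M (Subgroup.centralizer ({u₀} : Set G))) = 1 :=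
    blockRank_principalBlock_of_normal_complement hM
      (exists_index_pPrimeCore_centralizer S e hZ u₀ (by rw [← hz]; exact hu₀))
  rw [hlz, hlu] at hcount
  exact hcount

end Quat

end Cfsg.Agent.Lib.Helper7
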