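import Mathlib

/-!
# Rank of a square matrix under a field homomorphism (helper7)

`rank_map_of_field`: the rank of a square matrix over a field does not change under a
homomorphism of fields (via the decomposition into transvections and a diagonal matrix).
-/

set_option autoImplicit false

namespace Cfsg.Agent.Lib.Helper7

open Matrix

theorem rank_map_of_field {K L : Type*} [Field K] [Field L] {m : Type*} [Fintype m]
    [DecidableEq m] (f : K →+* L) (A : Matrix m m K) : (A.map f).rank = A.rank := by
  classical
  obtain ⟨L₁, L₂, D, h⟩ := Matrix.Pivot.exists_list_transvec_mul_diagonal_mul_list_transvec A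
  set P := (L₁.map TransvectionStruct.toMatrix).prod with hP
  set Q := (L₂.map TransvectionStruct.toMatrix).prod with hQ
  have hPdet : P.det = 1 := TransvectionStruct.det_toMatrix_prod L₁
  have hQdet : Q.det = 1 := TransvectionStruct.det_toMatrix_prod L₂
  have hA : A.rank = Fintype.card {i // D i ≠ 0} := by
    rw [h, rank_mul_eq_left_of_isUnit_det Q _ (by rw [hQdet]; exact isUnit_one),
      rank_mul_eq_right_of_isUnit_det P _ (by rw [hPdet]; exact isUnit_one), rank_diagonal]
  have hmap : A.map f = (P.map f) * diagonal (fun i => f (D i)) * (Q.map f) := by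
    rw [h, Matrix.map_mul, Matrix.map_mul, Matrix.diagonal_map (map_zero f)]
  have hPdet' : (P.map f).det = 1 := by
    have := RingHom.map_det f P
    rw [RingHom.mapMatrix_apply] at this
    rw [← this, hPdet, map_one]
  have hQdet' : (Q.map f).det = 1 := by
    have := RingHom.map_det f Q
    rw [RingHom.mapMatrix_apply] at this
    rw [← this, hQdet, map_one]
  rw [hmap, rank_mul_eq_left_of_isUnit_det (Q.map f) _ (by rw [hQdet']; exact isUnit_one),
    rank_mul_eq_right_of_isUnit_det (P.map f) _ (by rw [hPdet']; exact isUnit_one), rank_diagonal,
    hA]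
  apply Fintype.card_congr
  apply Equiv.subtypeEquivRight
  intro i
  rw [Ne, Ne, map_eq_zero]

end Cfsg.Agent.Lib.Helper7
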