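import Cfsg.Agent.Lib.Helper8.ChevRee36

/-!
# The Ree group `²G₂(3)`: coordinates on `U¹` for `m = 0`
-/

set_option autoImplicit false

namespace Cfsg.Agent.Lib.Helper7.Ree3

open Cfsg.Lie Matrix Cfsg.Agent.Lib.Helper8.Chev

section

variable {K : Type*} [Field K] {φ ψ : K →+* K}
variable {τ : ↥(chevG2.group K) →* ↥(chevG2.group K)}

theorem phi_id (hF : ReeField K 0 φ ψ) (t : K) : φ t = t := by
  rw [hF.phi, pow_zero, pow_one]

/-- two elements with the same coordinates are equal -/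
theorem isW_unique {g g' : GL chevG2.Idx K} {t u v : K} (h : IsW 0 g t u v)
    (h' : IsW 0 g' t u v) : g = g' :=
  Units.ext (h.trans h'.symm)

/-- the product in coordinates, for `m = 0` -/
theorem isW_mul (hF : ReeField K 0 φ ψ) {g g' : GL chevG2.Idx K}
    {t u v t' u' v' t'' u'' v'' : K}
    (h : IsW 0 g t u v) (h' : IsW 0 g' t' u' v') (h'' : IsW 0 (g * g') t'' u'' v'') :
    t'' = t + t' ∧ u'' = u + u' - t * t' ∧
      v'' = v + v' - t ^ 2 * t' + t * t' ^ 2 - u * t' := by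
  have := hF.char3
  rw [isW_iff hF] at h h' h''
  rw [Units.val_mul, h, h', (g2Rel_xp (K := K)).E6_mul] at h''
  obtain ⟨e0, -, e2, e3, -, -⟩ := E6_inj h''
  simp only [phi_id hF] at e0 e2 e3
  refine ⟨e0.symm, ?_, ?_⟩
  · rw [← e2]; ring
  · rw [← e3]; ring

theorem chi6 : chiH (-1 : Kˣ) (-1) 6 = -1 := by
  rw [chiH_6]
  have e : (((-1 : Kˣ) ^ 3)⁻¹ * (-1 : Kˣ) ^ 2 : Kˣ) = -1 := by
    rw [Odd.neg_one_pow (by decide), Even.neg_one_pow (by decide), mul_one, inv_neg, inv_one]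
  rw [e, Units.val_neg, Units.val_one]

theorem chi8 : chiH (-1 : Kˣ) (-1) 8 = 1 := by
  rw [chiH_val]
  have c0 : chevG2.cartan 0 8 = -1 := by decide
  have c1 : chevG2.cartan 1 8 = 1 := by decide
  rw [c0, c1, _root_.zpow_neg_one, _root_.zpow_one, inv_mul_cancel, Units.val_one]

theorem chi9 : chiH (-1 : Kˣ) (-1) 9 = -1 := by
  rw [chiH_val]
  have c0 : chevG2.cartan 0 9 = 1 := by decide
  have c1 : chevG2.cartan 1 9 = 0 := by decide
  rw [c0, c1, _root_.zpow_one, _root_.zpow_zero, mul_one, Units.val_neg, Units.val_one]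

/-- the action of the involution of `H¹` in coordinates, for `m = 0` -/
theorem isW_conj_inv (hF : ReeField K 0 φ ψ) {g : GL chevG2.Idx K} {t u v t₁ u₁ v₁ : K}
    (h : IsW 0 g t u v) (h₁ : IsW 0 (reeInv K * g * (reeInv K)⁻¹) t₁ u₁ v₁) :
    t₁ = -t ∧ u₁ = u ∧ v₁ = -v := by
  have := hF.char3
  rw [isW_iff hF] at h h₁
  unfold reeInv at h₁
  rw [Units.val_mul, Units.val_mul, h, hh_mul_E6, Matrix.mul_assoc, ← Units.val_mul,
    mul_inv_cancel, Units.val_one, Matrix.mul_one] at h₁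
  obtain ⟨e0, -, e2, e3, -, -⟩ := E6_inj h₁
  simp only [phi_id hF, chi6, chi8, chi9] at e0 e2 e3
  refine ⟨?_, ?_, ?_⟩
  · rw [← e0]; ring
  · rw [← e2]; ring
  · rw [← e3]; ring

end

end Cfsg.Agent.Lib.Helper7.Ree3
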