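import Cfsg.Agent.Lib.Helper8.ChevRee36
import Cfsg.Agent.Lib.Helper7.Ree3A

/-!
# The Ree group `²G₂(3)`: the functional `λ = u - t²` on `U¹` and its invariance under `B¹`
-/

set_option autoImplicit false

namespace Cfsg.Agent.Lib.Helper7.Ree3

open Cfsg.Lie Matrix Cfsg.Agent.Lib.Helper8.Chev

section

variable {K : Type*} [Field K] {φ ψ : K →+* K}
variable {τ : ↥(chevG2.group K) →* ↥(chevG2.group K)}

/-- the functional `λ(t,u,v) = u - t²` on `U¹` (zero outside) -/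
noncomputable def lam (g : GL chevG2.Idx K) : K := by
  classical
  exact if h : ∃ p : K × K × K, IsW 0 g p.1 p.2.1 p.2.2 then
    (Classical.choose h).2.1 - (Classical.choose h).1 ^ 2 else 0

theorem lam_eq (hF : ReeField K 0 φ ψ) {g : GL chevG2.Idx K} {t u v : K} (h : IsW 0 g t u v) :
    lam g = u - t ^ 2 := by
  classical
  have hex : ∃ p : K × K × K, IsW 0 g p.1 p.2.1 p.2.2 := ⟨(t, u, v), h⟩
  unfold lam
  rw [dif_pos hex]
  obtain ⟨e1, e2, -⟩ := (Classical.choose_spec hex).inj hF h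
  rw [e1, e2]

theorem lam_one (hF : ReeField K 0 φ ψ) : lam (1 : GL chevG2.Idx K) = 0 := by
  rw [lam_eq hF (isW_one hF)]; ring

theorem lam_mul (hF : ReeField K 0 φ ψ) (hτ : ReeAut 0 τ) {g g' : GL chevG2.Idx K}
    (hg : g ∈ chevG2.posUnipotent K ⊓ twistedG2 K (3 ^ 0))
    (hg' : g' ∈ chevG2.posUnipotent K ⊓ twistedG2 K (3 ^ 0)) :
    lam (g * g') = lam g + lam g' := by
  obtain ⟨t, u, v, h⟩ := exists_isW hF hτ hg
  obtain ⟨t', u', v', h'⟩ := exists_isW hF hτ hg'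
  obtain ⟨t'', u'', v'', h''⟩ := exists_isW hF hτ (mul_mem hg hg')
  obtain ⟨e1, e2, -⟩ := isW_mul hF h h' h''
  rw [lam_eq hF h, lam_eq hF h', lam_eq hF h'', e1, e2]
  have h3 : (3 : K) = 0 := hF.three
  linear_combination (-(t * t')) * h3

theorem lam_inv (hF : ReeField K 0 φ ψ) (hτ : ReeAut 0 τ) {g : GL chevG2.Idx K}
    (hg : g ∈ chevG2.posUnipotent K ⊓ twistedG2 K (3 ^ 0)) :
    lam g⁻¹ = - lam g := by
  have h1 := lam_mul hF hτ hg (inv_mem hg)
  rw [mul_inv_cancel, lam_one hF] at h1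
  linear_combination -h1

/-- `λ` is invariant under conjugation by `U¹` -/
theorem lam_conj_pos (hF : ReeField K 0 φ ψ) (hτ : ReeAut 0 τ) {g y : GL chevG2.Idx K}
    (hg : g ∈ chevG2.posUnipotent K ⊓ twistedG2 K (3 ^ 0))
    (hy : y ∈ chevG2.posUnipotent K ⊓ twistedG2 K (3 ^ 0)) :
    lam (g * y * g⁻¹) = lam y := by
  rw [lam_mul hF hτ (mul_mem hg hy) (inv_mem hg), lam_mul hF hτ hg hy, lam_inv hF hτ hg]
  ring

/-- `λ` is invariant under conjugation by the involution of `H¹` -/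
theorem lam_conj_inv (hF : ReeField K 0 φ ψ) (hτ : ReeAut 0 τ) {y : GL chevG2.Idx K}
    (hy : y ∈ chevG2.posUnipotent K ⊓ twistedG2 K (3 ^ 0))
    (hy' : reeInv K * y * (reeInv K)⁻¹ ∈ chevG2.posUnipotent K ⊓ twistedG2 K (3 ^ 0)) :
    lam (reeInv K * y * (reeInv K)⁻¹) = lam y := by
  obtain ⟨t, u, v, h⟩ := exists_isW hF hτ hy
  obtain ⟨t₁, u₁, v₁, h₁⟩ := exists_isW hF hτ hy'
  obtain ⟨e1, e2, -⟩ := isW_conj_inv hF h h₁
  rw [lam_eq hF h, lam_eq hF h₁, e1, e2]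
  ring

end

section finite

variable {K : Type*} [Field K] [Fintype K] {φ ψ : K →+* K}
variable {τ : ↥(chevG2.group K) →* ↥(chevG2.group K)}

/-- the units of a field with three elements -/
theorem unit_cases (hK : Fintype.card K = 3 ^ (2 * 0 + 1)) (c : Kˣ) : c = 1 ∨ c = -1 := by
  have hcard : Nat.card Kˣ = 2 := by
    rw [Nat.card_units, Nat.card_eq_fintype_card, hK]
    norm_num
  have h2 : c ^ 2 = 1 := by
    rw [← hcard]; exact pow_card_eq_one'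
  have : c⁻¹ = c := by
    rw [inv_eq_iff_eq_inv, ← mul_eq_one_iff_eq_inv, ← sq]
    exact h2
  exact (Units.inv_eq_self_iff c).mp this

/-- the elements of `H¹` for `q = 3` -/
theorem diag_cases (hF : ReeField K 0 φ ψ) (hK : Fintype.card K = 3 ^ (2 * 0 + 1))
    (hτ : ReeAut 0 τ) {h : GL chevG2.Idx K}
    (hh' : h ∈ chevG2.diagonalSubgroup K ⊓ twistedG2 K (3 ^ 0)) : h = 1 ∨ h = reeInv K := by
  obtain ⟨c, rfl⟩ := (diag_inf_twisted_iff hF hK hτ h).mp hh'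
  rcases unit_cases hK c with rfl | rfl
  · left; rw [one_pow, hh_one]
  · right; exact (reeInv_eq 0).symm

/-- the decomposition `B¹ = U¹ H¹` -/
theorem borel_decomp' (hF : ReeField K 0 φ ψ) (hK : Fintype.card K = 3 ^ (2 * 0 + 1))
    (hτ : ReeAut 0 τ) {b : GL chevG2.Idx K}
    (hb : b ∈ chevG2.borelSubgroup K) (hbT : b ∈ twistedG2 K (3 ^ 0)) :
    ∃ u ∈ chevG2.posUnipotent K ⊓ twistedG2 K (3 ^ 0), b = u ∨ b = u * reeInv K := by
  have hfix := fixT_eq_twisted hF hK hτ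
  have hbf : b ∈ fixT τ := by rw [hfix]; exact hbT
  rcases ree_bruhat hF hτ hbf with ⟨u₁, hu₁, h₁, hh₁, e⟩ | ⟨u₁, hu₁, h₁, hh₁, u, hu, e⟩
  · rw [hfix] at hu₁ hh₁
    refine ⟨u₁, hu₁, ?_⟩
    rcases diag_cases hF hK hτ hh₁ with rfl | rfl
    · left; rw [e, mul_one]
    · right; exact e
  · exfalso
    apply reeN0_not_mem_borel (K := K) hF
    have e' : reeN0 K = (u₁ * h₁)⁻¹ * b * u⁻¹ := by rw [e]; group
    rw [e']
    exact mul_mem (mul_mem (inv_mem (mul_mem (pos_le_borel hu₁.1) (diagonal_le_borel hh₁.1))) hb)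
      (inv_mem (pos_le_borel hu.1))

/-- `λ` is invariant under conjugation by `B¹` -/
theorem lam_conj_borel (hF : ReeField K 0 φ ψ) (hK : Fintype.card K = 3 ^ (2 * 0 + 1))
    (hτ : ReeAut 0 τ) {b y : GL chevG2.Idx K}
    (hb : b ∈ chevG2.borelSubgroup K) (hbT : b ∈ twistedG2 K (3 ^ 0))
    (hy : y ∈ chevG2.posUnipotent K ⊓ twistedG2 K (3 ^ 0)) :
    lam (b * y * b⁻¹) = lam y := by
  obtain ⟨u, hu, rfl | rfl⟩ := borel_decomp' hF hK hτ hb hbT
  · exact lam_conj_pos hF hτ hu hy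
  · have hiT := (reeInv_mem hF hK hτ).2
    have hiB : reeInv K ∈ chevG2.borelSubgroup K := diagonal_le_borel (reeInv_mem hF hK hτ).1
    have hy' : reeInv K * y * (reeInv K)⁻¹ ∈ chevG2.posUnipotent K ⊓ twistedG2 K (3 ^ 0) :=
      Subgroup.mem_inf.mpr ⟨borel_conj_pos hiB hy.1, mul_mem (mul_mem hiT hy.2) (inv_mem hiT)⟩
    have e : u * reeInv K * y * (u * reeInv K)⁻¹ = u * (reeInv K * y * (reeInv K)⁻¹) * u⁻¹ := by
      group
    rw [e, lam_conj_pos hF hτ hu hy', lam_conj_inv hF hτ hy hy']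

end finite

end Cfsg.Agent.Lib.Helper7.Ree3
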