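import Cfsg.Agent.Lib.Helper8.ChevRee36
import Cfsg.Agent.Lib.Helper7.Ree3A
import Cfsg.Agent.Lib.Helper7.Ree3B

/-!
# The Ree group `²G₂(3)`: the subgroup `A = ker λ` of `U¹`
-/

set_option autoImplicit false

namespace Cfsg.Agent.Lib.Helper7.Ree3

open Cfsg.Lie Matrix Cfsg.Agent.Lib.Helper8.Chev
open scoped commutatorElement

section finite

variable {K : Type*} [Field K] [Fintype K] {φ ψ : K →+* K}
variable {τ : ↥(chevG2.group K) →* ↥(chevG2.group K)}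

omit [Fintype K] in
theorem mem_pos_inf_of_mem_reeU {g : ↥(twistedG2 K (3 ^ 0))} (hg : g ∈ reeU K 0) :
    (g : GL chevG2.Idx K) ∈ chevG2.posUnipotent K ⊓ twistedG2 K (3 ^ 0) :=
  Subgroup.mem_inf.mpr ⟨mem_reeU.mp hg, g.2⟩

/-- `λ` as a homomorphism on `U¹` -/
noncomputable def lamHom (hF : ReeField K 0 φ ψ) (hτ : ReeAut 0 τ) :
    ↥(reeU K 0) →* Multiplicative K :=
  MonoidHom.mk' (fun g => Multiplicative.ofAdd
      (lam (((g : ↥(twistedG2 K (3 ^ 0))) : GL chevG2.Idx K))))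
    (by
      intro a b
      have ha := mem_pos_inf_of_mem_reeU a.2
      have hb := mem_pos_inf_of_mem_reeU b.2
      have e : (((a * b : ↥(reeU K 0)) : ↥(twistedG2 K (3 ^ 0))) : GL chevG2.Idx K) =
          ((a : ↥(twistedG2 K (3 ^ 0))) : GL chevG2.Idx K) *
            ((b : ↥(twistedG2 K (3 ^ 0))) : GL chevG2.Idx K) := rfl
      change Multiplicative.ofAdd _ = Multiplicative.ofAdd _ * Multiplicative.ofAdd _
      rw [e, lam_mul hF hτ ha hb, ofAdd_add])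

omit [Fintype K] in
theorem lamHom_apply (hF : ReeField K 0 φ ψ) (hτ : ReeAut 0 τ) (g : ↥(reeU K 0)) :
    lamHom hF hτ g = Multiplicative.ofAdd
      (lam (((g : ↥(twistedG2 K (3 ^ 0))) : GL chevG2.Idx K))) := rfl

/-- the subgroup `A = ker λ` of `U¹` -/
noncomputable def reeA (hF : ReeField K 0 φ ψ) (hτ : ReeAut 0 τ) :
    Subgroup ↥(twistedG2 K (3 ^ 0)) :=
  (lamHom hF hτ).ker.map (reeU K 0).subtype

omit [Fintype K] in
theorem mem_reeA (hF : ReeField K 0 φ ψ) (hτ : ReeAut 0 τ) {g : ↥(twistedG2 K (3 ^ 0))} :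
    g ∈ reeA hF hτ ↔ g ∈ reeU K 0 ∧ lam (g : GL chevG2.Idx K) = 0 := by
  unfold reeA
  constructor
  · rintro ⟨y, hy, rfl⟩
    refine ⟨y.2, ?_⟩
    have hy' : lamHom hF hτ y = 1 := hy
    rw [lamHom_apply] at hy'
    exact hy'
  · rintro ⟨h1, h2⟩
    refine ⟨⟨g, h1⟩, ?_, rfl⟩
    change lamHom hF hτ ⟨g, h1⟩ = 1
    rw [lamHom_apply]
    exact congrArg Multiplicative.ofAdd h2

omit [Fintype K] in
theorem reeA_le (hF : ReeField K 0 φ ψ) (hτ : ReeAut 0 τ) : reeA hF hτ ≤ reeU K 0 :=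
  fun _ hg => ((mem_reeA hF hτ).mp hg).1

theorem lamHom_surjective (hF : ReeField K 0 φ ψ) (hτ : ReeAut 0 τ) :
    Function.Surjective (lamHom hF hτ) := by
  intro c
  obtain ⟨g, hg⟩ := exists_isW' (K := K) (m := 0) 0 (Multiplicative.toAdd c) 0
  have hgm := hg.mem hF hτ
  refine ⟨⟨⟨g, hgm.2⟩, mem_reeU.mpr hgm.1⟩, ?_⟩
  rw [lamHom_apply]
  change Multiplicative.ofAdd (lam g) = c
  rw [lam_eq hF hg]
  simp

theorem card_reeA (hF : ReeField K 0 φ ψ) (hK : Fintype.card K = 3 ^ (2 * 0 + 1))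
    (hτ : ReeAut 0 τ) : Nat.card ↥(reeA hF hτ) = 9 := by
  unfold reeA
  rw [Subgroup.card_map_of_injective (Subgroup.subtype_injective _)]
  have h1 := Subgroup.index_ker (lamHom hF hτ)
  have h2 : Nat.card ↥(lamHom hF hτ).range = 3 := by
    rw [MonoidHom.range_eq_top_of_surjective _ (lamHom_surjective hF hτ), Subgroup.card_top]
    change Nat.card K = 3
    rw [Nat.card_eq_fintype_card, hK]
    norm_num
  have h3 := Subgroup.card_mul_index (lamHom hF hτ).ker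
  rw [h1, h2, card_reeU hF hτ, hK] at h3
  have e27 : ((3 : ℕ) ^ (2 * 0 + 1)) ^ 3 = 27 := by norm_num
  rw [e27] at h3
  omega

/-- the involution of `H¹` inverts `A` -/
theorem reeInv_conj_reeA (hF : ReeField K 0 φ ψ) (hK : Fintype.card K = 3 ^ (2 * 0 + 1))
    (hτ : ReeAut 0 τ) {a : ↥(twistedG2 K (3 ^ 0))} (ha : a ∈ reeA hF hτ) :
    reeInvG hF hK hτ * a * (reeInvG hF hK hτ)⁻¹ = a⁻¹ := by
  obtain ⟨haU, hlam⟩ := (mem_reeA hF hτ).mp ha
  have ham := mem_pos_inf_of_mem_reeU haU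
  have hiT := (reeInv_mem hF hK hτ).2
  have hiB : reeInv K ∈ chevG2.borelSubgroup K := diagonal_le_borel (reeInv_mem hF hK hτ).1
  have hc : reeInv K * (a : GL chevG2.Idx K) * (reeInv K)⁻¹ ∈
      chevG2.posUnipotent K ⊓ twistedG2 K (3 ^ 0) :=
    Subgroup.mem_inf.mpr ⟨borel_conj_pos hiB ham.1, mul_mem (mul_mem hiT ham.2) (inv_mem hiT)⟩
  obtain ⟨t, u, v, h⟩ := exists_isW hF hτ ham
  obtain ⟨t₁, u₁, v₁, h₁⟩ := exists_isW hF hτ hc
  obtain ⟨t', u', v', h'⟩ := exists_isW hF hτ (inv_mem ham)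
  obtain ⟨e1, e2, e3⟩ := isW_conj_inv hF h h₁
  have hone : IsW 0 ((a : GL chevG2.Idx K) * (a : GL chevG2.Idx K)⁻¹) 0 0 0 := by
    rw [mul_inv_cancel]; exact isW_one hF
  obtain ⟨f1, f2, f3⟩ := isW_mul hF h h' hone
  rw [lam_eq hF h] at hlam
  have h3 : (3 : K) = 0 := hF.three
  have hu : u = t ^ 2 := by linear_combination hlam
  have ht' : t' = -t := by linear_combination -f1
  have hu' : u' = u := by
    rw [ht'] at f2
    linear_combination -f2 - 2 * hu - t ^ 2 * h3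
  have hv' : v' = -v := by
    rw [ht'] at f3
    linear_combination -f3 - t * hu - t ^ 3 * h3
  rw [e1, e2, e3] at h₁
  rw [ht', hu', hv'] at h'
  apply Subtype.ext
  exact isW_unique h₁ h'

end finite

end Cfsg.Agent.Lib.Helper7.Ree3
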