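import Mathlib

/-!
# Generic group theory for `²G₂(3)'`: a rank one `(B, N)`-type group of order `1512` whose
derived subgroup has index `3` has a simple derived subgroup
-/

set_option autoImplicit false

namespace Cfsg.Agent.Lib.Helper7.Ree3

open Subgroup

section generic

variable {G : Type*} [Group G]

/-- a perfect subgroup lies in every normal subgroup of prime power index -/
theorem perfect_le_of_index_prime_pow [Finite G] (N : Subgroup G) [N.Normal] (K : Subgroup G)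
    (hK : ⁅K, K⁆ = K) {p k : ℕ} (hp : p.Prime) (hN : N.index = p ^ k) : K ≤ N := by
  haveI : Fact p.Prime := ⟨hp⟩
  have hcard : Nat.card (G ⧸ N) = p ^ k := by rw [← hN]; rfl
  have hpg : IsPGroup p (G ⧸ N) := IsPGroup.of_card hcard
  haveI : Group.IsNilpotent (G ⧸ N) := hpg.isNilpotent
  haveI : Group.IsPerfect K := Subgroup.isPerfect_iff.mpr hK
  haveI : Group.IsPerfect (K.map (QuotientGroup.mk' N)) := Group.IsPerfect.map _
  by_contra hle
  have hne : K.map (QuotientGroup.mk' N) ≠ ⊥ := by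
    intro h
    rw [Subgroup.map_eq_bot_iff, QuotientGroup.ker_mk'] at h
    exact hle h
  haveI : Nontrivial (K.map (QuotientGroup.mk' N)) := (Subgroup.nontrivial_iff_ne_bot _).mpr hne
  exact Group.IsPerfect.not_isSolvable (K.map (QuotientGroup.mk' N)) inferInstance

/-- in a rank one `(B, N)`-type situation every nontrivial normal subgroup supplements `U` -/
theorem normal_sup_eq_top (U B : Subgroup G) (n₀ : G)
    (hBU : ∀ b ∈ B, ∀ u ∈ U, b * u * b⁻¹ ∈ U)
    (hbru : ∀ g : G, g ∈ B ∨ ∃ b ∈ B, ∃ b' ∈ B, g = b * n₀ * b')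
    (hcore : B.normalCore = ⊥)
    (hgen : ∀ D : Subgroup G, U ≤ D → (∀ u ∈ U, n₀ * u * n₀⁻¹ ∈ D) → D = ⊤)
    (N : Subgroup G) [hNn : N.Normal] (hN : N ≠ ⊥) : N ⊔ U = ⊤ := by
  have hNB : ¬ N ≤ B := by
    intro h
    apply hN
    rw [← le_bot_iff, ← hcore]
    exact Subgroup.normal_le_normalCore.mpr h
  obtain ⟨x, hxN, hxB⟩ := SetLike.not_le_iff_exists.mp hNB
  rcases hbru x with h | ⟨b, hb, b', hb', e⟩
  · exact absurd h hxB
  apply hgen
  · exact le_sup_right
  · intro u hu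
    have hu' : b'⁻¹ * u * b'⁻¹⁻¹ ∈ U := hBU _ (inv_mem hb') u hu
    have e1 : n₀ * u * n₀⁻¹ =
        (b⁻¹ * (x * ((b'⁻¹ * u * b'⁻¹⁻¹) * x⁻¹ * (b'⁻¹ * u * b'⁻¹⁻¹)⁻¹)) * b⁻¹⁻¹) *
          (b⁻¹ * (b'⁻¹ * u * b'⁻¹⁻¹) * b⁻¹⁻¹) := by
      have hn₀ : n₀ = b⁻¹ * x * b'⁻¹ := by rw [e]; group
      rw [hn₀]; group
    rw [e1]
    apply mul_mem
    · apply Subgroup.mem_sup_left
      apply hNn.conj_mem
      exact mul_mem hxN (hNn.conj_mem _ (inv_mem hxN) _)
    · apply Subgroup.mem_sup_right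
      exact hBU _ (inv_mem hb) _ hu'

theorem normal_index_dvd (U N : Subgroup G) [N.Normal] (h : N ⊔ U = ⊤) :
    N.index ∣ Nat.card U := by
  rw [← Subgroup.relIndex_top_right, ← h, sup_comm, Subgroup.relIndex_sup_right]
  exact Subgroup.relIndex_dvd_card N U

end generic

end Cfsg.Agent.Lib.Helper7.Ree3
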