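import Mathlib
import Cfsg.Agent.Lib.Helper7.Ree3G

/-!
# Generic group theory for `²G₂(3)'`: simplicity of a perfect minimal normal subgroup of
order `504`
-/

set_option autoImplicit false

namespace Cfsg.Agent.Lib.Helper7.Ree3

open Subgroup

section generic

variable {G : Type*} [Group G]

theorem card_mul_relIndex' {H K : Subgroup G} (h : H ≤ K) :
    Nat.card H * H.relIndex K = Nat.card K := by
  rw [← Nat.card_congr (Subgroup.subgroupOfEquivOfLe h).toEquiv]
  exact Subgroup.card_mul_index (H.subgroupOf K)

/-- two normal subgroups with trivial intersection: the product of the orders divides the order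
of the group -/
theorem card_mul_card_dvd_of_disjoint [Finite G] (L M : Subgroup G) [M.Normal]
    (h : L ⊓ M = ⊥) : Nat.card L * Nat.card M ∣ Nat.card G := by
  have h1 : M.relIndex (L ⊔ M) = Nat.card L := by
    rw [Subgroup.relIndex_sup_right, ← Subgroup.inf_relIndex_right, inf_comm, h,
      Subgroup.relIndex_bot_left]
  have h2 := card_mul_relIndex' (le_sup_right : M ≤ L ⊔ M)
  rw [h1] at h2
  rw [mul_comm, h2]
  exact Subgroup.card_subgroup_dvd_card _

theorem dvd_six_of_sq_dvd {c : ℕ} (h : c * c ∣ 504) : c ∣ 6 := by
  have hc : c ≤ 22 := by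
    by_contra hlt
    push Not at hlt
    have := Nat.le_of_dvd (by norm_num) h
    nlinarith
  interval_cases c <;> omega

/-- a normal subgroup of prime order of a perfect group is central -/
theorem le_center_of_prime_card [Finite G] (hperf : _root_.commutator G = ⊤) (L : Subgroup G)
    [L.Normal] {p : ℕ} (hp : p.Prime) (hL : Nat.card L = p) : L ≤ Subgroup.center G := by
  haveI : Fact p.Prime := ⟨hp⟩
  haveI : IsCyclic L := isCyclic_of_prime_card hL
  let e := IsCyclic.mulAutMulEquiv L
  let f : G →* (ZMod (Nat.card L))ˣ := e.toMonoidHom.comp (MulAut.conjNormal (H := L))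
  have hker : f.ker = ⊤ := by
    rw [eq_top_iff, ← hperf]
    exact Abelianization.commutator_subset_ker f
  intro l hl
  rw [Subgroup.mem_center_iff]
  intro g
  have hg : g ∈ f.ker := by rw [hker]; trivial
  rw [MonoidHom.mem_ker] at hg
  have h1 : MulAut.conjNormal (H := L) g = 1 := by
    apply e.injective
    rw [map_one]
    exact hg
  have h2 := congrArg (fun σ : MulAut L => ((σ ⟨l, hl⟩ : L) : G)) h1
  simp only [MulAut.conjNormal_apply, MulAut.one_apply] at h2
  calc g * l = g * l * g⁻¹ * g := by group
    _ = l * g := by rw [h2]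

end generic

end Cfsg.Agent.Lib.Helper7.Ree3
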