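import Mathlib
import Cfsg.Agent.Lib.Helper7.Ree3G
import Cfsg.Agent.Lib.Helper7.Ree3H

/-!
# Generic group theory for `²G₂(3)'`: simplicity of a perfect minimal normal subgroup of
order `504`
-/

set_option autoImplicit false

namespace Cfsg.Agent.Lib.Helper7.Ree3

open Subgroup

section generic

variable {G : Type*} [Group G]

/-- a perfect normal subgroup of order `504` which is a minimal normal subgroup is simple -/
theorem simple_of_minimal_normal [Finite G] (K : Subgroup G) [hKn : K.Normal]
    (hperf : ⁅K, K⁆ = K) (hcard : Nat.card K = 504)
    (hmin : ∀ N : Subgroup G, N.Normal → N ≠ ⊥ → N ≤ K → N = K) : IsSimpleGroup K := by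
  classical
  haveI : Group.IsPerfect K := Subgroup.isPerfect_iff.mpr hperf
  have hperf' : _root_.commutator K = ⊤ := Group.IsPerfect.commutator_eq_top
  haveI : Nontrivial K := by
    apply (Finite.one_lt_card_iff_nontrivial).mp
    rw [hcard]; norm_num
  -- subgroups invariant under all conjugations by `G`
  have hchar : ∀ L : Subgroup K, L ≠ ⊥ →
      (∀ g : G, L.map (MulAut.conjNormal g : MulAut K).toMonoidHom = L) → L = ⊤ := by
    intro L hL hinv
    have hN : (L.map K.subtype).Normal := by
      constructor
      intro n hn g
      obtain ⟨l, hl, rfl⟩ := hn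
      refine ⟨MulAut.conjNormal g l, ?_, ?_⟩
      · rw [← hinv g]; exact ⟨l, hl, rfl⟩
      · exact MulAut.conjNormal_apply g l
    have hne : L.map K.subtype ≠ ⊥ := by
      rwa [Ne, Subgroup.map_eq_bot_iff_of_injective _ K.subtype_injective]
    have h1 := hmin _ hN hne (Subgroup.map_subtype_le L)
    rw [eq_top_iff]
    intro k _
    have hk : (k : G) ∈ L.map K.subtype := by rw [h1]; exact k.2
    obtain ⟨l, hl, e⟩ := hk
    have : l = k := Subtype.ext e
    rwa [← this]
  -- the main claim, by strong induction on the order
  have main : ∀ n : ℕ, ∀ L : Subgroup K, L.Normal → L ≠ ⊥ → Nat.card L = n → L = ⊤ := by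
    intro n
    induction n using Nat.strong_induction_on with
    | _ n ih =>
    intro L hLn hL hn
    have := hLn
    by_contra htop
    have hcn : ∀ g : G, (L.map (MulAut.conjNormal g : MulAut K).toMonoidHom).Normal := by
      intro g
      exact hLn.map _ (MulAut.conjNormal g : MulAut K).surjective
    have hcc : ∀ g : G, Nat.card (L.map (MulAut.conjNormal g : MulAut K).toMonoidHom) = n := by
      intro g
      have h1 := Subgroup.card_map_of_injective (K := L)
        (f := (MulAut.conjNormal g : MulAut K).toMonoidHom) (MulAut.conjNormal g : MulAut K).injective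
      rw [h1, hn]
    have hdich : ∀ g : G, L.map (MulAut.conjNormal g : MulAut K).toMonoidHom = L ∨
        L ⊓ L.map (MulAut.conjNormal g : MulAut K).toMonoidHom = ⊥ := by
      intro g
      have := hcn g
      by_cases hM : L ⊓ L.map (MulAut.conjNormal g : MulAut K).toMonoidHom = ⊥
      · right; exact hM
      · left
        have hle : Nat.card ↥(L ⊓ L.map (MulAut.conjNormal g : MulAut K).toMonoidHom) ≤ n := by
          rw [← hn]
          exact Subgroup.card_le_of_le inf_le_left
        rcases lt_or_eq_of_le hle with hlt | heq
        · have h1 := ih _ hlt (L ⊓ L.map (MulAut.conjNormal g : MulAut K).toMonoidHom)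
            inferInstance hM rfl
          exfalso
          apply htop
          rw [eq_top_iff, ← h1]
          exact inf_le_left
        · have h1 : L ⊓ L.map (MulAut.conjNormal g : MulAut K).toMonoidHom = L :=
            Subgroup.eq_of_le_of_card_ge inf_le_left (by rw [heq, hn])
          have h2 : L ≤ L.map (MulAut.conjNormal g : MulAut K).toMonoidHom :=
            le_trans (le_of_eq h1.symm) inf_le_right
          exact (Subgroup.eq_of_le_of_card_ge h2 (by rw [hcc g, hn])).symm
    by_cases hall : ∀ g : G, L.map (MulAut.conjNormal g : MulAut K).toMonoidHom = L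
    · exact htop (hchar L hL hall)
    · push Not at hall
      obtain ⟨g, hg⟩ := hall
      have := hcn g
      have hdis := (hdich g).resolve_left hg
      have hdvd := card_mul_card_dvd_of_disjoint L
        (L.map (MulAut.conjNormal g : MulAut K).toMonoidHom) hdis
      rw [hn, hcc g, hcard] at hdvd
      have h6 := dvd_six_of_sq_dvd hdvd
      have hn1 : n ≠ 1 := by
        intro h1
        apply hL
        rw [← Subgroup.card_eq_one, hn, h1]
      have hcases : n = 2 ∨ n = 3 ∨ n = 6 := by
        have hle := Nat.le_of_dvd (by norm_num) h6
        interval_cases n <;> omega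
      -- the centre of `K` is trivial
      have hZ : ∀ {p : ℕ}, p.Prime → n = p → False := by
        intro p hp hnp
        have hLZ := le_center_of_prime_card hperf' L hp (hn.trans hnp)
        have hZne : Subgroup.center K ≠ ⊥ := by
          intro h
          apply hL
          rw [← le_bot_iff, ← h]
          exact hLZ
        have hZtop := hchar (Subgroup.center K) hZne (by
          intro g
          exact (Subgroup.characteristic_iff_map_eq.mp inferInstance) (MulAut.conjNormal g))
        have hcomm : IsMulCommutative K := ⟨⟨fun a b => by
          have hb : b ∈ Subgroup.center K := by rw [hZtop]; trivial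
          exact Subgroup.mem_center_iff.mp hb a⟩⟩
        exact Group.IsPerfect.not_isMulCommutative K hcomm
      rcases hcases with h2 | h3 | h6'
      · exact hZ Nat.prime_two h2
      · exact hZ Nat.prime_three h3
      · -- order `6`: the Sylow `3`-subgroup is characteristic
        haveI : Fact (Nat.Prime 3) := ⟨Nat.prime_three⟩
        obtain ⟨P⟩ : Nonempty (Sylow 3 L) := inferInstance
        obtain ⟨k, hk⟩ := P.2.exists_card_eq
        have hidx : Nat.card (P : Subgroup L) * (P : Subgroup L).index = 6 := by
          rw [Subgroup.card_mul_index, hn, h6']
        have hnd : ¬ 3 ∣ (P : Subgroup L).index := P.not_dvd_index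
        have hk1 : k = 1 := by
          rw [hk] at hidx
          rcases k with _ | _ | k
          · exfalso; apply hnd; rw [pow_zero, one_mul] at hidx; rw [hidx]; norm_num
          · rfl
          · exfalso
            have : 9 ∣ 6 := ⟨3 ^ k * (P : Subgroup L).index, by rw [← hidx]; ring⟩
            omega
        rw [hk1, pow_one] at hk
        have hidx2 : (P : Subgroup L).index = 2 := by
          rw [hk] at hidx; omega
        have hPn : (P : Subgroup L).Normal := Subgroup.normal_of_index_eq_two hidx2
        haveI : (P : Subgroup L).Characteristic := P.characteristic_of_normal hPn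
        have hPK : ((P : Subgroup L).map L.subtype).Normal := inferInstance
        have hPc : Nat.card ((P : Subgroup L).map L.subtype) = 3 := by
          rw [Subgroup.card_map_of_injective L.subtype_injective, hk]
        have hPne : (P : Subgroup L).map L.subtype ≠ ⊥ := by
          intro h
          rw [h, Subgroup.card_bot] at hPc
          omega
        have h1 := ih 3 (by omega) _ hPK hPne hPc
        rw [h1, Subgroup.card_top, hcard] at hPc
        omega
  refine ⟨fun L hL => ?_⟩
  by_cases h : L = ⊥
  · left; exact h
  · right; exact main _ L hL h rfl

end generic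

end Cfsg.Agent.Lib.Helper7.Ree3
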