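import Mathlib
import Cfsg.Agent.Lib.Helper7.Ree3G
import Cfsg.Agent.Lib.Helper7.Ree3H
import Cfsg.Agent.Lib.Helper7.Ree3I

/-!
# Generic group theory for `²G₂(3)'`: the derived subgroup has order `504` and is simple
-/

set_option autoImplicit false

namespace Cfsg.Agent.Lib.Helper7.Ree3

open Subgroup
open scoped commutatorElement

section generic

variable {G : Type*} [Group G]

/-- the abstract form of the structure of `²G₂(3)` needed for the derived subgroup -/
theorem commutator_card_and_simple [Finite G] (U B A : Subgroup G) (n₀ h : G)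
    (hG : Nat.card G = 1512)
    (hBU : ∀ b ∈ B, ∀ u ∈ U, b * u * b⁻¹ ∈ U)
    (hbru : ∀ g : G, g ∈ B ∨ ∃ b ∈ B, ∃ b' ∈ B, g = b * n₀ * b')
    (hcore : B.normalCore = ⊥)
    (hgen : ∀ D : Subgroup G, U ≤ D → (∀ u ∈ U, n₀ * u * n₀⁻¹ ∈ D) → D = ⊤)
    (hU : Nat.card U = 27)
    (hA : _root_.commutator G ⊓ U = A) (hAc : Nat.card A = 9)
    (hh : h * h = 1) (hinv : ∀ a ∈ A, h * a * h⁻¹ = a⁻¹) :
    Nat.card (_root_.commutator G) = 504 ∧ IsSimpleGroup (_root_.commutator G) := by
  classical
  set K := _root_.commutator G with hKdef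
  have hAK : A ≤ K := by rw [← hA]; exact inf_le_left
  have hAU : A ≤ U := by rw [← hA]; exact inf_le_right
  have hAne : A ≠ ⊥ := by
    intro h0
    rw [h0, Subgroup.card_bot] at hAc
    omega
  have hKne : K ≠ ⊥ := by
    intro h0
    apply hAne
    rw [← le_bot_iff, ← h0]
    exact hAK
  have hsup : ∀ N : Subgroup G, N.Normal → N ≠ ⊥ → N ⊔ U = ⊤ := by
    intro N hN hNne
    exact normal_sup_eq_top U B n₀ hBU hbru hcore hgen N hNne
  have hidx : ∀ N : Subgroup G, N.Normal → N ≠ ⊥ → N.index ∣ 27 := by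
    intro N hN hNne
    rw [← hU]
    exact normal_index_dvd U N (hsup N hN hNne)
  -- the index of `K`
  have hKidx : K.index = 3 := by
    have h1 : K.index = K.relIndex U := by
      rw [← Subgroup.relIndex_top_right, ← hsup K inferInstance hKne, sup_comm,
        Subgroup.relIndex_sup_right]
    have h2 : K.relIndex U = A.relIndex U := by
      rw [← Subgroup.inf_relIndex_right, hA]
    have h3 := card_mul_relIndex' hAU
    rw [hAc, hU] at h3
    rw [h1, h2]
    omega
  have hKcard : Nat.card K = 504 := by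
    have := Subgroup.card_mul_index K
    rw [hKidx, hG] at this
    omega
  -- `h ∈ K`
  have hhK : h ∈ K := by
    have hq : Nat.card (G ⧸ K) = 3 := hKidx
    have h3 : (QuotientGroup.mk h : G ⧸ K) ^ 3 = 1 := by
      rw [← hq]; exact pow_card_eq_one'
    have h2 : (QuotientGroup.mk h : G ⧸ K) ^ 2 = 1 := by
      rw [← QuotientGroup.mk_pow, pow_two, hh]; rfl
    have h1 : (QuotientGroup.mk h : G ⧸ K) = 1 := by
      have e := pow_succ (QuotientGroup.mk h : G ⧸ K) 2
      rw [h2, one_mul] at e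
      rw [← e]
      exact h3
    exact (QuotientGroup.eq_one_iff h).mp h1
  -- `A ≤ ⁅K, K⁆`
  have hAKK : A ≤ ⁅K, K⁆ := by
    intro a ha
    have hsq : a * a ∈ ⁅K, K⁆ := by
      have hc : ⁅a, h⁆ ∈ ⁅K, K⁆ := Subgroup.commutator_mem_commutator (hAK ha) hhK
      have e : ⁅a, h⁆ = a * a := by
        rw [commutatorElement_def]
        have h1 : h * a⁻¹ * h⁻¹ = a := by
          have := hinv a⁻¹ (inv_mem ha)
          rwa [inv_inv] at this
        calc a * h * a⁻¹ * h⁻¹ = a * (h * a⁻¹ * h⁻¹) := by group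
          _ = a * a := by rw [h1]
      rwa [e] at hc
    have h9 : a ^ 9 = 1 := by
      have := pow_card_eq_one' (G := A) (x := ⟨a, ha⟩)
      rw [hAc] at this
      exact congrArg Subtype.val this
    have e : (a * a) ^ 5 = a := by
      rw [← pow_two, ← pow_mul]
      change a ^ (9 + 1) = a
      rw [pow_succ, h9, one_mul]
    rw [← e]
    exact pow_mem hsq 5
  -- `K` is perfect
  have hperf : ⁅K, K⁆ = K := by
    have hDn : (⁅K, K⁆).Normal := inferInstance
    have hDne : ⁅K, K⁆ ≠ ⊥ := by
      intro h0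
      apply hAne
      rw [← le_bot_iff, ← h0]
      exact hAKK
    have hDle : ⁅K, K⁆ ≤ K := Subgroup.commutator_le_left K K
    have h1 := hidx _ hDn hDne
    have h2 := Subgroup.card_mul_index ⁅K, K⁆
    rw [hG] at h2
    have h3 : 9 ∣ Nat.card ↥⁅K, K⁆ := by
      rw [← hAc]; exact Subgroup.card_dvd_of_le hAKK
    have h4 := Subgroup.relIndex_mul_index hDle
    rw [hKidx] at h4
    have h5 : (⁅K, K⁆).relIndex K = 1 := by
      obtain ⟨c, hc⟩ := h3
      have h27 : (27 : ℕ) = 3 ^ 3 := by norm_num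
      rw [h27] at h1
      obtain ⟨j, hj, hj'⟩ := (Nat.dvd_prime_pow Nat.prime_three).mp h1
      rw [hc, hj'] at h2
      rw [hj'] at h4
      interval_cases j
      · omega
      · omega
      · omega
      · omega
    exact le_antisymm hDle (Subgroup.relIndex_eq_one.mp h5)
  -- minimality
  have hmin : ∀ N : Subgroup G, N.Normal → N ≠ ⊥ → N ≤ K → N = K := by
    intro N hN hNne hNK
    have h27 : (27 : ℕ) = 3 ^ 3 := by norm_num
    have h1 := hidx N hN hNne
    rw [h27] at h1
    obtain ⟨j, -, hj⟩ := (Nat.dvd_prime_pow Nat.prime_three).mp h1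
    exact le_antisymm hNK (perfect_le_of_index_prime_pow N K hperf Nat.prime_three hj)
  exact ⟨hKcard, simple_of_minimal_normal K hperf hKcard hmin⟩

end generic

end Cfsg.Agent.Lib.Helper7.Ree3
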