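import Cfsg.Agent.Lib.Helper8.ChevRee36
import Cfsg.Agent.Lib.Helper7.Ree3A
import Cfsg.Agent.Lib.Helper7.Ree3B
import Cfsg.Agent.Lib.Helper7.Ree3C
import Cfsg.Agent.Lib.Helper7.Ree3J
import Cfsg.Agent.S0080

/-!
# The Ree group `²G₂(3)`: the derived subgroup has order `504` and is simple
-/

set_option autoImplicit false

namespace Cfsg.Agent.Lib.Helper7.Ree3

open Cfsg.Lie Matrix Cfsg.Agent.Lib.Helper8.Chev
open scoped commutatorElement

section finite

variable {K : Type*} [Field K] [Fintype K] {φ ψ : K →+* K}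
variable {τ : ↥(chevG2.group K) →* ↥(chevG2.group K)}

/-- the focal subgroup of `U¹` lies in `A` -/
theorem focal_le_reeA (hF : ReeField K 0 φ ψ) (hK : Fintype.card K = 3 ^ (2 * 0 + 1))
    (hτ : ReeAut 0 τ) : Subgroup.focalSubgroup (reeU K 0) ≤ reeA hF hτ := by
  rw [Subgroup.focalSubgroup_def, Subgroup.closure_le]
  rintro g ⟨hgU, x, hxU, u, rfl⟩
  rw [SetLike.mem_coe, mem_reeA hF hτ]
  refine ⟨hgU, ?_⟩
  have hxm := mem_pos_inf_of_mem_reeU hxU
  have hgm := mem_pos_inf_of_mem_reeU hgU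
  have ecoe : ((⁅x, u⁆ : ↥(twistedG2 K (3 ^ 0))) : GL chevG2.Idx K) =
      (x : GL chevG2.Idx K) * ((u : GL chevG2.Idx K) * (x : GL chevG2.Idx K)⁻¹ *
        (u : GL chevG2.Idx K)⁻¹) := by
    rw [commutatorElement_def]
    simp only [Subgroup.coe_mul, Subgroup.coe_inv]
    group
  by_cases hx1 : (x : GL chevG2.Idx K) = 1
  · rw [ecoe, hx1]
    have : (1 : GL chevG2.Idx K) * ((u : GL chevG2.Idx K) * (1 : GL chevG2.Idx K)⁻¹ *
        (u : GL chevG2.Idx K)⁻¹) = 1 := by group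
    rw [this, lam_one hF]
  · have hw : (u : GL chevG2.Idx K) * (x : GL chevG2.Idx K)⁻¹ * (u : GL chevG2.Idx K)⁻¹ ∈
        chevG2.posUnipotent K ⊓ twistedG2 K (3 ^ 0) := by
      have e : (u : GL chevG2.Idx K) * (x : GL chevG2.Idx K)⁻¹ * (u : GL chevG2.Idx K)⁻¹ =
          (x : GL chevG2.Idx K)⁻¹ * ((⁅x, u⁆ : ↥(twistedG2 K (3 ^ 0))) : GL chevG2.Idx K) := by
        rw [ecoe]; group
      rw [e]
      exact mul_mem (inv_mem hxm) hgm
    have huB : (u : GL chevG2.Idx K) ∈ chevG2.borelSubgroup K := by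
      by_contra hnb
      have hnb' : (u : GL chevG2.Idx K)⁻¹ ∉ chevG2.borelSubgroup K := by
        intro h
        apply hnb
        have := inv_mem h
        rwa [inv_inv] at this
      have h1 := ree_TI hF hK hτ (g := (u : GL chevG2.Idx K)⁻¹) (inv_mem u.2) hnb'
        (x := (x : GL chevG2.Idx K)⁻¹) (inv_mem hxm.1) (by rw [inv_inv]; exact hw.1)
      exact hx1 (inv_eq_one.mp h1)
    rw [ecoe, lam_mul hF hτ hxm hw, lam_conj_borel hF hK hτ huB u.2 (inv_mem hxm),
      lam_inv hF hτ hxm]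
    ring

/-- the Ree group is generated by `U¹` and its conjugate under `n₀` -/
theorem ree_gen (hF : ReeField K 0 φ ψ) (hτ : ReeAut 0 τ)
    (D : Subgroup ↥(twistedG2 K (3 ^ 0))) (hU : reeU K 0 ≤ D)
    (hV : ∀ u ∈ reeU K 0, reeN0G hF * u * (reeN0G hF)⁻¹ ∈ D) : D = ⊤ := by
  have hn₀ := reeN0_mem_twisted (K := K) hF
  have hgen : ∀ w ∈ g2Words K (3 ^ 0), ∀ g : GL chevG2.Idx K,
      (g : Matrix chevG2.Idx chevG2.Idx K) = chevG2.wordMat K w →
      ∃ hg : g ∈ twistedG2 K (3 ^ 0), (⟨g, hg⟩ : ↥(twistedG2 K (3 ^ 0))) ∈ D := by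
    rintro w ⟨t, u, v, rfl | rfl⟩ g hg
    · have hgm : g ∈ chevG2.posUnipotent K ⊓ twistedG2 K (3 ^ 0) :=
        IsW.mem (m := 0) hF hτ hg
      exact ⟨hgm.2, hU (mem_reeU.mpr hgm.1)⟩
    · obtain ⟨g', hg', hm'⟩ := exists_reeV (K := K) (m := 0) t u v
      have : g = g' := Units.ext (hg.trans hm'.symm)
      subst this
      have h1 : reeN0 K * g * (reeN0 K)⁻¹ ∈ chevG2.posUnipotent K :=
        reeN0_conj_neg hF hτ hg'.1
      have hsq : reeN0 K * reeN0 K ∈ chevG2.borelSubgroup K :=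
        diagonal_le_borel (reeN0_sq_mem hF hτ)
      have h2 : (reeN0 K)⁻¹ * g * reeN0 K ∈ chevG2.posUnipotent K := by
        have h := borel_conj_pos (inv_mem hsq) h1
        have e : (reeN0 K * reeN0 K)⁻¹ * (reeN0 K * g * (reeN0 K)⁻¹) *
            (reeN0 K * reeN0 K)⁻¹⁻¹ = (reeN0 K)⁻¹ * g * reeN0 K := by group
        rwa [e] at h
      have h2T : (reeN0 K)⁻¹ * g * reeN0 K ∈ twistedG2 K (3 ^ 0) :=
        mul_mem (mul_mem (inv_mem hn₀) hg'.2) hn₀
      have h3 := hV ⟨(reeN0 K)⁻¹ * g * reeN0 K, h2T⟩ (mem_reeU.mpr h2)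
      refine ⟨hg'.2, ?_⟩
      have e : reeN0G hF * ⟨(reeN0 K)⁻¹ * g * reeN0 K, h2T⟩ * (reeN0G hF)⁻¹ =
          (⟨g, hg'.2⟩ : ↥(twistedG2 K (3 ^ 0))) := by
        apply Subtype.ext
        simp only [Subgroup.coe_mul, Subgroup.coe_inv, reeN0G]
        group
      rwa [e] at h3
  have hle : twistedG2 K (3 ^ 0) ≤ D.map (twistedG2 K (3 ^ 0)).subtype := by
    show chevG2.genSubgroup K (g2Words K (3 ^ 0)) ≤ _
    unfold ChevalleyDatum.genSubgroup
    rw [Subgroup.closure_le]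
    rintro g ⟨w, hw, hg⟩
    obtain ⟨hgT, hgD⟩ := hgen w hw g hg
    exact ⟨⟨g, hgT⟩, hgD, rfl⟩
  rw [eq_top_iff]
  intro x _
  obtain ⟨y, hy, e⟩ := hle x.2
  have : y = x := Subtype.ext e
  rwa [← this]

/-- **The derived subgroup of `²G₂(3)`** has order `504` and is simple. -/
theorem ree3_main (hK : Fintype.card K = 3 ^ (2 * 0 + 1)) :
    Nat.card (_root_.commutator ↥(twistedG2 K (3 ^ 0))) = 504 ∧
      IsSimpleGroup (_root_.commutator ↥(twistedG2 K (3 ^ 0))) := by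
  classical
  obtain ⟨φ, ψ, hF⟩ := exists_reeField hK
  obtain ⟨τ, hτ⟩ := exists_reeAut hK 0
  have hG : Nat.card ↥(twistedG2 K (3 ^ 0)) = 1512 := by
    rw [card_twistedG2 hF hK hτ]
    norm_num
  have : Finite ↥(twistedG2 K (3 ^ 0)) := Nat.finite_of_card_ne_zero (by rw [hG]; norm_num)
  have hUc : Nat.card ↥(reeU K 0) = 27 := by
    rw [card_reeU hF hτ, hK]; norm_num
  have hidx : (reeU K 0).index = 56 := by
    have := Subgroup.card_mul_index (reeU K 0)
    rw [hUc, hG] at this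
    omega
  have hcop : Nat.Coprime (reeU K 0).index (⁅reeU K 0, reeU K 0⁆.relIndex (reeU K 0)) := by
    rw [hidx]
    have hd : (⁅reeU K 0, reeU K 0⁆.relIndex (reeU K 0)) ∣ 27 := by
      rw [← hUc]; exact Subgroup.relIndex_dvd_card _ _
    exact Nat.Coprime.coprime_dvd_right hd (by norm_num)
  have hfocal := (Cfsg.Agent.S0080.result (reeU K 0) hcop).1
  have hA : _root_.commutator ↥(twistedG2 K (3 ^ 0)) ⊓ reeU K 0 = reeA hF hτ := by
    apply le_antisymm
    · rw [← hfocal]; exact focal_le_reeA hF hK hτ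
    · apply le_inf _ (reeA_le hF hτ)
      intro a ha
      have hsq : a * a ∈ _root_.commutator ↥(twistedG2 K (3 ^ 0)) := by
        have hc : ⁅a, reeInvG hF hK hτ⁆ ∈ _root_.commutator ↥(twistedG2 K (3 ^ 0)) := by
          rw [commutator_def]
          exact Subgroup.commutator_mem_commutator (Subgroup.mem_top _) (Subgroup.mem_top _)
        have e : ⁅a, reeInvG hF hK hτ⁆ = a * a := by
          rw [commutatorElement_def]
          have h1 : reeInvG hF hK hτ * a⁻¹ * (reeInvG hF hK hτ)⁻¹ = a := by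
            have := reeInv_conj_reeA hF hK hτ (inv_mem ha)
            rwa [inv_inv] at this
          calc a * reeInvG hF hK hτ * a⁻¹ * (reeInvG hF hK hτ)⁻¹
              = a * (reeInvG hF hK hτ * a⁻¹ * (reeInvG hF hK hτ)⁻¹) := by group
            _ = a * a := by rw [h1]
        rwa [e] at hc
      have h9 : a ^ 9 = 1 := by
        have := pow_card_eq_one' (G := ↥(reeA hF hτ)) (x := ⟨a, ha⟩)
        rw [card_reeA hF hK hτ] at this
        exact congrArg Subtype.val this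
      have e : (a * a) ^ 5 = a := by
        rw [← pow_two, ← pow_mul]
        change a ^ (9 + 1) = a
        rw [pow_succ, h9, one_mul]
      rw [← e]
      exact pow_mem hsq 5
  have hh : reeInvG hF hK hτ * reeInvG hF hK hτ = 1 := by
    apply Subtype.ext
    change reeInv K * reeInv K = 1
    unfold reeInv
    rw [← hh_mul, ← hh_one]
    congr 1 <;> simp
  have hBU : ∀ b ∈ reeB K 0, ∀ u ∈ reeU K 0, b * u * b⁻¹ ∈ reeU K 0 := by
    intro b hb u hu
    rw [mem_reeU]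
    have := borel_conj_pos (mem_reeB.mp hb) (mem_reeU.mp hu)
    simpa only [Subgroup.coe_mul, Subgroup.coe_inv] using this
  exact commutator_card_and_simple (reeU K 0) (reeB K 0) (reeA hF hτ) (reeN0G hF)
    (reeInvG hF hK hτ) hG hBU (ree_decomp hF hK hτ) (ree_core hF hK hτ) (ree_gen hF hτ) hUc hA
    (card_reeA hF hK hτ) hh (fun a ha => reeInv_conj_reeA hF hK hτ ha)

end finite

end Cfsg.Agent.Lib.Helper7.Ree3
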