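import Mathlib
import Cfsg.Prelude.Def_Blocks
import Cfsg.Agent.Lib.Helper7.SeparatedClasses
import Cfsg.Agent.Lib.Helper7.MinMax
import Cfsg.Agent.Lib.Helper7.GreenGroup
import Cfsg.Agent.Lib.Helper24.Defect
import Cfsg.Agent.Lib.Helper24.BlockOrtho
import Cfsg.Agent.Lib.Helper25.Linear

/-!
# Counting pairs of conjugates through characters (helper7)

* `card_pairs_mul_card_centralizer`: `#{(a, b) : a ∼ x, b ∼ y, b a⁻¹ ∈ S} · |C(x)|
  = |S| · ∑_χ ⟨(1_S)^G, χ⟩ ω_χ(y) χ(x⁻¹)`.
* `exists_pairs_quotient`: for a Sylow `p`-subgroup `S` this count is divisible by `p^(a-d)`,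
  `p^d = |C(x)|_p`.
* `sum_eq_sum_conjClasses`: a sum of a class function by classes.
* `IsGoodFor`, `isGoodFor_of_units`: if an idempotent coefficient of `B` and a central character
  value of `B'` at `g` are units, `B`, `B'` with normal defect group `D`, then `g` is `p`-regular
  with `D` a Sylow `p`-subgroup of `C(g)`.
-/

set_option autoImplicit false
set_option linter.style.haveILetI false

namespace Cfsg.Agent.Lib.Helper7

open Cfsg.Agent.Lib.Helper2 Cfsg.Agent.Lib.Helper24
open scoped ComplexConjugate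

section Count

variable {G : Type*} [Group G] [Fintype G]

open Classical in
/-- the number of pairs `(a, b)` of conjugates of `x`, `y` with `b a⁻¹ ∈ S`, as a sum of structure
constants over `S` -/
theorem card_pairs_eq_sum_conv (S : Subgroup G) [Fintype ↥S] (x y : G) :
    (Nat.card {ab : G × G // IsConj x ab.1 ∧ IsConj y ab.2 ∧ ab.2 * ab.1⁻¹ ∈ S} : ℂ)
      = ∑ s : ↥S, conv (classIndicator y) (classIndicator x⁻¹) (s : G) := by
  rw [Nat.card_eq_fintype_card, Fintype.card_subtype, Finset.card_filter]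
  push_cast
  rw [Fintype.sum_prod_type, Finset.sum_comm]
  have h1 : ∀ b : G, ∑ a : G, (if IsConj x a ∧ IsConj y b ∧ b * a⁻¹ ∈ S then (1 : ℂ) else 0)
      = ∑ s : ↥S, classIndicator y b * classIndicator x⁻¹ (b⁻¹ * (s : G)) := by
    intro b
    -- reindex `a = g⁻¹ * b`
    rw [← Equiv.sum_comp ((Equiv.inv G).trans (Equiv.mulRight b))]
    have h2 : ∀ g : G, (if IsConj x (((Equiv.inv G).trans (Equiv.mulRight b)) g) ∧ IsConj y b ∧
        b * (((Equiv.inv G).trans (Equiv.mulRight b)) g)⁻¹ ∈ S then (1 : ℂ) else 0)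
        = if g ∈ S then classIndicator y b * classIndicator x⁻¹ (b⁻¹ * g) else 0 := by
      intro g
      simp only [Equiv.trans_apply, Equiv.inv_apply, Equiv.coe_mulRight]
      have e1 : b * (g⁻¹ * b)⁻¹ = g := by group
      have e2 : classIndicator x⁻¹ (b⁻¹ * g) = classIndicator x (g⁻¹ * b) := by
        rw [← classIndicator_inv_inv]
        congr 1
        · rw [inv_inv]
        · group
      rw [e1, e2]
      unfold classIndicator
      by_cases hg : g ∈ S
      · rw [if_pos hg]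
        by_cases hx : IsConj x (g⁻¹ * b)
        · by_cases hy : IsConj y b
          · rw [if_pos ⟨hx, hy, hg⟩, if_pos hy, if_pos hx, mul_one]
          · rw [if_neg (fun h => hy h.2.1), if_neg hy, zero_mul]
        · rw [if_neg (fun h => hx h.1), if_neg hx, mul_zero]
      · rw [if_neg hg, if_neg (fun h => hg h.2.2)]
    rw [Finset.sum_congr rfl (fun g _ => h2 g)]
    rw [← Finset.sum_filter]
    rw [← Finset.sum_subtype (Finset.univ.filter (fun g : G => g ∈ S)) (by simp)
      (fun g => classIndicator y b * classIndicator x⁻¹ (b⁻¹ * g))]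
  rw [Finset.sum_congr rfl (fun b _ => h1 b), Finset.sum_comm]
  apply Finset.sum_congr rfl
  intro s _
  rw [conv_apply]


/-- summing a class function over a subgroup, through the permutation character -/
theorem sum_subgroup_eq_sum_indFun (S : Subgroup G) [Fintype ↥S] (F : G → ℂ)
    (hF : Cfsg.IsClassFunction G F) :
    ∑ s : ↥S, F (s : G)
      = (Nat.card S : ℂ) * (Nat.card G : ℂ)⁻¹
        * ∑ g : G, Cfsg.indFun S (fun _ => (1 : ℂ)) g * F g := by
  classical
  have hF' : Cfsg.IsClassFunction G (fun g => conj (F g)) := by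
    intro g x
    simp only
    rw [hF g x]
  have h := frobenius_reciprocity (H := S) (fun _ => (1 : ℂ)) (fun g => conj (F g)) hF'
  rw [classInner_def, classInner_def] at h
  simp only [Complex.conj_conj, one_mul] at h
  have hS0 : (Nat.card S : ℂ) ≠ 0 := Nat.cast_ne_zero.mpr Nat.card_pos.ne'
  have h2 : ∑ s : ↥S, F (s : G) = (Nat.card S : ℂ) * ((Nat.card S : ℂ)⁻¹ * ∑ s : ↥S, F (s : G)) := by
    field_simp
  rw [h2, ← h]
  ring

/-- **The counting formula**: the number of pairs `(a, b)` of conjugates of `x`, `y` with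
`b a⁻¹ ∈ S`, through the characters. -/
theorem card_pairs_mul_card_centralizer [Fintype (Cfsg.IrrCharacter G)] (S : Subgroup G)
    [Fintype ↥S] (x y : G) :
    (Nat.card {ab : G × G // IsConj x ab.1 ∧ IsConj y ab.2 ∧ ab.2 * ab.1⁻¹ ∈ S} : ℂ)
        * (Nat.card (Subgroup.centralizer ({x} : Set G)) : ℂ)
      = (Nat.card S : ℂ) * ∑ χ : Cfsg.IrrCharacter G,
          Cfsg.classInner (Cfsg.indFun S (fun _ => (1 : ℂ))) (χ : G → ℂ)
            * (Cfsg.centralChar (χ : G → ℂ) y * (χ : G → ℂ) x⁻¹) := by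
  classical
  set Θ := Cfsg.indFun S (fun _ => (1 : ℂ)) with hΘ
  have hΘcf : Cfsg.IsClassFunction G Θ := indFun_isClassFunction _ _
  rw [card_pairs_eq_sum_conv,
    sum_subgroup_eq_sum_indFun S _ (conv_isClassFunction _ _ (classIndicator_isClassFunction y)
      (classIndicator_isClassFunction x⁻¹))]
  have h1 : ∑ g : G, Θ g * conv (classIndicator y) (classIndicator x⁻¹) g
      = ∑ g : G, conv (classIndicator y) (classIndicator x⁻¹) g * Θ g := by
    apply Finset.sum_congr rfl
    intro g _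
    ring
  rw [h1, sum_conv_mul_eq_sum_irr _ _ Θ (classIndicator_isClassFunction y)
    (classIndicator_isClassFunction x⁻¹) hΘcf]
  have hcard : (Nat.card G : ℂ) = (Nat.card (Subgroup.centralizer ({x} : Set G)) : ℂ)
      * ((Subgroup.centralizer ({x} : Set G)).index : ℂ) := by
    rw [← Nat.cast_mul, Subgroup.card_mul_index]
  have hc0 : (Nat.card (Subgroup.centralizer ({x} : Set G)) : ℂ) ≠ 0 :=
    Nat.cast_ne_zero.mpr Nat.card_pos.ne'
  have hi0 : ((Subgroup.centralizer ({x} : Set G)).index : ℂ) ≠ 0 := by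
    have : (Subgroup.centralizer ({x} : Set G)).index ≠ 0 := Subgroup.index_ne_zero_of_finite
    exact_mod_cast this
  rw [hcard, Finset.mul_sum, Finset.mul_sum, Finset.sum_mul]
  apply Finset.sum_congr rfl
  intro χ _
  rw [omega_classIndicator _ (IrrCharacter.isClassFunction χ),
    omega_classIndicator _ (IrrCharacter.isClassFunction χ)]
  have hne : (χ : G → ℂ) 1 ≠ 0 := Cfsg.Agent.Lib.Helper25.irr_one_ne_zero χ.2
  have e : (χ : G → ℂ) 1 * Cfsg.centralChar (χ : G → ℂ) x⁻¹
      = ((Subgroup.centralizer ({x} : Set G)).index : ℂ) * (χ : G → ℂ) x⁻¹ := by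
    unfold Cfsg.centralChar
    rw [centralizer_singleton_inv]
    field_simp
  calc (Nat.card S : ℂ) * ((Nat.card (Subgroup.centralizer ({x} : Set G)) : ℂ)
          * ((Subgroup.centralizer ({x} : Set G)).index : ℂ))⁻¹
        * (Cfsg.classInner Θ (χ : G → ℂ) * ((χ : G → ℂ) 1
          * (Cfsg.centralChar (χ : G → ℂ) y * Cfsg.centralChar (χ : G → ℂ) x⁻¹)))
        * (Nat.card (Subgroup.centralizer ({x} : Set G)) : ℂ)
      = (Nat.card S : ℂ) * ((Nat.card (Subgroup.centralizer ({x} : Set G)) : ℂ)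
          * ((Subgroup.centralizer ({x} : Set G)).index : ℂ))⁻¹
        * (Cfsg.classInner Θ (χ : G → ℂ) * (Cfsg.centralChar (χ : G → ℂ) y
          * ((χ : G → ℂ) 1 * Cfsg.centralChar (χ : G → ℂ) x⁻¹)))
        * (Nat.card (Subgroup.centralizer ({x} : Set G)) : ℂ) := by ring
    _ = _ := by
      rw [e]
      field_simp

end Count


section Div

variable {G : Type*} [Group G] [Fintype G] {p : ℕ} {M : Ideal Cfsg.AlgInt}

theorem dvd_of_memLocalRing_div (hM : Cfsg.IsPModular p M) {n k : ℕ}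
    (h : Cfsg.MemLocalRing M ((n : ℂ) / ((p : ℂ) ^ k))) : p ^ k ∣ n := by
  have hp : p.Prime := hM.1
  rcases Nat.eq_zero_or_pos n with h0 | hpos
  · rw [h0]; exact dvd_zero _
  by_contra hnd
  have hlt : n.factorization p < k := by
    by_contra hge
    push Not at hge
    exact hnd ((hp.pow_dvd_iff_le_factorization hpos.ne').mpr hge)
  have hpk : (p ^ k).factorization p = k := by
    rw [hp.factorization_pow]; simp
  have h1 := memLocalIdeal_div_of_factorization_lt hM (m := p ^ k) (n := n)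
    (pow_ne_zero _ hp.ne_zero) hpos.ne' (by rw [hpk]; exact hlt)
  have h2 := memLocalIdeal_mul_left hM h h1
  have hn0 : (n : ℂ) ≠ 0 := Nat.cast_ne_zero.mpr hpos.ne'
  have hp0 : (p : ℂ) ^ k ≠ 0 := pow_ne_zero _ (Nat.cast_ne_zero.mpr hp.ne_zero)
  have e : (n : ℂ) / (p : ℂ) ^ k * (((p ^ k : ℕ) : ℂ) / (n : ℂ)) = 1 := by
    push_cast
    field_simp
  rw [e] at h2
  exact not_memLocalIdeal_one hM h2

/-- divisibility of the pair count by `p^(a-d)`, and the quotient through the characters -/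
theorem exists_pairs_quotient [Fact p.Prime] [Fintype (Cfsg.IrrCharacter G)]
    (hM : Cfsg.IsPModular p M) (S : Sylow p G) (x y : G) (d : ℕ)
    (hd : (Nat.card (Subgroup.centralizer ({x} : Set G))).factorization p = d) :
    ∃ W : ℕ, Nat.card {ab : G × G // IsConj x ab.1 ∧ IsConj y ab.2 ∧
        ab.2 * ab.1⁻¹ ∈ (S : Subgroup G)} = p ^ ((Nat.card G).factorization p - d) * W ∧
      (W : ℂ) = ((Nat.card (Subgroup.centralizer ({x} : Set G)) / p ^ d : ℕ) : ℂ)⁻¹
        * ∑ χ : Cfsg.IrrCharacter G,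
          Cfsg.classInner (Cfsg.indFun (S : Subgroup G) (fun _ => (1 : ℂ))) (χ : G → ℂ)
            * (Cfsg.centralChar (χ : G → ℂ) y * (χ : G → ℂ) x⁻¹) := by
  classical
  haveI : Fintype ↥(S : Subgroup G) := Fintype.ofFinite _
  have hp : p.Prime := Fact.out
  set a := (Nat.card G).factorization p with ha
  set ω := Nat.card {ab : G × G // IsConj x ab.1 ∧ IsConj y ab.2 ∧
    ab.2 * ab.1⁻¹ ∈ (S : Subgroup G)} with hω
  set c := Nat.card (Subgroup.centralizer ({x} : Set G)) with hc
  set Sg := ∑ χ : Cfsg.IrrCharacter G,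
    Cfsg.classInner (Cfsg.indFun (S : Subgroup G) (fun _ => (1 : ℂ))) (χ : G → ℂ)
      * (Cfsg.centralChar (χ : G → ℂ) y * (χ : G → ℂ) x⁻¹) with hSg
  have hA := card_pairs_mul_card_centralizer (S : Subgroup G) x y
  rw [← hω, ← hc, ← hSg] at hA
  have hScard : Nat.card (S : Subgroup G) = p ^ a := S.card_eq_multiplicity
  have hcpos : 0 < c := Nat.card_pos
  have hcdvd : c ∣ Nat.card G := Subgroup.card_subgroup_dvd_card _
  have hda : d ≤ a := by
    rw [← hd]
    exact (Nat.factorization_le_iff_dvd hcpos.ne' Nat.card_pos.ne').mpr hcdvd p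
  set m := c / p ^ d with hm
  have hcm : c = p ^ d * m := by
    rw [hm, ← hd]
    exact (Nat.ordProj_mul_ordCompl_eq_self c p).symm
  have hmnd : ¬ p ∣ m := by
    rw [hm, ← hd]
    exact Nat.not_dvd_ordCompl hp hcpos.ne'
  have hm0 : (m : ℂ) ≠ 0 := by
    intro h0
    have : m = 0 := by exact_mod_cast h0
    rw [this] at hmnd
    exact hmnd (dvd_zero p)
  have hp0 : (p : ℂ) ≠ 0 := Nat.cast_ne_zero.mpr hp.ne_zero
  -- `ω * m = p^(a-d) * Σ`
  have hkey : (ω : ℂ) * (m : ℂ) = (p : ℂ) ^ (a - d) * Sg := by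
    have h1 : (ω : ℂ) * ((p : ℂ) ^ d * (m : ℂ)) = (p : ℂ) ^ a * Sg := by
      rw [hScard, hcm] at hA
      push_cast at hA
      exact hA
    have h2 : (p : ℂ) ^ a = (p : ℂ) ^ d * (p : ℂ) ^ (a - d) := by
      rw [← pow_add, Nat.add_sub_cancel' hda]
    rw [h2] at h1
    have hpd : (p : ℂ) ^ d ≠ 0 := pow_ne_zero _ hp0
    have h3 : (p : ℂ) ^ d * ((ω : ℂ) * (m : ℂ)) = (p : ℂ) ^ d * ((p : ℂ) ^ (a - d) * Sg) := by
      calc (p : ℂ) ^ d * ((ω : ℂ) * (m : ℂ)) = (ω : ℂ) * ((p : ℂ) ^ d * (m : ℂ)) := by ring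
        _ = (p : ℂ) ^ d * (p : ℂ) ^ (a - d) * Sg := h1
        _ = _ := by ring
    exact mul_left_cancel₀ hpd h3
  have hSgR : Cfsg.MemLocalRing M Sg := by
    apply memLocalRing_sum hM
    intro χ _
    obtain ⟨n, hn⟩ := classInner_isCharacter_nat
      (indFun_isCharacter (S : Subgroup G) _ (IsIrrCharacter.isCharacter
        (Cfsg.Agent.Lib.Helper25.isIrrCharacter_one (G := (S : Subgroup G)))))
      (IsIrrCharacter.isCharacter χ.2)
    rw [hn]
    apply memLocalRing_mul hM (memLocalRing_natCast hM n)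
    exact memLocalRing_mul hM (centralChar_memLocalRing hM χ y)
      (memLocalRing_of_isIntegral hM (irr_value_isIntegral χ x⁻¹))
  have hdiv : p ^ (a - d) ∣ ω * m := by
    apply dvd_of_memLocalRing_div hM
    have : ((ω * m : ℕ) : ℂ) / (p : ℂ) ^ (a - d) = Sg := by
      push_cast
      rw [hkey]
      field_simp
    rw [this]
    exact hSgR
  have hdiv' : p ^ (a - d) ∣ ω :=
    (Nat.Coprime.pow_left _ ((Nat.Prime.coprime_iff_not_dvd hp).mpr hmnd)).dvd_of_dvd_mul_right hdiv
  obtain ⟨W, hW⟩ := hdiv'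
  refine ⟨W, hW, ?_⟩
  have hpa : (p : ℂ) ^ (a - d) ≠ 0 := pow_ne_zero _ hp0
  have h4 : (p : ℂ) ^ (a - d) * ((W : ℂ) * (m : ℂ)) = (p : ℂ) ^ (a - d) * Sg := by
    rw [← hkey, hW]
    push_cast
    ring
  have h5 := mul_left_cancel₀ hpa h4
  rw [← h5]
  field_simp

end Div

section Classes

variable {G : Type*} [Group G] [Fintype G]

theorem isClassFunction_apply_of_isConj {F : G → ℂ} (hF : Cfsg.IsClassFunction G F) {a b : G}
    (h : IsConj a b) : F b = F a := by
  obtain ⟨c, hc⟩ := isConj_iff.mp h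
  rw [← hc]
  exact hF a c

/-- a sum of a class function over the group, by classes -/
theorem sum_eq_sum_conjClasses [Fintype (ConjClasses G)] (r : ConjClasses G → G)
    (hr : ∀ C, ConjClasses.mk (r C) = C) (F : G → ℂ) (hF : Cfsg.IsClassFunction G F) :
    ∑ g : G, F g
      = ∑ C : ConjClasses G, ((Subgroup.centralizer ({r C} : Set G)).index : ℂ) * F (r C) := by
  classical
  rw [← Fintype.sum_fiberwise (fun g : G => ConjClasses.mk g) F]
  apply Finset.sum_congr rfl
  intro C _
  have h1 : ∀ g : {g : G // ConjClasses.mk g = C}, F (g : G) = F (r C) := by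
    intro g
    apply isClassFunction_apply_of_isConj hF
    rw [← ConjClasses.mk_eq_mk_iff_isConj, hr, g.2]
  rw [Finset.sum_congr rfl (fun g _ => h1 g), Finset.sum_const, nsmul_eq_mul, Finset.card_univ]
  congr 1
  rw [index_centralizer_eq_card_conj, Nat.card_eq_fintype_card]
  congr 1
  apply Fintype.card_congr
  apply Equiv.subtypeEquivRight
  intro g
  rw [← ConjClasses.mk_eq_mk_iff_isConj, hr]
  exact eq_comm

end Classes


section Good

variable {G : Type*} [Group G] [Fintype G] {p : ℕ} {M : Ideal Cfsg.AlgInt}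

/-- `g` is `p`-regular and `D` is a Sylow `p`-subgroup of `C_G(g)` -/
def IsGoodFor (p : ℕ) (D : Subgroup G) (g : G) : Prop :=
  ¬ p ∣ orderOf g ∧ ∃ Q : Sylow p (Subgroup.centralizer ({g} : Set G)),
    (Q : Subgroup (Subgroup.centralizer ({g} : Set G))).map
      (Subgroup.centralizer ({g} : Set G)).subtype = D

theorem map_conj_eq_of_normal (D : Subgroup G) [D.Normal] (c : G) :
    D.map (MulAut.conj c).toMonoidHom = D := by
  ext y
  rw [Subgroup.mem_map]
  constructor
  · rintro ⟨z, hz, rfl⟩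
    show c * z * c⁻¹ ∈ D
    exact Subgroup.Normal.conj_mem inferInstance z hz c
  · intro hy
    refine ⟨c⁻¹ * y * c, ?_, ?_⟩
    · have := Subgroup.Normal.conj_mem (inferInstance : D.Normal) y hy c⁻¹
      simpa using this
    · show c * (c⁻¹ * y * c) * c⁻¹ = y
      group

/-- if the idempotent coefficient of `B` and a central character value of `B'` at `g` are both
local units, where `B`, `B'` have the normal defect group `D`, then `g` is good for `D` -/
theorem isGoodFor_of_units [Fact p.Prime] (hM : Cfsg.IsPModular p M) (D : Subgroup G) [D.Normal]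
    (B B' : Set (Cfsg.IrrCharacter G)) (hB : Cfsg.IsPBlock M B) (hB' : Cfsg.IsPBlock M B')
    (hBD : Cfsg.IsDefectGroup p M B D) (hB'D : Cfsg.IsDefectGroup p M B' D)
    (χ' : Cfsg.IrrCharacter G) (hχ' : χ' ∈ B') (g : G)
    (h1 : ¬ Cfsg.MemLocalIdeal M (Cfsg.blockCoeff B g))
    (h2 : ¬ Cfsg.MemLocalIdeal M (Cfsg.centralChar (χ' : G → ℂ) g)) : IsGoodFor p D g := by
  constructor
  · intro hsing
    apply h1
    rw [blockCoeff_eq_zero_of_singular hM B hB g hsing]
    exact memLocalIdeal_zero hM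
  · obtain ⟨g₁, hg₁, P₁, hP₁⟩ := hBD
    obtain ⟨χ, hχ⟩ := isPBlock_nonempty hM hB
    obtain ⟨c, Q, hQ⟩ := minmax hM B hB g₁ g P₁ χ hχ (hg₁.2.2 χ hχ) h1
    rw [← hP₁, map_conj_eq_of_normal] at hQ
    obtain ⟨g₂, hg₂, P₂, hP₂⟩ := hB'D
    obtain ⟨c', Q₂, hQ₂⟩ := minmax hM B' hB' g g₂ Q χ' hχ' h2 hg₂.2.1
    refine ⟨Q, ?_⟩
    apply Subgroup.eq_of_le_of_card_ge hQ
    have e1 : Nat.card D = Nat.card (P₂ : Subgroup (Subgroup.centralizer ({g₂} : Set G))) := by
      rw [hP₂, Subgroup.card_map_of_injective (Subgroup.subtype_injective _)]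
    have e2 : Nat.card (P₂ : Subgroup (Subgroup.centralizer ({g₂} : Set G)))
        = Nat.card (Q₂ : Subgroup (Subgroup.centralizer ({g₂} : Set G))) := by
      rw [P₂.card_eq_multiplicity, Q₂.card_eq_multiplicity]
    have e3 : Nat.card (Q₂ : Subgroup (Subgroup.centralizer ({g₂} : Set G)))
        = Nat.card ((Q₂ : Subgroup (Subgroup.centralizer ({g₂} : Set G))).map
          (Subgroup.centralizer ({g₂} : Set G)).subtype) := by
      rw [Subgroup.card_map_of_injective (Subgroup.subtype_injective _)]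
    have e4 := Subgroup.card_le_of_le hQ₂
    rw [card_map_conj] at e4
    omega

theorem IsGoodFor.of_inv {D : Subgroup G} {g : G} (h : IsGoodFor p D g⁻¹) : IsGoodFor p D g := by
  unfold IsGoodFor at h ⊢
  rw [orderOf_inv, centralizer_singleton_inv] at h
  exact h

end Good

end Cfsg.Agent.Lib.Helper7
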