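import Mathlib
import Cfsg.Prelude.Def_Blocks
import Cfsg.Agent.Lib.Helper7.RobinsonCount
import Cfsg.Agent.Lib.Helper7.ResidueAlg
import Cfsg.Agent.Lib.Helper7.RankField
import Cfsg.Agent.Lib.Helper7.DefectOrder
import Cfsg.Agent.Lib.Helper24.BlockDegreeSum
import Cfsg.Agent.Lib.Helper24.Osima

/-!
# Robinson's block count for a normal defect group: the congruences (helper7)

`robinson_claim_one`, `robinson_claim_two`, `robinson_claim_three`, `permPart_one_div_unit`:
modulo the local ideal, the matrix `ω(i,j)/p^(a-d)` is `V Ωᵀ` with `V`, `Ω` indexed by the blocks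
with defect group `D`, and both have left inverses given by block idempotent coefficients.
-/

set_option autoImplicit false
set_option linter.style.haveILetI false

namespace Cfsg.Agent.Lib.Helper7

open Cfsg.Agent.Lib.Helper2 Cfsg.Agent.Lib.Helper24
open scoped ComplexConjugate

section Perm

variable {G : Type*} [Group G] [Fintype G] {p : ℕ} {M : Ideal Cfsg.AlgInt}

/-- the multiplicity of `χ` in the permutation character on the cosets of `S` -/
noncomputable def permMult (S : Subgroup G) (χ : G → ℂ) : ℂ :=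
  Cfsg.classInner (Cfsg.indFun S (fun _ => (1 : ℂ))) χ

theorem permMult_nat (S : Subgroup G) (χ : Cfsg.IrrCharacter G) :
    ∃ n : ℕ, permMult S (χ : G → ℂ) = (n : ℂ) :=
  classInner_isCharacter_nat
    (indFun_isCharacter S _ (IsIrrCharacter.isCharacter
      (Cfsg.Agent.Lib.Helper25.isIrrCharacter_one (G := S))))
    (IsIrrCharacter.isCharacter χ.2)

theorem permMult_memLocalRing (hM : Cfsg.IsPModular p M) (S : Subgroup G)
    (χ : Cfsg.IrrCharacter G) : Cfsg.MemLocalRing M (permMult S (χ : G → ℂ)) := by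
  obtain ⟨n, hn⟩ := permMult_nat S χ
  rw [hn]
  exact memLocalRing_natCast hM n

theorem permMult_eq_trivMult (S : Subgroup G) [Fintype S] (χ : Cfsg.IrrCharacter G) :
    permMult S (χ : G → ℂ) = trivMult S (χ : G → ℂ) := by
  unfold permMult trivMult
  rw [frobenius_reciprocity (H := S) _ _ (IrrCharacter.isClassFunction χ)]
  obtain ⟨n, hn⟩ := trivMult_nat S χ
  unfold trivMult at hn
  rw [← classInner_conj_symm, hn, Complex.conj_natCast]

open Classical in
/-- the `B`-part of the permutation character on the cosets of `S` -/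
noncomputable def permPart [Fintype (Cfsg.IrrCharacter G)] (S : Subgroup G)
    (B : Set (Cfsg.IrrCharacter G)) (g : G) : ℂ :=
  ∑ χ : Cfsg.IrrCharacter G, if χ ∈ B then permMult S (χ : G → ℂ) * (χ : G → ℂ) g else 0

theorem permPart_memLocalRing [Fintype (Cfsg.IrrCharacter G)] (hM : Cfsg.IsPModular p M)
    (S : Subgroup G) (B : Set (Cfsg.IrrCharacter G)) (g : G) :
    Cfsg.MemLocalRing M (permPart S B g) := by
  classical
  unfold permPart
  apply memLocalRing_sum hM
  intro χ _
  by_cases hχ : χ ∈ B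
  · rw [if_pos hχ]
    exact memLocalRing_mul hM (permMult_memLocalRing hM S χ)
      (memLocalRing_of_isIntegral hM (irr_value_isIntegral χ g))
  · rw [if_neg hχ]
    exact memLocalRing_zero hM

theorem permPart_isClassFunction [Fintype (Cfsg.IrrCharacter G)] (S : Subgroup G)
    (B : Set (Cfsg.IrrCharacter G)) : Cfsg.IsClassFunction G (permPart S B) := by
  classical
  intro g x
  unfold permPart
  apply Finset.sum_congr rfl
  intro χ _
  rw [IrrCharacter.isClassFunction χ g x]

open Classical in
/-- the degree of the `B`-part of the permutation character on a `p`-subgroup -/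
theorem permPart_one [Fact p.Prime] [Fintype (Cfsg.IrrCharacter G)] (hM : Cfsg.IsPModular p M)
    (B : Set (Cfsg.IrrCharacter G)) (hB : Cfsg.IsPBlock M B) (S : Subgroup G)
    (hS : IsPGroup p S) :
    permPart S B 1 = (Nat.card S : ℂ)⁻¹ *
      ((∑ ξ : Cfsg.IrrCharacter G,
        if ξ ∈ B then Cfsg.charDegree (ξ : G → ℂ) ^ 2 else 0 : ℕ) : ℂ) := by
  haveI : Fintype S := Fintype.ofFinite _
  have h := sum_degree_mul_trivMult hM B hB S hS
  unfold permPart
  have e1 : ∀ χ : Cfsg.IrrCharacter G,
      (if χ ∈ B then permMult S (χ : G → ℂ) * (χ : G → ℂ) 1 else 0)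
      = if χ ∈ B then (χ : G → ℂ) 1 * trivMult S (χ : G → ℂ) else 0 := by
    intro χ
    by_cases hχ : χ ∈ B
    · rw [if_pos hχ, if_pos hχ, permMult_eq_trivMult, mul_comm]
    · rw [if_neg hχ, if_neg hχ]
  rw [Finset.sum_congr rfl (fun χ _ => e1 χ), h]
  congr 1
  push_cast
  apply Finset.sum_congr rfl
  intro ξ _
  by_cases hξ : ξ ∈ B
  · rw [if_pos hξ, if_pos hξ, apply_one_eq_charDegree]
  · rw [if_neg hξ, if_neg hξ]

open Classical in
/-- pairing the idempotent of `B'` with the `B`-part of the permutation character -/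
theorem sum_blockCoeff_mul_permPart [Fintype (Cfsg.IrrCharacter G)] (hM : Cfsg.IsPModular p M)
    (B B' : Set (Cfsg.IrrCharacter G)) (hB : Cfsg.IsPBlock M B) (hB' : Cfsg.IsPBlock M B')
    (S : Subgroup G) :
    ∑ g : G, Cfsg.blockCoeff B' g * permPart S B g = if B = B' then permPart S B 1 else 0 := by
  have h1 : ∀ χ : Cfsg.IrrCharacter G, ∑ g : G, Cfsg.blockCoeff B' g * (χ : G → ℂ) g
      = if χ ∈ B' then (χ : G → ℂ) 1 else 0 := by
    intro χ
    have h := omega_blockCoeff B' χ
    unfold omega at h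
    have hne : (χ : G → ℂ) 1 ≠ 0 := Cfsg.Agent.Lib.Helper25.irr_one_ne_zero χ.2
    rw [div_eq_iff hne] at h
    rw [h]
    split_ifs <;> simp
  have h2 : ∀ g : G, Cfsg.blockCoeff B' g * permPart S B g
      = ∑ χ : Cfsg.IrrCharacter G, if χ ∈ B then permMult S (χ : G → ℂ)
          * (Cfsg.blockCoeff B' g * (χ : G → ℂ) g) else 0 := by
    intro g
    unfold permPart
    rw [Finset.mul_sum]
    apply Finset.sum_congr rfl
    intro χ _
    by_cases hχ : χ ∈ B
    · rw [if_pos hχ, if_pos hχ]; ring
    · rw [if_neg hχ, if_neg hχ, mul_zero]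
  rw [Finset.sum_congr rfl (fun g _ => h2 g), Finset.sum_comm]
  have h3 : ∀ χ : Cfsg.IrrCharacter G,
      ∑ g : G, (if χ ∈ B then permMult S (χ : G → ℂ)
          * (Cfsg.blockCoeff B' g * (χ : G → ℂ) g) else 0)
      = if χ ∈ B then permMult S (χ : G → ℂ) * (if χ ∈ B' then (χ : G → ℂ) 1 else 0) else 0 := by
    intro χ
    by_cases hχ : χ ∈ B
    · simp only [if_pos hχ]
      rw [← Finset.mul_sum, h1]
    · simp only [if_neg hχ]
      exact Finset.sum_const_zero
  rw [Finset.sum_congr rfl (fun χ _ => h3 χ)]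
  by_cases hBB : B = B'
  · subst hBB
    rw [if_pos rfl]
    unfold permPart
    apply Finset.sum_congr rfl
    intro χ _
    by_cases hχ : χ ∈ B
    · rw [if_pos hχ, if_pos hχ, if_pos hχ]
    · rw [if_neg hχ, if_neg hχ]
  · rw [if_neg hBB]
    apply Finset.sum_eq_zero
    intro χ _
    by_cases hχ : χ ∈ B
    · rw [if_pos hχ]
      have : χ ∉ B' := by
        intro hχ'
        apply hBB
        rw [eq_blockOf_of_mem hM hB hχ, eq_blockOf_of_mem hM hB' hχ']
      rw [if_neg this, mul_zero]
    · rw [if_neg hχ]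

end Perm


section Claims

variable {G : Type*} [Group G] [Fintype G] {p : ℕ} {M : Ideal Cfsg.AlgInt}

theorem IsGoodFor.card_eq [Fact p.Prime] {D : Subgroup G} {g : G} (h : IsGoodFor p D g) :
    Nat.card D = p ^ (Nat.card (Subgroup.centralizer ({g} : Set G))).factorization p := by
  obtain ⟨_, Q, hQ⟩ := h
  rw [← hQ, Subgroup.card_map_of_injective (Subgroup.subtype_injective _)]
  exact Q.card_eq_multiplicity

theorem IsGoodFor.factorization_eq [Fact p.Prime] {D : Subgroup G} {g : G}
    (h : IsGoodFor p D g) :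
    (Nat.card (Subgroup.centralizer ({g} : Set G))).factorization p
      = (Nat.card D).factorization p := by
  have hp : p.Prime := Fact.out
  rw [h.card_eq, hp.factorization_pow]
  simp

theorem IsGoodFor.not_dvd_ordCompl [Fact p.Prime] {D : Subgroup G} {g : G}
    (h : IsGoodFor p D g) :
    ¬ p ∣ Nat.card (Subgroup.centralizer ({g} : Set G)) / p ^ (Nat.card D).factorization p := by
  have hp : p.Prime := Fact.out
  rw [← h.factorization_eq]
  exact Nat.not_dvd_ordCompl hp Nat.card_pos.ne'

/-- the blocks with defect group `D` -/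
abbrev DBlocks (p : ℕ) (M : Ideal Cfsg.AlgInt) (D : Subgroup G) : Type _ :=
  {B : Set (Cfsg.IrrCharacter G) // Cfsg.IsPBlock M B ∧ Cfsg.IsDefectGroup p M B D}

/-- a chosen member of a block -/
noncomputable def dblockRep (hM : Cfsg.IsPModular p M) {D : Subgroup G} (B : DBlocks p M D) :
    Cfsg.IrrCharacter G :=
  Classical.choose (isPBlock_nonempty hM B.2.1)

theorem dblockRep_mem (hM : Cfsg.IsPModular p M) {D : Subgroup G} (B : DBlocks p M D) :
    dblockRep hM B ∈ B.1 :=
  Classical.choose_spec (isPBlock_nonempty hM B.2.1)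

theorem DBlocks.eq_of_mem (hM : Cfsg.IsPModular p M) {D : Subgroup G} {B B' : DBlocks p M D}
    {χ : Cfsg.IrrCharacter G} (h : χ ∈ B.1) (h' : χ ∈ B'.1) : B = B' := by
  apply Subtype.ext
  rw [eq_blockOf_of_mem hM B.2.1 h, eq_blockOf_of_mem hM B'.2.1 h']

open Classical in
/-- **Claim 1**: the matrix `W` factors through the blocks with defect group `D`, modulo the
local ideal -/
theorem robinson_claim_one [Fact p.Prime] [Fintype (Cfsg.IrrCharacter G)]
    (hM : Cfsg.IsPModular p M) (D : Subgroup G) [D.Normal] (S : Subgroup G)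
    [Fintype (DBlocks p M D)] (x y : G) (hx : IsGoodFor p D x) (hy : IsGoodFor p D y) :
    Cfsg.MemLocalIdeal M
      (((Nat.card (Subgroup.centralizer ({x} : Set G)) / p ^ (Nat.card D).factorization p : ℕ) : ℂ)⁻¹
        * ∑ χ : Cfsg.IrrCharacter G, permMult S (χ : G → ℂ)
            * (Cfsg.centralChar (χ : G → ℂ) y * (χ : G → ℂ) x⁻¹)
        - ∑ B : DBlocks p M D,
          (((Nat.card (Subgroup.centralizer ({x} : Set G)) / p ^ (Nat.card D).factorization p : ℕ)
            : ℂ)⁻¹ * permPart S B.1 x⁻¹)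
            * Cfsg.centralChar ((dblockRep hM B : Cfsg.IrrCharacter G) : G → ℂ) y) := by
  set mx := Nat.card (Subgroup.centralizer ({x} : Set G)) / p ^ (Nat.card D).factorization p
    with hmx
  have hmxR : Cfsg.MemLocalRing M ((mx : ℂ)⁻¹) := memLocalRing_natCast_inv hM hx.not_dvd_ordCompl
  have hvalR : ∀ (χ : Cfsg.IrrCharacter G) (g : G), Cfsg.MemLocalRing M ((χ : G → ℂ) g) :=
    fun χ g => memLocalRing_of_isIntegral hM (irr_value_isIntegral χ g)
  -- rewrite the second sum
  have h1 : ∑ B : DBlocks p M D, ((mx : ℂ)⁻¹ * permPart S B.1 x⁻¹)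
      * Cfsg.centralChar ((dblockRep hM B : Cfsg.IrrCharacter G) : G → ℂ) y
      = (mx : ℂ)⁻¹ * ∑ χ : Cfsg.IrrCharacter G, ∑ B : DBlocks p M D,
        (if χ ∈ B.1 then permMult S (χ : G → ℂ) * (χ : G → ℂ) x⁻¹
          * Cfsg.centralChar ((dblockRep hM B : Cfsg.IrrCharacter G) : G → ℂ) y else 0) := by
    rw [Finset.sum_comm, Finset.mul_sum]
    apply Finset.sum_congr rfl
    intro B _
    unfold permPart
    rw [mul_assoc, Finset.sum_mul]
    congr 1
    apply Finset.sum_congr rfl
    intro χ _
    by_cases hχ : χ ∈ B.1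
    · rw [if_pos hχ, if_pos hχ]
    · rw [if_neg hχ, if_neg hχ, zero_mul]
  rw [h1, ← mul_sub, ← Finset.sum_sub_distrib]
  apply memLocalIdeal_mul_left hM hmxR
  apply memLocalIdeal_sum hM
  intro χ _
  by_cases hdef : Cfsg.IsDefectGroup p M (Cfsg.blockOf M (χ : G → ℂ)) D
  · set B₀ : DBlocks p M D := ⟨Cfsg.blockOf M (χ : G → ℂ), ⟨χ, rfl⟩, hdef⟩ with hB₀
    have hχB₀ : χ ∈ B₀.1 := mem_blockOf_self hM χ
    rw [Finset.sum_eq_single B₀]
    · rw [if_pos hχB₀]
      have hsame := sameBlock_of_mem hM B₀.2.1 hχB₀ (dblockRep_mem hM B₀) y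
      have e : permMult S (χ : G → ℂ) * (Cfsg.centralChar (χ : G → ℂ) y * (χ : G → ℂ) x⁻¹)
          - permMult S (χ : G → ℂ) * (χ : G → ℂ) x⁻¹
            * Cfsg.centralChar ((dblockRep hM B₀ : Cfsg.IrrCharacter G) : G → ℂ) y
          = permMult S (χ : G → ℂ) * (χ : G → ℂ) x⁻¹ * (Cfsg.centralChar (χ : G → ℂ) y
            - Cfsg.centralChar ((dblockRep hM B₀ : Cfsg.IrrCharacter G) : G → ℂ) y) := by ring
      rw [e]
      exact memLocalIdeal_mul_left hM
        (memLocalRing_mul hM (permMult_memLocalRing hM S χ) (hvalR χ x⁻¹)) hsame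
    · intro B _ hB
      rw [if_neg]
      intro hχB
      exact hB (DBlocks.eq_of_mem hM hχB hχB₀)
    · intro h
      exact absurd (Finset.mem_univ _) h
  · have h0 : ∑ B : DBlocks p M D,
        (if χ ∈ B.1 then permMult S (χ : G → ℂ) * (χ : G → ℂ) x⁻¹
          * Cfsg.centralChar ((dblockRep hM B : Cfsg.IrrCharacter G) : G → ℂ) y else 0) = 0 := by
      apply Finset.sum_eq_zero
      intro B _
      rw [if_neg]
      intro hχB
      apply hdef
      rw [← eq_blockOf_of_mem hM B.2.1 hχB]
      exact B.2.2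
    rw [h0, sub_zero]
    obtain ⟨_, Sy, hSy⟩ := hy
    have hcard : Nat.card D
        = p ^ (Nat.card (Subgroup.centralizer ({x⁻¹} : Set G))).factorization p := by
      rw [centralizer_singleton_inv]
      exact hx.card_eq
    exact memLocalIdeal_mul_left hM (permMult_memLocalRing hM S χ)
      (term_memLocalIdeal hM D y x⁻¹ Sy hSy hcard χ hdef)

theorem mul_memLocalIdeal_of_not_isGoodFor [Fact p.Prime] (hM : Cfsg.IsPModular p M)
    (D : Subgroup G) [D.Normal] (B B' : DBlocks p M D) (χ' : Cfsg.IrrCharacter G)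
    (hχ' : χ' ∈ B'.1) (g : G) (hg : ¬ IsGoodFor p D g) :
    Cfsg.MemLocalIdeal M (Cfsg.blockCoeff B.1 g * Cfsg.centralChar (χ' : G → ℂ) g) := by
  by_contra hcon
  apply hg
  apply isGoodFor_of_units hM D B.1 B'.1 B.2.1 B'.2.1 B.2.2 B'.2.2 χ' hχ' g
  · intro h
    exact hcon (memLocalIdeal_mul_right hM h (centralChar_memLocalRing hM χ' g))
  · intro h
    exact hcon (memLocalIdeal_mul_left hM (blockCoeff_memLocalRing hM B.1 B.2.1 g) h)

open Classical in
/-- **Claim 2**: the central characters of the blocks with defect group `D` are dual to the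
idempotent coefficients on the good classes -/
theorem robinson_claim_two [Fact p.Prime] (hM : Cfsg.IsPModular p M) (D : Subgroup G) [D.Normal]
    [Fintype (ConjClasses G)] (r : ConjClasses G → G) (hr : ∀ C, ConjClasses.mk (r C) = C)
    (B B' : DBlocks p M D) :
    Cfsg.MemLocalIdeal M
      ((∑ C : ConjClasses G, if IsGoodFor p D (r C) then
          Cfsg.blockCoeff B.1 (r C)
            * Cfsg.centralChar ((dblockRep hM B' : Cfsg.IrrCharacter G) : G → ℂ) (r C) else 0)
        - (if B' = B then 1 else 0)) := by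
  set χ' := dblockRep hM B' with hχ'
  have hχ'B' : χ' ∈ B'.1 := dblockRep_mem hM B'
  have hne : (χ' : G → ℂ) 1 ≠ 0 := Cfsg.Agent.Lib.Helper25.irr_one_ne_zero χ'.2
  -- the exact identity
  have h1 : ∑ C : ConjClasses G, Cfsg.blockCoeff B.1 (r C) * Cfsg.centralChar (χ' : G → ℂ) (r C)
      = if B' = B then 1 else 0 := by
    have h := omega_blockCoeff B.1 χ'
    unfold omega at h
    rw [Finset.sum_div] at h
    have hF : Cfsg.IsClassFunction G
        (fun g => Cfsg.blockCoeff B.1 g * (χ' : G → ℂ) g / (χ' : G → ℂ) 1) := by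
      intro g x
      simp only
      rw [blockCoeff_isClassFunction B.1 g x, IrrCharacter.isClassFunction χ' g x]
    rw [sum_eq_sum_conjClasses r hr _ hF] at h
    have e : ∀ C : ConjClasses G, Cfsg.blockCoeff B.1 (r C) * Cfsg.centralChar (χ' : G → ℂ) (r C)
        = ((Subgroup.centralizer ({r C} : Set G)).index : ℂ)
          * (Cfsg.blockCoeff B.1 (r C) * (χ' : G → ℂ) (r C) / (χ' : G → ℂ) 1) := by
      intro C
      unfold Cfsg.centralChar
      ring
    rw [Finset.sum_congr rfl (fun C _ => e C), h]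
    by_cases hBB : B' = B
    · rw [if_pos hBB, if_pos (hBB ▸ hχ'B')]
    · rw [if_neg hBB, if_neg]
      intro hmem
      exact hBB (DBlocks.eq_of_mem hM hχ'B' hmem)
  rw [← h1, ← Finset.sum_sub_distrib]
  apply memLocalIdeal_sum hM
  intro C _
  by_cases hg : IsGoodFor p D (r C)
  · rw [if_pos hg, sub_self]
    exact memLocalIdeal_zero hM
  · rw [if_neg hg, zero_sub]
    exact memLocalIdeal_neg (mul_memLocalIdeal_of_not_isGoodFor hM D B B' χ' hχ'B' (r C) hg)

/-- the degrees in a block with defect group `D` are divisible by `p^(a-d)` -/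
theorem charDegree_div_memLocalRing [Fact p.Prime] (hM : Cfsg.IsPModular p M) (D : Subgroup G)
    (B : DBlocks p M D) (χ : Cfsg.IrrCharacter G) (hχ : χ ∈ B.1) :
    Cfsg.MemLocalRing M ((χ : G → ℂ) 1
      / ((p ^ ((Nat.card G).factorization p - (Nat.card D).factorization p) : ℕ) : ℂ)) := by
  have hp : p.Prime := Fact.out
  rw [apply_one_eq_charDegree]
  apply memLocalRing_div_of_factorization_le hM (charDegree_ne_zero χ) (pow_ne_zero _ hp.ne_zero)
  rw [hp.factorization_pow]
  simp only [Finsupp.single_eq_same]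
  obtain ⟨g₁, hg₁, P₁, hP₁⟩ := B.2.2
  have hs := sInf_factorization_of_isDefectClass hM B.1 B.2.1 g₁ hg₁
  have hle : sInf ((fun χ : Cfsg.IrrCharacter G =>
      (Cfsg.charDegree (χ : G → ℂ)).factorization p) '' B.1)
      ≤ (Cfsg.charDegree (χ : G → ℂ)).factorization p := Nat.sInf_le ⟨χ, hχ, rfl⟩
  have hD : (Nat.card D).factorization p
      = (Nat.card (Subgroup.centralizer ({g₁} : Set G))).factorization p := by
    rw [hP₁, Subgroup.card_map_of_injective (Subgroup.subtype_injective _),
      P₁.card_eq_multiplicity, hp.factorization_pow]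
    simp
  rw [hs, ← hD] at hle
  exact hle

open Classical in
/-- **Claim 3**: the `B`-parts of the permutation character are dual to the idempotent
coefficients on the (inverse) good classes -/
theorem robinson_claim_three [Fact p.Prime] [Fintype (Cfsg.IrrCharacter G)]
    (hM : Cfsg.IsPModular p M) (D : Subgroup G) [D.Normal] (S : Subgroup G)
    [Fintype (ConjClasses G)] (r : ConjClasses G → G) (hr : ∀ C, ConjClasses.mk (r C) = C)
    (B B' : DBlocks p M D) :
    Cfsg.MemLocalIdeal M
      ((∑ C : ConjClasses G, if IsGoodFor p D (r C) then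
          ((Nat.card G / p ^ (Nat.card G).factorization p : ℕ) : ℂ)
            * (Cfsg.blockCoeff B'.1 (r C)⁻¹
              * (((Nat.card (Subgroup.centralizer ({r C} : Set G))
                  / p ^ (Nat.card D).factorization p : ℕ) : ℂ)⁻¹ * permPart S B.1 (r C)⁻¹))
          else 0)
        - (if B = B' then permPart S B.1 1
            / ((p ^ ((Nat.card G).factorization p - (Nat.card D).factorization p) : ℕ) : ℂ)
          else 0)) := by
  have hp : p.Prime := Fact.out
  set a := (Nat.card G).factorization p with ha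
  set d := (Nat.card D).factorization p with hd
  set gp := Nat.card G / p ^ a with hgp
  set P : ℂ := ((p ^ (a - d) : ℕ) : ℂ) with hP
  have hP0 : P ≠ 0 := by
    rw [hP]
    exact Nat.cast_ne_zero.mpr (pow_ne_zero _ hp.ne_zero)
  have hGcard : Nat.card G = p ^ a * gp := (Nat.ordProj_mul_ordCompl_eq_self _ p).symm
  -- the exact identity
  set F : G → ℂ := fun g => Cfsg.blockCoeff B'.1 g⁻¹ * permPart S B.1 g⁻¹ with hF
  have hFcf : Cfsg.IsClassFunction G F := by
    intro g x
    simp only [hF]
    have e : (x * g * x⁻¹)⁻¹ = x * g⁻¹ * x⁻¹ := by group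
    rw [e, blockCoeff_isClassFunction B'.1 g⁻¹ x, permPart_isClassFunction S B.1 g⁻¹ x]
  have h0 : ∑ g : G, F g = if B = B' then permPart S B.1 1 else 0 := by
    have h := sum_blockCoeff_mul_permPart hM B.1 B'.1 B.2.1 B'.2.1 S
    rw [← Equiv.sum_comp (Equiv.inv G)] at h
    simp only [Equiv.inv_apply] at h
    rw [h]
    by_cases hBB : B = B'
    · rw [if_pos hBB, if_pos (congrArg Subtype.val hBB)]
    · rw [if_neg hBB, if_neg (fun h' => hBB (Subtype.ext h'))]
  rw [sum_eq_sum_conjClasses r hr F hFcf] at h0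
  have h1 : (if B = B' then permPart S B.1 1 / P else 0)
      = ∑ C : ConjClasses G,
        ((Subgroup.centralizer ({r C} : Set G)).index : ℂ) / P * F (r C) := by
    have : (if B = B' then permPart S B.1 1 / P else 0)
        = (if B = B' then permPart S B.1 1 else 0) / P := by
      split_ifs <;> simp
    rw [this, ← h0, Finset.sum_div]
    apply Finset.sum_congr rfl
    intro C _
    ring
  rw [h1, ← Finset.sum_sub_distrib]
  apply memLocalIdeal_sum hM
  intro C _
  set x := r C with hx
  by_cases hg : IsGoodFor p D x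
  · rw [if_pos hg]
    -- `index / P = gp / m`
    set m := Nat.card (Subgroup.centralizer ({x} : Set G)) / p ^ d with hm
    have hcm : Nat.card (Subgroup.centralizer ({x} : Set G)) = p ^ d * m := by
      rw [hm, hd, ← hg.factorization_eq]
      exact (Nat.ordProj_mul_ordCompl_eq_self _ p).symm
    have hda : d ≤ a := by
      rw [hd, ← hg.factorization_eq, ha]
      exact (Nat.factorization_le_iff_dvd Nat.card_pos.ne' Nat.card_pos.ne').mpr
        (Subgroup.card_subgroup_dvd_card _) p
    have hm0 : (m : ℂ) ≠ 0 := by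
      intro h0'
      have : m = 0 := by exact_mod_cast h0'
      have hnd := hg.not_dvd_ordCompl
      rw [← hd, ← hm, this] at hnd
      exact hnd (dvd_zero p)
    have hidx : (Subgroup.centralizer ({x} : Set G)).index * m = p ^ (a - d) * gp := by
      have h2 := Subgroup.index_mul_card (Subgroup.centralizer ({x} : Set G))
      rw [hcm, hGcard] at h2
      have h3 : p ^ a = p ^ d * p ^ (a - d) := by rw [← pow_add, Nat.add_sub_cancel' hda]
      rw [h3] at h2
      have h4 : p ^ d * ((Subgroup.centralizer ({x} : Set G)).index * m)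
          = p ^ d * (p ^ (a - d) * gp) := by
        calc p ^ d * ((Subgroup.centralizer ({x} : Set G)).index * m)
            = (Subgroup.centralizer ({x} : Set G)).index * (p ^ d * m) := by ring
          _ = p ^ d * p ^ (a - d) * gp := h2
          _ = _ := by ring
      exact Nat.eq_of_mul_eq_mul_left (pow_pos hp.pos d) h4
    have hidxC : ((Subgroup.centralizer ({x} : Set G)).index : ℂ) / P = (gp : ℂ) / (m : ℂ) := by
      rw [div_eq_div_iff hP0 hm0, hP, mul_comm (gp : ℂ)]
      exact_mod_cast hidx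
    rw [hidxC]
    have e : (gp : ℂ) * (Cfsg.blockCoeff B'.1 x⁻¹ * ((m : ℂ)⁻¹ * permPart S B.1 x⁻¹))
        - (gp : ℂ) / (m : ℂ) * F x = 0 := by
      simp only [hF]
      field_simp
      ring
    rw [e]
    exact memLocalIdeal_zero hM
  · rw [if_neg hg, zero_sub]
    apply memLocalIdeal_neg
    have hg' : ¬ IsGoodFor p D x⁻¹ := fun h => hg h.of_inv
    have e : ((Subgroup.centralizer ({x} : Set G)).index : ℂ) / P * F x
        = ∑ χ : Cfsg.IrrCharacter G, if χ ∈ B.1 then
            permMult S (χ : G → ℂ) * ((χ : G → ℂ) 1 / P)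
              * (Cfsg.blockCoeff B'.1 x⁻¹ * Cfsg.centralChar (χ : G → ℂ) x⁻¹) else 0 := by
      simp only [hF]
      unfold permPart
      rw [Finset.mul_sum, Finset.mul_sum]
      apply Finset.sum_congr rfl
      intro χ _
      by_cases hχ : χ ∈ B.1
      · rw [if_pos hχ, if_pos hχ]
        have hne : (χ : G → ℂ) 1 ≠ 0 := Cfsg.Agent.Lib.Helper25.irr_one_ne_zero χ.2
        unfold Cfsg.centralChar
        rw [centralizer_singleton_inv]
        field_simp
      · rw [if_neg hχ, if_neg hχ, mul_zero, mul_zero]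
    rw [e]
    apply memLocalIdeal_sum hM
    intro χ _
    by_cases hχ : χ ∈ B.1
    · rw [if_pos hχ]
      apply memLocalIdeal_mul_left hM
      · exact memLocalRing_mul hM (permMult_memLocalRing hM S χ)
          (charDegree_div_memLocalRing hM D B χ hχ)
      · exact mul_memLocalIdeal_of_not_isGoodFor hM D B' B χ hχ x⁻¹ hg'
    · rw [if_neg hχ]
      exact memLocalIdeal_zero hM

open Classical in
/-- the normalized degree of the `B`-part of the permutation character is a local unit -/
theorem permPart_one_div_unit [Fact p.Prime] [Fintype (Cfsg.IrrCharacter G)]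
    (hM : Cfsg.IsPModular p M) (D : Subgroup G) (S : Sylow p G) (B : DBlocks p M D) :
    Cfsg.MemLocalRing M (permPart (S : Subgroup G) B.1 1
        / ((p ^ ((Nat.card G).factorization p - (Nat.card D).factorization p) : ℕ) : ℂ)) ∧
      ¬ Cfsg.MemLocalIdeal M (permPart (S : Subgroup G) B.1 1
        / ((p ^ ((Nat.card G).factorization p - (Nat.card D).factorization p) : ℕ) : ℂ)) := by
  have hp : p.Prime := Fact.out
  set a := (Nat.card G).factorization p with ha
  set d := (Nat.card D).factorization p with hd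
  rw [permPart_one hM B.1 B.2.1 (S : Subgroup G) S.isPGroup']
  set SB := ∑ ξ : Cfsg.IrrCharacter G,
    if ξ ∈ B.1 then Cfsg.charDegree (ξ : G → ℂ) ^ 2 else 0 with hSB
  have hScard : Nat.card (S : Subgroup G) = p ^ a := S.card_eq_multiplicity
  have hdef : Cfsg.blockDefect p B.1 = d := by
    have h := card_of_isDefectGroup hM B.1 B.2.1 D B.2.2
    rw [hd, h, hp.factorization_pow]
    simp
  have hda : d ≤ a := by
    rw [← hdef]
    unfold Cfsg.blockDefect
    exact Nat.sub_le _ _
  have hfac : SB.factorization p = 2 * a - d := by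
    rw [hSB, factorization_sum_sq hM B.1 B.2.1, hdef]
  have hSB0 : SB ≠ 0 := by
    intro h0
    rw [hSB, Finset.sum_eq_zero_iff] at h0
    have h1 := h0 (dblockRep hM B) (Finset.mem_univ _)
    rw [if_pos (dblockRep_mem hM B)] at h1
    exact charDegree_ne_zero (dblockRep hM B) (by simpa using h1)
  have e : (Nat.card (S : Subgroup G) : ℂ)⁻¹ * (SB : ℂ) / ((p ^ (a - d) : ℕ) : ℂ)
      = (SB : ℂ) / ((p ^ (2 * a - d) : ℕ) : ℂ) := by
    have h2 : p ^ (2 * a - d) = p ^ a * p ^ (a - d) := by
      rw [← pow_add]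
      congr 1
      omega
    rw [hScard, h2]
    push_cast
    have hp0 : (p : ℂ) ≠ 0 := Nat.cast_ne_zero.mpr hp.ne_zero
    field_simp
  rw [e]
  have hpf : (p ^ (2 * a - d)).factorization p = SB.factorization p := by
    rw [hfac, hp.factorization_pow]
    simp
  exact ⟨memLocalRing_div_of_factorization_le hM hSB0 (pow_ne_zero _ hp.ne_zero) (le_of_eq hpf),
    not_memLocalIdeal_div_of_factorization_eq hM hSB0 (pow_ne_zero _ hp.ne_zero) hpf⟩

end Claims

end Cfsg.Agent.Lib.Helper7
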