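import Mathlib
import Cfsg.Prelude.Def_Blocks
import Cfsg.Agent.Lib.Helper7.RobinsonClaims

/-!
# Robinson's theorem for a normal defect group (helper7)

`robinson_normal`: for a normal `p`-subgroup `D`, the number of blocks with defect group `D` is the
rank over `ZMod p` of the matrix `ω(i,j)/p^(a-d)`, `i`, `j` running over the `p`-regular classes
with `D` a Sylow `p`-subgroup of the centralizer.
-/

set_option autoImplicit false
set_option linter.style.haveILetI false

namespace Cfsg.Agent.Lib.Helper7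

open Cfsg.Agent.Lib.Helper2 Cfsg.Agent.Lib.Helper24
open scoped ComplexConjugate

section Final

variable {G : Type*} [Group G] [Fintype G] {p : ℕ} {M : Ideal Cfsg.AlgInt}

theorem redC_natCast (hM : Cfsg.IsPModular p M) (n : ℕ) : redC hM (n : ℂ) = (n : ResF hM) := by
  rw [redC_of_mem hM (memLocalRing_natCast hM n)]
  have : (⟨(n : ℂ), memLocalRing_natCast hM n⟩ : Rloc hM) = (n : Rloc hM) :=
    Subtype.ext (by simp)
  rw [this, map_natCast]

open Classical in
/-- **Robinson's theorem for a normal defect group.** -/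
theorem robinson_normal [Fact p.Prime] (hM : Cfsg.IsPModular p M) (D : Subgroup G) [D.Normal]
    (S : Sylow p G) {ι : Type*} [Fintype ι] [DecidableEq ι] (K : ι → ConjClasses G)
    (hKinj : Function.Injective K)
    (hK : ∀ C : ConjClasses G, (∃ i, K i = C) ↔ ∃ x ∈ C.carrier, IsGoodFor p D x) :
    Nat.card (DBlocks p M D)
      = (Matrix.of fun i j : ι => ((Nat.card {yz : G × G // yz.1 ∈ (K i).carrier ∧
          yz.2 ∈ (K j).carrier ∧ yz.2 * yz.1⁻¹ ∈ (S : Subgroup G)}
          / p ^ ((Nat.card G).factorization p - (Nat.card D).factorization p) : ℕ) :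
            ZMod p)).rank := by
  haveI : Fintype (Cfsg.IrrCharacter G) := Fintype.ofFinite _
  haveI : Fintype (ConjClasses G) := Fintype.ofFinite _
  haveI : Fintype (DBlocks p M D) := Fintype.ofFinite _
  have hp : p.Prime := Fact.out
  set a := (Nat.card G).factorization p with ha
  set d := (Nat.card D).factorization p with hd
  -- representatives
  have hx : ∀ i, ∃ x ∈ (K i).carrier, IsGoodFor p D x := fun i => (hK (K i)).mp ⟨i, rfl⟩
  choose x hxmem hxgood using hx
  have hxK : ∀ i, ConjClasses.mk (x i) = K i :=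
    fun i => ConjClasses.mem_carrier_iff_mk_eq.mp (hxmem i)
  set r : ConjClasses G → G := fun C =>
    if h : ∃ i, K i = C then x (Classical.choose h)
    else Function.surjInv ConjClasses.mk_surjective C with hrdef
  have hr : ∀ C, ConjClasses.mk (r C) = C := by
    intro C
    by_cases h : ∃ i, K i = C
    · simp only [hrdef, dif_pos h]
      rw [hxK, Classical.choose_spec h]
    · simp only [hrdef, dif_neg h]
      exact Function.surjInv_eq ConjClasses.mk_surjective C
  have hrK : ∀ i, r (K i) = x i := by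
    intro i
    have h : ∃ j, K j = K i := ⟨i, rfl⟩
    simp only [hrdef, dif_pos h]
    rw [hKinj (Classical.choose_spec h)]
  have hgood : ∀ C, IsGoodFor p D (r C) ↔ ∃ i, K i = C := by
    intro C
    constructor
    · intro h
      exact (hK C).mpr ⟨r C, ConjClasses.mem_carrier_iff_mk_eq.mpr (hr C), h⟩
    · rintro ⟨i, rfl⟩
      rw [hrK]
      exact hxgood i
  have hsum : ∀ f : G → ℂ, ∑ C : ConjClasses G, (if IsGoodFor p D (r C) then f (r C) else 0)
      = ∑ i : ι, f (x i) := by
    intro f
    have h1 : ∑ i : ι, f (x i) = ∑ C ∈ Finset.univ.image K, f (r C) := by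
      rw [Finset.sum_image (fun i _ j _ h => hKinj h)]
      apply Finset.sum_congr rfl
      intro i _
      rw [hrK]
    rw [h1, ← Finset.sum_filter]
    apply Finset.sum_congr _ (fun _ _ => rfl)
    ext C
    simp only [Finset.mem_filter, Finset.mem_univ, true_and, Finset.mem_image]
    exact hgood C
  -- the matrix entries
  have hW : ∀ i j, ∃ W : ℕ, Nat.card {ab : G × G // IsConj (x i) ab.1 ∧ IsConj (x j) ab.2 ∧
        ab.2 * ab.1⁻¹ ∈ (S : Subgroup G)} = p ^ (a - d) * W ∧
      (W : ℂ) = ((Nat.card (Subgroup.centralizer ({x i} : Set G)) / p ^ d : ℕ) : ℂ)⁻¹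
        * ∑ χ : Cfsg.IrrCharacter G,
          Cfsg.classInner (Cfsg.indFun (S : Subgroup G) (fun _ => (1 : ℂ))) (χ : G → ℂ)
            * (Cfsg.centralChar (χ : G → ℂ) (x j) * (χ : G → ℂ) (x i)⁻¹) :=
    fun i j => exists_pairs_quotient hM S (x i) (x j) d (hxgood i).factorization_eq
  choose W hW1 hW2 using hW
  have hentry : ∀ i j, Nat.card {yz : G × G // yz.1 ∈ (K i).carrier ∧
      yz.2 ∈ (K j).carrier ∧ yz.2 * yz.1⁻¹ ∈ (S : Subgroup G)} / p ^ (a - d) = W i j := by
    intro i j
    have hc : Nat.card {yz : G × G // yz.1 ∈ (K i).carrier ∧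
        yz.2 ∈ (K j).carrier ∧ yz.2 * yz.1⁻¹ ∈ (S : Subgroup G)}
        = Nat.card {ab : G × G // IsConj (x i) ab.1 ∧ IsConj (x j) ab.2 ∧
          ab.2 * ab.1⁻¹ ∈ (S : Subgroup G)} := by
      apply Nat.card_congr
      apply Equiv.subtypeEquivRight
      intro yz
      rw [ConjClasses.mem_carrier_iff_mk_eq, ConjClasses.mem_carrier_iff_mk_eq, ← hxK i, ← hxK j,
        ConjClasses.mk_eq_mk_iff_isConj, ConjClasses.mk_eq_mk_iff_isConj]
      constructor
      · rintro ⟨h1, h2, h3⟩
        exact ⟨h1.symm, h2.symm, h3⟩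
      · rintro ⟨h1, h2, h3⟩
        exact ⟨h1.symm, h2.symm, h3⟩
    rw [hc, hW1]
    exact Nat.mul_div_cancel_left _ (pow_pos hp.pos _)
  -- the residue field
  set F := ResF hM with hF
  have hvalR : ∀ (χ : Cfsg.IrrCharacter G) (g : G), Cfsg.MemLocalRing M ((χ : G → ℂ) g) :=
    fun χ g => memLocalRing_of_isIntegral hM (irr_value_isIntegral χ g)
  set mC : ι → ℂ := fun i =>
    ((Nat.card (Subgroup.centralizer ({x i} : Set G)) / p ^ d : ℕ) : ℂ)⁻¹ with hmC
  have hmCR : ∀ i, Cfsg.MemLocalRing M (mC i) :=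
    fun i => memLocalRing_natCast_inv hM (hxgood i).not_dvd_ordCompl
  set v : ι → DBlocks p M D → ℂ := fun i B => mC i * permPart (S : Subgroup G) B.1 (x i)⁻¹ with hv
  have hvR : ∀ i B, Cfsg.MemLocalRing M (v i B) :=
    fun i B => memLocalRing_mul hM (hmCR i) (permPart_memLocalRing hM _ _ _)
  set w : ι → DBlocks p M D → ℂ := fun j B =>
    Cfsg.centralChar ((dblockRep hM B : Cfsg.IrrCharacter G) : G → ℂ) (x j) with hw
  have hwR : ∀ j B, Cfsg.MemLocalRing M (w j B) :=
    fun j B => centralChar_memLocalRing hM _ _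
  have hbcR : ∀ (B : DBlocks p M D) (g : G), Cfsg.MemLocalRing M (Cfsg.blockCoeff B.1 g) :=
    fun B g => blockCoeff_memLocalRing hM B.1 B.2.1 g
  set Vm : Matrix ι (DBlocks p M D) F := Matrix.of fun i B => redC hM (v i B) with hVm
  set Om : Matrix ι (DBlocks p M D) F := Matrix.of fun j B => redC hM (w j B) with hOm
  set Am : Matrix ι (DBlocks p M D) F :=
    Matrix.of fun i B => redC hM (Cfsg.blockCoeff B.1 (x i)⁻¹) with hAm
  set Am' : Matrix ι (DBlocks p M D) F :=
    Matrix.of fun j B => redC hM (Cfsg.blockCoeff B.1 (x j)) with hAm'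
  set WF : Matrix ι ι F := Matrix.of fun i j => ((W i j : ℕ) : F) with hWF
  -- Claim 1
  have h1 : WF = Vm * Om.transpose := by
    ext i j
    rw [Matrix.mul_apply]
    simp only [hWF, hVm, hOm, Matrix.transpose_apply, Matrix.of_apply]
    have hc := robinson_claim_one hM D (S : Subgroup G) (x i) (x j) (hxgood i) (hxgood j)
    have hWij : (W i j : ℂ) = mC i * ∑ χ : Cfsg.IrrCharacter G,
        permMult (S : Subgroup G) (χ : G → ℂ)
          * (Cfsg.centralChar (χ : G → ℂ) (x j) * (χ : G → ℂ) (x i)⁻¹) := hW2 i j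
    rw [← hd] at hc
    have hc' : Cfsg.MemLocalIdeal M ((W i j : ℂ) - ∑ B : DBlocks p M D, v i B * w j B) := by
      rw [hWij]
      exact hc
    have h2 := redC_eq_of_sub hM (memLocalRing_natCast hM (W i j))
      (memLocalRing_sum hM _ _ (fun B _ => memLocalRing_mul hM (hvR i B) (hwR j B))) hc'
    rw [redC_natCast] at h2
    rw [h2, redC_sum hM _ _ (fun B _ => memLocalRing_mul hM (hvR i B) (hwR j B))]
    apply Finset.sum_congr rfl
    intro B _
    rw [redC_mul hM (hvR i B) (hwR j B)]
  -- Claim 2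
  have h2 : Om.transpose * Am' = 1 := by
    ext B' B
    rw [Matrix.mul_apply]
    simp only [hOm, hAm', Matrix.transpose_apply, Matrix.of_apply]
    have hc := robinson_claim_two hM D r hr B B'
    rw [hsum (fun g => Cfsg.blockCoeff B.1 g
      * Cfsg.centralChar ((dblockRep hM B' : Cfsg.IrrCharacter G) : G → ℂ) g)] at hc
    have hiteR : Cfsg.MemLocalRing M (if B' = B then (1 : ℂ) else 0) := by
      split_ifs
      · exact memLocalRing_one hM
      · exact memLocalRing_zero hM
    have h3 := redC_eq_of_sub hM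
      (memLocalRing_sum hM _ _ (fun j _ => memLocalRing_mul hM (hbcR B (x j)) (hwR j B'))) hiteR hc
    rw [redC_sum hM _ _ (fun j _ => memLocalRing_mul hM (hbcR B (x j)) (hwR j B'))] at h3
    have h4 : ∀ j, redC hM (w j B') * redC hM (Cfsg.blockCoeff B.1 (x j))
        = redC hM (Cfsg.blockCoeff B.1 (x j)
          * Cfsg.centralChar ((dblockRep hM B' : Cfsg.IrrCharacter G) : G → ℂ) (x j)) := by
      intro j
      rw [redC_mul hM (hbcR B (x j)) (hwR j B'), mul_comm]
    rw [Finset.sum_congr rfl (fun j _ => h4 j), h3, Matrix.one_apply]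
    by_cases hBB : B' = B
    · rw [if_pos hBB, if_pos hBB, redC_one]
    · rw [if_neg hBB, if_neg hBB, redC_zero]
  -- Claim 3
  set gp := Nat.card G / p ^ a with hgp
  set u : DBlocks p M D → ℂ := fun B => permPart (S : Subgroup G) B.1 1
    / ((p ^ (a - d) : ℕ) : ℂ) with hu
  have huR : ∀ B, Cfsg.MemLocalRing M (u B) := fun B => (permPart_one_div_unit hM D S B).1
  have huU : ∀ B, ¬ Cfsg.MemLocalIdeal M (u B) := fun B => (permPart_one_div_unit hM D S B).2
  have h3 : ∀ B' B : DBlocks p M D, (gp : F) * (Am.transpose * Vm) B' B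
      = if B' = B then redC hM (u B) else 0 := by
    intro B' B
    rw [Matrix.mul_apply]
    simp only [hAm, hVm, Matrix.transpose_apply, Matrix.of_apply]
    have hc := robinson_claim_three hM D (S : Subgroup G) r hr B B'
    rw [← ha, ← hd, ← hgp] at hc
    rw [hsum (fun g : G => (gp : ℂ) * (Cfsg.blockCoeff B'.1 g⁻¹
              * (((Nat.card (Subgroup.centralizer ({g} : Set G)) / p ^ d : ℕ) : ℂ)⁻¹
                * permPart (S : Subgroup G) B.1 g⁻¹)))] at hc
    have hiteR : Cfsg.MemLocalRing M (if B = B' then u B else 0) := by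
      split_ifs
      · exact huR B
      · exact memLocalRing_zero hM
    have htermR : ∀ i, Cfsg.MemLocalRing M ((gp : ℂ) * (Cfsg.blockCoeff B'.1 (x i)⁻¹ * v i B)) :=
      fun i => memLocalRing_mul hM (memLocalRing_natCast hM gp)
        (memLocalRing_mul hM (hbcR B' _) (hvR i B))
    have h4 := redC_eq_of_sub hM (memLocalRing_sum hM _ _ (fun i _ => htermR i)) hiteR hc
    rw [redC_sum hM _ _ (fun i _ => htermR i)] at h4
    have h5 : ∀ i, redC hM ((gp : ℂ) * (Cfsg.blockCoeff B'.1 (x i)⁻¹ * v i B))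
        = (gp : F) * (redC hM (Cfsg.blockCoeff B'.1 (x i)⁻¹) * redC hM (v i B)) := by
      intro i
      rw [redC_mul hM (memLocalRing_natCast hM gp) (memLocalRing_mul hM (hbcR B' _) (hvR i B)),
        redC_mul hM (hbcR B' _) (hvR i B), redC_natCast]
    rw [Finset.sum_congr rfl (fun i _ => h5 i), ← Finset.mul_sum] at h4
    rw [h4]
    by_cases hBB : B' = B
    · rw [if_pos hBB, if_pos hBB.symm]
    · rw [if_neg hBB, if_neg (fun h => hBB h.symm), redC_zero]
  -- `gp` is a unit of `F`
  have hgpF : (gp : F) ≠ 0 := by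
    intro h0
    have h1' := (redC_eq_zero_iff hM (memLocalRing_natCast hM gp)).mp (by rw [redC_natCast]; exact h0)
    have h2' := (memLocalIdeal_natCast_iff hM gp).mp h1'
    exact Nat.not_dvd_ordCompl hp Nat.card_pos.ne' h2'
  set wd : DBlocks p M D → F := fun B => (gp : F)⁻¹ * redC hM (u B) with hwd
  have hwd0 : ∀ B, wd B ≠ 0 := by
    intro B
    apply mul_ne_zero (inv_ne_zero hgpF)
    intro h0
    exact huU B ((redC_eq_zero_iff hM (huR B)).mp h0)
  have h3' : Am.transpose * Vm = Matrix.diagonal wd := by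
    ext B' B
    rw [Matrix.diagonal_apply]
    have := h3 B' B
    by_cases hBB : B' = B
    · subst hBB
      rw [if_pos rfl] at this ⊢
      rw [hwd]
      simp only
      rw [← this, ← mul_assoc, inv_mul_cancel₀ hgpF, one_mul]
    · rw [if_neg hBB] at this ⊢
      rcases mul_eq_zero.mp this with h | h
      · exact absurd h hgpF
      · exact h
  -- ranks
  have hrank_le : WF.rank ≤ Fintype.card (DBlocks p M D) := by
    rw [h1]
    exact le_trans (Matrix.rank_mul_le_left _ _) (Matrix.rank_le_card_width _)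
  have hrank_ge : Fintype.card (DBlocks p M D) ≤ WF.rank := by
    have h4 : Am.transpose * WF * Am' = Matrix.diagonal wd := by
      rw [h1, ← Matrix.mul_assoc, h3', Matrix.mul_assoc, h2, Matrix.mul_one]
    have h5 : (Matrix.diagonal wd).rank = Fintype.card (DBlocks p M D) := by
      rw [Matrix.rank_diagonal]
      apply Fintype.card_congr
      exact Equiv.subtypeUnivEquiv hwd0
    rw [← h5, ← h4]
    exact le_trans (Matrix.rank_mul_le_left _ _) (Matrix.rank_mul_le_right _ _)
  -- back to `ZMod p`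
  set Wp : Matrix ι ι (ZMod p) := Matrix.of fun i j : ι => ((W i j : ℕ) : ZMod p) with hWp
  have hWpeq : (Matrix.of fun i j : ι => ((Nat.card {yz : G × G // yz.1 ∈ (K i).carrier ∧
          yz.2 ∈ (K j).carrier ∧ yz.2 * yz.1⁻¹ ∈ (S : Subgroup G)} / p ^ (a - d) : ℕ) : ZMod p))
      = Wp := by
    ext i j
    simp only [hWp, Matrix.of_apply]
    rw [hentry]
  rw [hWpeq]
  have hmap : Wp.map (ZMod.castHom (dvd_refl p) F) = WF := by
    ext i j
    simp only [hWp, hWF, Matrix.map_apply, Matrix.of_apply, map_natCast]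
  rw [← rank_map_of_field (ZMod.castHom (dvd_refl p) F) Wp, hmap, Nat.card_eq_fintype_card]
  exact le_antisymm hrank_ge hrank_le

end Final

end Cfsg.Agent.Lib.Helper7
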