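import Mathlib
import Cfsg.Agent.Lib.Helper10.FrobAction

/-!
# A ring homomorphism from the endomorphisms of an elementary abelian group to matrices over the
algebraic closure
-/

set_option autoImplicit false

namespace Cfsg.Agent.Lib.Helper7.S3W

open Module

universe u

theorem exists_ringHom {ℓ : ℕ} [Fact ℓ.Prime] {M : Type u} [CommGroup M] [Finite M]
    [Module (ZMod ℓ) (Additive M)] :
    ∃ (n : ℕ) (R : Module.End (ZMod ℓ) (Additive M) →+*
        Module.End (AlgebraicClosure (ZMod ℓ)) (Fin n → AlgebraicClosure (ZMod ℓ))),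
      Function.Injective R := by
  classical
  let F := ZMod ℓ
  let E := AlgebraicClosure (ZMod ℓ)
  let V := Additive M
  have : Finite V := Finite.of_equiv M Additive.ofMul
  have : Module.Finite F V := Module.Finite.of_finite
  let n := finrank F V
  let b : Basis (Fin n) F V := finBasis F V
  let m₀ : Module.End F V ≃ₐ[F] Matrix (Fin n) (Fin n) F := LinearMap.toMatrixAlgEquiv b
  let ι : Matrix (Fin n) (Fin n) F →+* Matrix (Fin n) (Fin n) E := (algebraMap F E).mapMatrix
  let t : Matrix (Fin n) (Fin n) E ≃ₐ[E] Module.End E (Fin n → E) := Matrix.toLinAlgEquiv'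
  have hιinj : Function.Injective ι := by
    intro A B hAB
    exact Matrix.map_injective (algebraMap F E).injective hAB
  refine ⟨n, (t : Matrix (Fin n) (Fin n) E →+* Module.End E (Fin n → E)).comp
    (ι.comp (m₀ : Module.End F V →+* Matrix (Fin n) (Fin n) F)), ?_⟩
  intro x y hxy
  have h1 : ι (m₀ x) = ι (m₀ y) := t.injective hxy
  exact m₀.injective (hιinj h1)

end Cfsg.Agent.Lib.Helper7.S3W
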