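import Mathlib

/-!
# Fixed points of maps of prime order on finite sets, and lifting of fixed points of a
dihedral pair of automorphisms through quotients.
-/

set_option autoImplicit false

namespace Cfsg.Agent.Lib.Helper7.S3W

/-- a self-map of prime order `p` of a finite type of size prime to `p` has a fixed point. -/
theorem exists_fixed_of_iterate {X : Type*} [Finite X] (p : ℕ) [hp : Fact p.Prime] (f : X → X)
    (hf : ∀ x, f^[p] x = x) (hc : ¬ p ∣ Nat.card X) : ∃ x, f x = x := by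
  classical
  have := Fintype.ofFinite X
  have hp1 : 1 ≤ p := hp.out.one_lt.le
  have hsucc : p = (p - 1) + 1 := by omega
  let σ : Equiv.Perm X :=
    { toFun := f
      invFun := f^[p - 1]
      left_inv := fun x => by
        have h := hf x
        rw [hsucc, Function.iterate_succ_apply] at h
        exact h
      right_inv := fun x => by
        have h := hf x
        rw [hsucc, Function.iterate_succ_apply'] at h
        exact h }
  have hσ : σ ^ p ^ 1 = 1 := by
    rw [pow_one]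
    ext x
    rw [Equiv.Perm.coe_pow]
    exact hf x
  rw [Nat.card_eq_fintype_card] at hc
  obtain ⟨a, ha⟩ := Equiv.Perm.exists_fixed_point_of_prime hc hσ
  exact ⟨a, ha⟩

/-- the same for a finite set stable under the map. -/
theorem exists_fixed_of_iterate_set {X : Type*} (S : Set X) (hS : S.Finite) (p : ℕ)
    [hp : Fact p.Prime] (f : X → X) (hfS : ∀ x ∈ S, f x ∈ S)
    (hf : ∀ x ∈ S, f^[p] x = x) (hc : ¬ p ∣ S.ncard) : ∃ x ∈ S, f x = x := by
  have : Finite S := hS
  let g : S → S := fun x => ⟨f x, hfS x x.2⟩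
  have hg : ∀ (n : ℕ) (x : S), ((g^[n] x : S) : X) = f^[n] x := by
    intro n
    induction n with
    | zero => intro x; rfl
    | succ n ih =>
      intro x
      rw [Function.iterate_succ_apply', Function.iterate_succ_apply', ← ih]
  have h1 : ∀ x : S, g^[p] x = x := fun x => Subtype.ext (by rw [hg, hf x x.2])
  have h2 : ¬ p ∣ Nat.card S := by
    rw [Nat.card_coe_set_eq]
    exact hc
  obtain ⟨x, hx⟩ := exists_fixed_of_iterate p g h1 h2
  exact ⟨x, x.2, congrArg Subtype.val hx⟩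

end Cfsg.Agent.Lib.Helper7.S3W

namespace Cfsg.Agent.Lib.Helper7.S3W

section Lift

variable {G : Type*} [Group G]

/-- the fixed points of an automorphism, as a subgroup. -/
def fixSub (σ : MulAut G) : Subgroup G where
  carrier := {x | σ x = x}
  one_mem' := map_one σ
  mul_mem' := by
    intro a b ha hb
    show σ (a * b) = a * b
    rw [map_mul, ha, hb]
  inv_mem' := by
    intro a ha
    show σ a⁻¹ = a⁻¹
    rw [map_inv, ha]

theorem mem_fixSub {σ : MulAut G} {x : G} : x ∈ fixSub σ ↔ σ x = x := Iff.rfl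

theorem ncard_coset (N : Subgroup G) (g : G) : {x : G | g⁻¹ * x ∈ N}.ncard = Nat.card N := by
  have h1 : {x : G | g⁻¹ * x ∈ N} = (fun n => g * n) '' (N : Set G) := by
    ext x
    constructor
    · intro hx
      exact ⟨g⁻¹ * x, hx, by simp⟩
    · rintro ⟨n, hn, rfl⟩
      show g⁻¹ * (g * n) ∈ N
      rw [inv_mul_cancel_left]
      exact hn
  rw [h1, Set.ncard_image_of_injective _ (mul_right_injective g)]
  exact (Nat.card_coe_set_eq _).symm

/-- **lifting of fixed points**: a coset of a subgroup `N` of order prime to `6`, stable under a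
dihedral pair `σ` (order 3), `τ` (order 2), contains a point fixed by both. -/
theorem exists_fixed_in_coset (σ τ : MulAut G) (h3 : ∀ g, σ (σ (σ g)) = g) (h2 : ∀ g, τ (τ g) = g)
    (hrel : ∀ g, σ (τ (σ g)) = τ g)
    (N : Subgroup G) [Finite N] (hN6 : (Nat.card N).Coprime 6)
    (hσN : ∀ n ∈ N, σ n ∈ N) (hτN : ∀ n ∈ N, τ n ∈ N)
    (g : G) (hσg : g⁻¹ * σ g ∈ N) (hτg : g⁻¹ * τ g ∈ N) :
    ∃ x : G, g⁻¹ * x ∈ N ∧ σ x = x ∧ τ x = x := by
  have hfin1 : {x : G | g⁻¹ * x ∈ N}.Finite := by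
    apply Set.finite_of_ncard_pos
    rw [ncard_coset]
    exact Nat.card_pos
  have hN3 : ¬ 3 ∣ Nat.card N := by
    intro h
    have := Nat.dvd_gcd h (by norm_num : 3 ∣ 6)
    rw [hN6] at this
    omega
  have hN2 : ¬ 2 ∣ Nat.card N := by
    intro h
    have := Nat.dvd_gcd h (by norm_num : 2 ∣ 6)
    rw [hN6] at this
    omega
  have : Fact (Nat.Prime 3) := ⟨Nat.prime_three⟩
  have : Fact (Nat.Prime 2) := ⟨Nat.prime_two⟩
  -- step 1
  obtain ⟨c, hc, hσc⟩ := exists_fixed_of_iterate_set {x : G | g⁻¹ * x ∈ N} hfin1 3 (fun x => σ x)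
    (by
      intro x hx
      show g⁻¹ * σ x ∈ N
      have e : g⁻¹ * σ x = (g⁻¹ * σ g) * σ (g⁻¹ * x) := by
        rw [map_mul, map_inv]; group
      rw [e]
      exact N.mul_mem hσg (hσN _ hx))
    (fun x _ => h3 x)
    (by rw [ncard_coset]; exact hN3)
  -- step 2
  have hset : {x : G | g⁻¹ * x ∈ N ∧ σ x = x} = {x : G | c⁻¹ * x ∈ N ⊓ fixSub σ} := by
    ext x
    constructor
    · rintro ⟨hx1, hx2⟩
      refine ⟨?_, ?_⟩
      · have e : c⁻¹ * x = (g⁻¹ * c)⁻¹ * (g⁻¹ * x) := by group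
        rw [e]
        exact N.mul_mem (N.inv_mem hc) hx1
      · show σ (c⁻¹ * x) = c⁻¹ * x
        rw [map_mul, map_inv, hσc, hx2]
    · rintro ⟨hx1, hx2⟩
      refine ⟨?_, ?_⟩
      · have e : g⁻¹ * x = (g⁻¹ * c) * (c⁻¹ * x) := by group
        rw [e]
        exact N.mul_mem hc hx1
      · have h := mem_fixSub.mp hx2
        rw [map_mul, map_inv, hσc] at h
        exact mul_left_cancel h
  have hcard2 : {x : G | g⁻¹ * x ∈ N ∧ σ x = x}.ncard = Nat.card (N ⊓ fixSub σ : Subgroup G) := by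
    rw [hset, ncard_coset]
  have hdvd : Nat.card (N ⊓ fixSub σ : Subgroup G) ∣ Nat.card N :=
    Subgroup.card_dvd_of_le inf_le_left
  have hfin2 : {x : G | g⁻¹ * x ∈ N ∧ σ x = x}.Finite := hfin1.subset (fun x hx => hx.1)
  obtain ⟨d, hd, hτd⟩ := exists_fixed_of_iterate_set {x : G | g⁻¹ * x ∈ N ∧ σ x = x} hfin2 2
    (fun x => τ x)
    (by
      rintro x ⟨hx1, hx2⟩
      refine ⟨?_, ?_⟩
      · show g⁻¹ * τ x ∈ N
        have e : g⁻¹ * τ x = (g⁻¹ * τ g) * τ (g⁻¹ * x) := by
          rw [map_mul, map_inv]; group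
        rw [e]
        exact N.mul_mem hτg (hτN _ hx1)
      · show σ (τ x) = τ x
        have := hrel x
        rw [hx2] at this
        exact this)
    (fun x _ => h2 x)
    (by
      rw [hcard2]
      intro h
      exact hN2 (dvd_trans h hdvd))
  exact ⟨d, hd.1, hd.2, hτd⟩

/-- lifting of fixed points of an automorphism of order 3 through a coset of a subgroup of order
prime to 3. -/
theorem exists_fixed_in_coset_three (σ : MulAut G) (h3 : ∀ g, σ (σ (σ g)) = g)
    (N : Subgroup G) [Finite N] (hN3 : ¬ 3 ∣ Nat.card N)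
    (hσN : ∀ n ∈ N, σ n ∈ N) (g : G) (hσg : g⁻¹ * σ g ∈ N) :
    ∃ x : G, g⁻¹ * x ∈ N ∧ σ x = x := by
  have hfin1 : {x : G | g⁻¹ * x ∈ N}.Finite := by
    apply Set.finite_of_ncard_pos
    rw [ncard_coset]
    exact Nat.card_pos
  have : Fact (Nat.Prime 3) := ⟨Nat.prime_three⟩
  obtain ⟨c, hc, hσc⟩ := exists_fixed_of_iterate_set {x : G | g⁻¹ * x ∈ N} hfin1 3 (fun x => σ x)
    (by
      intro x hx
      show g⁻¹ * σ x ∈ N
      have e : g⁻¹ * σ x = (g⁻¹ * σ g) * σ (g⁻¹ * x) := by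
        rw [map_mul, map_inv]; group
      rw [e]
      exact N.mul_mem hσg (hσN _ hx))
    (fun x _ => h3 x)
    (by rw [ncard_coset]; exact hN3)
  exact ⟨c, hc, hσc⟩

/-- lifting of fixed points of an automorphism of order 2 through a coset of a subgroup of odd
order. -/
theorem exists_fixed_in_coset_two (τ : MulAut G) (h2 : ∀ g, τ (τ g) = g)
    (N : Subgroup G) [Finite N] (hN2 : ¬ 2 ∣ Nat.card N)
    (hτN : ∀ n ∈ N, τ n ∈ N) (g : G) (hτg : g⁻¹ * τ g ∈ N) :
    ∃ x : G, g⁻¹ * x ∈ N ∧ τ x = x := by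
  have hfin1 : {x : G | g⁻¹ * x ∈ N}.Finite := by
    apply Set.finite_of_ncard_pos
    rw [ncard_coset]
    exact Nat.card_pos
  have : Fact (Nat.Prime 2) := ⟨Nat.prime_two⟩
  obtain ⟨c, hc, hτc⟩ := exists_fixed_of_iterate_set {x : G | g⁻¹ * x ∈ N} hfin1 2 (fun x => τ x)
    (by
      intro x hx
      show g⁻¹ * τ x ∈ N
      have e : g⁻¹ * τ x = (g⁻¹ * τ g) * τ (g⁻¹ * x) := by
        rw [map_mul, map_inv]; group
      rw [e]
      exact N.mul_mem hτg (hτN _ hx))
    (fun x _ => h2 x)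
    (by rw [ncard_coset]; exact hN2)
  exact ⟨c, hc, hτc⟩

end Lift

end Cfsg.Agent.Lib.Helper7.S3W
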