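import Mathlib
import Cfsg.Agent.Lib.Helper7.S3Fixed

/-!
# An abstract lemma on weights under a dihedral group of order 6

`Λ` is an abelian group (of "weights"), `α, β` automorphisms generating a copy of `S₃`, `P` an
abelian group of automorphisms of order prime to `6`, normalized by `α, β`, with no fixed points
of `⟨α, β⟩` on `Λ` or on `P`.  If every nontrivial weight in an invariant set `S` is fixed by a
nonidentity element of `⟨α, β⟩`, then `P` fixes `S` pointwise.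
-/

set_option autoImplicit false

namespace Cfsg.Agent.Lib.Helper7.S3W

section LemmaW

variable {Λ : Type*} [CommGroup Λ]

/-- the hypotheses of the weight lemma. -/
structure WHyp (α β : MulAut Λ) (P : Subgroup (MulAut Λ)) (S : Set Λ) : Prop where
  a3 : α * α * α = 1
  b2 : β * β = 1
  rel : α * β * α = β
  finP : Finite P
  comm : ∀ p ∈ P, ∀ q ∈ P, p * q = q * p
  cop : (Nat.card P).Coprime 6
  aP : ∀ p ∈ P, α * p * α⁻¹ ∈ P
  bP : ∀ p ∈ P, β * p * β⁻¹ ∈ P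
  sq : ∀ χ : Λ, χ * χ = 1 → χ = 1
  fixΛ : ∀ χ : Λ, α χ = χ → β χ = χ → χ = 1
  fixP : ∀ p ∈ P, α * p * α⁻¹ = p → β * p * β⁻¹ = p → p = 1
  aS : ∀ χ ∈ S, α χ ∈ S
  bS : ∀ χ ∈ S, β χ ∈ S
  pS : ∀ p ∈ P, ∀ χ ∈ S, p χ ∈ S
  typ : ∀ χ ∈ S, χ ≠ 1 →
    α χ = χ ∨ β χ = χ ∨ (α * β * α⁻¹) χ = χ ∨ (α * (α * β * α⁻¹) * α⁻¹) χ = χ

theorem conj_apply (a p : MulAut Λ) (χ : Λ) : (a * p * a⁻¹) (a χ) = a (p χ) := by
  simp only [MulAut.mul_apply, MulAut.inv_apply_self]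

theorem conj_apply' (a p : MulAut Λ) (χ : Λ) : a (p χ) = (a * p * a⁻¹) (a χ) :=
  (conj_apply a p χ).symm

namespace WHyp

variable {α β : MulAut Λ} {P : Subgroup (MulAut Λ)} {S : Set Λ}

theorem ainv (h : WHyp α β P S) : α⁻¹ = α * α := by
  have := h.a3
  calc α⁻¹ = α⁻¹ * (α * α * α) := by rw [this, mul_one]
    _ = α * α := by group

theorem binv (h : WHyp α β P S) : β⁻¹ = β := by
  have := h.b2
  calc β⁻¹ = β⁻¹ * (β * β) := by rw [this, mul_one]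
    _ = β := by group

theorem ab (h : WHyp α β P S) : α * β = β * α⁻¹ := by
  calc α * β = (α * β * α) * α⁻¹ := by group
    _ = β * α⁻¹ := by rw [h.rel]

theorem ba (h : WHyp α β P S) : β * α = α⁻¹ * β := by
  calc β * α = α⁻¹ * (α * β * α) := by group
    _ = α⁻¹ * β := by rw [h.rel]

theorem a3' (h : WHyp α β P S) (χ : Λ) : α (α (α χ)) = χ := by
  have := congrArg (fun f : MulAut Λ => f χ) h.a3
  simpa only [MulAut.mul_apply, MulAut.one_apply] using this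

theorem b2' (h : WHyp α β P S) (χ : Λ) : β (β χ) = χ := by
  have := congrArg (fun f : MulAut Λ => f χ) h.b2
  simpa only [MulAut.mul_apply, MulAut.one_apply] using this

theorem ainv' (h : WHyp α β P S) (χ : Λ) : α⁻¹ χ = α (α χ) := by
  rw [h.ainv, MulAut.mul_apply]

theorem ab' (h : WHyp α β P S) (χ : Λ) : α (β χ) = β (α⁻¹ χ) := by
  have := congrArg (fun f : MulAut Λ => f χ) h.ab
  simpa only [MulAut.mul_apply] using this

theorem ba' (h : WHyp α β P S) (χ : Λ) : β (α χ) = α⁻¹ (β χ) := by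
  have := congrArg (fun f : MulAut Λ => f χ) h.ba
  simpa only [MulAut.mul_apply] using this

/-- the conjugate reflection. -/
theorem conj (h : WHyp α β P S) : WHyp α (α * β * α⁻¹) P S where
  a3 := h.a3
  b2 := by
    calc α * β * α⁻¹ * (α * β * α⁻¹) = α * (β * β) * α⁻¹ := by group
      _ = 1 := by rw [h.b2]; group
  rel := by
    calc α * (α * β * α⁻¹) * α = α * (α * β) := by group
      _ = α * (β * α⁻¹) := by rw [h.ab]
      _ = α * β * α⁻¹ := by group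
  finP := h.finP
  comm := h.comm
  cop := h.cop
  aP := h.aP
  bP := by
    intro p hp
    have h1 : α⁻¹ * p * α ∈ P := by
      have := h.aP _ (h.aP p hp)
      have e : α * (α * p * α⁻¹) * α⁻¹ = α⁻¹ * p * α := by
        rw [h.ainv]
        have := h.a3
        calc α * (α * p * (α * α)) * (α * α) = α * α * p * (α * α * α) * α := by group
          _ = α * α * p * α := by rw [this, mul_one]
      rwa [e] at this
    have h2 := h.aP _ (h.bP _ h1)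
    have e : α * β * α⁻¹ * p * (α * β * α⁻¹)⁻¹ = α * (β * (α⁻¹ * p * α) * β⁻¹) * α⁻¹ := by group
    rw [e]
    exact h2
  sq := h.sq
  fixΛ := by
    intro χ h1 h2
    apply h.fixΛ χ h1
    have h3 : α⁻¹ χ = χ := by
      conv_lhs => rw [← h1]
      exact MulAut.inv_apply_self _ _ _
    have h4 : α (β χ) = χ := by
      have := h2
      rw [MulAut.mul_apply, MulAut.mul_apply, h3] at this
      exact this
    have h5 : β χ = α⁻¹ χ := by
      conv_rhs => rw [← h4]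
      exact (MulAut.inv_apply_self _ _ _).symm
    rw [h5, h3]
  fixP := by
    intro p hp h1 h2
    apply h.fixP p hp h1
    have h3 : α⁻¹ * p * α = p := by
      calc α⁻¹ * p * α = α⁻¹ * (α * p * α⁻¹) * α := by rw [h1]
        _ = p := by group
    have h4 : α * (β * p * β⁻¹) * α⁻¹ = p := by
      calc α * (β * p * β⁻¹) * α⁻¹ = α * (β * (α⁻¹ * p * α) * β⁻¹) * α⁻¹ := by rw [h3]
        _ = α * β * α⁻¹ * p * (α * β * α⁻¹)⁻¹ := by group
        _ = p := h2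
    calc β * p * β⁻¹ = α⁻¹ * (α * (β * p * β⁻¹) * α⁻¹) * α := by group
      _ = α⁻¹ * p * α := by rw [h4]
      _ = p := h3
  aS := h.aS
  bS := by
    intro χ hχ
    have h1 : α⁻¹ χ ∈ S := by
      rw [h.ainv']
      exact h.aS _ (h.aS _ hχ)
    rw [MulAut.mul_apply, MulAut.mul_apply]
    exact h.aS _ (h.bS _ h1)
  pS := h.pS
  typ := by
    intro χ hχ hχ1
    have e : α * (α * (α * β * α⁻¹) * α⁻¹) * α⁻¹ = β := by
      have h3 := h.a3
      have h4 : α⁻¹ * α⁻¹ * α⁻¹ = 1 := by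
        calc α⁻¹ * α⁻¹ * α⁻¹ = (α * α * α)⁻¹ := by group
          _ = 1 := by rw [h3, inv_one]
      calc α * (α * (α * β * α⁻¹) * α⁻¹) * α⁻¹ = (α * α * α) * β * (α⁻¹ * α⁻¹ * α⁻¹) := by group
        _ = β := by rw [h3, h4, one_mul, mul_one]
    rw [e]
    rcases h.typ χ hχ hχ1 with h1 | h1 | h1 | h1
    · exact Or.inl h1
    · exact Or.inr (Or.inr (Or.inr h1))
    · exact Or.inr (Or.inl h1)
    · exact Or.inr (Or.inr (Or.inl h1))


theorem ainv_fix (h : WHyp α β P S) {χ : Λ} (hχ : α χ = χ) : α⁻¹ χ = χ := by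
  conv_lhs => rw [← hχ]
  exact MulAut.inv_apply_self _ _ _

/-- `β` inverts the weights fixed by `α`. -/
theorem inv_of_fix (h : WHyp α β P S) {χ : Λ} (hχ : α χ = χ) : β χ = χ⁻¹ := by
  have h3 := h.ainv_fix hχ
  have h1 : α (χ * β χ) = χ * β χ := by rw [map_mul, hχ, h.ab', h3]
  have h2 : β (χ * β χ) = χ * β χ := by rw [map_mul, h.b2', mul_comm]
  exact eq_inv_of_mul_eq_one_right (h.fixΛ _ h1 h2)

/-- `β` inverts the centralizer of `α` in `P`. -/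
theorem inv_of_comm (h : WHyp α β P S) {p : MulAut Λ} (hp : p ∈ P) (hα : α * p * α⁻¹ = p) :
    β * p * β⁻¹ = p⁻¹ := by
  have hβp := h.bP p hp
  have h3 : α⁻¹ * p * α = p := by
    calc α⁻¹ * p * α = α⁻¹ * (α * p * α⁻¹) * α := by rw [hα]
      _ = p := by group
  have h1 : α * (p * (β * p * β⁻¹)) * α⁻¹ = p * (β * p * β⁻¹) := by
    calc α * (p * (β * p * β⁻¹)) * α⁻¹ = (α * p * α⁻¹) * ((α * β) * p * (α * β)⁻¹) := by group
      _ = p * ((β * α⁻¹) * p * (β * α⁻¹)⁻¹) := by rw [hα, h.ab]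
      _ = p * (β * (α⁻¹ * p * α) * β⁻¹) := by group
      _ = p * (β * p * β⁻¹) := by rw [h3]
  have h2 : β * (p * (β * p * β⁻¹)) * β⁻¹ = p * (β * p * β⁻¹) := by
    calc β * (p * (β * p * β⁻¹)) * β⁻¹ = (β * p * β⁻¹) * ((β * β) * p * (β * β)⁻¹) := by group
      _ = (β * p * β⁻¹) * p := by rw [h.b2]; group
      _ = p * (β * p * β⁻¹) := h.comm _ hβp _ hp
  exact eq_inv_of_mul_eq_one_right (h.fixP _ (P.mul_mem hp hβp) h1 h2)

theorem pow_fix {f : MulAut Λ} {χ : Λ} (hf : f χ = χ) (m : ℕ) : (f ^ m) χ = χ := by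
  induction m with
  | zero => rw [pow_zero, MulAut.one_apply]
  | succ m ih => rw [pow_succ, MulAut.mul_apply, hf, ih]

/-- elements of `P` have order prime to `2` and `3`. -/
theorem fix_of_pow (h : WHyp α β P S) {p : MulAut Λ} (hp : p ∈ P) {n : ℕ} (hn : n = 1 ∨ n = 2 ∨ n = 3)
    {χ : Λ} (hχ : (p ^ n) χ = χ) : p χ = χ := by
  haveI := h.finP
  have h1 : orderOf p ∣ Nat.card P := Subgroup.orderOf_dvd_natCard P hp
  have h2 : n ∣ 6 := by
    rcases hn with rfl | rfl | rfl <;> norm_num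
  have h3 : n.Coprime (orderOf p) :=
    Nat.Coprime.coprime_dvd_left h2 (Nat.Coprime.coprime_dvd_right h1 h.cop.symm)
  obtain ⟨m, hm⟩ := exists_pow_eq_self_of_coprime h3
  have := pow_fix hχ m
  rwa [hm] at this

theorem fix_of_sq (h : WHyp α β P S) {p : MulAut Λ} (hp : p ∈ P) {χ : Λ} (hχ : p (p χ) = χ) :
    p χ = χ := by
  apply h.fix_of_pow hp (n := 2) (Or.inr (Or.inl rfl))
  rw [pow_two, MulAut.mul_apply, hχ]

theorem fix_of_cube (h : WHyp α β P S) {p : MulAut Λ} (hp : p ∈ P) {χ : Λ}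
    (hχ : p (p (p χ)) = χ) : p χ = χ := by
  apply h.fix_of_pow hp (n := 3) (Or.inr (Or.inr rfl))
  rw [pow_succ, pow_two, MulAut.mul_apply, MulAut.mul_apply, hχ]

/-- the centralizer of `α` in `P` fixes the weights fixed by `α`. -/
theorem fix_of_comm_of_fix (h : WHyp α β P S) {p : MulAut Λ} (hp : p ∈ P)
    (hα : α * p * α⁻¹ = p) {χ : Λ} (hχ : α χ = χ) : p χ = χ := by
  have h1 : α (p χ) = p χ := by rw [conj_apply' α p χ, hα, hχ]
  have h2 : β (p χ) = (p χ)⁻¹ := h.inv_of_fix h1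
  have h3 : β (p χ) = (p⁻¹ χ)⁻¹ := by
    rw [conj_apply' β p χ, h.inv_of_comm hp hα, h.inv_of_fix hχ, map_inv]
  have h4 : p χ = p⁻¹ χ := by
    have := h2.symm.trans h3
    exact inv_injective this
  apply h.fix_of_sq hp
  rw [h4, MulAut.apply_inv_self]

/-- a weight of reflection type moved by the centralizer of `α` changes its type. -/
theorem fix_of_comm_of_refl (h : WHyp α β P S) {p : MulAut Λ} (hp : p ∈ P)
    (hα : α * p * α⁻¹ = p) {χ : Λ} (hχ : β χ = χ) (hpχ : β (p χ) = p χ) : p χ = χ := by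
  have h3 : β (p χ) = p⁻¹ χ := by
    rw [conj_apply' β p χ, h.inv_of_comm hp hα, hχ]
  have h4 : p χ = p⁻¹ χ := hpχ.symm.trans h3
  apply h.fix_of_sq hp
  rw [h4, MulAut.apply_inv_self]

/-- the three reflections. -/
def rf (α β : MulAut Λ) : Fin 3 → MulAut Λ :=
  ![β, α * β * α⁻¹, α * (α * β * α⁻¹) * α⁻¹]

theorem rfHyp (h : WHyp α β P S) (i : Fin 3) : WHyp α (rf α β i) P S := by
  fin_cases i
  · exact h
  · exact h.conj
  · exact h.conj.conj

theorem typ' (h : WHyp α β P S) {χ : Λ} (hχ : χ ∈ S) (h1 : χ ≠ 1) (hα : α χ ≠ χ) :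
    ∃ i : Fin 3, rf α β i χ = χ := by
  rcases h.typ χ hχ h1 with h2 | h2 | h2 | h2
  · exact absurd h2 hα
  · exact ⟨0, h2⟩
  · exact ⟨1, h2⟩
  · exact ⟨2, h2⟩

theorem pow_comm_alpha {p : MulAut Λ} (hα : α * p * α⁻¹ = p) (m : ℕ) :
    α * p ^ m * α⁻¹ = p ^ m := by
  rw [← conj_pow, hα]

/-- the centralizer of `α` in `P` fixes `S` pointwise. -/
theorem fix_of_comm (h : WHyp α β P S) {p : MulAut Λ} (hp : p ∈ P)
    (hα : α * p * α⁻¹ = p) {χ : Λ} (hχ : χ ∈ S) : p χ = χ := by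
  by_cases h1 : χ = 1
  · rw [h1, map_one]
  by_cases h2 : α χ = χ
  · exact h.fix_of_comm_of_fix hp hα h2
  by_contra hne
  have hpm : ∀ m : ℕ, p ^ m ∈ P := fun m => P.pow_mem hp m
  have hne' : ∀ m : ℕ, m = 1 ∨ m = 2 ∨ m = 3 → (p ^ m) χ ≠ χ :=
    fun m hm hc => hne (h.fix_of_pow hp hm hc)
  have hS : ∀ m : ℕ, (p ^ m) χ ∈ S := fun m => h.pS _ (hpm m) _ hχ
  have h1' : ∀ m : ℕ, (p ^ m) χ ≠ 1 := by
    intro m hc
    apply h1
    have : (p ^ m) χ = (p ^ m) 1 := by rw [hc, map_one]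
    exact (p ^ m).injective this
  have h2' : ∀ m : ℕ, α ((p ^ m) χ) ≠ (p ^ m) χ := by
    intro m hc
    apply h2
    rw [conj_apply' α (p ^ m) χ, pow_comm_alpha hα] at hc
    exact (p ^ m).injective hc
  have key : ∀ (i : Fin 3) (m : ℕ) (ψ : Λ), rf α β i ψ = ψ → rf α β i ((p ^ m) ψ) = (p ^ m) ψ →
      (p ^ m) ψ = ψ := fun i m ψ h3 h4 =>
    (h.rfHyp i).fix_of_comm_of_refl (hpm m) (pow_comm_alpha hα m) h3 h4
  obtain ⟨i0, hi0⟩ := h.typ' hχ h1 h2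
  have hty : ∀ m : ℕ, m = 1 ∨ m = 2 ∨ m = 3 → ∃ i : Fin 3, i ≠ i0 ∧ rf α β i ((p ^ m) χ) = (p ^ m) χ := by
    intro m hm
    obtain ⟨i, hi⟩ := h.typ' (hS m) (h1' m) (h2' m)
    refine ⟨i, ?_, hi⟩
    rintro rfl
    exact hne' m hm (key i m χ hi0 hi)
  obtain ⟨i1, hi1, ht1⟩ := hty 1 (Or.inl rfl)
  obtain ⟨i2, hi2, ht2⟩ := hty 2 (Or.inr (Or.inl rfl))
  obtain ⟨i3, hi3, ht3⟩ := hty 3 (Or.inr (Or.inr rfl))
  have hadd : ∀ a d : ℕ, (p ^ (d + a)) χ = (p ^ d) ((p ^ a) χ) := by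
    intro a d
    rw [pow_add, MulAut.mul_apply]
  have hpair : ∀ (a d : ℕ) (i : Fin 3), (d = 1 ∨ d = 2 ∨ d = 3) →
      rf α β i ((p ^ a) χ) = (p ^ a) χ → rf α β i ((p ^ (d + a)) χ) = (p ^ (d + a)) χ → False := by
    intro a d i hd h3 h4
    rw [hadd] at h4
    have h5 := key i d _ h3 h4
    rw [← hadd, add_comm, hadd] at h5
    exact hne' d hd ((p ^ a).injective h5)
  have hpig : i1 = i2 ∨ i1 = i3 ∨ i2 = i3 := by
    have hgen : ∀ j0 j1 j2 j3 : Fin 3, j1 ≠ j0 → j2 ≠ j0 → j3 ≠ j0 →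
        j1 = j2 ∨ j1 = j3 ∨ j2 = j3 := by decide
    exact hgen i0 i1 i2 i3 hi1 hi2 hi3
  rcases hpig with e | e | e
  · rw [← e] at ht2
    exact hpair 1 1 i1 (Or.inl rfl) ht1 ht2
  · rw [← e] at ht3
    exact hpair 1 2 i1 (Or.inr (Or.inl rfl)) ht1 ht3
  · rw [← e] at ht3
    exact hpair 2 1 i2 (Or.inl rfl) ht2 ht3


/-- the norm of an element of `P` under `α`. -/
def nrm (α p : MulAut Λ) : MulAut Λ := p * (α * p * α⁻¹) * (α * (α * p * α⁻¹) * α⁻¹)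

theorem nrm_mem (h : WHyp α β P S) {p : MulAut Λ} (hp : p ∈ P) : nrm α p ∈ P :=
  P.mul_mem (P.mul_mem hp (h.aP p hp)) (h.aP _ (h.aP p hp))

theorem conj3 (h : WHyp α β P S) (p : MulAut Λ) : α * (α * (α * p * α⁻¹) * α⁻¹) * α⁻¹ = p := by
  have h3 := h.a3
  have h4 : α⁻¹ * α⁻¹ * α⁻¹ = 1 := by
    calc α⁻¹ * α⁻¹ * α⁻¹ = (α * α * α)⁻¹ := by group
      _ = 1 := by rw [h3, inv_one]
  calc α * (α * (α * p * α⁻¹) * α⁻¹) * α⁻¹ = (α * α * α) * p * (α⁻¹ * α⁻¹ * α⁻¹) := by group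
    _ = p := by rw [h3, h4, one_mul, mul_one]

theorem nrm_comm (h : WHyp α β P S) {p : MulAut Λ} (hp : p ∈ P) :
    α * nrm α p * α⁻¹ = nrm α p := by
  have h1 := h.aP p hp
  have h2 := h.aP _ h1
  calc α * nrm α p * α⁻¹
      = (α * p * α⁻¹) * (α * (α * p * α⁻¹) * α⁻¹) * (α * (α * (α * p * α⁻¹) * α⁻¹) * α⁻¹) := by
        unfold nrm; group
    _ = ((α * p * α⁻¹) * (α * (α * p * α⁻¹) * α⁻¹)) * p := by rw [h.conj3]
    _ = p * ((α * p * α⁻¹) * (α * (α * p * α⁻¹) * α⁻¹)) := h.comm _ (P.mul_mem h1 h2) _ hp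
    _ = nrm α p := by unfold nrm; group

/-- if the three conjugates of `p` move `χ` in the same way, then `p` fixes `χ` as soon as
the norm does. -/
theorem fix_of_conj_eq (h : WHyp α β P S) {p : MulAut Λ} (hp : p ∈ P) {χ : Λ}
    (h1 : (α * p * α⁻¹) χ = p χ) (h2 : (α * (α * p * α⁻¹) * α⁻¹) χ = p χ)
    (h3 : nrm α p χ = χ) : p χ = χ := by
  apply h.fix_of_cube hp
  have hp1 := h.aP p hp
  have e1 : (α * p * α⁻¹) (p χ) = p ((α * p * α⁻¹) χ) := by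
    rw [← MulAut.mul_apply, ← MulAut.mul_apply, h.comm _ hp1 _ hp]
  have : nrm α p χ = p (p (p χ)) := by
    unfold nrm
    rw [MulAut.mul_apply, MulAut.mul_apply, h2, e1, h1]
  rw [← this, h3]

/-- two weights in the same `P`-orbit, both fixed by `α`, are equal. -/
theorem eq_of_fix_of_fix (h : WHyp α β P S) {p : MulAut Λ} (hp : p ∈ P) {χ : Λ}
    (hχ : α χ = χ) (hpχ : α (p χ) = p χ) : p χ = χ := by
  have h1 : (α * p * α⁻¹) χ = p χ := by
    have := conj_apply α p χ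
    rw [hχ, hpχ] at this
    exact this
  have h2 : (α * (α * p * α⁻¹) * α⁻¹) χ = p χ := by
    have := conj_apply α (α * p * α⁻¹) χ
    rw [hχ, h1, hpχ] at this
    exact this
  exact h.fix_of_conj_eq hp h1 h2 (h.fix_of_comm_of_fix (h.nrm_mem hp) (h.nrm_comm hp) hχ)

/-- `P` fixes the weights of `S` fixed by `α`. -/
theorem fix_of_alpha (h : WHyp α β P S) {p : MulAut Λ} (hp : p ∈ P) {χ : Λ} (hχS : χ ∈ S)
    (hχ : α χ = χ) : p χ = χ := by
  by_cases h1 : χ = 1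
  · rw [h1, map_one]
  by_cases h2 : α (p χ) = p χ
  · exact h.eq_of_fix_of_fix hp hχ h2
  exfalso
  have h3 : p χ ≠ 1 := by
    intro hc
    apply h1
    have : p χ = p 1 := by rw [hc, map_one]
    exact p.injective this
  obtain ⟨i, hi⟩ := h.typ' (h.pS p hp χ hχS) h3 h2
  have hb := h.rfHyp i
  have h4 : rf α β i χ = χ⁻¹ := hb.inv_of_fix hχ
  have h5 : p χ = ((rf α β i * p * (rf α β i)⁻¹) χ)⁻¹ := by
    have := conj_apply (rf α β i) p χ
    rw [hi, h4, map_inv] at this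
    exact this.symm
  have hp0 : p⁻¹ * (rf α β i * p * (rf α β i)⁻¹) ∈ P := P.mul_mem (P.inv_mem hp) (hb.bP p hp)
  have h6 : (p⁻¹ * (rf α β i * p * (rf α β i)⁻¹)) χ = χ⁻¹ := by
    have h7 : (rf α β i * p * (rf α β i)⁻¹) χ = (p χ)⁻¹ := by rw [h5, inv_inv]
    rw [MulAut.mul_apply, h7, map_inv, MulAut.inv_apply_self]
  have h8 : α ((p⁻¹ * (rf α β i * p * (rf α β i)⁻¹)) χ) = (p⁻¹ * (rf α β i * p * (rf α β i)⁻¹)) χ := by
    rw [h6, map_inv, hχ]
  have h9 := h.eq_of_fix_of_fix hp0 hχ h8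
  rw [h6] at h9
  apply h1
  apply h.sq
  calc χ * χ = χ * χ⁻¹ := by rw [h9]
    _ = 1 := mul_inv_cancel χ

/-- the `P`-orbit of a weight has size prime to `3`. -/
theorem orbit_finite (h : WHyp α β P S) (χ : Λ) : {ψ : Λ | ∃ q ∈ P, q χ = ψ}.Finite := by
  haveI := h.finP
  have : {ψ : Λ | ∃ q ∈ P, q χ = ψ} = Set.range (fun q : P => (q : MulAut Λ) χ) := by
    ext ψ
    constructor
    · rintro ⟨q, hq, rfl⟩
      exact ⟨⟨q, hq⟩, rfl⟩
    · rintro ⟨q, rfl⟩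
      exact ⟨q, q.2, rfl⟩
  rw [this]
  exact Set.finite_range _

theorem orbit_ncard (h : WHyp α β P S) (χ : Λ) : ¬ 3 ∣ {ψ : Λ | ∃ q ∈ P, q χ = ψ}.ncard := by
  haveI := h.finP
  have e : {ψ : Λ | ∃ q ∈ P, q χ = ψ} = MulAction.orbit P χ := by
    ext ψ
    constructor
    · rintro ⟨q, hq, rfl⟩
      exact ⟨⟨q, hq⟩, rfl⟩
    · rintro ⟨q, rfl⟩
      exact ⟨q, q.2, rfl⟩
  rw [e, ← MulAction.index_stabilizer]
  intro h3
  have h4 : 3 ∣ Nat.card P := dvd_trans h3 (Subgroup.index_dvd_card _)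
  have := Nat.dvd_gcd h4 (by norm_num : 3 ∣ 6)
  rw [h.cop] at this
  omega

/-- an `α`-stable `P`-orbit contains a weight fixed by `α`. -/
theorem orbit_fix (h : WHyp α β P S) (χ : Λ)
    (hst : ∀ q ∈ P, ∃ q' ∈ P, q' χ = α (q χ)) : ∃ q ∈ P, α (q χ) = q χ := by
  have : Fact (Nat.Prime 3) := ⟨Nat.prime_three⟩
  obtain ⟨ψ, ⟨q, hq, rfl⟩, hψ⟩ := exists_fixed_of_iterate_set {ψ : Λ | ∃ q ∈ P, q χ = ψ}
    (h.orbit_finite χ) 3 (fun ψ => α ψ)
    (by
      rintro _ ⟨q, hq, rfl⟩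
      obtain ⟨q', hq', e⟩ := hst q hq
      exact ⟨q', hq', e⟩)
    (fun ψ _ => h.a3' ψ) (h.orbit_ncard χ)
  exact ⟨q, hq, hψ⟩

theorem rf_zero : rf α β 0 = β := rfl
theorem rf_one : rf α β 1 = α * β * α⁻¹ := rfl
theorem rf_two : rf α β 2 = α * (α * β * α⁻¹) * α⁻¹ := rfl

theorem alpha_eq_one (h : WHyp α β P S) : α = β * (α * β * α⁻¹) := by
  calc α = α⁻¹ * α⁻¹ := by
        rw [h.ainv]
        have := h.a3
        calc α = α * (α * α * α) := by rw [this, mul_one]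
          _ = α * α * (α * α) := by group
    _ = (α⁻¹ * β) * (β * α⁻¹) := by
        have := h.b2
        calc α⁻¹ * α⁻¹ = α⁻¹ * 1 * α⁻¹ := by group
          _ = α⁻¹ * (β * β) * α⁻¹ := by rw [this]
          _ = (α⁻¹ * β) * (β * α⁻¹) := by group
    _ = (β * α) * (α * β) := by rw [← h.ba, ← h.ab]
    _ = β * (α * (α * β)) := by group
    _ = β * (α * (β * α⁻¹)) := by rw [h.ab]
    _ = β * (α * β * α⁻¹) := by group

theorem alpha_eq_two (h : WHyp α β P S) : α = (α * (α * β * α⁻¹) * α⁻¹) * β := by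
  have h1 : α * (α * β * α⁻¹) * α⁻¹ = α⁻¹ * β * α := by
    have e := h.conj3 (α⁻¹ * β * α)
    have e2 : α * (α * (α * (α⁻¹ * β * α) * α⁻¹) * α⁻¹) * α⁻¹ = α * (α * β * α⁻¹) * α⁻¹ := by group
    rw [← e2, e]
  rw [h1]
  calc α = α⁻¹ * α⁻¹ := by
        rw [h.ainv]
        have := h.a3
        calc α = α * (α * α * α) := by rw [this, mul_one]
          _ = α * α * (α * α) := by group
    _ = α⁻¹ * (α⁻¹ * β) * β := by
        have := h.b2
        calc α⁻¹ * α⁻¹ = α⁻¹ * α⁻¹ * 1 := by group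
          _ = α⁻¹ * α⁻¹ * (β * β) := by rw [this]
          _ = α⁻¹ * (α⁻¹ * β) * β := by group
    _ = α⁻¹ * (β * α) * β := by rw [h.ba]
    _ = α⁻¹ * β * α * β := by group

/-- the `P`-orbit of a weight not fixed by `α` contains no weight fixed by `α`. -/
theorem not_fix_orbit (h : WHyp α β P S) {χ : Λ} (hχS : χ ∈ S) (hα : α χ ≠ χ)
    {p : MulAut Λ} (hp : p ∈ P) : α (p χ) ≠ p χ := by
  intro hc
  apply hα
  have h1 := h.fix_of_alpha (P.inv_mem hp) (h.pS p hp χ hχS) hc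
  rw [MulAut.inv_apply_self] at h1
  rw [← h1] at hc
  exact hc

/-- the type of a weight of reflection type is constant on its `P`-orbit. -/
theorem refl_orbit (h : WHyp α β P S) {χ : Λ} (hχS : χ ∈ S) (hα : α χ ≠ χ) (hβ : β χ = χ)
    {p : MulAut Λ} (hp : p ∈ P) : β (p χ) = p χ := by
  have h1 : p χ ≠ 1 := by
    intro hc
    apply hα
    have : p χ = p 1 := by rw [hc, map_one]
    rw [p.injective this, map_one]
  have h2 := h.not_fix_orbit hχS hα hp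
  obtain ⟨i, hi⟩ := h.typ' (h.pS p hp χ hχS) h1 h2
  have hb := h.rfHyp i
  -- stability of the orbit under `β` and under `rf i`
  have hstβ : ∀ q ∈ P, ∃ q' ∈ P, q' χ = β (q χ) := by
    intro q hq
    refine ⟨β * q * β⁻¹, h.bP q hq, ?_⟩
    have := conj_apply β q χ
    rw [hβ] at this
    exact this
  have hsti : ∀ q ∈ P, ∃ q' ∈ P, q' χ = rf α β i (q χ) := by
    intro q hq
    refine ⟨(rf α β i * (q * p⁻¹) * (rf α β i)⁻¹) * p,
      P.mul_mem (hb.bP _ (P.mul_mem hq (P.inv_mem hp))) hp, ?_⟩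
    have := conj_apply (rf α β i) (q * p⁻¹) (p χ)
    rw [hi] at this
    rw [MulAut.mul_apply, this, MulAut.mul_apply, MulAut.inv_apply_self]
  have hfin : ∀ (hst : ∀ q ∈ P, ∃ q' ∈ P, q' χ = α (q χ)), False := by
    intro hst
    obtain ⟨q, hq, hfix⟩ := h.orbit_fix χ hst
    exact h.not_fix_orbit hχS hα hq hfix
  fin_cases i
  · exact hi
  · exfalso
    apply hfin
    intro q hq
    obtain ⟨q1, hq1, e1⟩ := hsti q hq
    obtain ⟨q2, hq2, e2⟩ := hstβ q1 hq1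
    refine ⟨q2, hq2, ?_⟩
    rw [e2, e1]
    show β ((α * β * α⁻¹) (q χ)) = α (q χ)
    rw [← MulAut.mul_apply, ← h.alpha_eq_one]
  · exfalso
    apply hfin
    intro q hq
    obtain ⟨q1, hq1, e1⟩ := hstβ q hq
    obtain ⟨q2, hq2, e2⟩ := hsti q1 hq1
    refine ⟨q2, hq2, ?_⟩
    rw [e2, e1]
    show (α * (α * β * α⁻¹) * α⁻¹) (β (q χ)) = α (q χ)
    rw [← MulAut.mul_apply, ← h.alpha_eq_two]


theorem two_refl_one (h : WHyp α β P S) {χ : Λ} (h1 : β χ = χ) (h2 : (α * β * α⁻¹) χ = χ) :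
    χ = 1 := by
  apply h.fixΛ χ _ h1
  conv_lhs => rw [h.alpha_eq_one]
  rw [MulAut.mul_apply, h2, h1]

theorem two_refl_two (h : WHyp α β P S) {χ : Λ} (h1 : β χ = χ)
    (h2 : (α * (α * β * α⁻¹) * α⁻¹) χ = χ) : χ = 1 := by
  apply h.fixΛ χ _ h1
  conv_lhs => rw [h.alpha_eq_two]
  rw [MulAut.mul_apply, h1, h2]

theorem refl_conj (h : WHyp α β P S) {χ : Λ} (hχS : χ ∈ S) (hα : α χ ≠ χ) (hβ : β χ = χ)
    {p : MulAut Λ} (hp : p ∈ P) : (β * p * β⁻¹) χ = p χ := by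
  have := conj_apply β p χ
  rw [hβ, h.refl_orbit hχS hα hβ hp] at this
  exact this

theorem norm_weight (h : WHyp α β P S) {χ : Λ} (hβ : β χ = χ) : χ * α χ * α (α χ) = 1 := by
  apply h.fixΛ
  · rw [map_mul, map_mul, h.a3']
    rw [mul_comm, mul_assoc]
  · rw [map_mul, map_mul, hβ]
    have e1 : β (α χ) = α (α χ) := by rw [h.ba', hβ, h.ainv']
    have e2 : β (α (α χ)) = α χ := by
      rw [h.ba', e1, h.ainv', h.a3']
    rw [e1, e2, mul_assoc, mul_assoc, mul_comm (α χ)]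

/-- the second reflection also centralizes `P` modulo the stabilizer. -/
theorem refl_conj' (h : WHyp α β P S) {χ : Λ} (hχS : χ ∈ S) (hα : α χ ≠ χ) (hβ : β χ = χ)
    {p : MulAut Λ} (hp : p ∈ P) : ((α * β * α⁻¹) * p * (α * β * α⁻¹)⁻¹) χ = p χ := by
  have hc := h.conj
  have hcc := h.conj.conj
  -- the weights `χ₁ = α χ`, `χ₂ = α (α χ)`
  have hχ1S : α χ ∈ S := h.aS χ hχS
  have hχ2S : α (α χ) ∈ S := h.aS _ hχ1S
  have hα1 : α (α χ) ≠ α χ := fun hc' => hα (α.injective hc')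
  have hα2 : α (α (α χ)) ≠ α (α χ) := fun hc' => hα1 (α.injective hc')
  have hβ1 : (α * β * α⁻¹) (α χ) = α χ := by rw [conj_apply, hβ]
  have hβ2 : (α * (α * β * α⁻¹) * α⁻¹) (α (α χ)) = α (α χ) := by rw [conj_apply, hβ1]
  have hr : p⁻¹ * ((α * β * α⁻¹) * p * (α * β * α⁻¹)⁻¹) ∈ P :=
    P.mul_mem (P.inv_mem hp) (hc.bP p hp)
  obtain ⟨r, hrdef⟩ : ∃ r, r = p⁻¹ * ((α * β * α⁻¹) * p * (α * β * α⁻¹)⁻¹) := ⟨_, rfl⟩
  rw [← hrdef] at hr
  have hr1 : r (α χ) = α χ := by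
    rw [hrdef, MulAut.mul_apply, hc.refl_conj hχ1S hα1 hβ1 hp, MulAut.inv_apply_self]
  have hrβ : β (r χ) = r χ := h.refl_orbit hχS hα hβ hr
  have hrβ2 : (α * (α * β * α⁻¹) * α⁻¹) (r (α (α χ))) = r (α (α χ)) :=
    hcc.refl_orbit hχ2S hα2 hβ2 hr
  have hn := h.norm_weight hβ
  have hn' : r χ * α χ * r (α (α χ)) = 1 := by
    have := congrArg r hn
    rw [map_mul, map_mul, hr1, map_one] at this
    exact this
  have hδ : (r χ)⁻¹ * χ = r (α (α χ)) * (α (α χ))⁻¹ := by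
    have e1 : (r χ)⁻¹ = α χ * r (α (α χ)) := by
      apply inv_eq_of_mul_eq_one_right
      rw [← mul_assoc]
      exact hn'
    have e2 : (α (α χ))⁻¹ = χ * α χ := by
      apply inv_eq_of_mul_eq_one_left
      exact hn
    rw [e1, e2]
    rw [mul_comm (α χ) (r (α (α χ))), mul_assoc, mul_comm (α χ) χ]
  have hδ1 : β ((r χ)⁻¹ * χ) = (r χ)⁻¹ * χ := by
    rw [map_mul, map_inv, hrβ, hβ]
  have hδ2 : (α * (α * β * α⁻¹) * α⁻¹) ((r χ)⁻¹ * χ) = (r χ)⁻¹ * χ := by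
    rw [hδ, map_mul, map_inv, hrβ2, hβ2]
  have hδ0 := h.two_refl_two hδ1 hδ2
  have hrχ : r χ = χ := by
    have := mul_eq_one_iff_eq_inv.mp hδ0
    exact inv_injective this
  rw [hrdef, MulAut.mul_apply] at hrχ
  have := congrArg p hrχ
  rw [MulAut.apply_inv_self] at this
  exact this

theorem inv_alpha_eq (h : WHyp α β P S) : α⁻¹ = (α * β * α⁻¹) * β := by
  have h1 := h.alpha_eq_one
  have h2 := h.conj.b2
  calc α⁻¹ = (β * (α * β * α⁻¹))⁻¹ := by rw [← h1]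
    _ = (α * β * α⁻¹)⁻¹ * β⁻¹ := by group
    _ = (α * β * α⁻¹) * β := by
        rw [h.binv]
        congr 1
        calc (α * β * α⁻¹)⁻¹ = (α * β * α⁻¹)⁻¹ * ((α * β * α⁻¹) * (α * β * α⁻¹)) := by
              rw [h2, mul_one]
          _ = α * β * α⁻¹ := by group

/-- `P` fixes the weights of `S` of reflection type. -/
theorem fix_of_refl (h : WHyp α β P S) {χ : Λ} (hχS : χ ∈ S) (hα : α χ ≠ χ) (hβ : β χ = χ)
    {p : MulAut Λ} (hp : p ∈ P) : p χ = χ := by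
  have key : ∀ q ∈ P, (α⁻¹ * q * α) χ = q χ := by
    intro q hq
    have h1 := h.refl_conj hχS hα hβ hq
    have h2 := h.refl_conj' hχS hα hβ (h.bP q hq)
    have e : (α * β * α⁻¹) * (β * q * β⁻¹) * (α * β * α⁻¹)⁻¹ = α⁻¹ * q * α := by
      calc (α * β * α⁻¹) * (β * q * β⁻¹) * (α * β * α⁻¹)⁻¹
          = ((α * β * α⁻¹) * β) * q * ((α * β * α⁻¹) * β)⁻¹ := by group
        _ = α⁻¹ * q * α := by rw [← h.inv_alpha_eq, inv_inv]
    rw [e, h1] at h2
    exact h2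
  have hp1 := h.aP p hp
  have hp2 := h.aP _ hp1
  have h1 : (α * p * α⁻¹) χ = p χ := by
    have := key _ hp1
    have e : α⁻¹ * (α * p * α⁻¹) * α = p := by group
    rw [e] at this
    exact this.symm
  have h2 : (α * (α * p * α⁻¹) * α⁻¹) χ = p χ := by
    have := key _ hp2
    have e : α⁻¹ * (α * (α * p * α⁻¹) * α⁻¹) * α = α * p * α⁻¹ := by group
    rw [e] at this
    rw [← this, h1]
  exact h.fix_of_conj_eq hp h1 h2 (h.fix_of_comm (h.nrm_mem hp) (h.nrm_comm hp) hχS)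

/-- **the weight lemma**: `P` fixes `S` pointwise. -/
theorem fix_all (h : WHyp α β P S) {p : MulAut Λ} (hp : p ∈ P) {χ : Λ} (hχS : χ ∈ S) :
    p χ = χ := by
  by_cases h1 : χ = 1
  · rw [h1, map_one]
  by_cases h2 : α χ = χ
  · exact h.fix_of_alpha hp hχS h2
  obtain ⟨i, hi⟩ := h.typ' hχS h1 h2
  exact (h.rfHyp i).fix_of_refl hχS h2 hi hp

end WHyp

end LemmaW

end Cfsg.Agent.Lib.Helper7.S3W
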