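import Mathlib
import Cfsg.Agent.Lib.Helper10.FrobSub

/-!
# Weight spaces of an abelian subgroup in a representation

`ρ : Γ →* End_E(U)`, `Y ≤ Γ` abelian of order invertible in the algebraically closed field `E`.
For `χ : Y →* Eˣ` the weight space `wt ρ Y χ`; the weight spaces are independent and span `U`;
an element normalizing `Y` permutes them.
-/

set_option autoImplicit false

namespace Cfsg.Agent.Lib.Helper7.S3W

open Cfsg.Agent.Lib.Helper10

section Wt

variable {E : Type*} [Field E] {U : Type*} [AddCommGroup U] [Module E U]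
  {Γ : Type*} [Group Γ] (ρ : Γ →* Module.End E U) (Y : Subgroup Γ)

/-- the weight space of a character of `Y`. -/
def wt (χ : ↥Y →* Eˣ) : Submodule E U :=
  ⨅ y : Y, Module.End.eigenspace (ρ (y : Γ)) ((χ y : Eˣ) : E)

theorem mem_wt {χ : ↥Y →* Eˣ} {u : U} :
    u ∈ wt ρ Y χ ↔ ∀ y : Y, ρ (y : Γ) u = ((χ y : Eˣ) : E) • u := by
  simp only [wt, Submodule.mem_iInf, Module.End.mem_eigenspace_iff]

theorem rho_mul_inv (g : Γ) (u : U) : ρ g (ρ g⁻¹ u) = u := by
  rw [← Module.End.mul_apply, ← map_mul, mul_inv_cancel, map_one, Module.End.one_apply]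

theorem rho_inv_mul (g : Γ) (u : U) : ρ g⁻¹ (ρ g u) = u := by
  rw [← Module.End.mul_apply, ← map_mul, inv_mul_cancel, map_one, Module.End.one_apply]

theorem rho_injective (g : Γ) : Function.Injective (ρ g) := by
  intro u v h
  have := congrArg (ρ g⁻¹) h
  rwa [rho_inv_mul, rho_inv_mul] at this

/-- the weight spaces are independent. -/
theorem wt_indep (hcomm : ∀ a ∈ Y, ∀ b ∈ Y, a * b = b * a) : iSupIndep (wt ρ Y) := by
  let f : Y → Module.End E U := fun y => ρ (y : Γ)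
  have hf : ∀ i j : Y, Commute (f i) (f j) := by
    intro i j
    show ρ (i : Γ) * ρ (j : Γ) = ρ (j : Γ) * ρ (i : Γ)
    rw [← map_mul, ← map_mul, hcomm _ i.2 _ j.2]
  have h1 : iSupIndep fun χ : Y → E => ⨅ i, (f i).maxGenEigenspace (χ i) :=
    Module.End.independent_iInf_maxGenEigenspace_of_forall_mapsTo f
      (fun i j φ => Module.End.mapsTo_maxGenEigenspace_of_comm (hf j i) φ)
  have h2 : iSupIndep fun χ : Y → E => ⨅ i, (f i).eigenspace (χ i) := by
    apply h1.mono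
    intro χ
    apply iInf_mono
    intro i
    exact Module.End.eigenspace_le_maxGenEigenspace
  have h3 : Function.Injective (fun (χ : ↥Y →* Eˣ) (y : Y) => ((χ y : Eˣ) : E)) := by
    intro χ ψ h
    ext y
    exact congrFun h y
  exact h2.comp h3

/-- vectors in finitely many distinct weight spaces with zero sum are zero. -/
theorem eq_zero_of_sum_eq_zero (hcomm : ∀ a ∈ Y, ∀ b ∈ Y, a * b = b * a)
    (s : Finset (↥Y →* Eˣ)) (v : (↥Y →* Eˣ) → U) (hv : ∀ χ ∈ s, v χ ∈ wt ρ Y χ)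
    (hsum : ∑ χ ∈ s, v χ = 0) : ∀ χ ∈ s, v χ = 0 :=
  (iSupIndep_iff_finsetSum_eq_zero_imp_eq_zero (wt ρ Y)).mp (wt_indep ρ Y hcomm) s v hv hsum

variable [IsAlgClosed E] [FiniteDimensional E U]

/-- the weight spaces span. -/
theorem iSup_wt (hcomm : ∀ a ∈ Y, ∀ b ∈ Y, a * b = b * a) (hY : (Nat.card Y : E) ≠ 0) :
    ⨆ χ, wt ρ Y χ = ⊤ := by
  classical
  let f : Y → Module.End E U := fun y => ρ (y : Γ)
  have hf : Pairwise fun i j : Y => Commute (f i) (f j) := by
    intro i j _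
    show ρ (i : Γ) * ρ (j : Γ) = ρ (j : Γ) * ρ (i : Γ)
    rw [← map_mul, ← map_mul, hcomm _ i.2 _ j.2]
  have hss : ∀ y : Y, (f y).IsSemisimple := by
    intro y
    apply Module.End.isSemisimple_of_squarefree_aeval_eq_zero
      (p := Polynomial.X ^ (Nat.card Y) - Polynomial.C 1)
    · exact (Polynomial.separable_X_pow_sub_C (1 : E) hY one_ne_zero).squarefree
    · have : (f y) ^ (Nat.card Y) = 1 := by
        show ρ (y : Γ) ^ (Nat.card Y) = 1
        rw [← map_pow, ← Subgroup.coe_pow, pow_card_eq_one', Subgroup.coe_one, map_one]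
      simp [this]
  have hfs : ∀ y : Y, (f y).IsFinitelySemisimple :=
    fun y => Module.End.isFinitelySemisimple_iff_isSemisimple.mpr (hss y)
  have h1 : ⨆ χ : Y → E, ⨅ i, (f i).maxGenEigenspace (χ i) = ⊤ :=
    Module.End.iSup_iInf_maxGenEigenspace_eq_top_of_iSup_maxGenEigenspace_eq_top_of_commute f hf
      (fun i => Module.End.iSup_maxGenEigenspace_eq_top (f i))
  rw [eq_top_iff, ← h1]
  apply iSup_le
  intro χ
  by_cases hbot : (⨅ i, (f i).maxGenEigenspace (χ i)) = ⊥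
  · rw [hbot]
    exact bot_le
  obtain ⟨u, hu, hu0⟩ := (Submodule.ne_bot_iff _).mp hbot
  have hu' : ∀ y : Y, ρ (y : Γ) u = χ y • u := by
    intro y
    have := (Submodule.mem_iInf _).mp hu y
    rw [(hfs y).maxGenEigenspace_eq_eigenspace] at this
    exact Module.End.mem_eigenspace_iff.mp this
  have hχ1 : χ 1 = 1 := by
    have := hu' 1
    rw [Subgroup.coe_one, map_one, Module.End.one_apply] at this
    have h2 : (χ 1 - 1) • u = 0 := by rw [sub_smul, one_smul, ← this, sub_self]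
    rcases smul_eq_zero.mp h2 with h3 | h3
    · exact sub_eq_zero.mp h3
    · exact absurd h3 hu0
  have hχmul : ∀ a b : Y, χ (a * b) = χ a * χ b := by
    intro a b
    have := hu' (a * b)
    rw [Subgroup.coe_mul, map_mul, Module.End.mul_apply, hu' b, map_smul, hu' a, smul_smul] at this
    have h2 : (χ (a * b) - χ b * χ a) • u = 0 := by rw [sub_smul, ← this, sub_self]
    rcases smul_eq_zero.mp h2 with h3 | h3
    · rw [sub_eq_zero.mp h3, mul_comm]
    · exact absurd h3 hu0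
  let χ₀ : ↥Y →* E := { toFun := χ, map_one' := hχ1, map_mul' := hχmul }
  let χ' : ↥Y →* Eˣ := χ₀.toHomUnits
  have hχ' : ∀ y : Y, ((χ' y : Eˣ) : E) = χ y := fun y => rfl
  apply le_trans _ (le_iSup (wt ρ Y) χ')
  intro v hv
  rw [mem_wt]
  intro y
  rw [hχ']
  have := (Submodule.mem_iInf _).mp hv y
  rw [(hfs y).maxGenEigenspace_eq_eigenspace] at this
  exact Module.End.mem_eigenspace_iff.mp this

end Wt


section Dual

variable (E : Type*) [Field E] {Γ : Type*} [Group Γ] (Y : Subgroup Γ)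

/-- conjugation `y ↦ g⁻¹ y g` on a subgroup, by a normalizing element. -/
def cjY (g : Γ) (hg : g ∈ Subgroup.normalizer (Y : Set Γ)) : ↥Y →* ↥Y where
  toFun y := ⟨g⁻¹ * y * g, (Subgroup.mem_normalizer_iff''.mp hg y).mp y.2⟩
  map_one' := by
    apply Subtype.ext
    show g⁻¹ * ((1 : Y) : Γ) * g = 1
    rw [Subgroup.coe_one]; group
  map_mul' a b := by
    apply Subtype.ext
    show g⁻¹ * ((a * b : Y) : Γ) * g = (g⁻¹ * a * g) * (g⁻¹ * b * g)
    rw [Subgroup.coe_mul]; group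

theorem cjY_coe (g : Γ) (hg : g ∈ Subgroup.normalizer (Y : Set Γ)) (y : Y) :
    ((cjY Y g hg y : Y) : Γ) = g⁻¹ * y * g := rfl

/-- the dual action of the normalizer of `Y` on the characters of `Y`:
`(g • χ) y = χ (g⁻¹ y g)`. -/
def dualHom : ↥(Subgroup.normalizer (Y : Set Γ)) →* MulAut (↥Y →* Eˣ) where
  toFun g :=
    { toFun := fun χ => χ.comp (cjY Y (g : Γ) g.2)
      invFun := fun χ => χ.comp (cjY Y ((g : Γ)⁻¹) (inv_mem g.2))
      left_inv := by
        intro χ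
        ext y
        show ((χ (cjY Y (g : Γ) g.2 (cjY Y ((g : Γ)⁻¹) (inv_mem g.2) y)) : Eˣ) : E) = χ y
        congr 3
        apply Subtype.ext
        rw [cjY_coe, cjY_coe]
        group
      right_inv := by
        intro χ
        ext y
        show ((χ (cjY Y ((g : Γ)⁻¹) (inv_mem g.2) (cjY Y (g : Γ) g.2 y)) : Eˣ) : E) = χ y
        congr 3
        apply Subtype.ext
        rw [cjY_coe, cjY_coe]
        group
      map_mul' := fun χ ψ => rfl }
  map_one' := by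
    ext χ y
    show ((χ (cjY Y ((1 : ↥(Subgroup.normalizer (Y : Set Γ))) : Γ) _ y) : Eˣ) : E) = χ y
    congr 3
    apply Subtype.ext
    rw [cjY_coe, Subgroup.coe_one]
    group
  map_mul' g h := by
    ext χ y
    show ((χ (cjY Y ((g * h : ↥(Subgroup.normalizer (Y : Set Γ))) : Γ) (g * h).2 y) : Eˣ) : E)
      = χ (cjY Y (h : Γ) h.2 (cjY Y (g : Γ) g.2 y))
    have e : cjY Y ((g * h : ↥(Subgroup.normalizer (Y : Set Γ))) : Γ) (g * h).2 y
        = cjY Y (h : Γ) h.2 (cjY Y (g : Γ) g.2 y) := by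
      apply Subtype.ext
      rw [cjY_coe, cjY_coe, cjY_coe, Subgroup.coe_mul]
      group
    rw [e]

theorem dualHom_apply (g : ↥(Subgroup.normalizer (Y : Set Γ))) (χ : ↥Y →* Eˣ) (y : Y) :
    dualHom E Y g χ y = χ (cjY Y (g : Γ) g.2 y) := rfl

theorem dualHom_apply' (g : ↥(Subgroup.normalizer (Y : Set Γ))) (χ : ↥Y →* Eˣ) (y : Y)
    (hy : (g : Γ)⁻¹ * y * g ∈ Y) : dualHom E Y g χ y = χ ⟨(g : Γ)⁻¹ * y * g, hy⟩ := rfl

theorem dualHom_inv_apply (g : ↥(Subgroup.normalizer (Y : Set Γ))) (χ : ↥Y →* Eˣ) (y : Y)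
    (hy : (g : Γ) * y * (g : Γ)⁻¹ ∈ Y) :
    (dualHom E Y g)⁻¹ χ y = χ ⟨(g : Γ) * y * (g : Γ)⁻¹, hy⟩ := by
  rw [← map_inv, dualHom_apply]
  congr 1
  apply Subtype.ext
  rw [cjY_coe, Subgroup.coe_inv, inv_inv]

/-- elements of an abelian `Y` act trivially on its characters. -/
theorem dualHom_of_mem (hcomm : ∀ a ∈ Y, ∀ b ∈ Y, a * b = b * a)
    (g : ↥(Subgroup.normalizer (Y : Set Γ))) (hg : (g : Γ) ∈ Y) : dualHom E Y g = 1 := by
  ext χ y
  rw [dualHom_apply, MulAut.one_apply]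
  congr 3
  apply Subtype.ext
  rw [cjY_coe]
  calc (g : Γ)⁻¹ * y * g = (g : Γ)⁻¹ * (y * g) := by group
    _ = (g : Γ)⁻¹ * (g * y) := by rw [hcomm _ y.2 _ hg]
    _ = y := by group

end Dual

section Transport

variable {E : Type*} [Field E] {U : Type*} [AddCommGroup U] [Module E U]
  {Γ : Type*} [Group Γ] (ρ : Γ →* Module.End E U) (Y : Subgroup Γ)

/-- a normalizing element carries the weight space of `χ` into that of `g • χ`. -/
theorem map_wt (g : ↥(Subgroup.normalizer (Y : Set Γ))) {χ : ↥Y →* Eˣ} {u : U}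
    (hu : u ∈ wt ρ Y χ) : ρ (g : Γ) u ∈ wt ρ Y (dualHom E Y g χ) := by
  rw [mem_wt] at hu ⊢
  intro y
  rw [dualHom_apply]
  calc ρ (y : Γ) (ρ (g : Γ) u) = ρ (g : Γ) (ρ ((g : Γ)⁻¹ * y * g) u) := by
        rw [← Module.End.mul_apply, ← Module.End.mul_apply, ← map_mul, ← map_mul]
        congr 2
        group
    _ = ρ (g : Γ) (((χ (cjY Y (g : Γ) g.2 y) : Eˣ) : E) • u) := by
        rw [← hu (cjY Y (g : Γ) g.2 y), cjY_coe]
    _ = ((χ (cjY Y (g : Γ) g.2 y) : Eˣ) : E) • ρ (g : Γ) u := map_smul _ _ _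

/-- the support: the characters with nonzero weight space. -/
def supp : Set (↥Y →* Eˣ) := {χ | wt ρ Y χ ≠ ⊥}

theorem dual_mem_supp (g : ↥(Subgroup.normalizer (Y : Set Γ))) {χ : ↥Y →* Eˣ}
    (hχ : χ ∈ supp ρ Y) : dualHom E Y g χ ∈ supp ρ Y := by
  obtain ⟨u, hu, hu0⟩ := (Submodule.ne_bot_iff _).mp hχ
  apply (Submodule.ne_bot_iff _).mpr
  refine ⟨ρ (g : Γ) u, map_wt ρ Y g hu, ?_⟩
  intro h
  apply hu0
  apply rho_injective ρ (g : Γ)
  rw [h, map_zero]

/-- an element acting on a weight space as a scalar. -/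
theorem rho_apply_of_mem_wt {χ : ↥Y →* Eˣ} {u : U} (hu : u ∈ wt ρ Y χ) {y : Γ} (hy : y ∈ Y) :
    ρ y u = ((χ ⟨y, hy⟩ : Eˣ) : E) • u :=
  (mem_wt ρ Y).mp hu ⟨y, hy⟩

/-- two endomorphisms agreeing on all weight spaces are equal. -/
theorem ext_of_wt [IsAlgClosed E] [FiniteDimensional E U]
    (hcomm : ∀ a ∈ Y, ∀ b ∈ Y, a * b = b * a) (hY : (Nat.card Y : E) ≠ 0)
    {f g : Module.End E U} (h : ∀ χ : ↥Y →* Eˣ, ∀ u ∈ wt ρ Y χ, f u = g u) : f = g := by
  rw [← LinearMap.eqLocus_eq_top, eq_top_iff, ← iSup_wt ρ Y hcomm hY]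
  apply iSup_le
  intro χ u hu
  exact h χ u hu

end Transport

end Cfsg.Agent.Lib.Helper7.S3W
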