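import Mathlib
import Cfsg.Agent.Lib.Helper7.S3Weights
import Cfsg.Agent.Lib.Helper7.S3WtSpace
import Cfsg.Agent.Lib.Helper10.XRepMin

/-!
# Abelian normal subgroups are central (under a fixed-point-free `S₃` without fixed vectors)

The ambient situation: a finite group `Γ` with a faithful representation `ρ` over an
algebraically closed field, two elements `s, t` generating a copy of `S₃` without common
nonzero fixed vector.  For an `⟨s,t⟩`-invariant subgroup `K` of order prime to 6 with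
`C_K(s,t) = 1` and an invariant abelian normal subgroup `Y` of `K` with `K/Y` abelian
(and `|Y|` invertible in the field), `Y` is central in `K`.
-/

set_option autoImplicit false

namespace Cfsg.Agent.Lib.Helper7.S3W

open Cfsg.Agent.Lib.Helper10

/-- the ambient situation. -/
structure Amb {E : Type*} [Field E] {U : Type*} [AddCommGroup U] [Module E U]
    {Γ : Type*} [Group Γ] (ρ : Γ →* Module.End E U) (s t : Γ) : Prop where
  s3 : s * s * s = 1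
  t2 : t * t = 1
  rel : s * t * s = t
  faithful : ∀ g, ρ g = 1 → g = 1
  nofix : ∀ u, ρ s u = u → ρ t u = u → u = 0

/-- invariance of a subgroup under `s` and `t`. -/
def Inv {Γ : Type*} [Group Γ] (s t : Γ) (K : Subgroup Γ) : Prop :=
  (∀ k ∈ K, s * k * s⁻¹ ∈ K) ∧ (∀ k ∈ K, t * k * t⁻¹ ∈ K)

/-- no fixed points of `⟨s, t⟩` in a subgroup. -/
def Fpf {Γ : Type*} [Group Γ] (s t : Γ) (K : Subgroup Γ) : Prop :=
  ∀ k ∈ K, s * k * s⁻¹ = k → t * k * t⁻¹ = k → k = 1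

section Words

variable {Γ : Type*} [Group Γ] {s t : Γ}

theorem s_inv (h3 : s * s * s = 1) : s⁻¹ = s * s := by
  calc s⁻¹ = s⁻¹ * (s * s * s) := by rw [h3, mul_one]
    _ = s * s := by group

theorem t_inv (h2 : t * t = 1) : t⁻¹ = t := by
  calc t⁻¹ = t⁻¹ * (t * t) := by rw [h2, mul_one]
    _ = t := by group

theorem ts_eq (hrel : s * t * s = t) : t * s = s⁻¹ * t := by
  calc t * s = s⁻¹ * (s * t * s) := by group
    _ = s⁻¹ * t := by rw [hrel]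

theorem st_eq (hrel : s * t * s = t) : s * t = t * s⁻¹ := by
  calc s * t = (s * t * s) * s⁻¹ := by group
    _ = t * s⁻¹ := by rw [hrel]

end Words

section Operators

variable {R : Type*} [Ring R] {a b : R}

/-- the sum of the six elements of `S₃` is fixed by left multiplication. -/
theorem six_sum_a (ha : a * a * a = 1) :
    a * (1 + a + a * a + b + a * b + a * a * b) = 1 + a + a * a + b + a * b + a * a * b := by
  have e1 : a * (a * a) = 1 := by rw [← mul_assoc]; exact ha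
  have e2 : a * (a * a * b) = b := by rw [← mul_assoc, ← mul_assoc, ha, one_mul]
  rw [mul_add, mul_add, mul_add, mul_add, mul_add, mul_one, e1, e2, ← mul_assoc a a b]
  abel

theorem six_sum_b (ha : a * a * a = 1) (hb : b * b = 1) (hba : b * a = a * a * b) :
    b * (1 + a + a * a + b + a * b + a * a * b) = 1 + a + a * a + b + a * b + a * a * b := by
  have e1 : b * (a * a) = a * b := by
    have h1 : b * (a * a) = (b * a) * a := (mul_assoc b a a).symm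
    have h2 : (b * a) * a = a * a * b * a := by rw [hba]
    have h3 : a * a * b * a = a * a * (b * a) := mul_assoc _ _ _
    have h4 : a * a * (b * a) = a * a * (a * a * b) := by rw [hba]
    have h5 : a * a * (a * a * b) = (a * a * a) * (a * b) := by simp only [mul_assoc]
    rw [h1, h2, h3, h4, h5, ha, one_mul]
  have e2 : b * (a * b) = a * a := by
    have h1 : b * (a * b) = (b * a) * b := (mul_assoc b a b).symm
    have h2 : (b * a) * b = a * a * b * b := by rw [hba]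
    have h3 : a * a * b * b = a * a * (b * b) := mul_assoc _ _ _
    rw [h1, h2, h3, hb, mul_one]
  have e3 : b * (a * a * b) = a := by
    have h1 : b * (a * a * b) = (b * (a * a)) * b := (mul_assoc b (a * a) b).symm
    have h2 : (a * b) * b = a * (b * b) := mul_assoc _ _ _
    rw [h1, e1, h2, hb, mul_one]
  rw [mul_add, mul_add, mul_add, mul_add, mul_add, mul_one, hba, e1, hb, e2, e3]
  abel

end Operators


section Words2

variable {Γ : Type*} [Group Γ] {s t : Γ}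

theorem rf1_eq (hrel : s * t * s = t) : s * t * s⁻¹ = s * s * t := by
  calc s * t * s⁻¹ = s * (t * s⁻¹) := by group
    _ = s * (s * t) := by rw [st_eq hrel]
    _ = s * s * t := by group

theorem rf2_eq (h3 : s * s * s = 1) (hrel : s * t * s = t) :
    s * (s * t * s⁻¹) * s⁻¹ = s * t := by
  calc s * (s * t * s⁻¹) * s⁻¹ = s * (s * s * t) * s⁻¹ := by rw [rf1_eq hrel]
    _ = (s * s * s) * (t * s⁻¹) := by group
    _ = s * t := by rw [h3, one_mul, st_eq hrel]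

theorem conj3_eq (h3 : s * s * s = 1) (g : Γ) : s * (s * (s * g * s⁻¹) * s⁻¹) * s⁻¹ = g := by
  have h4 : s⁻¹ * s⁻¹ * s⁻¹ = 1 := by
    calc s⁻¹ * s⁻¹ * s⁻¹ = (s * s * s)⁻¹ := by group
      _ = 1 := by rw [h3, inv_one]
  calc s * (s * (s * g * s⁻¹) * s⁻¹) * s⁻¹ = (s * s * s) * g * (s⁻¹ * s⁻¹ * s⁻¹) := by group
    _ = g := by rw [h3, h4, one_mul, mul_one]

theorem conj2_eq (h2 : t * t = 1) (g : Γ) : t * (t * g * t⁻¹) * t⁻¹ = g := by
  have h4 : t⁻¹ * t⁻¹ = 1 := by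
    calc t⁻¹ * t⁻¹ = (t * t)⁻¹ := by group
      _ = 1 := by rw [h2, inv_one]
  calc t * (t * g * t⁻¹) * t⁻¹ = (t * t) * g * (t⁻¹ * t⁻¹) := by group
    _ = g := by rw [h2, h4, one_mul, mul_one]

theorem conj_rel_eq (hrel : s * t * s = t) (g : Γ) :
    s * (t * (s * g * s⁻¹) * t⁻¹) * s⁻¹ = t * g * t⁻¹ := by
  calc s * (t * (s * g * s⁻¹) * t⁻¹) * s⁻¹ = (s * t * s) * g * (s * t * s)⁻¹ := by group
    _ = t * g * t⁻¹ := by rw [hrel]

end Words2

section Central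

variable {E : Type*} [Field E] {U : Type*} [AddCommGroup U] [Module E U]
  {Γ : Type*} [Group Γ] [Finite Γ] {ρ : Γ →* Module.End E U} {s t : Γ}

/-- the hypotheses on the pair `Y ≤ K`. -/
structure CHyp (ρ : Γ →* Module.End E U) (s t : Γ) (K Y : Subgroup Γ) : Prop where
  amb : Amb ρ s t
  invK : Inv s t K
  invY : Inv s t Y
  le : Y ≤ K
  normal : ∀ k ∈ K, ∀ y ∈ Y, k * y * k⁻¹ ∈ Y
  cop : (Nat.card K).Coprime 6
  fpf : Fpf s t K
  comm : ∀ a ∈ Y, ∀ b ∈ Y, a * b = b * a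
  inv : (Nat.card Y : E) ≠ 0
  der : ∀ a ∈ K, ∀ b ∈ K, a * b * a⁻¹ * b⁻¹ ∈ Y

namespace CHyp

variable {K Y : Subgroup Γ}

theorem sN (h : CHyp ρ s t K Y) : s ∈ Subgroup.normalizer (Y : Set Γ) :=
  XRep.mem_normalizer_of_conj_mem s Y h.invY.1

theorem tN (h : CHyp ρ s t K Y) : t ∈ Subgroup.normalizer (Y : Set Γ) :=
  XRep.mem_normalizer_of_conj_mem t Y h.invY.2

theorem kN (h : CHyp ρ s t K Y) {k : Γ} (hk : k ∈ K) : k ∈ Subgroup.normalizer (Y : Set Γ) :=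
  XRep.mem_normalizer_of_conj_mem k Y (h.normal k hk)

theorem copY (h : CHyp ρ s t K Y) : (Nat.card Y).Coprime 6 :=
  Nat.Coprime.coprime_dvd_left (Subgroup.card_dvd_of_le h.le) h.cop

/-- values of characters of `Y` have order prime to `6`. -/
theorem val_eq_one (h : CHyp ρ s t K Y) (χ : ↥Y →* Eˣ) (y : Y) (h6 : χ y ^ 6 = 1) : χ y = 1 := by
  have h1 : χ y ^ Nat.card Y = 1 := by rw [← map_pow, pow_card_eq_one', map_one]
  have := (pow_gcd_eq_one (a := χ y) (m := 6) (n := Nat.card Y)).mpr ⟨h6, h1⟩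
  rw [Nat.Coprime.symm h.copY, pow_one] at this
  exact this

theorem sq (h : CHyp ρ s t K Y) (χ : ↥Y →* Eˣ) (hχ : χ * χ = 1) : χ = 1 := by
  ext y
  have h1 : χ y * χ y = 1 := by
    have := congrArg (fun ψ : ↥Y →* Eˣ => ψ y) hχ
    simpa using this
  have h2 : χ y ^ 6 = 1 := by
    calc χ y ^ 6 = (χ y * χ y) ^ 3 := by rw [← pow_two, ← pow_mul]
      _ = 1 := by rw [h1, one_pow]
  rw [h.val_eq_one χ y h2]
  rfl

omit [Finite Γ] in
/-- a character fixed by an element takes equal values on conjugate elements. -/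
theorem char_conj (g : ↥(Subgroup.normalizer (Y : Set Γ))) (χ : ↥Y →* Eˣ)
    (hχ : dualHom E Y g χ = χ) (y : Y) (hy : (g : Γ) * y * (g : Γ)⁻¹ ∈ Y) :
    χ ⟨(g : Γ) * y * (g : Γ)⁻¹, hy⟩ = χ y := by
  have h1 : (dualHom E Y g)⁻¹ χ = χ := by
    conv_lhs => rw [← hχ]
    exact MulAut.inv_apply_self _ _ _
  rw [← dualHom_inv_apply E Y g χ y hy, h1]

theorem fixΛ (h : CHyp ρ s t K Y) (χ : ↥Y →* Eˣ)
    (hs : dualHom E Y ⟨s, h.sN⟩ χ = χ) (ht : dualHom E Y ⟨t, h.tN⟩ χ = χ) : χ = 1 := by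
  ext y
  have hcs : ∀ y : Y, s * y * s⁻¹ ∈ Y := fun y => h.invY.1 y y.2
  have hct : ∀ y : Y, t * y * t⁻¹ ∈ Y := fun y => h.invY.2 y y.2
  have hχs : ∀ y : Y, χ ⟨s * y * s⁻¹, hcs y⟩ = χ y := fun y => char_conj ⟨s, h.sN⟩ χ hs y (hcs y)
  have hχt : ∀ y : Y, χ ⟨t * y * t⁻¹, hct y⟩ = χ y := fun y => char_conj ⟨t, h.tN⟩ χ ht y (hct y)
  -- the norm of `y`
  have hcommY : ∀ a b : Y, a * b = b * a := fun a b => Subtype.ext (h.comm a a.2 b b.2)
  obtain ⟨y1, hy1⟩ : ∃ y1 : Y, y1 = (⟨s * y * s⁻¹, hcs y⟩ : Y) := ⟨_, rfl⟩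
  obtain ⟨y2, hy2⟩ : ∃ y2 : Y, y2 = (⟨s * y1 * s⁻¹, hcs y1⟩ : Y) := ⟨_, rfl⟩
  obtain ⟨w, hw⟩ : ∃ w : Y, w = y * y1 * y2 := ⟨_, rfl⟩
  obtain ⟨w', hw'⟩ : ∃ w' : Y, w' = (⟨t * w * t⁻¹, hct w⟩ : Y) := ⟨_, rfl⟩
  have hy1c : (y1 : Γ) = s * y * s⁻¹ := by rw [hy1]
  have hy2c : (y2 : Γ) = s * y1 * s⁻¹ := by rw [hy2]
  have hwc : (w : Γ) = (y : Γ) * y1 * y2 := by rw [hw]; rfl
  have hw'c : (w' : Γ) = t * w * t⁻¹ := by rw [hw']
  have hsw : s * (w : Γ) * s⁻¹ = w := by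
    have e1 : s * (y2 : Γ) * s⁻¹ = y := by
      rw [hy2c, hy1c]
      exact conj3_eq h.amb.s3 (y : Γ)
    calc s * (w : Γ) * s⁻¹
        = (s * (y : Γ) * s⁻¹) * (s * (y1 : Γ) * s⁻¹) * (s * (y2 : Γ) * s⁻¹) := by
          rw [hwc]; group
      _ = (y1 : Γ) * (y2 : Γ) * (y : Γ) := by rw [e1, ← hy1c, ← hy2c]
      _ = (y : Γ) * ((y1 : Γ) * (y2 : Γ)) := h.comm _ (y1 * y2).2 _ y.2
      _ = (w : Γ) := by rw [hwc, mul_assoc]
  have hsw' : s * (w' : Γ) * s⁻¹ = w' := by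
    rw [hw'c]
    have e1 := conj_rel_eq h.amb.rel (w : Γ)
    rw [hsw] at e1
    exact e1
  have htw' : t * (w' : Γ) * t⁻¹ = w := by
    rw [hw'c]
    exact conj2_eq h.amb.t2 (w : Γ)
  have hz1 : s * ((w * w' : Y) : Γ) * s⁻¹ = ((w * w' : Y) : Γ) := by
    rw [Subgroup.coe_mul]
    calc s * ((w : Γ) * (w' : Γ)) * s⁻¹ = (s * (w : Γ) * s⁻¹) * (s * (w' : Γ) * s⁻¹) := by group
      _ = (w : Γ) * (w' : Γ) := by rw [hsw, hsw']
  have hz2 : t * ((w * w' : Y) : Γ) * t⁻¹ = ((w * w' : Y) : Γ) := by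
    rw [Subgroup.coe_mul]
    calc t * ((w : Γ) * (w' : Γ)) * t⁻¹ = (t * (w : Γ) * t⁻¹) * (t * (w' : Γ) * t⁻¹) := by group
      _ = (w' : Γ) * (w : Γ) := by rw [htw', ← hw'c]
      _ = (w : Γ) * (w' : Γ) := h.comm _ w'.2 _ w.2
  have hz : w * w' = 1 := Subtype.ext (h.fpf _ (h.le (w * w').2) hz1 hz2)
  have hχw : χ w = χ y ^ 3 := by
    have e1 : χ y1 = χ y := by rw [hy1]; exact hχs y
    have e2 : χ y2 = χ y := by rw [hy2, hχs y1, e1]
    rw [hw, map_mul, map_mul, e1, e2, pow_succ, pow_two]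
  have hχw' : χ w' = χ w := by rw [hw']; exact hχt w
  have h6 : χ y ^ 6 = 1 := by
    have := congrArg χ hz
    rw [map_mul, hχw', hχw, map_one, ← pow_add] at this
    exact this
  rw [h.val_eq_one χ y h6]
  rfl

/-- the automorphism of the character group of `Y` induced by `s`. -/
noncomputable def al (h : CHyp ρ s t K Y) : MulAut (↥Y →* Eˣ) := dualHom E Y ⟨s, h.sN⟩

/-- the automorphism of the character group of `Y` induced by `t`. -/
noncomputable def be (h : CHyp ρ s t K Y) : MulAut (↥Y →* Eˣ) := dualHom E Y ⟨t, h.tN⟩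

/-- the group of automorphisms of the character group of `Y` induced by `K`. -/
noncomputable def PP (_h : CHyp ρ s t K Y) : Subgroup (MulAut (↥Y →* Eˣ)) :=
  (K.subgroupOf (Subgroup.normalizer (Y : Set Γ))).map (dualHom E Y)

theorem mem_PP (h : CHyp ρ s t K Y) {p : MulAut (↥Y →* Eˣ)} :
    p ∈ h.PP ↔ ∃ k, ∃ hk : k ∈ K, dualHom E Y ⟨k, h.kN hk⟩ = p := by
  constructor
  · rintro ⟨n, hn, rfl⟩
    exact ⟨(n : Γ), Subgroup.mem_subgroupOf.mp hn, rfl⟩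
  · rintro ⟨k, hk, rfl⟩
    exact ⟨⟨k, h.kN hk⟩, Subgroup.mem_subgroupOf.mpr hk, rfl⟩

theorem al3 (h : CHyp ρ s t K Y) : h.al * h.al * h.al = 1 := by
  unfold al
  rw [← map_mul, ← map_mul]
  have : (⟨s, h.sN⟩ * ⟨s, h.sN⟩ * ⟨s, h.sN⟩ : ↥(Subgroup.normalizer (Y : Set Γ))) = 1 :=
    Subtype.ext h.amb.s3
  rw [this, map_one]

theorem be2 (h : CHyp ρ s t K Y) : h.be * h.be = 1 := by
  unfold be
  rw [← map_mul]
  have : (⟨t, h.tN⟩ * ⟨t, h.tN⟩ : ↥(Subgroup.normalizer (Y : Set Γ))) = 1 :=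
    Subtype.ext h.amb.t2
  rw [this, map_one]

theorem albe (h : CHyp ρ s t K Y) : h.al * h.be * h.al = h.be := by
  unfold al be
  rw [← map_mul, ← map_mul]
  have : (⟨s, h.sN⟩ * ⟨t, h.tN⟩ * ⟨s, h.sN⟩ : ↥(Subgroup.normalizer (Y : Set Γ))) = ⟨t, h.tN⟩ :=
    Subtype.ext h.amb.rel
  rw [this]

theorem al_conj (h : CHyp ρ s t K Y) {k : Γ} (hk : k ∈ K) :
    h.al * dualHom E Y ⟨k, h.kN hk⟩ * h.al⁻¹
      = dualHom E Y ⟨s * k * s⁻¹, h.kN (h.invK.1 k hk)⟩ := by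
  unfold al
  rw [← map_inv, ← map_mul, ← map_mul]
  rfl

theorem be_conj (h : CHyp ρ s t K Y) {k : Γ} (hk : k ∈ K) :
    h.be * dualHom E Y ⟨k, h.kN hk⟩ * h.be⁻¹
      = dualHom E Y ⟨t * k * t⁻¹, h.kN (h.invK.2 k hk)⟩ := by
  unfold be
  rw [← map_inv, ← map_mul, ← map_mul]
  rfl

/-- every weight in the support is fixed by a nonidentity element of `⟨s, t⟩`. -/
theorem typ (h : CHyp ρ s t K Y) (χ : ↥Y →* Eˣ) (hχ : χ ∈ supp ρ Y) :
    h.al χ = χ ∨ h.be χ = χ ∨ (h.al * h.be * h.al⁻¹) χ = χ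
      ∨ (h.al * (h.al * h.be * h.al⁻¹) * h.al⁻¹) χ = χ := by
  by_contra hcon
  push Not at hcon
  obtain ⟨h1, h2, h3, h4⟩ := hcon
  rw [rf2_eq h.al3 h.albe] at h4
  rw [rf1_eq h.albe] at h3
  obtain ⟨u, hu, hu0⟩ := (Submodule.ne_bot_iff _).mp hχ
  apply hu0
  have haaa : ρ s * ρ s * ρ s = 1 := by rw [← map_mul, ← map_mul, h.amb.s3, map_one]
  have hbb : ρ t * ρ t = 1 := by rw [← map_mul, h.amb.t2, map_one]
  have hba : ρ t * ρ s = ρ s * ρ s * ρ t := by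
    rw [← map_mul, ← map_mul, ← map_mul, ts_eq h.amb.rel, s_inv h.amb.s3]
  have hw : (1 + ρ s + ρ s * ρ s + ρ t + ρ s * ρ t + ρ s * ρ s * ρ t) u = 0 := by
    apply h.amb.nofix
    · rw [← Module.End.mul_apply, six_sum_a haaa]
    · rw [← Module.End.mul_apply, six_sum_b haaa hbb hba]
  have hw' : u + ρ s u + ρ s (ρ s u) + ρ t u + ρ s (ρ t u) + ρ s (ρ s (ρ t u)) = 0 := by
    simpa only [LinearMap.add_apply, Module.End.mul_apply, Module.End.one_apply] using hw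
  have hma : ∀ (ψ : ↥Y →* Eˣ) (v : U), v ∈ wt ρ Y ψ → ρ s v ∈ wt ρ Y (h.al ψ) :=
    fun ψ v hv => map_wt ρ Y ⟨s, h.sN⟩ hv
  have hmb : ∀ (ψ : ↥Y →* Eˣ) (v : U), v ∈ wt ρ Y ψ → ρ t v ∈ wt ρ Y (h.be ψ) :=
    fun ψ v hv => map_wt ρ Y ⟨t, h.tN⟩ hv
  have hT : ∀ (ψ : ↥Y →* Eˣ), ψ ≠ χ → ∀ v ∈ wt ρ Y ψ,
      v ∈ ⨆ (j : ↥Y →* Eˣ) (_ : j ≠ χ), wt ρ Y j := by
    intro ψ hψ v hv
    exact Submodule.mem_iSup_of_mem ψ (Submodule.mem_iSup_of_mem hψ hv)
  have h1' : h.al (h.al χ) ≠ χ := by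
    intro hc
    apply h1
    have := congrArg h.al hc
    have e : h.al (h.al (h.al χ)) = χ := by
      rw [← MulAut.mul_apply, ← MulAut.mul_apply, h.al3, MulAut.one_apply]
    rw [e] at this
    exact this.symm
  have m1 := hT _ h1 _ (hma _ _ hu)
  have m2 := hT _ h1' _ (hma _ _ (hma _ _ hu))
  have m3 := hT _ h2 _ (hmb _ _ hu)
  have m4 := hT _ h4 _ (hma _ _ (hmb _ _ hu))
  have m5 := hT _ h3 _ (hma _ _ (hma _ _ (hmb _ _ hu)))
  have hu' : u ∈ ⨆ (j : ↥Y →* Eˣ) (_ : j ≠ χ), wt ρ Y j := by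
    have e : u = -(ρ s u + ρ s (ρ s u) + ρ t u + ρ s (ρ t u) + ρ s (ρ s (ρ t u))) := by
      rw [eq_neg_iff_add_eq_zero, ← hw']
      abel
    rw [e]
    exact Submodule.neg_mem _ (Submodule.add_mem _ (Submodule.add_mem _ (Submodule.add_mem _
      (Submodule.add_mem _ m1 m2) m3) m4) m5)
  have hdisj := (iSupIndep_def.mp (wt_indep ρ Y h.comm)) χ
  exact Submodule.disjoint_def.mp hdisj u hu hu'

/-- no element of the image of `K` is centralized by `s` and `t`. -/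
theorem fixP (h : CHyp ρ s t K Y) (p : MulAut (↥Y →* Eˣ)) (hp : p ∈ h.PP)
    (h1 : h.al * p * h.al⁻¹ = p) (h2 : h.be * p * h.be⁻¹ = p) : p = 1 := by
  obtain ⟨k, hk, rfl⟩ := h.mem_PP.mp hp
  rw [h.al_conj hk] at h1
  rw [h.be_conj hk] at h2
  -- the kernel of the action, inside `K`
  let C : Subgroup Γ := ((dualHom E Y).ker.map (Subgroup.subtype _)) ⊓ K
  have memC : ∀ x : Γ, x ∈ C ↔ ∃ hx : x ∈ K, dualHom E Y ⟨x, h.kN hx⟩ = 1 := by
    intro x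
    constructor
    · rintro ⟨⟨n, hn, rfl⟩, hxK⟩
      exact ⟨hxK, MonoidHom.mem_ker.mp hn⟩
    · rintro ⟨hx, hx1⟩
      exact ⟨⟨⟨x, h.kN hx⟩, MonoidHom.mem_ker.mpr hx1, rfl⟩, hx⟩
  have hCK : C ≤ K := inf_le_right
  have hC6 : (Nat.card C).Coprime 6 :=
    Nat.Coprime.coprime_dvd_left (Subgroup.card_dvd_of_le hCK) h.cop
  have hσC : ∀ x ∈ C, (MulAut.conj s) x ∈ C := by
    intro x hx
    obtain ⟨hxK, hx1⟩ := (memC x).mp hx
    rw [MulAut.conj_apply]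
    refine (memC _).mpr ⟨h.invK.1 x hxK, ?_⟩
    rw [← h.al_conj hxK, hx1, mul_one, mul_inv_cancel]
  have hτC : ∀ x ∈ C, (MulAut.conj t) x ∈ C := by
    intro x hx
    obtain ⟨hxK, hx1⟩ := (memC x).mp hx
    rw [MulAut.conj_apply]
    refine (memC _).mpr ⟨h.invK.2 x hxK, ?_⟩
    rw [← h.be_conj hxK, hx1, mul_one, mul_inv_cancel]
  have hσk : k⁻¹ * (MulAut.conj s) k ∈ C := by
    rw [MulAut.conj_apply]
    refine (memC _).mpr ⟨K.mul_mem (K.inv_mem hk) (h.invK.1 k hk), ?_⟩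
    have e : (⟨k⁻¹ * (s * k * s⁻¹), h.kN (K.mul_mem (K.inv_mem hk) (h.invK.1 k hk))⟩ :
        ↥(Subgroup.normalizer (Y : Set Γ)))
        = (⟨k, h.kN hk⟩)⁻¹ * ⟨s * k * s⁻¹, h.kN (h.invK.1 k hk)⟩ := rfl
    rw [e, map_mul, map_inv, h1, inv_mul_cancel]
  have hτk : k⁻¹ * (MulAut.conj t) k ∈ C := by
    rw [MulAut.conj_apply]
    refine (memC _).mpr ⟨K.mul_mem (K.inv_mem hk) (h.invK.2 k hk), ?_⟩
    have e : (⟨k⁻¹ * (t * k * t⁻¹), h.kN (K.mul_mem (K.inv_mem hk) (h.invK.2 k hk))⟩ :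
        ↥(Subgroup.normalizer (Y : Set Γ)))
        = (⟨k, h.kN hk⟩)⁻¹ * ⟨t * k * t⁻¹, h.kN (h.invK.2 k hk)⟩ := rfl
    rw [e, map_mul, map_inv, h2, inv_mul_cancel]
  obtain ⟨x, hx, hσx, hτx⟩ := exists_fixed_in_coset (MulAut.conj s) (MulAut.conj t)
    (fun g => by
      rw [MulAut.conj_apply, MulAut.conj_apply, MulAut.conj_apply]
      exact conj3_eq h.amb.s3 g)
    (fun g => by
      rw [MulAut.conj_apply, MulAut.conj_apply]
      exact conj2_eq h.amb.t2 g)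
    (fun g => by
      rw [MulAut.conj_apply, MulAut.conj_apply, MulAut.conj_apply]
      exact conj_rel_eq h.amb.rel g)
    C hC6 hσC hτC k hσk hτk
  rw [MulAut.conj_apply] at hσx hτx
  have hxK : x ∈ K := by
    have : x = k * (k⁻¹ * x) := by group
    rw [this]
    exact K.mul_mem hk (hCK hx)
  have hx1 : x = 1 := h.fpf x hxK hσx hτx
  rw [hx1, mul_one] at hx
  obtain ⟨hkK, hk1⟩ := (memC _).mp hx
  have e : (⟨k⁻¹, h.kN hkK⟩ : ↥(Subgroup.normalizer (Y : Set Γ))) = (⟨k, h.kN hk⟩)⁻¹ := rfl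
  rw [e, map_inv, inv_eq_one] at hk1
  exact hk1

/-- the hypotheses of the weight lemma hold. -/
theorem whyp (h : CHyp ρ s t K Y) : WHyp h.al h.be h.PP (supp ρ Y) where
  a3 := h.al3
  b2 := h.be2
  rel := h.albe
  finP := by
    unfold PP
    exact Finite.of_surjective _ (MonoidHom.subgroupMap_surjective (dualHom E Y)
      (K.subgroupOf (Subgroup.normalizer (Y : Set Γ))))
  comm := by
    intro p hp q hq
    obtain ⟨k1, hk1, rfl⟩ := h.mem_PP.mp hp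
    obtain ⟨k2, hk2, rfl⟩ := h.mem_PP.mp hq
    have hc : k1⁻¹ * k2⁻¹ * k1 * k2 ∈ Y := by
      have := h.der _ (K.inv_mem hk1) _ (K.inv_mem hk2)
      rwa [inv_inv, inv_inv] at this
    have hcK : k1⁻¹ * k2⁻¹ * k1 * k2 ∈ K := h.le hc
    have e : (⟨k1, h.kN hk1⟩ * ⟨k2, h.kN hk2⟩ : ↥(Subgroup.normalizer (Y : Set Γ)))
        = ⟨k2, h.kN hk2⟩ * ⟨k1, h.kN hk1⟩ * ⟨k1⁻¹ * k2⁻¹ * k1 * k2, h.kN hcK⟩ := by
      apply Subtype.ext
      show k1 * k2 = k2 * k1 * (k1⁻¹ * k2⁻¹ * k1 * k2)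
      group
    rw [← map_mul, e, map_mul, dualHom_of_mem E Y h.comm ⟨_, h.kN hcK⟩ hc, mul_one, map_mul]
  cop := by
    unfold PP
    apply Nat.Coprime.coprime_dvd_left (Subgroup.card_map_dvd _ _)
    rw [Nat.card_congr (Subgroup.subgroupOfEquivOfLe
      (fun k hk => h.kN hk : K ≤ Subgroup.normalizer (Y : Set Γ))).toEquiv]
    exact h.cop
  aP := by
    intro p hp
    obtain ⟨k, hk, rfl⟩ := h.mem_PP.mp hp
    rw [h.al_conj hk]
    exact h.mem_PP.mpr ⟨_, h.invK.1 k hk, rfl⟩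
  bP := by
    intro p hp
    obtain ⟨k, hk, rfl⟩ := h.mem_PP.mp hp
    rw [h.be_conj hk]
    exact h.mem_PP.mpr ⟨_, h.invK.2 k hk, rfl⟩
  sq := h.sq
  fixΛ := h.fixΛ
  fixP := h.fixP
  aS := fun χ hχ => dual_mem_supp ρ Y _ hχ
  bS := fun χ hχ => dual_mem_supp ρ Y _ hχ
  pS := by
    intro p hp χ hχ
    obtain ⟨k, hk, rfl⟩ := h.mem_PP.mp hp
    exact dual_mem_supp ρ Y _ hχ
  typ := fun χ hχ _ => h.typ χ hχ

/-- **an invariant abelian normal subgroup with abelian quotient is central.** -/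
theorem central [IsAlgClosed E] [FiniteDimensional E U] (h : CHyp ρ s t K Y) :
    ∀ k ∈ K, ∀ y ∈ Y, k * y = y * k := by
  intro k hk y hy
  have hW := h.whyp
  have hfix : ∀ χ ∈ supp ρ Y, dualHom E Y ⟨k, h.kN hk⟩ χ = χ :=
    fun χ hχ => hW.fix_all (h.mem_PP.mpr ⟨k, hk, rfl⟩) hχ
  have hy' : k⁻¹ * y * k ∈ Y := by
    have := h.normal _ (K.inv_mem hk) y hy
    rwa [inv_inv] at this
  have hρ : ρ (k⁻¹ * y * k) = ρ y := by
    apply ext_of_wt ρ Y h.comm h.inv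
    intro χ u hu
    by_cases hbot : wt ρ Y χ = ⊥
    · rw [hbot, Submodule.mem_bot] at hu
      rw [hu, map_zero, map_zero]
    rw [rho_apply_of_mem_wt ρ Y hu hy', rho_apply_of_mem_wt ρ Y hu hy]
    have := congrArg (fun ψ : ↥Y →* Eˣ => ψ ⟨y, hy⟩) (hfix χ hbot)
    simp only [dualHom_apply' E Y ⟨k, h.kN hk⟩ χ ⟨y, hy⟩ hy'] at this
    rw [this]
  have h1 : ρ (k⁻¹ * y * k * y⁻¹) = 1 := by
    rw [map_mul, hρ, ← map_mul, mul_inv_cancel, map_one]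
  have h2 := h.amb.faithful _ h1
  have h3 : k⁻¹ * y * k = y := by
    calc k⁻¹ * y * k = (k⁻¹ * y * k * y⁻¹) * y := by group
      _ = y := by rw [h2, one_mul]
  calc k * y = k * (k⁻¹ * y * k) := by rw [h3]
    _ = y * k := by group

end CHyp

end Central

end Cfsg.Agent.Lib.Helper7.S3W
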