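import Mathlib
import Cfsg.Agent.Lib.Helper7.S3Central
import Cfsg.Agent.Lib.Helper10.XRepLin2

/-!
# The key proposition: an invariant `ℓ'`-subgroup is abelian

In the ambient situation `Amb ρ s t` over an algebraically closed field of characteristic `ℓ`,
an `⟨s,t⟩`-invariant solvable subgroup `K` of order prime to `6ℓ` with `C_K(s,t) = 1` is abelian.
-/

set_option autoImplicit false

namespace Cfsg.Agent.Lib.Helper7.S3W

open Cfsg Cfsg.Agent.Lib.Helper10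

section Tools

variable {Γ : Type*} [Group Γ]

/-- a subgroup generated by pairwise commuting elements is abelian. -/
theorem comm_of_closure {S : Set Γ} (hS : ∀ a ∈ S, ∀ b ∈ S, a * b = b * a) :
    ∀ a ∈ Subgroup.closure S, ∀ b ∈ Subgroup.closure S, a * b = b * a := by
  have h1 : Subgroup.closure S ≤ Subgroup.centralizer S := by
    rw [Subgroup.closure_le]
    intro a ha
    rw [SetLike.mem_coe, Subgroup.mem_centralizer_iff]
    intro b hb
    exact hS b hb a ha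
  have h2 : Subgroup.closure S ≤ Subgroup.centralizer (Subgroup.closure S : Set Γ) := by
    rw [Subgroup.closure_le]
    intro b hb
    rw [SetLike.mem_coe, Subgroup.mem_centralizer_iff]
    intro a ha
    have := Subgroup.mem_centralizer_iff.mp (h1 ha) b hb
    exact this.symm
  intro a ha b hb
  exact (Subgroup.mem_centralizer_iff.mp (h2 hb) a ha)

theorem Inv.sup {s t : Γ} {A B : Subgroup Γ} (hA : Inv s t A) (hB : Inv s t B) :
    Inv s t (A ⊔ B) := by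
  constructor
  · have : A ⊔ B ≤ (A ⊔ B).comap (MulAut.conj s).toMonoidHom := by
      apply sup_le
      · intro a ha
        exact (le_sup_left : A ≤ A ⊔ B) (by simpa using hA.1 a ha)
      · intro a ha
        exact (le_sup_right : B ≤ A ⊔ B) (by simpa using hB.1 a ha)
    intro k hk
    simpa using this hk
  · have : A ⊔ B ≤ (A ⊔ B).comap (MulAut.conj t).toMonoidHom := by
      apply sup_le
      · intro a ha
        exact (le_sup_left : A ≤ A ⊔ B) (by simpa using hA.2 a ha)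
      · intro a ha
        exact (le_sup_right : B ≤ A ⊔ B) (by simpa using hB.2 a ha)
    intro k hk
    simpa using this hk

theorem Inv.closure {s t : Γ} {S : Set Γ} {X : Subgroup Γ} (hX : Subgroup.closure S ≤ X)
    (hs : ∀ a ∈ S, s * a * s⁻¹ ∈ X) (ht : ∀ a ∈ S, t * a * t⁻¹ ∈ X) :
    (∀ k ∈ Subgroup.closure S, s * k * s⁻¹ ∈ X) ∧ (∀ k ∈ Subgroup.closure S, t * k * t⁻¹ ∈ X) := by
  constructor
  · have : Subgroup.closure S ≤ X.comap (MulAut.conj s).toMonoidHom := by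
      rw [Subgroup.closure_le]
      intro a ha
      simpa using hs a ha
    intro k hk
    simpa using this hk
  · have : Subgroup.closure S ≤ X.comap (MulAut.conj t).toMonoidHom := by
      rw [Subgroup.closure_le]
      intro a ha
      simpa using ht a ha
    intro k hk
    simpa using this hk

/-- the derived subgroup of an invariant subgroup is invariant. -/
theorem Inv.commutator {s t : Γ} {A : Subgroup Γ} (hA : Inv s t A) : Inv s t ⁅A, A⁆ := by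
  constructor
  · have : ⁅A, A⁆ ≤ (⁅A, A⁆).comap (MulAut.conj s).toMonoidHom := by
      rw [Subgroup.commutator_le]
      intro a ha b hb
      rw [Subgroup.mem_comap, map_commutatorElement]
      exact Subgroup.commutator_mem_commutator (by simpa using hA.1 a ha) (by simpa using hA.1 b hb)
    intro k hk
    simpa using this hk
  · have : ⁅A, A⁆ ≤ (⁅A, A⁆).comap (MulAut.conj t).toMonoidHom := by
      rw [Subgroup.commutator_le]
      intro a ha b hb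
      rw [Subgroup.mem_comap, map_commutatorElement]
      exact Subgroup.commutator_mem_commutator (by simpa using hA.2 a ha) (by simpa using hA.2 b hb)
    intro k hk
    simpa using this hk

end Tools

section Lin

universe u v w

variable {E : Type v} [Field E] [IsAlgClosed E] {H : Type u} [Group H] [Finite H]
  {U₀ : Type w} [AddCommGroup U₀] [Module E U₀] [FiniteDimensional E U₀]

/-- the linear theorem of helper10, for a representation that need not be faithful and a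
normal subgroup of order prime to the characteristic. -/
theorem linThm2' (ρ : H →* Module.End E U₀)
    {ℓ r : ℕ} [CharP E ℓ] (hℓ : ℓ.Prime) (hr : r.Prime) (hrℓ : r ≠ ℓ)
    (K : Subgroup H) [K.Normal] (hKsolv : Group.IsSolvable K) (hKodd : Odd (Nat.card K))
    (hℓK : ¬ ℓ ∣ Nat.card K) (hrK : ¬ r ∣ Nat.card K)
    (x : H) (hxr : x ^ r = 1) (hfix : ∀ u, ρ x u = u → u = 0) :
    ∀ k ∈ K, ρ x * ρ k = ρ k * ρ x := by
  let π : H →* H ⧸ ρ.ker := QuotientGroup.mk' ρ.ker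
  let ρ' : H ⧸ ρ.ker →* Module.End E U₀ := QuotientGroup.lift ρ.ker ρ (fun g hg => hg)
  have hρ' : ∀ g : H, ρ' (π g) = ρ g := fun g => rfl
  have hinj : ∀ y : H ⧸ ρ.ker, ρ' y = 1 → y = 1 := by
    intro y hy
    obtain ⟨g, rfl⟩ := QuotientGroup.mk'_surjective ρ.ker y
    rw [hρ'] at hy
    exact (QuotientGroup.eq_one_iff g).mpr (MonoidHom.mem_ker.mpr hy)
  have hsurj : Function.Surjective π := QuotientGroup.mk'_surjective ρ.ker
  haveI : (K.map π).Normal := Subgroup.Normal.map inferInstance π hsurj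
  have hdvd : Nat.card (K.map π) ∣ Nat.card K := Subgroup.card_map_dvd _ _
  have hsolv : Group.IsSolvable (K.map π) :=
    haveI := hKsolv
    Group.isSolvable_of_surjective (MonoidHom.subgroupMap_surjective π K)
  have hodd : Odd (Nat.card (K.map π)) := by
    obtain ⟨m, hm⟩ := hdvd
    rw [hm] at hKodd
    exact (Nat.odd_mul.mp hKodd).1
  have hcore : pCore ℓ ↥(K.map π) = ⊥ := by
    have hP := Cfsg.Agent.Lib.Helper1.pCore_isPGroup (G := ↥(K.map π)) ℓ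
    haveI : Fact ℓ.Prime := ⟨hℓ⟩
    obtain ⟨n, hn⟩ := hP.exists_card_eq
    have h1 : Nat.card (pCore ℓ ↥(K.map π)) ∣ Nat.card (K.map π) := Subgroup.card_subgroup_dvd_card _
    have h2 : n = 0 := by
      by_contra hn0
      apply hℓK
      apply dvd_trans _ hdvd
      apply dvd_trans _ h1
      rw [hn]
      exact dvd_pow_self ℓ hn0
    rw [h2, pow_zero] at hn
    exact Subgroup.card_eq_one.mp hn
  have hrK' : ¬ r ∣ Nat.card (K.map π) := fun h => hrK (dvd_trans h hdvd)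
  have hx1 : (π x) ^ r = 1 := by rw [← map_pow, hxr, map_one]
  have hx2 : ∀ u, ρ' (π x) u = u → u = 0 := by
    intro u hu
    rw [hρ'] at hu
    exact hfix u hu
  have key := XRep.linThm2 ρ' hinj hℓ hr hrℓ (K.map π) hsolv hodd hcore hrK' (π x) hx1 hx2
  intro k hk
  have h2 := key (π k) ⟨k, hk, rfl⟩
  have h3 := congrArg ρ' h2
  rw [map_mul, map_mul, hρ', hρ'] at h3
  exact h3

end Lin


section ClassTwo

variable {Γ : Type*} [Group Γ]

/-- in a group of class two, `[b, b⁻¹a⁻¹z] = [a, b]` for central `z`. -/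
theorem class_two_first {a b z : Γ} (hzb : z * b = b * z)
    (hca : (a * b * a⁻¹ * b⁻¹) * a = a * (a * b * a⁻¹ * b⁻¹))
    (hcb : (a * b * a⁻¹ * b⁻¹) * b = b * (a * b * a⁻¹ * b⁻¹)) :
    b * (b⁻¹ * a⁻¹ * z) * b⁻¹ * (b⁻¹ * a⁻¹ * z)⁻¹ = a * b * a⁻¹ * b⁻¹ := by
  obtain ⟨c, hc⟩ : ∃ c, c = a * b * a⁻¹ * b⁻¹ := ⟨_, rfl⟩
  rw [← hc] at hca hcb ⊢
  have hzb' : z * b⁻¹ = b⁻¹ * z := by
    calc z * b⁻¹ = b⁻¹ * (b * z) * b⁻¹ := by group
      _ = b⁻¹ * (z * b) * b⁻¹ := by rw [hzb]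
      _ = b⁻¹ * z := by group
  have h1 : b * (b⁻¹ * a⁻¹ * z) * b⁻¹ * (b⁻¹ * a⁻¹ * z)⁻¹ = a⁻¹ * (z * b⁻¹) * z⁻¹ * a * b := by
    group
  rw [h1, hzb']
  have h2 : a⁻¹ * (b⁻¹ * z) * z⁻¹ * a * b = (b * a)⁻¹ * (a * b) := by group
  rw [h2]
  have h3 : a * b = c * (b * a) := by rw [hc]; group
  have h4 : c * (b * a) = (b * a) * c := by
    rw [← mul_assoc, hcb, mul_assoc, hca, ← mul_assoc]
  rw [h3, h4]
  group

/-- in a group of class two, `[a, b⁻¹a⁻¹z] = [a, b]⁻¹` for central `z`. -/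
theorem class_two_second {a b z : Γ} (hza : z * a = a * z)
    (hcb : (a * b * a⁻¹ * b⁻¹) * b = b * (a * b * a⁻¹ * b⁻¹)) :
    a * (b⁻¹ * a⁻¹ * z) * a⁻¹ * (b⁻¹ * a⁻¹ * z)⁻¹ = (a * b * a⁻¹ * b⁻¹)⁻¹ := by
  obtain ⟨c, hc⟩ : ∃ c, c = a * b * a⁻¹ * b⁻¹ := ⟨_, rfl⟩
  rw [← hc] at hcb ⊢
  have hza' : z * a⁻¹ = a⁻¹ * z := by
    calc z * a⁻¹ = a⁻¹ * (a * z) * a⁻¹ := by group
      _ = a⁻¹ * (z * a) * a⁻¹ := by rw [hza]
      _ = a⁻¹ * z := by group
  have h1 : a * (b⁻¹ * a⁻¹ * z) * a⁻¹ * (b⁻¹ * a⁻¹ * z)⁻¹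
      = a * b⁻¹ * a⁻¹ * (z * a⁻¹) * z⁻¹ * a * b := by group
  rw [h1, hza']
  have h2 : a * b⁻¹ * a⁻¹ * (a⁻¹ * z) * z⁻¹ * a * b = b⁻¹ * (b * a * b⁻¹ * a⁻¹) * b := by group
  rw [h2]
  have h3 : b * a * b⁻¹ * a⁻¹ = c⁻¹ := by rw [hc]; group
  rw [h3]
  have h4 : c⁻¹ * b = b * c⁻¹ := by
    calc c⁻¹ * b = c⁻¹ * (b * c) * c⁻¹ := by group
      _ = c⁻¹ * (c * b) * c⁻¹ := by rw [hcb]
      _ = b * c⁻¹ := by group
  rw [mul_assoc, h4]
  group

end ClassTwo


section Key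

variable {E : Type*} [Field E] {U : Type*} [AddCommGroup U] [Module E U]
  {Γ : Type*} [Group Γ] [Finite Γ] {ρ : Γ →* Module.End E U} {s t : Γ} {ℓ : ℕ}

/-- the hypotheses of the key proposition. -/
structure KHyp (ρ : Γ →* Module.End E U) (s t : Γ) (ℓ : ℕ) (K : Subgroup Γ) : Prop where
  amb : Amb ρ s t
  invK : Inv s t K
  cop : (Nat.card K).Coprime 6
  copℓ : ¬ ℓ ∣ Nat.card K
  fpf : Fpf s t K
  solv : Group.IsSolvable K

theorem KHyp.mono {K X : Subgroup Γ} (h : KHyp ρ s t ℓ K) (hX : X ≤ K) (hinv : Inv s t X) :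
    KHyp ρ s t ℓ X where
  amb := h.amb
  invK := hinv
  cop := Nat.Coprime.coprime_dvd_left (Subgroup.card_dvd_of_le hX) h.cop
  copℓ := fun hd => h.copℓ (dvd_trans hd (Subgroup.card_dvd_of_le hX))
  fpf := fun k hk => h.fpf k (hX hk)
  solv :=
    haveI := h.solv
    Group.isSolvable_of_isSolvable_injective (Subgroup.inclusion_injective hX)

/-- the minimal configuration. -/
structure MinCfg (ρ : Γ →* Module.End E U) (s t : Γ) (ℓ : ℕ) (K₀ Y : Subgroup Γ) : Prop where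
  kh : KHyp ρ s t ℓ K₀
  nonab : ¬ ∀ a ∈ K₀, ∀ b ∈ K₀, a * b = b * a
  invY : Inv s t Y
  le : Y ≤ K₀
  ne : Y ≠ K₀
  der : ∀ a ∈ K₀, ∀ b ∈ K₀, a * b * a⁻¹ * b⁻¹ ∈ Y
  cen : ∀ k ∈ K₀, ∀ y ∈ Y, k * y = y * k
  max : ∀ X : Subgroup Γ, Y ≤ X → X ≤ K₀ → Inv s t X → X = Y ∨ X = K₀

namespace MinCfg

variable {K₀ Y : Subgroup Γ}

theorem three_not_dvd (m : MinCfg ρ s t ℓ K₀ Y) : ¬ 3 ∣ Nat.card Y := by
  intro h
  have h1 : 3 ∣ Nat.card K₀ := dvd_trans h (Subgroup.card_dvd_of_le m.le)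
  have := Nat.dvd_gcd h1 (by norm_num : 3 ∣ 6)
  rw [m.kh.cop] at this
  omega

theorem two_not_dvd (m : MinCfg ρ s t ℓ K₀ Y) : ¬ 2 ∣ Nat.card Y := by
  intro h
  have h1 : 2 ∣ Nat.card K₀ := dvd_trans h (Subgroup.card_dvd_of_le m.le)
  have := Nat.dvd_gcd h1 (by norm_num : 2 ∣ 6)
  rw [m.kh.cop] at this
  omega

/-- the centralizer of `s` in `K₀` lies in `Y`. -/
theorem Cs_le (m : MinCfg ρ s t ℓ K₀ Y) : ∀ x ∈ K₀, s * x * s⁻¹ = x → x ∈ Y := by
  let C : Subgroup Γ := K₀ ⊓ fixSub (MulAut.conj s)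
  have memC : ∀ x, x ∈ C ↔ x ∈ K₀ ∧ s * x * s⁻¹ = x := by
    intro x
    rw [Subgroup.mem_inf, mem_fixSub, MulAut.conj_apply]
  have hCinv : Inv s t C := by
    constructor
    · intro x hx
      obtain ⟨h1, h2⟩ := (memC x).mp hx
      rw [h2]
      exact hx
    · intro x hx
      obtain ⟨h1, h2⟩ := (memC x).mp hx
      refine (memC _).mpr ⟨m.kh.invK.2 x h1, ?_⟩
      have := conj_rel_eq m.kh.amb.rel x
      rw [h2] at this
      exact this
  -- `C` is abelian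
  have hCab : ∀ a ∈ C, ∀ b ∈ C, a * b = b * a := by
    let φ : ↥C →* ↥C :=
      { toFun := fun x => ⟨t * x * t⁻¹, hCinv.2 x x.2⟩
        map_one' := by
          apply Subtype.ext
          show t * ((1 : C) : Γ) * t⁻¹ = 1
          rw [Subgroup.coe_one]; group
        map_mul' := by
          intro a b
          apply Subtype.ext
          show t * ((a * b : C) : Γ) * t⁻¹ = (t * a * t⁻¹) * (t * b * t⁻¹)
          rw [Subgroup.coe_mul]; group }
    have hφ : MonoidHom.FixedPointFree φ := by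
      intro x hx
      have h1 : t * (x : Γ) * t⁻¹ = x := congrArg Subtype.val hx
      obtain ⟨h2, h3⟩ := (memC _).mp x.2
      exact Subtype.ext (m.kh.fpf _ h2 h3 h1)
    have hinv : Function.Involutive φ := by
      intro x
      apply Subtype.ext
      show t * (t * (x : Γ) * t⁻¹) * t⁻¹ = x
      exact conj2_eq m.kh.amb.t2 _
    intro a ha b hb
    have := hφ.commute_all_of_involutive hinv ⟨a, ha⟩ ⟨b, hb⟩
    exact congrArg Subtype.val this.eq
  have hXinv : Inv s t (C ⊔ Y) := hCinv.sup m.invY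
  have hXK : C ⊔ Y ≤ K₀ := sup_le inf_le_left m.le
  rcases m.max (C ⊔ Y) le_sup_right hXK hXinv with hX | hX
  · intro x hx hsx
    rw [← hX]
    exact (le_sup_left : C ≤ C ⊔ Y) ((memC x).mpr ⟨hx, hsx⟩)
  · exfalso
    apply m.nonab
    rw [← hX, Subgroup.sup_eq_closure]
    apply comm_of_closure
    intro a ha b hb
    rcases ha with ha | ha <;> rcases hb with hb | hb
    · exact hCab a ha b hb
    · exact m.cen a ((memC a).mp ha).1 b hb
    · exact (m.cen b ((memC b).mp hb).1 a ha).symm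
    · exact m.cen a (m.le ha) b hb

/-- `s` has no fixed points on `K₀ / Y`. -/
theorem lift_s (m : MinCfg ρ s t ℓ K₀ Y) : ∀ k ∈ K₀, k⁻¹ * (s * k * s⁻¹) ∈ Y → k ∈ Y := by
  intro k hk hky
  obtain ⟨x, hx1, hx2⟩ := exists_fixed_in_coset_three (MulAut.conj s)
    (fun g => by
      rw [MulAut.conj_apply, MulAut.conj_apply, MulAut.conj_apply]
      exact conj3_eq m.kh.amb.s3 g)
    Y m.three_not_dvd
    (fun n hn => by rw [MulAut.conj_apply]; exact m.invY.1 n hn) k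
    (by rw [MulAut.conj_apply]; exact hky)
  rw [MulAut.conj_apply] at hx2
  have hxK : x ∈ K₀ := by
    have : x = k * (k⁻¹ * x) := by group
    rw [this]
    exact K₀.mul_mem hk (m.le hx1)
  have hxY := m.Cs_le x hxK hx2
  have : k = x * (k⁻¹ * x)⁻¹ := by group
  rw [this]
  exact Y.mul_mem hxY (Y.inv_mem hx1)

/-- an involution normalizing `K₀` and `Y` whose centralizer in `K₀` lies in `Y` inverts
`K₀ / Y`. -/
theorem inverts_of_invol (m : MinCfg ρ s t ℓ K₀ Y) (τ : Γ) (hτ2 : τ * τ = 1)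
    (hτK : ∀ k ∈ K₀, τ * k * τ⁻¹ ∈ K₀) (hτY : ∀ y ∈ Y, τ * y * τ⁻¹ ∈ Y)
    (hC : ∀ x ∈ K₀, τ * x * τ⁻¹ = x → x ∈ Y) : ∀ k ∈ K₀, k * (τ * k * τ⁻¹) ∈ Y := by
  intro k hk
  have hgK : k * (τ * k * τ⁻¹) ∈ K₀ := K₀.mul_mem hk (hτK k hk)
  have hg : (k * (τ * k * τ⁻¹))⁻¹ * (τ * (k * (τ * k * τ⁻¹)) * τ⁻¹) ∈ Y := by
    have e : (k * (τ * k * τ⁻¹))⁻¹ * (τ * (k * (τ * k * τ⁻¹)) * τ⁻¹)
        = (τ * k * τ⁻¹)⁻¹ * k⁻¹ * (τ * k * τ⁻¹)⁻¹⁻¹ * k⁻¹⁻¹ := by
      have e2 : τ * (k * (τ * k * τ⁻¹)) * τ⁻¹ = (τ * k * τ⁻¹) * (τ * (τ * k * τ⁻¹) * τ⁻¹) := by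
        group
      rw [e2, conj2_eq hτ2 k]
      group
    rw [e]
    exact m.der _ (K₀.inv_mem (hτK k hk)) _ (K₀.inv_mem hk)
  obtain ⟨x, hx1, hx2⟩ := exists_fixed_in_coset_two (MulAut.conj τ)
    (fun g => by
      rw [MulAut.conj_apply, MulAut.conj_apply]
      exact conj2_eq hτ2 g)
    Y m.two_not_dvd
    (fun n hn => by rw [MulAut.conj_apply]; exact hτY n hn) (k * (τ * k * τ⁻¹))
    (by rw [MulAut.conj_apply]; exact hg)
  rw [MulAut.conj_apply] at hx2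
  have hxK : x ∈ K₀ := by
    have : x = (k * (τ * k * τ⁻¹)) * ((k * (τ * k * τ⁻¹))⁻¹ * x) := by group
    rw [this]
    exact K₀.mul_mem hgK (m.le hx1)
  have hxY := hC x hxK hx2
  have : k * (τ * k * τ⁻¹) = x * ((k * (τ * k * τ⁻¹))⁻¹ * x)⁻¹ := by group
  rw [this]
  exact Y.mul_mem hxY (Y.inv_mem hx1)

/-- there is an element of `K₀` outside `Y` fixed by `t`. -/
theorem exists_g0 (m : MinCfg ρ s t ℓ K₀ Y) : ∃ g ∈ K₀, g ∉ Y ∧ t * g * t⁻¹ = g := by
  by_contra hcon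
  push Not at hcon
  have hCt : ∀ x ∈ K₀, t * x * t⁻¹ = x → x ∈ Y := by
    intro x hx hfix
    by_contra hxY
    exact hcon x hx hxY hfix
  have h3 := m.kh.amb.s3
  have h2 := m.kh.amb.t2
  have hrel := m.kh.amb.rel
  have hst : s⁻¹ * t * s = s * t := by
    calc s⁻¹ * t * s = s⁻¹ * (t * s) := by group
      _ = s⁻¹ * (s⁻¹ * t) := by rw [ts_eq hrel]
      _ = (s⁻¹ * s⁻¹) * t := by group
      _ = s * t := by
          congr 1
          rw [s_inv h3]
          calc s * s * (s * s) = (s * s * s) * s := by group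
            _ = s := by rw [h3, one_mul]
  have hst2 : (s * t) * (s * t) = 1 := by
    calc (s * t) * (s * t) = s * (t * s) * t := by group
      _ = s * (s⁻¹ * t) * t := by rw [ts_eq hrel]
      _ = t * t := by group
      _ = 1 := h2
  have hCst : ∀ x ∈ K₀, (s * t) * x * (s * t)⁻¹ = x → x ∈ Y := by
    intro x hx hfix
    have h4 : t * (s * x * s⁻¹) * t⁻¹ = s * x * s⁻¹ := by
      calc t * (s * x * s⁻¹) * t⁻¹ = s * ((s⁻¹ * t * s) * x * (s⁻¹ * t * s)⁻¹) * s⁻¹ := by group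
        _ = s * x * s⁻¹ := by rw [hst, hfix]
    have h5 := hCt _ (m.kh.invK.1 x hx) h4
    have h6 := m.invY.1 _ (m.invY.1 _ h5)
    rwa [conj3_eq h3] at h6
  have hi1 := m.inverts_of_invol t h2 m.kh.invK.2 m.invY.2 hCt
  have hi2 := m.inverts_of_invol (s * t) hst2
    (fun k hk => by
      have := m.kh.invK.1 _ (m.kh.invK.2 k hk)
      have e : s * t * k * (s * t)⁻¹ = s * (t * k * t⁻¹) * s⁻¹ := by group
      rw [e]; exact this)
    (fun k hk => by
      have := m.invY.1 _ (m.invY.2 k hk)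
      have e : s * t * k * (s * t)⁻¹ = s * (t * k * t⁻¹) * s⁻¹ := by group
      rw [e]; exact this)
    hCst
  apply m.ne
  apply le_antisymm m.le
  intro k hk
  have ha : t * k * t⁻¹ ∈ K₀ := m.kh.invK.2 k hk
  have h4 : (t * k * t⁻¹)⁻¹ * (s * (t * k * t⁻¹) * s⁻¹) ∈ Y := by
    have e : (t * k * t⁻¹)⁻¹ * (s * (t * k * t⁻¹) * s⁻¹)
        = (k * (t * k * t⁻¹))⁻¹ * (k * (s * t * k * (s * t)⁻¹)) := by group
    rw [e]
    exact Y.mul_mem (Y.inv_mem (hi1 k hk)) (hi2 k hk)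
  have h5 := m.lift_s _ ha h4
  have h6 := m.invY.2 _ h5
  rwa [conj2_eq h2] at h6

/-- the basic commutator. -/
theorem exists_c (m : MinCfg ρ s t ℓ K₀ Y) :
    ∃ g₀ ∈ K₀, ∃ c ∈ Y, c = g₀ * (s * g₀ * s⁻¹) * g₀⁻¹ * (s * g₀ * s⁻¹)⁻¹ ∧ c ≠ 1 ∧
      s * c * s⁻¹ = c ∧ t * c * t⁻¹ = c⁻¹ := by
  obtain ⟨g₀, hg₀, hg₀Y, htg₀⟩ := m.exists_g0
  have h3 := m.kh.amb.s3
  have h2 := m.kh.amb.t2
  have hrel := m.kh.amb.rel
  obtain ⟨g₁, hg₁⟩ : ∃ g₁, g₁ = s * g₀ * s⁻¹ := ⟨_, rfl⟩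
  obtain ⟨g₂, hg₂⟩ : ∃ g₂, g₂ = s * g₁ * s⁻¹ := ⟨_, rfl⟩
  have hg₁K : g₁ ∈ K₀ := by rw [hg₁]; exact m.kh.invK.1 _ hg₀
  have hg₂K : g₂ ∈ K₀ := by rw [hg₂]; exact m.kh.invK.1 _ hg₁K
  have hsg₂ : s * g₂ * s⁻¹ = g₀ := by rw [hg₂, hg₁]; exact conj3_eq h3 g₀
  have htg₁ : t * g₁ * t⁻¹ = g₂ := by
    rw [hg₂, hg₁]
    calc t * (s * g₀ * s⁻¹) * t⁻¹ = (t * s) * g₀ * (t * s)⁻¹ := by group
      _ = (s⁻¹ * t) * g₀ * (s⁻¹ * t)⁻¹ := by rw [ts_eq hrel]
      _ = s⁻¹ * (t * g₀ * t⁻¹) * s := by group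
      _ = s⁻¹ * g₀ * s := by rw [htg₀]
      _ = (s * s) * g₀ * (s * s)⁻¹ := by rw [← s_inv h3, inv_inv]
      _ = s * (s * g₀ * s⁻¹) * s⁻¹ := by group
  have htg₂ : t * g₂ * t⁻¹ = g₁ := by
    rw [← htg₁]
    exact conj2_eq h2 g₁
  -- the norm lies in `Y`
  obtain ⟨n, hn⟩ : ∃ n, n = g₀ * g₁ * g₂ := ⟨_, rfl⟩
  have hnK : n ∈ K₀ := by rw [hn]; exact K₀.mul_mem (K₀.mul_mem hg₀ hg₁K) hg₂K
  have hnY : n ∈ Y := by
    apply m.lift_s n hnK
    have e : n⁻¹ * (s * n * s⁻¹) = (g₁ * g₂)⁻¹ * g₀⁻¹ * (g₁ * g₂)⁻¹⁻¹ * g₀⁻¹⁻¹ := by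
      have e1 : s * n * s⁻¹ = (s * g₀ * s⁻¹) * (s * g₁ * s⁻¹) * (s * g₂ * s⁻¹) := by
        rw [hn]; group
      rw [e1, hsg₂, ← hg₁, ← hg₂, hn]
      group
    rw [e]
    exact m.der _ (K₀.inv_mem (K₀.mul_mem hg₁K hg₂K)) _ (K₀.inv_mem hg₀)
  have hg₂' : g₂ = g₁⁻¹ * g₀⁻¹ * n := by rw [hn]; group
  -- the subgroup generated by `g₀, g₁, Y` is `K₀`
  have hS : Subgroup.closure (({g₀, g₁} : Set Γ) ∪ (Y : Set Γ)) ≤ K₀ := by
    rw [Subgroup.closure_le]
    rintro x (hx | hx)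
    · rcases hx with rfl | hx
      · exact hg₀
      · rw [Set.mem_singleton_iff] at hx
        rw [hx]; exact hg₁K
    · exact m.le hx
  have hg₀X : g₀ ∈ Subgroup.closure (({g₀, g₁} : Set Γ) ∪ (Y : Set Γ)) :=
    Subgroup.subset_closure (Or.inl (Or.inl rfl))
  have hg₁X : g₁ ∈ Subgroup.closure (({g₀, g₁} : Set Γ) ∪ (Y : Set Γ)) :=
    Subgroup.subset_closure (Or.inl (Or.inr rfl))
  have hYX : Y ≤ Subgroup.closure (({g₀, g₁} : Set Γ) ∪ (Y : Set Γ)) := by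
    intro y hy
    exact Subgroup.subset_closure (Or.inr hy)
  have hg₂X : g₂ ∈ Subgroup.closure (({g₀, g₁} : Set Γ) ∪ (Y : Set Γ)) := by
    rw [hg₂']
    exact Subgroup.mul_mem _ (Subgroup.mul_mem _ (Subgroup.inv_mem _ hg₁X)
      (Subgroup.inv_mem _ hg₀X)) (hYX hnY)
  have hXinv : Inv s t (Subgroup.closure (({g₀, g₁} : Set Γ) ∪ (Y : Set Γ))) := by
    apply Inv.closure le_rfl
    · rintro x (hx | hx)
      · rcases hx with rfl | hx
        · rw [← hg₁]; exact hg₁X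
        · rw [Set.mem_singleton_iff] at hx
          rw [hx, ← hg₂]; exact hg₂X
      · exact hYX (m.invY.1 x hx)
    · rintro x (hx | hx)
      · rcases hx with rfl | hx
        · rw [htg₀]; exact hg₀X
        · rw [Set.mem_singleton_iff] at hx
          rw [hx, htg₁]; exact hg₂X
      · exact hYX (m.invY.2 x hx)
  have hX : Subgroup.closure (({g₀, g₁} : Set Γ) ∪ (Y : Set Γ)) = K₀ := by
    rcases m.max _ hYX hS hXinv with h | h
    · exfalso
      apply hg₀Y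
      rw [← h]
      exact hg₀X
    · exact h
  obtain ⟨c, hc⟩ : ∃ c, c = g₀ * g₁ * g₀⁻¹ * g₁⁻¹ := ⟨_, rfl⟩
  have hcY : c ∈ Y := by rw [hc]; exact m.der _ hg₀ _ hg₁K
  have hc1 : c ≠ 1 := by
    intro hc1
    apply m.nonab
    rw [← hX]
    apply comm_of_closure
    have h01 : g₀ * g₁ = g₁ * g₀ := by
      calc g₀ * g₁ = (g₀ * g₁ * g₀⁻¹ * g₁⁻¹) * (g₁ * g₀) := by group
        _ = g₁ * g₀ := by rw [← hc, hc1, one_mul]
    intro a ha b hb
    rcases ha with ha | ha <;> rcases hb with hb | hb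
    · rcases ha with rfl | ha <;> rcases hb with rfl | hb
      · rfl
      · rw [Set.mem_singleton_iff] at hb
        rw [hb]; exact h01
      · rw [Set.mem_singleton_iff] at ha
        rw [ha]; exact h01.symm
      · rw [Set.mem_singleton_iff] at ha hb
        rw [ha, hb]
    · have haK : a ∈ K₀ := by
        rcases ha with rfl | ha
        · exact hg₀
        · rw [Set.mem_singleton_iff] at ha
          rw [ha]; exact hg₁K
      exact m.cen a haK b hb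
    · have hbK : b ∈ K₀ := by
        rcases hb with rfl | hb
        · exact hg₀
        · rw [Set.mem_singleton_iff] at hb
          rw [hb]; exact hg₁K
      exact (m.cen b hbK a ha).symm
    · exact m.cen a (m.le ha) b hb
  have hca : c * g₀ = g₀ * c := (m.cen g₀ hg₀ c hcY).symm
  have hcb : c * g₁ = g₁ * c := (m.cen g₁ hg₁K c hcY).symm
  have hna : n * g₀ = g₀ * n := (m.cen g₀ hg₀ n hnY).symm
  have hnb : n * g₁ = g₁ * n := (m.cen g₁ hg₁K n hnY).symm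
  refine ⟨g₀, hg₀, c, hcY, ?_, hc1, ?_, ?_⟩
  · rw [hc, hg₁]
  · calc s * c * s⁻¹ = (s * g₀ * s⁻¹) * (s * g₁ * s⁻¹) * (s * g₀ * s⁻¹)⁻¹ * (s * g₁ * s⁻¹)⁻¹ := by
          rw [hc]; group
      _ = g₁ * g₂ * g₁⁻¹ * g₂⁻¹ := by rw [← hg₁, ← hg₂]
      _ = g₁ * (g₁⁻¹ * g₀⁻¹ * n) * g₁⁻¹ * (g₁⁻¹ * g₀⁻¹ * n)⁻¹ := by rw [← hg₂']
      _ = g₀ * g₁ * g₀⁻¹ * g₁⁻¹ := class_two_first hnb (by rw [← hc]; exact hca)
          (by rw [← hc]; exact hcb)
      _ = c := hc.symm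
  · calc t * c * t⁻¹ = (t * g₀ * t⁻¹) * (t * g₁ * t⁻¹) * (t * g₀ * t⁻¹)⁻¹ * (t * g₁ * t⁻¹)⁻¹ := by
          rw [hc]; group
      _ = g₀ * g₂ * g₀⁻¹ * g₂⁻¹ := by rw [htg₀, htg₁]
      _ = g₀ * (g₁⁻¹ * g₀⁻¹ * n) * g₀⁻¹ * (g₁⁻¹ * g₀⁻¹ * n)⁻¹ := by rw [← hg₂']
      _ = (g₀ * g₁ * g₀⁻¹ * g₁⁻¹)⁻¹ := class_two_second hna (by rw [← hc]; exact hcb)
      _ = c⁻¹ := by rw [hc]

theorem abY (m : MinCfg ρ s t ℓ K₀ Y) : ∀ a ∈ Y, ∀ b ∈ Y, a * b = b * a :=
  fun a ha b hb => m.cen a (m.le ha) b hb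

theorem cardY_ne [CharP E ℓ] (m : MinCfg ρ s t ℓ K₀ Y) : (Nat.card Y : E) ≠ 0 := by
  intro h
  rw [CharP.cast_eq_zero_iff E ℓ] at h
  exact m.kh.copℓ (dvd_trans h (Subgroup.card_dvd_of_le m.le))

theorem chyp [CharP E ℓ] (m : MinCfg ρ s t ℓ K₀ Y) : CHyp ρ s t K₀ Y where
  amb := m.kh.amb
  invK := m.kh.invK
  invY := m.invY
  le := m.le
  normal := by
    intro k hk y hy
    have : k * y * k⁻¹ = y := by rw [m.cen k hk y hy]; group
    rw [this]
    exact hy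
  cop := m.kh.cop
  fpf := m.kh.fpf
  comm := m.abY
  inv := m.cardY_ne
  der := m.der

/-- the stabilizer of a subspace. -/
def stabSub (ρ : Γ →* Module.End E U) (W : Submodule E U) : Subgroup Γ where
  carrier := {g | ∀ u, ρ g u ∈ W ↔ u ∈ W}
  one_mem' := by
    intro u
    rw [map_one, Module.End.one_apply]
  mul_mem' := by
    intro a b ha hb u
    rw [map_mul, Module.End.mul_apply, ha, hb]
  inv_mem' := by
    intro a ha u
    rw [← ha (ρ a⁻¹ u), rho_mul_inv]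

theorem mem_stabSub {W : Submodule E U} {g : Γ} :
    g ∈ stabSub ρ W ↔ ∀ u, ρ g u ∈ W ↔ u ∈ W := Iff.rfl

omit [Finite Γ] in
/-- an element fixing a weight stabilizes its weight space. -/
theorem mem_stabSub_wt (g : ↥(Subgroup.normalizer (Y : Set Γ))) {ζ : ↥Y →* Eˣ}
    (hg : dualHom E Y g ζ = ζ) : (g : Γ) ∈ stabSub ρ (wt ρ Y ζ) := by
  intro u
  constructor
  · intro hu
    have h1 : dualHom E Y g⁻¹ ζ = ζ := by
      rw [map_inv]
      conv_lhs => rw [← hg]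
      exact MulAut.inv_apply_self _ _ _
    have := map_wt ρ Y g⁻¹ hu
    rw [h1, Subgroup.coe_inv, rho_inv_mul] at this
    exact this
  · intro hu
    have := map_wt ρ Y g hu
    rwa [hg] at this

/-- **the minimal configuration does not exist.** -/
theorem false [IsAlgClosed E] [FiniteDimensional E U] [CharP E ℓ] (hℓ : ℓ.Prime)
    (m : MinCfg ρ s t ℓ K₀ Y) : False := by
  obtain ⟨g₀, hg₀, c, hcY, hcdef, hc1, hsc, htc⟩ := m.exists_c
  have h := m.chyp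
  have h3 := m.kh.amb.s3
  have h2 := m.kh.amb.t2
  have hrel := m.kh.amb.rel
  -- a weight nontrivial on `c`
  have hex : ∃ ζ ∈ supp ρ Y, ζ ⟨c, hcY⟩ ≠ 1 := by
    by_contra hcon
    push Not at hcon
    apply hc1
    apply m.kh.amb.faithful
    apply ext_of_wt ρ Y m.abY m.cardY_ne
    intro χ u hu
    by_cases hbot : wt ρ Y χ = ⊥
    · rw [hbot, Submodule.mem_bot] at hu
      rw [hu, map_zero, map_zero]
    rw [rho_apply_of_mem_wt ρ Y hu hcY, hcon χ hbot, Units.val_one, one_smul,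
      Module.End.one_apply]
  obtain ⟨ζ, hζS, hζc⟩ := hex
  -- reflections do not fix `ζ`
  have hrefl : ∀ x : ↥(Subgroup.normalizer (Y : Set Γ)), (x : Γ) * c * (x : Γ)⁻¹ = c⁻¹ →
      dualHom E Y x ζ ≠ ζ := by
    intro x hx hfix
    apply hζc
    have hmem : (x : Γ) * c * (x : Γ)⁻¹ ∈ Y := by rw [hx]; exact Y.inv_mem hcY
    have h4 := CHyp.char_conj x ζ hfix ⟨c, hcY⟩ hmem
    have h5 : (⟨(x : Γ) * c * (x : Γ)⁻¹, hmem⟩ : Y) = (⟨c, hcY⟩ : Y)⁻¹ := Subtype.ext hx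
    rw [h5, map_inv] at h4
    apply h.val_eq_one ζ ⟨c, hcY⟩
    have h6 : ζ ⟨c, hcY⟩ * ζ ⟨c, hcY⟩ = 1 := by
      conv_lhs => lhs; rw [← h4]
      exact inv_mul_cancel _
    calc ζ ⟨c, hcY⟩ ^ 6 = (ζ ⟨c, hcY⟩ * ζ ⟨c, hcY⟩) ^ 3 := by rw [← pow_two, ← pow_mul]
      _ = 1 := by rw [h6, one_pow]
  have hconj : ∀ x : Γ, x * c * x⁻¹ = c⁻¹ → (s * x * s⁻¹) * c * (s * x * s⁻¹)⁻¹ = c⁻¹ := by
    intro x hx
    have hsc' : s⁻¹ * c * s = c := by
      calc s⁻¹ * c * s = s⁻¹ * (s * c * s⁻¹) * s := by rw [hsc]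
        _ = c := by group
    calc (s * x * s⁻¹) * c * (s * x * s⁻¹)⁻¹ = s * (x * (s⁻¹ * c * s) * x⁻¹) * s⁻¹ := by group
      _ = s * c⁻¹ * s⁻¹ := by rw [hsc', hx]
      _ = (s * c * s⁻¹)⁻¹ := by group
      _ = c⁻¹ := by rw [hsc]
  have hβ : h.be ζ ≠ ζ := hrefl ⟨t, h.tN⟩ htc
  have hβ1 : (h.al * h.be * h.al⁻¹) ζ ≠ ζ := by
    have e : h.al * h.be * h.al⁻¹ = dualHom E Y (⟨s, h.sN⟩ * ⟨t, h.tN⟩ * ⟨s, h.sN⟩⁻¹) := by
      unfold CHyp.al CHyp.be
      rw [map_mul, map_mul, map_inv]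
    rw [e]
    exact hrefl _ (hconj t htc)
  have hβ2 : (h.al * (h.al * h.be * h.al⁻¹) * h.al⁻¹) ζ ≠ ζ := by
    have e : h.al * (h.al * h.be * h.al⁻¹) * h.al⁻¹
        = dualHom E Y (⟨s, h.sN⟩ * (⟨s, h.sN⟩ * ⟨t, h.tN⟩ * ⟨s, h.sN⟩⁻¹) * ⟨s, h.sN⟩⁻¹) := by
      unfold CHyp.al CHyp.be
      rw [map_mul, map_mul, map_mul, map_mul, map_inv]
    rw [e]
    exact hrefl _ (hconj _ (hconj t htc))
  have hα : h.al ζ = ζ := by
    rcases h.typ ζ hζS with h4 | h4 | h4 | h4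
    · exact h4
    · exact absurd h4 hβ
    · exact absurd h4 hβ1
    · exact absurd h4 hβ2
  -- `s` has no fixed vector on the weight space of `ζ`
  have hnofix : ∀ u ∈ wt ρ Y ζ, ρ s u = u → u = 0 := by
    intro u hu hsu
    have hsu' : ρ s⁻¹ u = u := by
      conv_lhs => rw [← hsu]
      exact rho_inv_mul ρ s u
    have hv : u + ρ t u = 0 := by
      apply m.kh.amb.nofix
      · rw [map_add, hsu, ← Module.End.mul_apply, ← map_mul, st_eq hrel, map_mul,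
          Module.End.mul_apply, hsu']
      · rw [map_add, ← Module.End.mul_apply (ρ t) (ρ t), ← map_mul, h2, map_one,
          Module.End.one_apply, add_comm]
    have htu : ρ t u = -u := (neg_eq_of_add_eq_zero_right hv).symm
    have h4 : ρ t u ∈ wt ρ Y ζ := by rw [htu]; exact Submodule.neg_mem _ hu
    have h5 : ρ t u ∈ wt ρ Y (h.be ζ) := map_wt ρ Y ⟨t, h.tN⟩ hu
    have hdisj := (wt_indep ρ Y m.abY).pairwiseDisjoint hβ
    have h6 : ρ t u = 0 := Submodule.disjoint_def.mp hdisj _ h5 h4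
    apply rho_injective ρ t
    rw [h6, map_zero]
  -- the group `L`
  obtain ⟨W, hW⟩ : ∃ W, W = wt ρ Y ζ := ⟨_, rfl⟩
  rw [← hW] at hnofix
  let L : Subgroup Γ := stabSub ρ W ⊓ Subgroup.normalizer (K₀ : Set Γ)
  have hsL : s ∈ L := by
    refine ⟨?_, XRep.mem_normalizer_of_conj_mem s K₀ m.kh.invK.1⟩
    rw [hW]
    exact mem_stabSub_wt ⟨s, h.sN⟩ hα
  have hKL : K₀ ≤ L := by
    intro k hk
    refine ⟨?_, Subgroup.le_normalizer hk⟩
    rw [hW]
    apply mem_stabSub_wt ⟨k, h.kN hk⟩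
    ext y
    have hy : k⁻¹ * (y : Γ) * k ∈ Y := by
      have := h.normal _ (K₀.inv_mem hk) y y.2
      rwa [inv_inv] at this
    rw [dualHom_apply' E Y ⟨k, h.kN hk⟩ ζ y hy]
    have e : (⟨k⁻¹ * (y : Γ) * k, hy⟩ : Y) = y := by
      apply Subtype.ext
      show k⁻¹ * (y : Γ) * k = y
      calc k⁻¹ * (y : Γ) * k = k⁻¹ * ((y : Γ) * k) := by group
        _ = k⁻¹ * (k * (y : Γ)) := by rw [m.cen k hk y y.2]
        _ = y := by group
    rw [e]
  have hLW : ∀ g : L, ∀ u ∈ W, (ρ.comp L.subtype) g u ∈ W := by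
    intro g u hu
    exact (mem_stabSub.mp g.2.1 u).mpr hu
  let ρL : ↥L →* Module.End E ↥W := XRep.resRep (ρ.comp L.subtype) W hLW
  have hρL : ∀ (g : L) (u : W), ((ρL g u : W) : U) = ρ (g : Γ) u := fun g u => rfl
  haveI : (K₀.subgroupOf L).Normal :=
    (Subgroup.normal_subgroupOf_iff_le_normalizer hKL).mpr inf_le_right
  have hcard : Nat.card (K₀.subgroupOf L) = Nat.card K₀ :=
    Nat.card_congr (Subgroup.subgroupOfEquivOfLe hKL).toEquiv
  have hsolv : Group.IsSolvable (K₀.subgroupOf L) :=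
    haveI := m.kh.solv
    Group.isSolvable_of_isSolvable_injective (f := (Subgroup.subgroupOfEquivOfLe hKL).toMonoidHom)
      (Subgroup.subgroupOfEquivOfLe hKL).injective
  have h2K : ¬ 2 ∣ Nat.card K₀ := by
    intro hd
    have := Nat.dvd_gcd hd (by norm_num : 2 ∣ 6)
    rw [m.kh.cop] at this
    omega
  have h3K : ¬ 3 ∣ Nat.card K₀ := by
    intro hd
    have := Nat.dvd_gcd hd (by norm_num : 3 ∣ 6)
    rw [m.kh.cop] at this
    omega
  have h3ℓ : 3 ≠ ℓ := by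
    rintro rfl
    -- the characteristic is not 3 since `s` has no fixed vector... use `hnofix` differently:
    -- a unipotent element has a fixed vector; here simply: `ρ s` has order 3 in characteristic 3
    obtain ⟨u, hu, hu0⟩ := (Submodule.ne_bot_iff _).mp hζS
    rw [← hW] at hu
    -- `v = u + s u + s² u` is fixed by `s`
    have hsW : ∀ v ∈ W, ρ s v ∈ W := fun v hv => (mem_stabSub.mp hsL.1 v).mpr hv
    have hfix1 : ρ s (u + ρ s u + ρ s (ρ s u)) = u + ρ s u + ρ s (ρ s u) := by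
      have e : ρ s (ρ s (ρ s u)) = u := by
        rw [← Module.End.mul_apply, ← Module.End.mul_apply, ← map_mul, ← map_mul, h3,
          map_one, Module.End.one_apply]
      rw [map_add, map_add, e]
      abel
    have hv0 := hnofix _ (W.add_mem (W.add_mem hu (hsW u hu)) (hsW _ (hsW u hu))) hfix1
    -- `w = s u - u` satisfies `s w - w = s² u - 2 s u + u = s² u + s u + u = 0` in characteristic 3
    have h3E : (3 : E) = 0 := by
      have := CharP.cast_eq_zero E 3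
      exact_mod_cast this
    have hfix2 : ρ s (ρ s u - u) = ρ s u - u := by
      have e1 : ρ s (ρ s u) = -(u + ρ s u) := by
        rw [eq_neg_iff_add_eq_zero, add_comm]
        exact hv0
      rw [map_sub, e1]
      have e2 : (3 : E) • ρ s u = 0 := by rw [h3E, zero_smul]
      have e3 : (3 : E) • ρ s u = ρ s u + ρ s u + ρ s u := by
        rw [show (3 : E) = 1 + 1 + 1 by norm_num, add_smul, add_smul, one_smul]
      rw [e3] at e2
      have : -(u + ρ s u) - ρ s u = ρ s u - u - (ρ s u + ρ s u + ρ s u) := by abel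
      rw [this, e2, sub_zero]
    have hw0 := hnofix _ (W.sub_mem (hsW u hu) hu) hfix2
    have hsu : ρ s u = u := sub_eq_zero.mp hw0
    exact hu0 (hnofix u hu hsu)
  have hodd : Odd (Nat.card (K₀.subgroupOf L)) := by
    rw [hcard]
    exact Nat.not_even_iff_odd.mp (fun he => h2K he.two_dvd)
  have hxr : (⟨s, hsL⟩ : L) ^ 3 = 1 := by
    apply Subtype.ext
    rw [Subgroup.coe_pow, Subgroup.coe_one]
    show s ^ 3 = 1
    rw [pow_succ, pow_two, h3]
  have hfixL : ∀ u : W, ρL ⟨s, hsL⟩ u = u → u = 0 := by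
    intro u hu
    apply Subtype.ext
    have := congrArg Subtype.val hu
    rw [hρL] at this
    exact hnofix u u.2 this
  have key := linThm2' ρL hℓ Nat.prime_three h3ℓ (K₀.subgroupOf L) hsolv hodd
    (by rw [hcard]; exact m.kh.copℓ) (by rw [hcard]; exact h3K) ⟨s, hsL⟩ hxr hfixL
  -- consequences on `W`
  have hcomm : ∀ u ∈ W, ρ s (ρ g₀ u) = ρ g₀ (ρ s u) := by
    intro u hu
    have h4 := key ⟨g₀, hKL hg₀⟩ (Subgroup.mem_subgroupOf.mpr hg₀)
    have h5 := congrArg (fun f : Module.End E ↥W => ((f ⟨u, hu⟩ : W) : U)) h4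
    simpa only [Module.End.mul_apply, hρL] using h5
  have hstab : ∀ g ∈ K₀, ∀ u, ρ g u ∈ W ↔ u ∈ W := fun g hg => mem_stabSub.mp (hKL hg).1
  have hsstab : ∀ u, ρ s u ∈ W ↔ u ∈ W := mem_stabSub.mp hsL.1
  have hg₁K : s * g₀ * s⁻¹ ∈ K₀ := m.kh.invK.1 g₀ hg₀
  have h01 : ∀ u ∈ W, ρ (s * g₀ * s⁻¹) u = ρ g₀ u := by
    intro u hu
    have hu' : ρ s⁻¹ u ∈ W := by
      rw [← hsstab, rho_mul_inv]
      exact hu
    rw [map_mul, map_mul, Module.End.mul_apply, Module.End.mul_apply, hcomm _ hu', rho_mul_inv]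
  have h01' : ∀ u ∈ W, ρ (s * g₀ * s⁻¹)⁻¹ u = ρ g₀⁻¹ u := by
    intro u hu
    have hu' : ρ (s * g₀ * s⁻¹)⁻¹ u ∈ W := by
      rw [← hstab _ hg₁K, rho_mul_inv]
      exact hu
    have h4 := h01 _ hu'
    rw [rho_mul_inv] at h4
    have h5 := congrArg (ρ g₀⁻¹) h4
    rw [rho_inv_mul] at h5
    exact h5.symm
  obtain ⟨u, hu, hu0⟩ := (Submodule.ne_bot_iff _).mp hζS
  have huW : u ∈ W := by rw [hW]; exact hu
  have hcu : ρ c u = u := by
    have hu1 : ρ g₀⁻¹ u ∈ W := by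
      rw [← hstab _ hg₀, rho_mul_inv]
      exact huW
    have hu2 : ρ g₀⁻¹ (ρ g₀⁻¹ u) ∈ W := by
      rw [← hstab _ hg₀, rho_mul_inv]
      exact hu1
    rw [hcdef, map_mul, map_mul, map_mul, Module.End.mul_apply, Module.End.mul_apply,
      Module.End.mul_apply, h01' u huW, h01 _ hu2, rho_mul_inv, rho_mul_inv]
  have hcu' : ρ c u = ((ζ ⟨c, hcY⟩ : Eˣ) : E) • u := rho_apply_of_mem_wt ρ Y hu hcY
  rw [hcu] at hcu'
  have h7 : (((ζ ⟨c, hcY⟩ : Eˣ) : E) - 1) • u = 0 := by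
    rw [sub_smul, one_smul, ← hcu', sub_self]
  rcases smul_eq_zero.mp h7 with h8 | h8
  · apply hζc
    apply Units.ext
    rw [Units.val_one]
    exact sub_eq_zero.mp h8
  · exact hu0 h8

end MinCfg

/-- **the key proposition**: an invariant solvable `ℓ'`-subgroup of order prime to `6` without
fixed points of `⟨s, t⟩` is abelian. -/
theorem KHyp.abelian [IsAlgClosed E] [FiniteDimensional E U] [CharP E ℓ] (hℓ : ℓ.Prime)
    {K : Subgroup Γ} (h : KHyp ρ s t ℓ K) : ∀ a ∈ K, ∀ b ∈ K, a * b = b * a := by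
  by_contra hnon
  -- a minimal invariant nonabelian subgroup
  obtain ⟨K₀, ⟨hK₀le, hK₀inv, hK₀non⟩, hK₀min⟩ := Set.exists_min_image
    {X : Subgroup Γ | X ≤ K ∧ Inv s t X ∧ ¬ ∀ a ∈ X, ∀ b ∈ X, a * b = b * a}
    (fun X => Nat.card X) (Set.toFinite _) ⟨K, le_rfl, h.invK, hnon⟩
  have hK₀ : KHyp ρ s t ℓ K₀ := h.mono hK₀le hK₀inv
  have hmin : ∀ X : Subgroup Γ, X ≤ K₀ → Inv s t X → X ≠ K₀ →
      ∀ a ∈ X, ∀ b ∈ X, a * b = b * a := by
    intro X hX hXinv hXne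
    by_contra hXnon
    have h1 := hK₀min X ⟨hX.trans hK₀le, hXinv, hXnon⟩
    exact hXne (Subgroup.eq_of_le_of_card_ge hX h1)
  -- the derived subgroup
  have hDle : ⁅K₀, K₀⁆ ≤ K₀ := by
    rw [Subgroup.commutator_le]
    intro a ha b hb
    rw [commutatorElement_def]
    exact K₀.mul_mem (K₀.mul_mem (K₀.mul_mem ha hb) (K₀.inv_mem ha)) (K₀.inv_mem hb)
  have hDne : ⁅K₀, K₀⁆ ≠ K₀ := by
    intro hD
    haveI := hK₀.solv
    haveI : Nontrivial ↥K₀ := by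
      by_contra hnt
      rw [not_nontrivial_iff_subsingleton] at hnt
      apply hK₀non
      intro a ha b hb
      have e1 : (⟨a, ha⟩ : K₀) = 1 := Subsingleton.elim _ _
      have e2 : (⟨b, hb⟩ : K₀) = 1 := Subsingleton.elim _ _
      have e1' : a = 1 := congrArg Subtype.val e1
      have e2' : b = 1 := congrArg Subtype.val e2
      rw [e1', e2']
    have hlt := Group.IsSolvable.commutator_lt_top_of_nontrivial ↥K₀
    apply hlt.ne
    apply Subgroup.map_injective K₀.subtype_injective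
    rw [Subgroup.map_subtype_commutator, hD, ← MonoidHom.range_eq_map, Subgroup.range_subtype]
  have hDinv : Inv s t ⁅K₀, K₀⁆ := hK₀inv.commutator
  -- a maximal invariant proper subgroup containing the derived subgroup
  obtain ⟨Y, ⟨hDY, hYle, hYne, hYinv⟩, hYmax⟩ := Set.exists_max_image
    {X : Subgroup Γ | ⁅K₀, K₀⁆ ≤ X ∧ X ≤ K₀ ∧ X ≠ K₀ ∧ Inv s t X}
    (fun X => Nat.card X) (Set.toFinite _) ⟨⁅K₀, K₀⁆, le_rfl, hDle, hDne, hDinv⟩
  have hder : ∀ a ∈ K₀, ∀ b ∈ K₀, a * b * a⁻¹ * b⁻¹ ∈ Y := by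
    intro a ha b hb
    rw [← commutatorElement_def]
    exact hDY (Subgroup.commutator_mem_commutator ha hb)
  have hYab := hmin Y hYle hYinv hYne
  have hYE : (Nat.card Y : E) ≠ 0 := by
    intro h0
    rw [CharP.cast_eq_zero_iff E ℓ] at h0
    exact hK₀.copℓ (dvd_trans h0 (Subgroup.card_dvd_of_le hYle))
  have hC : CHyp ρ s t K₀ Y :=
    { amb := h.amb
      invK := hK₀inv
      invY := hYinv
      le := hYle
      normal := by
        intro k hk y hy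
        have : k * y * k⁻¹ = (k * y * k⁻¹ * y⁻¹) * y := by group
        rw [this]
        exact Y.mul_mem (hder k hk y (hYle hy)) hy
      cop := hK₀.cop
      fpf := hK₀.fpf
      comm := hYab
      inv := hYE
      der := hder }
  have hcen := hC.central
  have hmax : ∀ X : Subgroup Γ, Y ≤ X → X ≤ K₀ → Inv s t X → X = Y ∨ X = K₀ := by
    intro X hYX hXle hXinv
    by_cases hXK : X = K₀
    · exact Or.inr hXK
    · left
      have h1 := hYmax X ⟨hDY.trans hYX, hXle, hXK, hXinv⟩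
      exact (Subgroup.eq_of_le_of_card_ge hYX h1).symm
  exact MinCfg.false hℓ
    { kh := hK₀
      nonab := hK₀non
      invY := hYinv
      le := hYle
      ne := hYne
      der := hder
      cen := hcen
      max := hmax }

end Key

end Cfsg.Agent.Lib.Helper7.S3W
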