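import Mathlib
import Cfsg.Agent.Lib.Helper7.S3Key
import Cfsg.Agent.Lib.Helper7.S3Bridge

/-!
# Reduction: an irreducible `S₃`-invariant group of automorphisms of an elementary abelian group
without fixed points is abelian
-/

set_option autoImplicit false

namespace Cfsg.Agent.Lib.Helper7.S3W

open Cfsg Cfsg.Agent.Lib.Helper10

universe u

section EllFree

variable {M : Type u} [Group M] [Finite M]

/-- a nilpotent subgroup `N` of automorphisms of an `ℓ`-group `M`, normalized by a group `K`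
and by `s, t` such that `M` has no proper nontrivial subgroup invariant under `K, s, t`,
has order prime to `ℓ`. -/
theorem ell_free {ℓ : ℕ} [Fact ℓ.Prime] (hMp : IsPGroup ℓ M) (hMnt : Nontrivial M)
    (s t : MulAut M) (K : Subgroup (MulAut M))
    (hirr : ∀ W : Subgroup M, (∀ k ∈ K, ∀ w ∈ W, k w ∈ W) → (∀ w ∈ W, s w ∈ W) →
      (∀ w ∈ W, t w ∈ W) → W = ⊥ ∨ W = ⊤)
    (N : Subgroup (MulAut M)) (hKN : ∀ k ∈ K, ∀ n ∈ N, k * n * k⁻¹ ∈ N)
    (hNinv : Inv s t N) (hNnil : Group.IsNilpotent N) : ¬ ℓ ∣ Nat.card N := by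
  intro hdvd
  let P : Sylow ℓ ↥N := default
  have hPn : (P : Subgroup ↥N).Normal :=
    Sylow.normal_of_normalizerCondition Group.normalizerCondition_of_isNilpotent P
  have hPc : (P : Subgroup ↥N).Characteristic := Sylow.characteristic_of_normal P hPn
  have hPne : (P : Subgroup ↥N) ≠ ⊥ := Sylow.ne_bot_of_dvd_card P hdvd
  let L : Subgroup (MulAut M) := (P : Subgroup ↥N).map N.subtype
  have hLp : IsPGroup ℓ L := P.isPGroup'.map N.subtype
  have hLne : L ≠ ⊥ := by
    intro h
    apply hPne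
    exact (Subgroup.map_eq_bot_iff_of_injective _ N.subtype_injective).mp h
  -- invariance of `L` under elements normalizing `N`
  have hLinv : ∀ g : MulAut M, (∀ n ∈ N, g * n * g⁻¹ ∈ N) → ∀ x ∈ L, g * x * g⁻¹ ∈ L := by
    intro g hg x hx
    obtain ⟨y, hy, rfl⟩ := hx
    have hgN : g ∈ Subgroup.normalizer (N : Set (MulAut M)) :=
      XRep.mem_normalizer_of_conj_mem g N hg
    let φ : ↥N ≃* ↥N := FrobAction.conjAut N g hgN
    have h1 := hPc.fixed φ
    have h2 : φ y ∈ (P : Subgroup ↥N) := by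
      have : y ∈ (P : Subgroup ↥N).comap φ.toMonoidHom := by rw [h1]; exact hy
      exact this
    exact ⟨φ y, h2, rfl⟩
  -- the fixed points of `L`
  let W : Subgroup M :=
    { carrier := {m | ∀ l ∈ L, l m = m}
      one_mem' := fun l _ => map_one l
      mul_mem' := by
        intro a b ha hb l hl
        rw [map_mul, ha l hl, hb l hl]
      inv_mem' := by
        intro a ha l hl
        rw [map_inv, ha l hl] }
  have hWmem : ∀ m, m ∈ W ↔ ∀ l ∈ L, l m = m := fun m => Iff.rfl
  have hWne : W ≠ ⊥ := by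
    have hdvdM : ℓ ∣ Nat.card M := by
      obtain ⟨n, hn⟩ := hMp.exists_card_eq
      have hn0 : n ≠ 0 := by
        rintro rfl
        rw [pow_zero] at hn
        have := (Nat.card_eq_one_iff_unique.mp hn).1
        exact not_subsingleton M this
      rw [hn]
      exact dvd_pow_self ℓ hn0
    have h1 : (1 : M) ∈ MulAction.fixedPoints ↥L M := by
      intro l
      show (l : MulAut M) 1 = 1
      exact map_one _
    obtain ⟨b, hb, hb1⟩ := hLp.exists_fixed_point_of_prime_dvd_card_of_fixed_point M hdvdM h1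
    intro hbot
    apply hb1
    have hbW : b ∈ W := by
      intro l hl
      exact hb ⟨l, hl⟩
    rw [hbot, Subgroup.mem_bot] at hbW
    exact hbW.symm
  have hconj : ∀ g : MulAut M, (∀ x ∈ L, g⁻¹ * x * g ∈ L) → ∀ w ∈ W, g w ∈ W := by
    intro g hg w hw l hl
    have h1 := hw _ (hg l hl)
    rw [MulAut.mul_apply, MulAut.mul_apply] at h1
    have h2 := congrArg g h1
    rw [MulAut.apply_inv_self] at h2
    exact h2
  have hW1 : ∀ k ∈ K, ∀ w ∈ W, k w ∈ W := by
    intro k hk
    apply hconj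
    intro x hx
    have := hLinv k⁻¹ (hKN _ (K.inv_mem hk)) x hx
    rwa [inv_inv] at this
  have hW2 : ∀ w ∈ W, s w ∈ W := by
    apply hconj
    intro x hx
    have h1 : ∀ n ∈ N, s⁻¹ * n * s⁻¹⁻¹ ∈ N := by
      intro n hn
      have hsN : s ∈ Subgroup.normalizer (N : Set (MulAut M)) :=
        XRep.mem_normalizer_of_conj_mem s N hNinv.1
      have := (Subgroup.mem_normalizer_iff''.mp hsN n).mp hn
      rwa [inv_inv]
    have := hLinv s⁻¹ h1 x hx
    rwa [inv_inv] at this
  have hW3 : ∀ w ∈ W, t w ∈ W := by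
    apply hconj
    intro x hx
    have h1 : ∀ n ∈ N, t⁻¹ * n * t⁻¹⁻¹ ∈ N := by
      intro n hn
      have htN : t ∈ Subgroup.normalizer (N : Set (MulAut M)) :=
        XRep.mem_normalizer_of_conj_mem t N hNinv.2
      have := (Subgroup.mem_normalizer_iff''.mp htN n).mp hn
      rwa [inv_inv]
    have := hLinv t⁻¹ h1 x hx
    rwa [inv_inv] at this
  rcases hirr W hW1 hW2 hW3 with h | h
  · exact hWne h
  · apply hLne
    rw [Subgroup.eq_bot_iff_forall]
    intro l hl
    ext m
    have : m ∈ W := by rw [h]; exact Subgroup.mem_top m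
    exact this l hl

end EllFree


section Reduce

variable {ℓ : ℕ} [Fact ℓ.Prime] {M : Type u} [CommGroup M] [Finite M]
  [Module (ZMod ℓ) (Additive M)]

theorem abelian_of_irreducible_aux (hℓ6 : ℓ.Coprime 6) (hMnt : Nontrivial M)
    (hMp : IsPGroup ℓ M)
    (s t : MulAut M) (hs3 : s * s * s = 1) (ht2 : t * t = 1) (hrel : s * t * s = t)
    (hfpfM : ∀ m : M, s m = m → t m = m → m = 1)
    (K : Subgroup (MulAut M)) (hKinv : Inv s t K) (hK6 : (Nat.card K).Coprime 6)
    (hKfpf : Fpf s t K) (hKsolv : Group.IsSolvable K) (hKnil : Group.IsNilpotent ↥⁅K, K⁆)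
    (hirr : ∀ W : Subgroup M, (∀ k ∈ K, ∀ w ∈ W, k w ∈ W) → (∀ w ∈ W, s w ∈ W) →
      (∀ w ∈ W, t w ∈ W) → W = ⊥ ∨ W = ⊤) :
    ∀ a ∈ K, ∀ b ∈ K, a * b = b * a := by
  have hℓ : ℓ.Prime := Fact.out
  obtain ⟨n, R, hR⟩ := exists_ringHom (ℓ := ℓ) (M := M)
  let ρ₀ : MulAut M →* Module.End (ZMod ℓ) (Additive M) :=
    FrobAction.actEnd (MonoidHom.id (MulAut M))
  have hρ₀ : ∀ (g : MulAut M) (v : Additive M), ρ₀ g v = Additive.ofMul (g (Additive.toMul v)) :=
    fun g v => rfl
  let ρ : MulAut M →* Module.End (AlgebraicClosure (ZMod ℓ)) (Fin n → AlgebraicClosure (ZMod ℓ)) :=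
    (R : Module.End (ZMod ℓ) (Additive M) →* _).comp ρ₀
  have hρ : ∀ g, ρ g = R (ρ₀ g) := fun g => rfl
  have h6E : (6 : AlgebraicClosure (ZMod ℓ)) ≠ 0 := by
    intro h
    have h1 : ((6 : ℕ) : AlgebraicClosure (ZMod ℓ)) = 0 := by exact_mod_cast h
    rw [CharP.cast_eq_zero_iff (AlgebraicClosure (ZMod ℓ)) ℓ] at h1
    have := Nat.dvd_gcd (dvd_refl ℓ) h1
    rw [hℓ6] at this
    exact hℓ.one_lt.ne' (Nat.dvd_one.mp this)
  -- the sum over `S₃` vanishes
  have hsum0 : (1 + ρ₀ s + ρ₀ s * ρ₀ s + ρ₀ t + ρ₀ s * ρ₀ t + ρ₀ s * ρ₀ s * ρ₀ t) = 0 := by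
    have haaa : ρ₀ s * ρ₀ s * ρ₀ s = 1 := by rw [← map_mul, ← map_mul, hs3, map_one]
    have hbb : ρ₀ t * ρ₀ t = 1 := by rw [← map_mul, ht2, map_one]
    have hba : ρ₀ t * ρ₀ s = ρ₀ s * ρ₀ s * ρ₀ t := by
      rw [← map_mul, ← map_mul, ← map_mul, ts_eq hrel, s_inv hs3]
    ext v
    rw [LinearMap.zero_apply]
    obtain ⟨w, hw⟩ : ∃ w, w = (1 + ρ₀ s + ρ₀ s * ρ₀ s + ρ₀ t + ρ₀ s * ρ₀ t + ρ₀ s * ρ₀ s * ρ₀ t) v :=
      ⟨_, rfl⟩
    rw [← hw]
    have h1 : ρ₀ s w = w := by
      rw [hw, ← Module.End.mul_apply, six_sum_a haaa]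
    have h2 : ρ₀ t w = w := by
      rw [hw, ← Module.End.mul_apply, six_sum_b haaa hbb hba]
    rw [hρ₀] at h1 h2
    have h3 := hfpfM (Additive.toMul w) (congrArg Additive.toMul h1) (congrArg Additive.toMul h2)
    exact congrArg Additive.ofMul h3
  have hsum : (1 + ρ s + ρ s * ρ s + ρ t + ρ s * ρ t + ρ s * ρ s * ρ t) = 0 := by
    have := congrArg R hsum0
    simpa only [map_add, map_mul, map_one, map_zero, ← hρ] using this
  have hamb : Amb ρ s t :=
    { s3 := hs3
      t2 := ht2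
      rel := hrel
      faithful := by
        intro g hg
        rw [hρ] at hg
        have h1 : ρ₀ g = 1 := hR (by rw [hg, map_one])
        ext m
        have h2 := LinearMap.congr_fun h1 (Additive.ofMul m)
        rw [hρ₀] at h2
        exact congrArg Additive.toMul h2
      nofix := by
        intro u hsu htu
        have h1 := LinearMap.congr_fun hsum u
        simp only [LinearMap.add_apply, Module.End.mul_apply, Module.End.one_apply, htu, hsu,
          LinearMap.zero_apply] at h1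
        have h2 : (6 : AlgebraicClosure (ZMod ℓ)) • u = 0 := by
          rw [← h1]
          rw [show (6 : AlgebraicClosure (ZMod ℓ)) = 1 + 1 + 1 + 1 + 1 + 1 by norm_num]
          simp only [add_smul, one_smul]
        rcases smul_eq_zero.mp h2 with h3 | h3
        · exact absurd h3 h6E
        · exact h3 }
  -- nilpotent normal invariant subgroups of `K` have order prime to `ℓ`
  have hfree := ell_free hMp hMnt s t K hirr
  -- the derived subgroup
  have hDle : ⁅K, K⁆ ≤ K := by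
    rw [Subgroup.commutator_le]
    intro a ha b hb
    rw [commutatorElement_def]
    exact K.mul_mem (K.mul_mem (K.mul_mem ha hb) (K.inv_mem ha)) (K.inv_mem hb)
  have hDinv : Inv s t ⁅K, K⁆ := hKinv.commutator
  have hDnorm : ∀ k ∈ K, ∀ d ∈ ⁅K, K⁆, k * d * k⁻¹ ∈ ⁅K, K⁆ := by
    intro k hk d hd
    have h1 : k * d * k⁻¹ = (k * d * k⁻¹ * d⁻¹) * d := by group
    rw [h1, ← commutatorElement_def]
    exact Subgroup.mul_mem _ (Subgroup.commutator_mem_commutator hk (hDle hd)) hd
  have hDℓ : ¬ ℓ ∣ Nat.card (⁅K, K⁆ : Subgroup (MulAut M)) := hfree ⁅K, K⁆ hDnorm hDinv hKnil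
  have hKH : ∀ X : Subgroup (MulAut M), X ≤ K → Inv s t X → ¬ ℓ ∣ Nat.card X → KHyp ρ s t ℓ X := by
    intro X hX hXinv hXℓ
    exact
      { amb := hamb
        invK := hXinv
        cop := Nat.Coprime.coprime_dvd_left (Subgroup.card_dvd_of_le hX) hK6
        copℓ := hXℓ
        fpf := fun k hk => hKfpf k (hX hk)
        solv :=
          haveI := hKsolv
          Group.isSolvable_of_isSolvable_injective (Subgroup.inclusion_injective hX) }
  have hDab : ∀ a ∈ ⁅K, K⁆, ∀ b ∈ ⁅K, K⁆, a * b = b * a := (hKH _ hDle hDinv hDℓ).abelian hℓ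
  -- the derived subgroup is central
  have hC : CHyp ρ s t K ⁅K, K⁆ :=
    { amb := hamb
      invK := hKinv
      invY := hDinv
      le := hDle
      normal := hDnorm
      cop := hK6
      fpf := hKfpf
      comm := hDab
      inv := by
        intro h0
        rw [CharP.cast_eq_zero_iff (AlgebraicClosure (ZMod ℓ)) ℓ] at h0
        exact hDℓ h0
      der := by
        intro a ha b hb
        rw [← commutatorElement_def]
        exact Subgroup.commutator_mem_commutator ha hb }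
  have hcen := hC.central
  -- `K` is nilpotent
  have hKnil' : Group.IsNilpotent K := by
    apply Subgroup.isNilpotent_of_ker_le_center (Abelianization.of (G := ↥K))
    intro x hx
    rw [Abelianization.ker_of] at hx
    rw [Subgroup.mem_center_iff]
    intro g
    have h1 : (x : MulAut M) ∈ ⁅K, K⁆ := by
      rw [← Subgroup.map_subtype_commutator]
      exact ⟨x, hx, rfl⟩
    apply Subtype.ext
    rw [Subgroup.coe_mul, Subgroup.coe_mul]
    exact hcen g g.2 x h1
  have hKℓ : ¬ ℓ ∣ Nat.card K :=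
    hfree K (fun k hk n hn => K.mul_mem (K.mul_mem hk hn) (K.inv_mem hk)) hKinv hKnil'
  exact (hKH K le_rfl hKinv hKℓ).abelian hℓ

end Reduce


/-- **reduction**: a solvable group `K` of automorphisms of an elementary abelian `ℓ`-group `M`
(`ℓ ∤ 6`), of order prime to `6`, normalized by a copy `⟨s, t⟩` of `S₃` acting without fixed
points on `K` and on `M`, irreducibly together with `K`, and with nilpotent derived subgroup,
is abelian. -/
theorem abelian_of_irreducible {ℓ : ℕ} (hℓ : ℓ.Prime) (hℓ6 : ℓ.Coprime 6)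
    {M : Type u} [Group M] [Finite M] [Nontrivial M]
    (hcomm : ∀ x y : M, x * y = y * x) (hexp : ∀ x : M, x ^ ℓ = 1)
    (s t : MulAut M) (hs3 : s * s * s = 1) (ht2 : t * t = 1) (hrel : s * t * s = t)
    (hfpfM : ∀ m : M, s m = m → t m = m → m = 1)
    (K : Subgroup (MulAut M)) (hKinv : Inv s t K) (hK6 : (Nat.card K).Coprime 6)
    (hKfpf : Fpf s t K) (hKsolv : Group.IsSolvable K) (hKnil : Group.IsNilpotent ↥⁅K, K⁆)
    (hirr : ∀ W : Subgroup M, (∀ k ∈ K, ∀ w ∈ W, k w ∈ W) → (∀ w ∈ W, s w ∈ W) →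
      (∀ w ∈ W, t w ∈ W) → W = ⊥ ∨ W = ⊤) :
    ∀ a ∈ K, ∀ b ∈ K, a * b = b * a := by
  have : Fact ℓ.Prime := ⟨hℓ⟩
  let iC : CommGroup M := { (inferInstance : Group M) with mul_comm := hcomm }
  let iM : @Module (ZMod ℓ) (Additive M) _
      (@AddCommGroup.toAddCommMonoid _ (@Additive.addCommGroup _ iC)) :=
    @AddCommGroup.zmodModule ℓ (Additive M) (@Additive.addCommGroup _ iC) (by
      intro x
      show Additive.ofMul ((Additive.toMul x) ^ ℓ) = 0
      rw [hexp]
      rfl)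
  have hMp : IsPGroup ℓ M := fun g => ⟨1, by rw [pow_one]; exact hexp g⟩
  exact @abelian_of_irreducible_aux ℓ _ M iC _ iM hℓ6 inferInstance hMp s t hs3 ht2 hrel hfpfM
    K hKinv hK6 hKfpf hKsolv hKnil hirr

end Cfsg.Agent.Lib.Helper7.S3W
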