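import Mathlib
import Cfsg.Agent.Lib.Helper7.S3Reduce
import Cfsg.Agent.Lib.Helper18.FpfBasic

/-!
# Fixed-point-free action of `S₃` on a solvable group of order prime to 6: the derived subgroup
is nilpotent
-/

set_option autoImplicit false

namespace Cfsg.Agent.Lib.Helper7.S3W

open Cfsg Cfsg.Agent.Lib.Helper18.FpfFour

open scoped commutatorElement

universe u

section Quot

variable {G : Type u} [Group G] [Finite G]

/-- the image of the derived subgroup under a surjection is the derived subgroup. -/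
theorem map_commutator_of_surjective {H : Type*} [Group H] (f : G →* H)
    (hf : Function.Surjective f) : (commutator G).map f = commutator H := by
  rw [commutator_def, commutator_def, Subgroup.map_commutator,
    Subgroup.map_top_of_surjective f hf]

end Quot

section Main

/-- the main theorem, for a dihedral pair of automorphisms. -/
theorem derived_nilpotent_aux : ∀ (n : ℕ) (G : Type u) [Group G] [Finite G] (σ τ : MulAut G),
    Nat.card G = n → (∀ g, σ (σ (σ g)) = g) → (∀ g, τ (τ g) = g) → (∀ g, σ (τ (σ g)) = τ g) →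
    Group.IsSolvable G → (Nat.card G).Coprime 6 → (∀ g, σ g = g → τ g = g → g = 1) →
    Group.IsNilpotent (commutator G) := by
  intro n
  induction n using Nat.strong_induction_on with
  | _ n ih =>
  intro G _ _ σ τ hn h3 h2 hrel hsolv hcop hfpf
  rcases subsingleton_or_nontrivial G with hsub | hnt
  · exact Group.isNilpotent_of_subsingleton
  -- a minimal invariant normal subgroup
  obtain ⟨V, ⟨hVn, hσV, hτV, hVne⟩, hVmin'⟩ := Set.exists_min_image
    {N : Subgroup G | N.Normal ∧ (∀ x ∈ N, σ x ∈ N) ∧ (∀ x ∈ N, τ x ∈ N) ∧ N ≠ ⊥}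
    (fun N => Nat.card N) (Set.toFinite _)
    ⟨⊤, inferInstance, fun _ _ => Subgroup.mem_top _, fun _ _ => Subgroup.mem_top _, top_ne_bot⟩
  have hVmin : ∀ N : Subgroup G, N ≤ V → N.Normal → (∀ x ∈ N, σ x ∈ N) → (∀ x ∈ N, τ x ∈ N) →
      N = ⊥ ∨ N = V := by
    intro N hNV hNn hσN hτN
    by_cases hN : N = ⊥
    · exact Or.inl hN
    · right
      exact Subgroup.eq_of_le_of_card_ge hNV (hVmin' N ⟨hNn, hσN, hτN, hN⟩)
  haveI := hVn
  haveI : Nontrivial ↥V := (Subgroup.nontrivial_iff_ne_bot V).mpr hVne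
  -- `V` is abelian
  have hVab : ∀ a ∈ V, ∀ b ∈ V, a * b = b * a := by
    have hD : ⁅V, V⁆ = ⊥ ∨ ⁅V, V⁆ = V := by
      apply hVmin
      · exact Subgroup.commutator_le_left V V
      · exact Subgroup.commutator_normal V V
      · have : ⁅V, V⁆ ≤ (⁅V, V⁆).comap σ.toMonoidHom := by
          rw [Subgroup.commutator_le]
          intro a ha b hb
          rw [Subgroup.mem_comap, map_commutatorElement]
          exact Subgroup.commutator_mem_commutator (hσV a ha) (hσV b hb)
        intro x hx
        exact this hx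
      · have : ⁅V, V⁆ ≤ (⁅V, V⁆).comap τ.toMonoidHom := by
          rw [Subgroup.commutator_le]
          intro a ha b hb
          rw [Subgroup.mem_comap, map_commutatorElement]
          exact Subgroup.commutator_mem_commutator (hτV a ha) (hτV b hb)
        intro x hx
        exact this hx
    rcases hD with hD | hD
    · intro a ha b hb
      have h1 : ⁅a, b⁆ ∈ ⁅V, V⁆ := Subgroup.commutator_mem_commutator ha hb
      rw [hD, Subgroup.mem_bot] at h1
      exact commutatorElement_eq_one_iff_mul_comm.mp h1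
    · exfalso
      haveI : Group.IsSolvable ↥V := Group.isSolvable_of_isSolvable_injective V.subtype_injective
      have hlt := Group.IsSolvable.commutator_lt_top_of_nontrivial ↥V
      apply hlt.ne
      apply Subgroup.map_injective V.subtype_injective
      rw [Subgroup.map_subtype_commutator, hD, ← MonoidHom.range_eq_map, Subgroup.range_subtype]
  -- `V` has prime exponent
  have hVcard : Nat.card V ≠ 1 := by
    intro h
    exact hVne (Subgroup.card_eq_one.mp h)
  obtain ⟨ℓ, hℓ, hℓV⟩ := Nat.exists_prime_and_dvd hVcard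
  haveI : Fact ℓ.Prime := ⟨hℓ⟩
  have hVexp : ∀ v ∈ V, v ^ ℓ = 1 := by
    let Ω : Subgroup G :=
      { carrier := {x | x ∈ V ∧ x ^ ℓ = 1}
        one_mem' := ⟨V.one_mem, one_pow ℓ⟩
        mul_mem' := by
          rintro a b ⟨ha, ha'⟩ ⟨hb, hb'⟩
          refine ⟨V.mul_mem ha hb, ?_⟩
          rw [(show Commute a b from hVab a ha b hb).mul_pow, ha', hb', one_mul]
        inv_mem' := by
          rintro a ⟨ha, ha'⟩
          exact ⟨V.inv_mem ha, by rw [inv_pow, ha', inv_one]⟩ }
    have hΩ : Ω = ⊥ ∨ Ω = V := by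
      apply hVmin
      · intro x hx
        exact hx.1
      · constructor
        rintro x ⟨hx, hx'⟩ g
        exact ⟨hVn.conj_mem x hx g, by rw [conj_pow, hx', mul_one, mul_inv_cancel]⟩
      · rintro x ⟨hx, hx'⟩
        exact ⟨hσV x hx, by rw [← map_pow, hx', map_one]⟩
      · rintro x ⟨hx, hx'⟩
        exact ⟨hτV x hx, by rw [← map_pow, hx', map_one]⟩
    rcases hΩ with hΩ | hΩ
    · exfalso
      obtain ⟨x, hx⟩ := exists_prime_orderOf_dvd_card' (G := ↥V) ℓ hℓV
      have h1 : (x : G) ∈ Ω := by
        refine ⟨x.2, ?_⟩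
        rw [← Subgroup.coe_pow, ← hx, pow_orderOf_eq_one, Subgroup.coe_one]
      rw [hΩ, Subgroup.mem_bot] at h1
      have h2 : x = 1 := Subtype.ext h1
      rw [h2, orderOf_one] at hx
      exact hℓ.one_lt.ne hx
    · intro v hv
      have : v ∈ Ω := by rw [hΩ]; exact hv
      exact this.2
  have hℓ6 : ℓ.Coprime 6 :=
    Nat.Coprime.coprime_dvd_left (dvd_trans hℓV (Subgroup.card_subgroup_dvd_card V)) hcop
  -- the quotient `G ⧸ V`
  have hQnil : Group.IsNilpotent (commutator (G ⧸ V)) := by
    have hlt : Nat.card (G ⧸ V) < n := by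
      rw [← hn, Subgroup.card_eq_card_quotient_mul_card_subgroup V]
      have h1 : 0 < Nat.card (G ⧸ V) := Nat.card_pos
      have h2 : 1 < Nat.card V := by
        have : 0 < Nat.card V := Nat.card_pos
        omega
      nlinarith
    apply ih _ hlt (G ⧸ V) (quotAut σ V hσV) (quotAut τ V hτV) rfl
    · intro x
      induction x using QuotientGroup.induction_on with
      | H g => rw [quotAut_mk, quotAut_mk, quotAut_mk, h3]
    · intro x
      induction x using QuotientGroup.induction_on with
      | H g => rw [quotAut_mk, quotAut_mk, h2]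
    · intro x
      induction x using QuotientGroup.induction_on with
      | H g => rw [quotAut_mk, quotAut_mk, quotAut_mk, quotAut_mk, hrel]
    · exact Group.isSolvable_of_surjective (QuotientGroup.mk'_surjective V)
    · exact Nat.Coprime.coprime_dvd_left (Subgroup.card_quotient_dvd_card V) hcop
    · intro x
      induction x using QuotientGroup.induction_on with
      | H g =>
        intro hσg hτg
        rw [quotAut_mk] at hσg hτg
        have h4 : g⁻¹ * σ g ∈ V := QuotientGroup.eq.mp hσg.symm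
        have h5 : g⁻¹ * τ g ∈ V := QuotientGroup.eq.mp hτg.symm
        obtain ⟨x, hx, hσx, hτx⟩ := exists_fixed_in_coset σ τ h3 h2 hrel V
          (Nat.Coprime.coprime_dvd_left (Subgroup.card_subgroup_dvd_card V) hcop) hσV hτV g h4 h5
        have hx1 := hfpf x hσx hτx
        rw [hx1, mul_one] at hx
        exact (QuotientGroup.eq_one_iff g).mpr (by simpa using V.inv_mem hx)
  -- the action on `V`
  let ψ : G →* MulAut ↥V := MulAut.conjNormal
  have hψ : ∀ (g : G) (v : V), ((ψ g v : V) : G) = g * v * g⁻¹ := fun g v =>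
    MulAut.conjNormal_apply g v
  let s : MulAut ↥V := restrictAut σ V hσV
  let t : MulAut ↥V := restrictAut τ V hτV
  have hs : ∀ v : V, ((s v : V) : G) = σ v := fun v => rfl
  have ht : ∀ v : V, ((t v : V) : G) = τ v := fun v => rfl
  have hs3 : s * s * s = 1 := by
    ext v
    rw [MulAut.mul_apply, MulAut.mul_apply, MulAut.one_apply, hs, hs, hs, h3]
  have ht2 : t * t = 1 := by
    ext v
    rw [MulAut.mul_apply, MulAut.one_apply, ht, ht, h2]
  have hst : s * t * s = t := by
    ext v
    rw [MulAut.mul_apply, MulAut.mul_apply, hs, ht, hs, hrel, ht]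
  have hsψ : ∀ g : G, s * ψ g * s⁻¹ = ψ (σ g) := by
    intro g
    have h1 : s * ψ g = ψ (σ g) * s := by
      ext v
      rw [MulAut.mul_apply, MulAut.mul_apply, hs, hψ, hψ, hs, map_mul, map_mul, map_inv]
    rw [h1, mul_inv_cancel_right]
  have htψ : ∀ g : G, t * ψ g * t⁻¹ = ψ (τ g) := by
    intro g
    have h1 : t * ψ g = ψ (τ g) * t := by
      ext v
      rw [MulAut.mul_apply, MulAut.mul_apply, ht, hψ, hψ, ht, map_mul, map_mul, map_inv]
    rw [h1, mul_inv_cancel_right]
  have hKinv : Inv s t ψ.range := by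
    constructor
    · rintro _ ⟨g, rfl⟩
      rw [hsψ]
      exact ⟨σ g, rfl⟩
    · rintro _ ⟨g, rfl⟩
      rw [htψ]
      exact ⟨τ g, rfl⟩
  have hK6 : (Nat.card ψ.range).Coprime 6 :=
    Nat.Coprime.coprime_dvd_left (Subgroup.card_range_dvd ψ) hcop
  have hKfpf : Fpf s t ψ.range := by
    rintro _ ⟨g, rfl⟩ hsg htg
    rw [hsψ] at hsg
    rw [htψ] at htg
    have h4 : g⁻¹ * σ g ∈ ψ.ker := by
      rw [MonoidHom.mem_ker, map_mul, map_inv, hsg, inv_mul_cancel]
    have h5 : g⁻¹ * τ g ∈ ψ.ker := by
      rw [MonoidHom.mem_ker, map_mul, map_inv, htg, inv_mul_cancel]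
    obtain ⟨x, hx, hσx, hτx⟩ := exists_fixed_in_coset σ τ h3 h2 hrel ψ.ker
      (Nat.Coprime.coprime_dvd_left (Subgroup.card_subgroup_dvd_card _) hcop)
      (fun x hx => by
        rw [MonoidHom.mem_ker] at hx ⊢
        rw [← hsψ, hx, mul_one, mul_inv_cancel])
      (fun x hx => by
        rw [MonoidHom.mem_ker] at hx ⊢
        rw [← htψ, hx, mul_one, mul_inv_cancel]) g h4 h5
    have hx1 := hfpf x hσx hτx
    rw [hx1, mul_one, MonoidHom.mem_ker, map_inv, inv_eq_one] at hx
    exact hx
  have hKsolv : Group.IsSolvable ψ.range :=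
    Group.isSolvable_of_surjective ψ.rangeRestrict_surjective
  -- `V` acts trivially on itself
  have hψV : ∀ v ∈ V, ψ v = 1 := by
    intro v hv
    ext w
    rw [hψ, MulAut.one_apply, hVab v hv w w.2, mul_inv_cancel_right]
  have hKnil : Group.IsNilpotent ↥⁅ψ.range, ψ.range⁆ := by
    let ψ' : G ⧸ V →* MulAut ↥V := QuotientGroup.lift V ψ hψV
    have hψ' : ψ'.comp (QuotientGroup.mk' V) = ψ := by
      ext g
      rfl
    have e : ⁅ψ.range, ψ.range⁆ = (commutator (G ⧸ V)).map ψ' := by
      rw [← map_commutator_of_surjective (QuotientGroup.mk' V) (QuotientGroup.mk'_surjective V),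
        Subgroup.map_map, hψ', commutator_def, Subgroup.map_commutator, ← MonoidHom.range_eq_map]
    rw [e]
    haveI := hQnil
    exact Group.nilpotent_of_surjective (ψ'.subgroupMap (commutator (G ⧸ V)))
      (MonoidHom.subgroupMap_surjective ψ' _)
  have hirr : ∀ W : Subgroup ↥V, (∀ k ∈ ψ.range, ∀ w ∈ W, k w ∈ W) → (∀ w ∈ W, s w ∈ W) →
      (∀ w ∈ W, t w ∈ W) → W = ⊥ ∨ W = ⊤ := by
    intro W hW1 hW2 hW3
    have hW' : W.map V.subtype = ⊥ ∨ W.map V.subtype = V := by
      apply hVmin
      · exact Subgroup.map_subtype_le W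
      · constructor
        rintro _ ⟨w, hw, rfl⟩ g
        exact ⟨ψ g w, hW1 _ ⟨g, rfl⟩ w hw, hψ g w⟩
      · rintro _ ⟨w, hw, rfl⟩
        exact ⟨s w, hW2 w hw, hs w⟩
      · rintro _ ⟨w, hw, rfl⟩
        exact ⟨t w, hW3 w hw, ht w⟩
    rcases hW' with h | h
    · left
      exact (Subgroup.map_eq_bot_iff_of_injective _ V.subtype_injective).mp h
    · right
      apply Subgroup.map_injective V.subtype_injective
      rw [h, ← MonoidHom.range_eq_map, Subgroup.range_subtype]
  have hfpfM : ∀ m : V, s m = m → t m = m → m = 1 := by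
    intro m hsm htm
    apply Subtype.ext
    apply hfpf
    · rw [← hs, hsm]
    · rw [← ht, htm]
  have hKab := abelian_of_irreducible hℓ hℓ6
    (fun x y : V => Subtype.ext (hVab x x.2 y y.2))
    (fun x : V => Subtype.ext (by rw [Subgroup.coe_pow, hVexp x x.2, Subgroup.coe_one]))
    s t hs3 ht2 hst hfpfM ψ.range hKinv hK6 hKfpf hKsolv hKnil hirr
  -- the derived subgroup centralizes `V`
  have hGV : ∀ x ∈ commutator G, ∀ v ∈ V, x * v = v * x := by
    have h1 : commutator G ≤ ψ.ker := by
      rw [commutator_def, Subgroup.commutator_le]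
      intro a _ b _
      rw [MonoidHom.mem_ker, map_commutatorElement]
      exact commutatorElement_eq_one_iff_mul_comm.mpr (hKab _ ⟨a, rfl⟩ _ ⟨b, rfl⟩)
    intro x hx v hv
    have h2 : ψ x = 1 := MonoidHom.mem_ker.mp (h1 hx)
    have h3' := congrArg (fun f : MulAut ↥V => ((f ⟨v, hv⟩ : V) : G)) h2
    simp only [hψ, MulAut.one_apply] at h3'
    calc x * v = (x * v * x⁻¹) * x := by group
      _ = v * x := by rw [h3']
  -- conclusion
  have hmapeq := map_commutator_of_surjective (QuotientGroup.mk' V) (QuotientGroup.mk'_surjective V)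
  let f : ↥(commutator G) →* ↥(commutator (G ⧸ V)) :=
    ((QuotientGroup.mk' V).comp (commutator G).subtype).codRestrict (commutator (G ⧸ V))
      (fun x => by
        rw [← hmapeq]
        exact ⟨x, x.2, rfl⟩)
  haveI := hQnil
  apply Subgroup.isNilpotent_of_ker_le_center f
  intro x hx
  rw [Subgroup.mem_center_iff]
  intro y
  have hxV : (x : G) ∈ V := by
    rw [MonoidHom.mem_ker] at hx
    have h1 := congrArg Subtype.val hx
    exact (QuotientGroup.eq_one_iff (x : G)).mp h1
  apply Subtype.ext
  rw [Subgroup.coe_mul, Subgroup.coe_mul]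
  exact hGV y y.2 x hxV

end Main

end Cfsg.Agent.Lib.Helper7.S3W
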