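import Mathlib
import Cfsg.Agent.Lib.Helper9.USubDefs
import Cfsg.Agent.Lib.Helper9.USubF
import Cfsg.Agent.Lib.Helper9.SUGenF
import Cfsg.Agent.Lib.Helper13.SubfSU
import Cfsg.Agent.Lib.Helper2.S5658BFOB2a
import Cfsg.Agent.Lib.Helper22.S5658BFOB2b

/-!
# S5658 side B, FO-B2c: the configuration
-/

set_option autoImplicit false
set_option linter.unusedSectionVars false
set_option linter.unusedVariables false

namespace Cfsg.Agent.Lib.Helper7.S5658B

open Matrix Cfsg.Agent.Lib.Helper6 Cfsg.Agent.S0779 Cfsg.Agent.S0781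
open Cfsg.Agent.Lib.Helper6.SUG Cfsg.Agent.Lib.Helper13 Cfsg.Agent.Lib.Helper9.SUGen
open Cfsg.Agent.Lib.Helper9.USub

variable {F : Type*} [Field F] [Fintype F] {q q₀ n : ℕ}

local notation "hh" => Cfsg.hermForm n F q

/-- abstract bilinear algebra: from the base table to the configuration -/
theorem config_core (hF : Fintype.card F = q ^ 2) (K : Subfield F) (U1 V U0 F1 F2 F3 : Fin n → K)
    (ε : K) (hε : (ε : F) ^ q = ε)
    (a1 : hh (rvec K U1) (rvec K U1) = 0) (a2 : hh (rvec K F1) (rvec K F1) = 0)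
    (a3 : hh (rvec K U1) (rvec K F1) = 1)
    (b1 : hh (rvec K V) (rvec K V) = 0) (b2 : hh (rvec K V) (rvec K F2) = 1)
    (c1 : hh (rvec K U0) (rvec K U0) = 0) (c2 : hh (rvec K U0) (rvec K F3) = 1)
    (x1 : hh (rvec K U0) (rvec K V) = 0) (x2 : hh (rvec K U1) (rvec K U0) = 0)
    (x3 : hh (rvec K U1) (rvec K V) = 0) (x4 : hh (rvec K U0) (rvec K F1) = 0)
    (x5 : hh (rvec K V) (rvec K F1) = 0) (x6 : hh (rvec K U1) (rvec K F2) = 0)
    (x7 : hh (rvec K U1) (rvec K F3) = 0) (x8 : hh (rvec K U0) (rvec K F2) = 0)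
    (x9 : hh (rvec K V) (rvec K F3) = 0) :
    hh (rvec K U1) (rvec K U1) = 0 ∧ hh (rvec K (U0 + ε • V)) (rvec K (U0 + ε • V)) = 0 ∧
      hh (rvec K V) (rvec K V) = 0 ∧
      hh (rvec K U1) (rvec K (U0 + ε • V)) = 0 ∧ hh (rvec K U1) (rvec K V) = 0 ∧
      hh (rvec K (U0 + ε • V)) (rvec K V) = 0 ∧
      hh (rvec K F1) (rvec K F1) = 0 ∧
      hh (rvec K U1) (rvec K F1) = 1 ∧ hh (rvec K (U0 + ε • V)) (rvec K F1) = 0 ∧
      hh (rvec K V) (rvec K F1) = 0 ∧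
      hh (rvec K U1) (rvec K (F2 - ε • F3)) = 0 ∧
      hh (rvec K (U0 + ε • V)) (rvec K (F2 - ε • F3)) = 0 ∧
      hh (rvec K V) (rvec K (F2 - ε • F3)) = 1 := by
  have x1' : hh (rvec K V) (rvec K U0) = 0 := herm_swap_zero hF x1
  refine ⟨a1, ?_, b1, ?_, x3, ?_, a2, a3, ?_, x5, ?_, ?_, ?_⟩
  · simp only [rvec_add, rvec_smul, herm_add_left, herm_add_right hF, herm_smul_left,
      herm_smul_right, c1, x1, x1', b1]
    ring
  · simp only [rvec_add, rvec_smul, herm_add_right hF, herm_smul_right, x2, x3]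
    ring
  · simp only [rvec_add, rvec_smul, herm_add_left, herm_smul_left, x1, b1]
    ring
  · simp only [rvec_add, rvec_smul, herm_add_left, herm_smul_left, x4, x5]
    ring
  · simp only [rvec_sub, rvec_smul, herm_sub_right hF, herm_smul_right, x6, x7]
    ring
  · simp only [rvec_add, rvec_sub, rvec_smul, herm_add_left, herm_sub_right hF, herm_smul_left,
      herm_smul_right, x8, c2, b2, x9, hε]
    ring
  · simp only [rvec_sub, rvec_smul, herm_sub_right hF, herm_smul_right, b2, x9]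
    ring

/-- the rational vector `e_s + c e_t` -/
def EV (K : Subfield F) (n : ℕ) (s t : Fin n) (c : K) : Fin n → K :=
  Pi.single s 1 + c • Pi.single t 1

theorem rvec_EV (K : Subfield F) (s t : Fin n) (c : K) :
    rvec K (EV K n s t c) = (Pi.single s (1 : F) : Fin n → F) + (c : F) • Pi.single t (1 : F) := by
  unfold EV
  rw [rvec_add, rvec_smul, rvec_single, rvec_single]

theorem herm_EV (K : Subfield F) (s t : Fin n) (c : K) (y : Fin n → F) :
    hh (rvec K (EV K n s t c)) y = (y s) ^ q + (c : F) * (y t) ^ q := by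
  rw [rvec_EV, herm_add_left, herm_smul_left, herm_single_left', herm_single_left']

theorem rvec_EV_apply (K : Subfield F) (s t : Fin n) (hst : s ≠ t) (c : K) (i : Fin n) :
    rvec K (EV K n s t c) i = if i = s then 1 else if i = t then (c : F) else 0 := by
  rw [rvec_EV]
  simp only [Pi.add_apply, Pi.smul_apply, Pi.single_apply, smul_eq_mul]
  by_cases h1 : i = s
  · subst h1
    simp [hst]
  · by_cases h2 : i = t
    · subst h2
      simp [h1]
    · simp [h1, h2]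

theorem herm_EV_disj (hF : Fintype.card F = q ^ 2) (K : Subfield F) (s t s' t' : Fin n)
    (hst' : s' ≠ t') (h1 : s ≠ s') (h2 : s ≠ t') (h3 : t ≠ s') (h4 : t ≠ t') (c c' : K) :
    hh (rvec K (EV K n s t c)) (rvec K (EV K n s' t' c')) = 0 := by
  rw [herm_EV, rvec_EV_apply K s' t' hst', rvec_EV_apply K s' t' hst']
  simp [h1, h2, h3, h4, (q_pos hF).ne']

theorem herm_EV_same (hF : Fintype.card F = q ^ 2) (K : Subfield F) (s t : Fin n) (hst : s ≠ t)
    (c c' : K) :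
    hh (rvec K (EV K n s t c)) (rvec K (EV K n s t c')) = 1 + (c : F) * (c' : F) ^ q := by
  rw [herm_EV, rvec_EV_apply K s t hst, rvec_EV_apply K s t hst]
  simp [hst.symm]


/-- a partner scalar -/
theorem exists_partner_scalar (hF : Fintype.card F = q ^ 2) (K : Subfield F) (a a' : F)
    (haK : a ∈ K) (ha'K : a' ∈ K) (ha' : a' * a' ^ q = -1) (hne : a' ≠ a) :
    ∃ α : K, (α : F) ^ q * (1 + a * a' ^ q) = 1 := by
  have ha'0 : a' ≠ 0 := by
    intro h0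
    rw [h0, zero_mul] at ha'
    exact zero_ne_one (by linear_combination -ha')
  have hβ : 1 + a * a' ^ q ≠ 0 := by
    intro h0
    apply hne
    have h1 : a' ^ q = -1 / a' := by
      field_simp
      linear_combination ha'
    rw [h1] at h0
    field_simp at h0
    linear_combination h0
  have hβK : 1 + a * a' ^ q ∈ K := K.add_mem K.one_mem (K.mul_mem haK (K.pow_mem ha'K q))
  refine ⟨⟨((1 + a * a' ^ q)⁻¹) ^ q, K.pow_mem (K.inv_mem hβK) q⟩, ?_⟩
  change (((1 + a * a' ^ q)⁻¹) ^ q) ^ q * (1 + a * a' ^ q) = 1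
  rw [pow_q_q hF, inv_mul_cancel₀ hβ]

/-- **FO-B2c** -/
theorem exists_config {K : Subfield F} [Fintype K] (D : SubD q q₀ K) (hn : 13 ≤ n)
    (w : Fin n → F) (hw : ¬ Pure K w) :
    ∃ u₁ u₂ v f₁ f₂ : Fin n → K,
      hh (rvec K u₁) (rvec K u₁) = 0 ∧ hh (rvec K u₂) (rvec K u₂) = 0 ∧
      hh (rvec K v) (rvec K v) = 0 ∧
      hh (rvec K u₁) (rvec K u₂) = 0 ∧ hh (rvec K u₁) (rvec K v) = 0 ∧
      hh (rvec K u₂) (rvec K v) = 0 ∧
      hh (rvec K f₁) (rvec K f₁) = 0 ∧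
      hh (rvec K u₁) (rvec K f₁) = 1 ∧ hh (rvec K u₂) (rvec K f₁) = 0 ∧
      hh (rvec K v) (rvec K f₁) = 0 ∧
      hh (rvec K u₁) (rvec K f₂) = 0 ∧ hh (rvec K u₂) (rvec K f₂) = 0 ∧
      hh (rvec K v) (rvec K f₂) = 1 ∧
      hh (rvec K u₁) w ≠ 0 ∧ hh (rvec K u₂) w ≠ 0 ∧
      ∀ κ : K, hh (rvec K v) w ≠ (κ : F) * hh (rvec K u₁) w := by
  classical
  have hF := D.hF
  obtain ⟨i, j, k, l, a, b, hij, hik, hil, hjk, hjl, hkl, haK, hbK, ha, hb, h1w, hind⟩ :=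
    Cfsg.Agent.Lib.Helper22.S5658B.exists_indep_pair D (by omega) w hw
  obtain ⟨r₁, r₂, r₃, hr₁K, hr₂K, hr₃K, h12, h13, h23, hr₁, hr₂, hr₃⟩ :=
    Cfsg.Agent.Lib.Helper2.S5658B2a.exists_three_norm D
  obtain ⟨a', ha'K, ha', haa'⟩ : ∃ a' : F, a' ∈ K ∧ a' * a' ^ q = -1 ∧ a' ≠ a := by
    by_cases h : r₁ = a
    · exact ⟨r₂, hr₂K, hr₂, fun h' => h12 (h.trans h'.symm)⟩
    · exact ⟨r₁, hr₁K, hr₁, h⟩
  obtain ⟨b', hb'K, hb', hbb'⟩ : ∃ b' : F, b' ∈ K ∧ b' * b' ^ q = -1 ∧ b' ≠ b := by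
    by_cases h : r₁ = b
    · exact ⟨r₂, hr₂K, hr₂, fun h' => h12 (h.trans h'.symm)⟩
    · exact ⟨r₁, hr₁K, hr₁, h⟩
  -- two more indices
  have hcard : 1 < (Finset.univ \ ({i, j, k, l} : Finset (Fin n))).card := by
    have h1 : ({i, j, k, l} : Finset (Fin n)).card ≤ 4 := Finset.card_le_four
    have h2 := Finset.le_card_sdiff ({i, j, k, l} : Finset (Fin n)) Finset.univ
    rw [Finset.card_univ, Fintype.card_fin] at h2
    omega
  obtain ⟨s, hs, t, ht, hst⟩ := Finset.one_lt_card.mp hcard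
  simp only [Finset.mem_sdiff, Finset.mem_univ, Finset.mem_insert, Finset.mem_singleton, true_and,
    not_or] at hs ht
  obtain ⟨hsi, hsj, hsk, hsl⟩ := hs
  obtain ⟨hti, htj, htk, htl⟩ := ht
  obtain ⟨α₁, hα₁⟩ := exists_partner_scalar hF K a a' haK ha'K ha' haa'
  obtain ⟨α₂, hα₂⟩ := exists_partner_scalar hF K b b' hbK hb'K hb' hbb'
  -- the vectors
  obtain ⟨U1, hU1⟩ : ∃ U1 : Fin n → K, U1 = EV K n i k ⟨a, haK⟩ := ⟨_, rfl⟩
  obtain ⟨V, hV⟩ : ∃ V : Fin n → K, V = EV K n j l ⟨b, hbK⟩ := ⟨_, rfl⟩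
  obtain ⟨U0, hU0⟩ : ∃ U0 : Fin n → K, U0 = EV K n s t ⟨a, haK⟩ := ⟨_, rfl⟩
  obtain ⟨F1, hF1⟩ : ∃ F1 : Fin n → K, F1 = α₁ • EV K n i k ⟨a', ha'K⟩ := ⟨_, rfl⟩
  obtain ⟨F2, hF2⟩ : ∃ F2 : Fin n → K, F2 = α₂ • EV K n j l ⟨b', hb'K⟩ := ⟨_, rfl⟩
  obtain ⟨F3, hF3⟩ : ∃ F3 : Fin n → K, F3 = α₁ • EV K n s t ⟨a', ha'K⟩ := ⟨_, rfl⟩
  obtain ⟨ε, hεdef⟩ : ∃ ε : K, ε = if hh (rvec K U0) w = 0 then 1 else 0 := ⟨_, rfl⟩
  have hε : (ε : F) ^ q = ε := by
    rw [hεdef]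
    split_ifs
    · simp
    · simp [(q_pos hF).ne']
  have a1 : hh (rvec K U1) (rvec K U1) = 0 := by
    rw [hU1, herm_EV_same hF K i k hik]
    change 1 + a * a ^ q = 0
    rw [ha]; ring
  have a2 : hh (rvec K F1) (rvec K F1) = 0 := by
    rw [hF1, rvec_smul, herm_smul_left, herm_smul_right, herm_EV_same hF K i k hik]
    change (α₁ : F) * ((α₁ : F) ^ q * (1 + a' * a' ^ q)) = 0
    rw [ha']; ring
  have a3 : hh (rvec K U1) (rvec K F1) = 1 := by
    rw [hU1, hF1, rvec_smul, herm_smul_right, herm_EV_same hF K i k hik]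
    exact hα₁
  have b1 : hh (rvec K V) (rvec K V) = 0 := by
    rw [hV, herm_EV_same hF K j l hjl]
    change 1 + b * b ^ q = 0
    rw [hb]; ring
  have b2 : hh (rvec K V) (rvec K F2) = 1 := by
    rw [hV, hF2, rvec_smul, herm_smul_right, herm_EV_same hF K j l hjl]
    exact hα₂
  have c1 : hh (rvec K U0) (rvec K U0) = 0 := by
    rw [hU0, herm_EV_same hF K s t hst]
    change 1 + a * a ^ q = 0
    rw [ha]; ring
  have c2 : hh (rvec K U0) (rvec K F3) = 1 := by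
    rw [hU0, hF3, rvec_smul, herm_smul_right, herm_EV_same hF K s t hst]
    exact hα₁
  have x1 : hh (rvec K U0) (rvec K V) = 0 := by
    rw [hU0, hV]
    exact herm_EV_disj hF K s t j l hjl hsj hsl htj htl _ _
  have x2 : hh (rvec K U1) (rvec K U0) = 0 := by
    rw [hU1, hU0]
    exact herm_EV_disj hF K i k s t hst (Ne.symm hsi) (Ne.symm hti) (Ne.symm hsk) (Ne.symm htk) _ _
  have x3 : hh (rvec K U1) (rvec K V) = 0 := by
    rw [hU1, hV]
    exact herm_EV_disj hF K i k j l hjl hij hil (Ne.symm hjk) hkl _ _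
  have x4 : hh (rvec K U0) (rvec K F1) = 0 := by
    rw [hU0, hF1, rvec_smul, herm_smul_right, herm_EV_disj hF K s t i k hik hsi hsk hti htk,
      mul_zero]
  have x5 : hh (rvec K V) (rvec K F1) = 0 := by
    rw [hV, hF1, rvec_smul, herm_smul_right,
      herm_EV_disj hF K j l i k hik (Ne.symm hij) hjk (Ne.symm hil) (Ne.symm hkl), mul_zero]
  have x6 : hh (rvec K U1) (rvec K F2) = 0 := by
    rw [hU1, hF2, rvec_smul, herm_smul_right,
      herm_EV_disj hF K i k j l hjl hij hil (Ne.symm hjk) hkl, mul_zero]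
  have x7 : hh (rvec K U1) (rvec K F3) = 0 := by
    rw [hU1, hF3, rvec_smul, herm_smul_right,
      herm_EV_disj hF K i k s t hst (Ne.symm hsi) (Ne.symm hti) (Ne.symm hsk) (Ne.symm htk),
      mul_zero]
  have x8 : hh (rvec K U0) (rvec K F2) = 0 := by
    rw [hU0, hF2, rvec_smul, herm_smul_right, herm_EV_disj hF K s t j l hjl hsj hsl htj htl,
      mul_zero]
  have x9 : hh (rvec K V) (rvec K F3) = 0 := by
    rw [hV, hF3, rvec_smul, herm_smul_right,
      herm_EV_disj hF K j l s t hst (Ne.symm hsj) (Ne.symm htj) (Ne.symm hsl) (Ne.symm htl),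
      mul_zero]
  obtain ⟨g1, g2, g3, g4, g5, g6, g7, g8, g9, g10, g11, g12, g13⟩ :=
    config_core hF K U1 V U0 F1 F2 F3 ε hε a1 a2 a3 b1 b2 c1 c2 x1 x2 x3 x4 x5 x6 x7 x8 x9
  have e1 : hh (rvec K U1) w = (w i) ^ q + a * (w k) ^ q := by
    rw [hU1, herm_EV]
  have eV : hh (rvec K V) w = (w j) ^ q + b * (w l) ^ q := by
    rw [hV, herm_EV]
  have hVw : hh (rvec K V) w ≠ 0 := by
    rw [eV]
    have := hind 0
    simpa using this
  refine ⟨U1, U0 + ε • V, V, F1, F2 - ε • F3, g1, g2, g3, g4, g5, g6, g7, g8, g9, g10, g11, g12,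
    g13, ?_, ?_, ?_⟩
  · rw [e1]; exact h1w
  · rw [rvec_add, rvec_smul, herm_add_left, herm_smul_left, hεdef]
    by_cases h0 : hh (rvec K U0) w = 0
    · rw [if_pos h0, h0]
      simpa using hVw
    · rw [if_neg h0]
      simpa using h0
  · intro κ
    rw [e1, eV]
    exact hind κ

end Cfsg.Agent.Lib.Helper7.S5658B
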