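import Mathlib
import Cfsg.Agent.Lib.Helper9.USubDefs
import Cfsg.Agent.Lib.Helper9.USubF
import Cfsg.Agent.Lib.Helper9.SUGenF
import Cfsg.Agent.Lib.Helper13.SubfSU
import Cfsg.Agent.Lib.Helper7.S5658B5

/-!
# S5658 side B, FO-B6: the Heisenberg commutators
-/

set_option autoImplicit false
set_option linter.unusedSectionVars false
set_option linter.unusedVariables false

namespace Cfsg.Agent.Lib.Helper7.S5658B

open Matrix Cfsg.Agent.Lib.Helper6 Cfsg.Agent.S0779 Cfsg.Agent.S0781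
open Cfsg.Agent.Lib.Helper6.SUG Cfsg.Agent.Lib.Helper13 Cfsg.Agent.Lib.Helper9.SUGen
open Cfsg.Agent.Lib.Helper9.USub

variable {F : Type*} [Field F] [Fintype F] {q q₀ n : ℕ}

local notation "hh" => Cfsg.hermForm n F q

theorem herm_neg_right (hF : Fintype.card F = q ^ 2) (x y : Fin n → F) :
    hh x (-y) = -hh x y := by
  have : (-y) = (-1 : F) • y := by simp
  rw [this, herm_smul_right, neg_pow_q hF, one_pow]
  ring

theorem herm_neg_left (x y : Fin n → F) : hh (-x) y = -hh x y := by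
  have : (-x) = (-1 : F) • x := by simp
  rw [this, herm_smul_left]
  ring

/-- the commutator of a transvection (centre `x ⟂ P`) with an Eichler element at `P` -/
theorem comm_tv_eich (hF : Fintype.card F = q ^ 2) (P V x : Fin n → F) (c a : F)
    (hpp : hh P P = 0) (hpv : hh P V = 0) (hc : c + c ^ q = hh V V) (hxx : hh x x = 0)
    (hpx : hh P x = 0) (ha : a ^ q = -a)
    (hpx' : hh P ((a * hh V x) • x) = 0)
    (hc' : a * hh V x * (hh V x) ^ q + (a * hh V x * (hh V x) ^ q) ^ q =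
      hh ((a * hh V x) • x) ((a * hh V x) • x)) :
    tv hF x a hxx ha * eich hF P V c hpp hpv hc * (tv hF x a hxx ha)⁻¹ *
      (eich hF P V c hpp hpv hc)⁻¹ =
      eich hF P ((a * hh V x) • x) (a * hh V x * (hh V x) ^ q) hpp hpx' hc' := by
  obtain ⟨b, hb⟩ : ∃ b : F, b = hh V x := ⟨_, rfl⟩
  have e1 : av (tv hF x a hxx ha) P = P := by
    rw [av_tv, hpx, mul_zero, zero_smul, add_zero]
  have e2 : av (tv hF x a hxx ha) V = V + (a * hh V x) • x := by
    rw [av_tv]
  have hpv2 : hh P (V + (a * hh V x) • x) = 0 := by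
    rw [herm_add_right hF, herm_smul_right, hpv, hpx]; ring
  have hc2 : c + c ^ q = hh (V + (a * hh V x) • x) (V + (a * hh V x) • x) := by
    rw [← e2, herm_av]; exact hc
  have h1 : tv hF x a hxx ha * eich hF P V c hpp hpv hc * (tv hF x a hxx ha)⁻¹ =
      eich hF P (V + (a * hh V x) • x) c hpp hpv2 hc2 := by
    rw [conj_eich hF (tv hF x a hxx ha) P V c hpp hpv hc (by rw [herm_av]; exact hpp)
      (by rw [herm_av]; exact hpv) (by rw [herm_av]; exact hc)]
    exact eich_congr hF e1 e2 rfl _ _ _ _ _ _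
  have hpnv : hh P (-V) = 0 := by rw [herm_neg_right hF, hpv, neg_zero]
  have hcn : c ^ q + (c ^ q) ^ q = hh (-V) (-V) := by
    rw [herm_neg_right hF, herm_neg_left, neg_neg, pow_q_q hF, ← hc]; ring
  rw [h1, eich_inv' hF P V c hpp hpv hc hpnv hcn]
  have hpvv : hh P (V + (a * hh V x) • x + -V) = 0 := by
    rw [herm_add_right hF, hpv2, hpnv]; ring
  have hxV : hh x V = (hh V x) ^ q := (herm_conj hF V x).symm
  have hcc : (c + c ^ q + hh (-V) (V + (a * hh V x) • x)) +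
      (c + c ^ q + hh (-V) (V + (a * hh V x) • x)) ^ q =
      hh (V + (a * hh V x) • x + -V) (V + (a * hh V x) • x + -V) := by
    have : V + (a * hh V x) • x + -V = (a * hh V x) • x := by abel
    rw [this, herm_smul_left, herm_smul_right, hxx, herm_neg_left, herm_add_right hF,
      herm_smul_right, hc]
    have h2 : (-(hh V V + (a * hh V x) ^ q * hh V x)) = -hh V V - (a * hh V x) ^ q * hh V x := by
      ring
    rw [h2]
    have h3 : hh V V - hh V V - (a * hh V x) ^ q * hh V x = a * hh V x * (hh V x) ^ q := by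
      rw [mul_pow, ha]; ring
    have h4 : hh V V + (-hh V V - (a * hh V x) ^ q * hh V x) = a * hh V x * (hh V x) ^ q := by
      rw [← h3]; ring
    rw [h4, mul_pow, mul_pow, pow_q_q hF, ha]
    ring
  rw [eich_mul hF P (V + (a * hh V x) • x) (-V) c (c ^ q) hpp hpv2 hpnv hc2 hcn hpvv hcc]
  apply eich_congr hF rfl
  · abel
  · rw [herm_neg_left, herm_add_right hF, herm_smul_right, hc, mul_pow, ha]
    ring

/-- the commutator of two Eichler elements at `P` is a transvection with centre `P` -/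
theorem comm_eich_eich (hF : Fintype.card F = q ^ 2) (P A B : Fin n → F) (c c' : F)
    (hpp : hh P P = 0) (hpa : hh P A = 0) (hpb : hh P B = 0) (hc : c + c ^ q = hh A A)
    (hc' : c' + c' ^ q = hh B B) (ht : (hh A B - hh B A) ^ q = -(hh A B - hh B A)) :
    eich hF P A c hpp hpa hc * eich hF P B c' hpp hpb hc' * (eich hF P A c hpp hpa hc)⁻¹ *
      (eich hF P B c' hpp hpb hc')⁻¹ = tv hF P (hh A B - hh B A) hpp ht := by
  have hap : hh A P = 0 := herm_swap_zero hF hpa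
  have hbp : hh B P = 0 := herm_swap_zero hF hpb
  apply ext_av
  intro x
  rw [av_mul, av_mul, av_mul, av_tv, Cfsg.Agent.Lib.Helper9.SURU.av_eich_inv,
    Cfsg.Agent.Lib.Helper9.SURU.av_eich_inv, av_eich, av_eich]
  simp only [herm_add_left, herm_sub_left', herm_smul_left, hpp, hap, hbp, hpa, hpb]
  have h1 : c ^ q = hh A A - c := by rw [← hc]; ring
  have h2 : c' ^ q = hh B B - c' := by rw [← hc']; ring
  rw [h1, h2]
  module


/-- **FO-B6**: the Heisenberg commutators produce a transvection with rational centre and non-rational parameter. -/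
theorem good_of_heis {K : Subfield F} [Fintype K] (D : SubD q q₀ K)
    (L : Subgroup ↥(Cfsg.SU n F q)) (hL : ∀ g : ↥(Cfsg.SU n F q), RatSU K g → g ∈ L)
    (x : Fin n → F) (hx : XK K L x) (p v' y z : Fin n → K) (hp : p ≠ 0)
    (hpp : hh (rvec K p) (rvec K p) = 0) (hpx : hh (rvec K p) x = 0)
    (hpv : hh (rvec K p) (rvec K v') = 0) (hpy : hh (rvec K p) (rvec K y) = 0)
    (hpz : hh (rvec K p) (rvec K z) = 0) (hyy : hh (rvec K y) (rvec K y) = 0)
    (hyz : hh (rvec K y) (rvec K z) = 1)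
    (hν : hh (rvec K v') x * hh x (rvec K y) ∉ K) : Good K L := by
  have hF := D.hF
  obtain ⟨ζ, hζK, hζ0, hζ⟩ := SubD_exists_zeta D
  have hxx := hx.1
  -- first commutator
  obtain ⟨d, hdK, hd⟩ := SubD_exists_trace D (hh (rvec K v') (rvec K v')) (herm_rvec_mem D v' v')
    (herm_conj hF _ _)
  have hE : eich hF (rvec K p) (rvec K v') d hpp hpv hd ∈ L :=
    hL _ (ratSU_eich hF K p v' d hdK hpp hpv hd)
  have hT : tv hF x ζ hxx hζ ∈ L := hx.tv_mem hF ζ hζK hζ
  obtain ⟨b, hb⟩ : ∃ b : F, b = hh (rvec K v') x := ⟨_, rfl⟩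
  obtain ⟨e, he⟩ : ∃ e : F, e = hh x (rvec K y) := ⟨_, rfl⟩
  rw [← hb, ← he] at hν
  have hpx1 : hh (rvec K p) ((ζ * hh (rvec K v') x) • x) = 0 := by
    rw [herm_smul_right, hpx, mul_zero]
  have hc1 : ζ * hh (rvec K v') x * (hh (rvec K v') x) ^ q +
      (ζ * hh (rvec K v') x * (hh (rvec K v') x) ^ q) ^ q =
      hh ((ζ * hh (rvec K v') x) • x) ((ζ * hh (rvec K v') x) • x) := by
    rw [herm_smul_left, herm_smul_right, hxx, mul_pow, mul_pow, pow_q_q hF, hζ]
    ring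
  have hC1 := comm_tv_eich hF (rvec K p) (rvec K v') x d ζ hpp hpv hd hxx hpx hζ hpx1 hc1
  have hC1L : eich hF (rvec K p) ((ζ * hh (rvec K v') x) • x)
      (ζ * hh (rvec K v') x * (hh (rvec K v') x) ^ q) hpp hpx1 hc1 ∈ L := by
    rw [← hC1]
    exact L.mul_mem (L.mul_mem (L.mul_mem hT hE) (L.inv_mem hT)) (L.inv_mem hE)
  -- second commutator
  have hS : tv hF (rvec K y) ζ hyy hζ ∈ L := hL _ (ratSU_tv hF K y ζ hζK hyy hζ)
  obtain ⟨s, hs⟩ : ∃ s : F, s = hh ((ζ * hh (rvec K v') x) • x) (rvec K y) := ⟨_, rfl⟩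
  have hsv : s = ζ * b * e := by rw [hs, herm_smul_left, hb, he]
  have hpy2 : ∀ t : F, hh (rvec K p) ((ζ * t) • rvec K y) = 0 := by
    intro t
    rw [herm_smul_right, hpy, mul_zero]
  have hc2 : ∀ t : F, ζ * t * t ^ q + (ζ * t * t ^ q) ^ q =
      hh ((ζ * t) • rvec K y) ((ζ * t) • rvec K y) := by
    intro t
    rw [herm_smul_left, herm_smul_right, hyy, mul_pow, mul_pow, pow_q_q hF, hζ]
    ring
  have hC2 := comm_tv_eich hF (rvec K p) ((ζ * hh (rvec K v') x) • x) (rvec K y)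
    (ζ * hh (rvec K v') x * (hh (rvec K v') x) ^ q) ζ hpp hpx1 hc1 hyy hpy hζ (hpy2 _) (hc2 _)
  have hC2L : eich hF (rvec K p) ((ζ * s) • rvec K y) (ζ * s * s ^ q) hpp (hpy2 s) (hc2 s) ∈ L := by
    have h1 : eich hF (rvec K p) ((ζ * s) • rvec K y) (ζ * s * s ^ q) hpp (hpy2 s) (hc2 s) =
        eich hF (rvec K p) ((ζ * hh ((ζ * hh (rvec K v') x) • x) (rvec K y)) • rvec K y)
          (ζ * hh ((ζ * hh (rvec K v') x) • x) (rvec K y) *
            (hh ((ζ * hh (rvec K v') x) • x) (rvec K y)) ^ q) hpp (hpy2 _) (hc2 _) := by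
      apply eich_congr hF rfl
      · rw [hs]
      · rw [hs]
    rw [h1, ← hC2]
    exact L.mul_mem (L.mul_mem (L.mul_mem hS hC1L) (L.inv_mem hS)) (L.inv_mem hC1L)
  -- ν := ζ * s ∉ K
  have hνK : ζ * s ∉ K := by
    intro h
    apply hν
    have h1 : b * e = (ζ * s) * (ζ⁻¹ * ζ⁻¹) := by
      rw [hsv]; field_simp
    rw [h1]
    exact K.mul_mem h (K.mul_mem (K.inv_mem hζK) (K.inv_mem hζK))
  obtain ⟨l', hl'K, hl'⟩ := SubD_exists_lam D (ζ * s) hνK
  -- third commutator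
  obtain ⟨lK, hlK⟩ : ∃ lK : K, (lK : F) = l' ^ q := ⟨⟨l' ^ q, K.pow_mem hl'K q⟩, rfl⟩
  have hlq : (lK : F) ^ q = l' := by rw [hlK, pow_q_q hF]
  have hpz2 : hh (rvec K p) (rvec K (lK • z)) = 0 := by
    rw [rvec_smul, herm_smul_right, hpz, mul_zero]
  obtain ⟨dz, hdzK, hdz⟩ := SubD_exists_trace D (hh (rvec K (lK • z)) (rvec K (lK • z)))
    (herm_rvec_mem D _ _) (herm_conj hF _ _)
  have hE3 : eich hF (rvec K p) (rvec K (lK • z)) dz hpp hpz2 hdz ∈ L :=
    hL _ (ratSU_eich hF K p (lK • z) dz hdzK hpp hpz2 hdz)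
  have hzy : hh (rvec K z) (rvec K y) = 1 := by
    rw [← herm_conj hF, hyz, one_pow]
  have hval : hh ((ζ * s) • rvec K y) (rvec K (lK • z)) - hh (rvec K (lK • z)) ((ζ * s) • rvec K y) =
      ζ * s * l' - (ζ * s * l') ^ q := by
    rw [rvec_smul, herm_smul_left, herm_smul_right, herm_smul_left, herm_smul_right, hyz, hzy, hlq,
      hlK, mul_pow]
    ring
  have ht : (hh ((ζ * s) • rvec K y) (rvec K (lK • z)) -
      hh (rvec K (lK • z)) ((ζ * s) • rvec K y)) ^ q =
      -(hh ((ζ * s) • rvec K y) (rvec K (lK • z)) -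
        hh (rvec K (lK • z)) ((ζ * s) • rvec K y)) := by
    rw [hval, sub_pow_q hF, pow_q_q hF]
    ring
  have hC3 := comm_eich_eich hF (rvec K p) ((ζ * s) • rvec K y) (rvec K (lK • z)) _ dz hpp (hpy2 s) hpz2
    (hc2 s) hdz ht
  apply Good.intro hF p _ hp hpp ht
  · rw [hval]
    exact hl'
  · rw [← hC3]
    exact L.mul_mem (L.mul_mem (L.mul_mem hC2L hE3) (L.inv_mem hC2L)) (L.inv_mem hE3)

end Cfsg.Agent.Lib.Helper7.S5658B
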