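import Mathlib
import Cfsg.Agent.Lib.Helper9.USubDefs
import Cfsg.Agent.Lib.Helper9.USubF
import Cfsg.Agent.Lib.Helper9.USubB3
import Cfsg.Agent.Lib.Helper9.SUGenF
import Cfsg.Agent.Lib.Helper13.SubfSU
import Cfsg.Agent.Lib.Helper10.S5658BFOB1
import Cfsg.Agent.Lib.Helper7.S5658B6
import Cfsg.Agent.Lib.Helper7.S5658B2c

/-!
# S5658 side B: an element outside the subfield group makes `L` good
-/

set_option autoImplicit false
set_option linter.unusedSectionVars false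
set_option linter.unusedVariables false

namespace Cfsg.Agent.Lib.Helper7.S5658B

open Matrix Cfsg.Agent.Lib.Helper6 Cfsg.Agent.S0779 Cfsg.Agent.S0781
open Cfsg.Agent.Lib.Helper6.SUG Cfsg.Agent.Lib.Helper13 Cfsg.Agent.Lib.Helper9.SUGen
open Cfsg.Agent.Lib.Helper9.USub

variable {F : Type*} [Field F] [Fintype F] {q q₀ n : ℕ}

local notation "hh" => Cfsg.hermForm n F q

/-- the image of `v` under `δ₂⁻¹ δ₁` -/
theorem eps_image (hF : Fintype.card F = q ^ 2) (u₁ u₂ v w : Fin n → F)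
    (h11 : hh u₁ u₁ = 0) (h12 : hh u₁ u₂ = 0) (h1v : hh u₁ v = 0) (h2v : hh u₂ v = 0)
    (h1w : hh u₁ w ≠ 0) (δ₁ δ₂ : ↥(Cfsg.SU n F q)) (c₁ c₂ : F) (hc₂ : c₂ ≠ 0)
    (e₁ : av δ₁ u₁ = c₁ • w) (e₂ : av δ₂ u₂ = c₂ • w)
    (fix₁ : ∀ x, hh x u₁ = 0 → hh x w = 0 → av δ₁ x = x)
    (fix₂ : ∀ x, hh x u₂ = 0 → hh x w = 0 → av δ₂ x = x) :
    av (δ₂⁻¹ * δ₁) v =
      v - (hh v w / hh u₁ w) • u₁ + (hh v w / hh u₁ w * c₁ / c₂) • u₂ := by
  obtain ⟨m, hm⟩ : ∃ m : F, m = hh v w / hh u₁ w := ⟨_, rfl⟩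
  rw [← hm]
  have hv1 : hh v u₁ = 0 := herm_swap_zero hF h1v
  have hv2 : hh v u₂ = 0 := herm_swap_zero hF h2v
  have hy1 : hh (v - m • u₁) u₁ = 0 := by
    rw [herm_sub_left', herm_smul_left, hv1, h11]; ring
  have hy2 : hh (v - m • u₁) u₂ = 0 := by
    rw [herm_sub_left', herm_smul_left, hv2, h12]; ring
  have hyw : hh (v - m • u₁) w = 0 := by
    rw [herm_sub_left', herm_smul_left, hm]
    field_simp
    ring
  have f1 := fix₁ _ hy1 hyw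
  have f2 := fix₂ _ hy2 hyw
  have f2' : av δ₂⁻¹ (v - m • u₁) = v - m • u₁ := by
    have := av_inv_av δ₂ (v - m • u₁)
    rw [f2] at this
    exact this
  have hw' : av δ₂⁻¹ w = c₂⁻¹ • u₂ := by
    have h1 : av δ₂ (c₂⁻¹ • u₂) = w := by
      rw [av_smul, e₂, smul_smul, inv_mul_cancel₀ hc₂, one_smul]
    rw [← h1, av_inv_av]
  have hv : v = (v - m • u₁) + m • u₁ := by abel
  rw [av_mul]
  conv_lhs => rw [hv]
  rw [av_add, f1, av_smul, e₁, av_add, f2', av_smul, av_smul, hw', smul_smul, smul_smul]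
  congr 1
  congr 1
  field_simp

/-- **Side B** of S5658: an element of `L` outside the subfield group makes `L` good. -/
theorem good_of_not_mem {K : Subfield F} [Fintype K] (D : SubD q q₀ K) (hn : 13 ≤ n)
    (L : Subgroup ↥(Cfsg.SU n F q)) (hL : ∀ g : ↥(Cfsg.SU n F q), RatSU K g → g ∈ L)
    (g : ↥(Cfsg.SU n F q)) (hg : g ∈ L)
    (hgH : suGL n F q g ∉ Cfsg.Geo.subfieldSubgroup K (1 : GL (Fin n) F)) : Good K L := by
  have hF := D.hF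
  -- rational isotropic vectors are XK
  have hXrat : ∀ u : Fin n → K, hh (rvec K u) (rvec K u) = 0 → XK K L (rvec K u) := by
    intro u huu
    apply XK.intro hF huu
    intro c hcK hc
    exact hL _ (ratSU_tv hF K u c hcK huu hc)
  obtain ⟨u₀, hu₀, himp⟩ := Cfsg.Agent.Lib.Helper10.S5658BFOB1.exists_impure_image D hn g hgH
  have hXw : XK K L (av g (rvec K u₀)) := (hXrat u₀ hu₀).map hF g hg
  obtain ⟨w, hwdef⟩ : ∃ w, w = av g (rvec K u₀) := ⟨_, rfl⟩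
  rw [← hwdef] at himp hXw
  obtain ⟨u₁, u₂, v, f₁, f₂, h11, h22, hvv, h12, h1v, h2v, hf₁, h1f₁, h2f₁, hvf₁, h1f₂, h2f₂,
    hvf₂, h1w, h2w, hind⟩ := exists_config D hn w himp
  obtain ⟨ζ, hζK, hζ0, hζ⟩ := SubD_exists_zeta D
  obtain ⟨δ₁, hδ₁, c₁, hc₁, e₁, fix₁⟩ := exists_sylow_conj hF L (rvec K u₁) w h11 hXw.1 h1w ζ hζ0 hζ
    ((hXrat u₁ h11).tv_mem hF ζ hζK hζ) (hXw.tv_mem hF ζ hζK hζ)
  obtain ⟨δ₂, hδ₂, c₂, hc₂, e₂, fix₂⟩ := exists_sylow_conj hF L (rvec K u₂) w h22 hXw.1 h2w ζ hζ0 hζ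
    ((hXrat u₂ h22).tv_mem hF ζ hζK hζ) (hXw.tv_mem hF ζ hζK hζ)
  have hx := eps_image hF (rvec K u₁) (rvec K u₂) (rvec K v) w h11 h12 h1v h2v h1w δ₁ δ₂ c₁ c₂ hc₂
    e₁ e₂ fix₁ fix₂
  obtain ⟨m, hm⟩ : ∃ m : F, m = hh (rvec K v) w / hh (rvec K u₁) w := ⟨_, rfl⟩
  rw [← hm] at hx
  obtain ⟨a, ha⟩ : ∃ a : F, a = m * c₁ / c₂ := ⟨_, rfl⟩
  rw [← ha] at hx
  have hmK : m ∉ K := by
    intro hmK
    apply hind ⟨m, hmK⟩
    change hh (rvec K v) w = m * hh (rvec K u₁) w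
    rw [hm]
    field_simp
  have hXx : XK K L (av (δ₂⁻¹ * δ₁) (rvec K v)) :=
    (hXrat v hvv).map hF _ (L.mul_mem (L.inv_mem hδ₂) hδ₁)
  rw [hx] at hXx
  have hp : u₂ ≠ 0 := by
    intro h0
    apply h2w
    rw [h0, rvec_zero, herm_zero_left]
  have h21 : hh (rvec K u₂) (rvec K u₁) = 0 := herm_swap_zero hF h12
  have hf₁1 : hh (rvec K f₁) (rvec K u₁) = 1 := by
    rw [← herm_conj hF, h1f₁, one_pow]
  have hf₂v : hh (rvec K f₂) (rvec K v) = 1 := by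
    rw [← herm_conj hF, hvf₂, one_pow]
  have hf₂1 : hh (rvec K f₂) (rvec K u₁) = 0 := herm_swap_zero hF h1f₂
  have hf₂2 : hh (rvec K f₂) (rvec K u₂) = 0 := herm_swap_zero hF h2f₂
  apply good_of_heis D L hL _ hXx u₂ f₂ f₁ u₁ hp h22 ?_ h2f₂ h2f₁ h21 hf₁ hf₁1 ?_
  · rw [herm_add_right hF, herm_sub_right hF, herm_smul_right, herm_smul_right, h2v, h21, h22]
    ring
  · have e1 : hh (rvec K f₂) (rvec K v - m • rvec K u₁ + a • rvec K u₂) = 1 := by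
      rw [herm_add_right hF, herm_sub_right hF, herm_smul_right, herm_smul_right, hf₂v, hf₂1, hf₂2]
      ring
    have e2 : hh (rvec K v - m • rvec K u₁ + a • rvec K u₂) (rvec K f₁) = -m := by
      rw [herm_add_left, herm_sub_left', herm_smul_left, herm_smul_left, hvf₁, h1f₁, h2f₁]
      ring
    rw [e1, e2, one_mul]
    intro h
    apply hmK
    have := K.neg_mem h
    rwa [neg_neg] at this

end Cfsg.Agent.Lib.Helper7.S5658B
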