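import Mathlib
import Cfsg.Prelude.Def_GeometricClasses
import Cfsg.Agent.Lib.Helper13.TensorNM

/-!
# S5663, block U4, piece U4T-CJ: absorbing an equivalence of the second tensor factor into `P` (helper7)

`exists_conj_equal_factors`: exact signature of `notes/S5663U4Skel_helper11.lean.txt` (generic ring hom `σ`,
generic form `f`).
-/

set_option autoImplicit false

namespace Cfsg.Agent.Lib.Helper7.S5663U4TCJ

open Matrix Cfsg Cfsg.Geo Cfsg.Agent.Lib.Helper13.TNM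
open scoped MatrixGroups Kronecker

variable {F : Type*} [Field F] [Fintype F] {n q : ℕ}

omit [Fintype F] in
theorem kron_map {k l : ℕ} (σ : F →+* F) (A : Matrix (Fin k) (Fin k) F) (B : Matrix (Fin l) (Fin l) F) :
    (A ⊗ₖ B).map σ = A.map σ ⊗ₖ B.map σ := by
  ext ⟨i, j⟩ ⟨i', j'⟩
  simp [Matrix.kroneckerMap_apply]

omit [Fintype F] in
theorem kron_transpose {k l : ℕ} (A : Matrix (Fin k) (Fin k) F) (B : Matrix (Fin l) (Fin l) F) :
    (A ⊗ₖ B)ᵀ = Aᵀ ⊗ₖ Bᵀ := by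
  ext ⟨i, j⟩ ⟨i', j'⟩
  simp [Matrix.kroneckerMap_apply]

/-- **U4T-CJ** -/
theorem exists_conj_equal_factors (σ : F →+* F) (f : (Fin n → F) → (Fin n → F) → F) {k : ℕ}
    (f₁ f₂ : (Fin k → F) → (Fin k → F) → F) (e : Fin n ≃ Fin k × Fin k) (P : GL (Fin n) F)
    (hT : IsTensorFormStructure σ f f₁ f₂ e P) (C : GL (Fin k) F)
    (hlin₁ : ∀ x y : Fin k → F, f₁ x y = formOfGram σ (gramMatrix f₁) x y)
    (hC : ∀ x y : Fin k → F, f₂ x y = f₁ ((C : Matrix (Fin k) (Fin k) F) *ᵥ x) ((C : Matrix (Fin k) (Fin k) F) *ᵥ y)) :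
    ∃ P' : GL (Fin n) F, IsTensorFormStructure σ f f₁ f₁ e P' ∧
      tensorProductSubgroup k k e P' = tensorProductSubgroup k k e P := by
  classical
  obtain ⟨c, hc, hform⟩ := hT
  set K : GL (Fin k × Fin k) F := kronGL (1 : GL (Fin k) F) C⁻¹ with hK
  refine ⟨P * glReindex e.symm K, ⟨c, hc, ?_⟩, tps_change k k e P K (kronGL_mem _ _)⟩
  intro x y
  have hx := TT_change e P K x
  have hy := TT_change e P K y
  unfold TT at hx hy
  rw [hx, hy, hform]
  congr 1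
  rw [formOfGram_mulVec (σ : F → F) (map_zero σ) (map_add σ) (map_mul σ)]
  congr 1
  -- the Gram matrix of `f₂`
  have hG2 : gramMatrix f₂ = (C : Matrix (Fin k) (Fin k) F)ᵀ * gramMatrix f₁ *
      (C : Matrix (Fin k) (Fin k) F).map σ := by
    ext a b
    have h1 : gramMatrix f₂ a b = f₂ (Pi.single a 1) (Pi.single b 1) := rfl
    rw [h1, hC, hlin₁, formOfGram_mulVec (σ : F → F) (map_zero σ) (map_add σ) (map_mul σ),
      formOfGram_single (σ : F → F) (map_zero σ) (map_one σ)]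
  have hCi : ((C⁻¹ : GL (Fin k) F) : Matrix (Fin k) (Fin k) F) * (C : Matrix (Fin k) (Fin k) F) = 1 := by
    rw [← Units.val_mul, inv_mul_cancel, Units.val_one]
  have hCi' : (C : Matrix (Fin k) (Fin k) F) * ((C⁻¹ : GL (Fin k) F) : Matrix (Fin k) (Fin k) F) = 1 := by
    rw [← Units.val_mul, mul_inv_cancel, Units.val_one]
  rw [hK, kronGL_val, kron_transpose, kron_map, ← Matrix.mul_kronecker_mul, ← Matrix.mul_kronecker_mul, hG2]
  congr 1
  · rw [Units.val_one, Matrix.transpose_one, Matrix.one_mul]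
    have : (1 : Matrix (Fin k) (Fin k) F).map σ = 1 := by
      rw [Matrix.map_one _ (map_zero σ) (map_one σ)]
    rw [this, Matrix.mul_one]
  · have h2 : ((C⁻¹ : GL (Fin k) F) : Matrix (Fin k) (Fin k) F)ᵀ * (C : Matrix (Fin k) (Fin k) F)ᵀ = 1 := by
      rw [← Matrix.transpose_mul, hCi', Matrix.transpose_one]
    have h3 : (C : Matrix (Fin k) (Fin k) F).map σ * ((C⁻¹ : GL (Fin k) F) : Matrix (Fin k) (Fin k) F).map σ = 1 := by
      rw [← Matrix.map_mul, hCi', Matrix.map_one _ (map_zero σ) (map_one σ)]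
    calc ((C⁻¹ : GL (Fin k) F) : Matrix (Fin k) (Fin k) F)ᵀ *
          ((C : Matrix (Fin k) (Fin k) F)ᵀ * gramMatrix f₁ * (C : Matrix (Fin k) (Fin k) F).map σ) *
          ((C⁻¹ : GL (Fin k) F) : Matrix (Fin k) (Fin k) F).map σ
        = (((C⁻¹ : GL (Fin k) F) : Matrix (Fin k) (Fin k) F)ᵀ * (C : Matrix (Fin k) (Fin k) F)ᵀ) * gramMatrix f₁ *
          ((C : Matrix (Fin k) (Fin k) F).map σ * ((C⁻¹ : GL (Fin k) F) : Matrix (Fin k) (Fin k) F).map σ) := by
          simp only [Matrix.mul_assoc]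
      _ = gramMatrix f₁ := by rw [h2, h3, Matrix.one_mul, Matrix.mul_one]

end Cfsg.Agent.Lib.Helper7.S5663U4TCJ
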