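import Mathlib
import Cfsg.Agent.Lib.Helper10.PGroup

/-!
# 2-groups of symplectic type with centre of order 4 and exponent 4 (abstract part)

Let `G` be a finite 2-group of exponent dividing 4 whose characteristic abelian subgroups are cyclic
and whose centre has order 4.  Then `G / Z(G)` is elementary abelian and all commutators are central
of order at most 2.
-/

set_option autoImplicit false

namespace Cfsg.Agent.Lib.Helper7.ST

open Subgroup
open scoped commutatorElement

variable {G : Type*} [Group G]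

/-- the subgroup of elements that are central of order at most two modulo the centre -/
def DSub (G : Type*) [Group G] : Subgroup G where
  carrier := {g | g ^ 2 ∈ center G ∧ ∀ h, ⁅g, h⁆ ∈ center G}
  one_mem' := by
    refine ⟨by rw [one_pow]; exact one_mem _, fun h => ?_⟩
    rw [commutatorElement_one_left]
    exact one_mem _
  mul_mem' := by
    rintro a b ⟨ha2, hac⟩ ⟨hb2, hbc⟩
    have hbinv : ∀ h, ⁅b⁻¹, h⁆ ∈ center G := by
      intro h
      have h1 : ⁅b⁻¹, h⁆ = b⁻¹ * (⁅b, h⁆)⁻¹ * b := by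
        rw [commutatorElement_def, commutatorElement_def]; group
      rw [h1]
      have hc := inv_mem (hbc h)
      have h2 := mem_center_iff.mp hc b
      rw [mul_assoc, ← h2, ← mul_assoc, inv_mul_cancel, one_mul]
      exact hc
    constructor
    · have hc := hbinv a⁻¹
      have h1 : (a * b) ^ 2 = a ^ 2 * b ^ 2 * ⁅b⁻¹, a⁻¹⁆ := by
        have h2 := mem_center_iff.mp hc b
        have h3 : b * a = a * b * ⁅b⁻¹, a⁻¹⁆ := by
          rw [commutatorElement_def]; group
        calc (a * b) ^ 2 = a * (b * a) * b := by rw [pow_two]; group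
          _ = a * (a * b * ⁅b⁻¹, a⁻¹⁆) * b := by rw [h3]
          _ = a * a * b * (⁅b⁻¹, a⁻¹⁆ * b) := by group
          _ = a * a * b * (b * ⁅b⁻¹, a⁻¹⁆) := by rw [h2]
          _ = a ^ 2 * b ^ 2 * ⁅b⁻¹, a⁻¹⁆ := by rw [pow_two, pow_two]; group
      rw [h1]
      exact mul_mem (mul_mem ha2 hb2) hc
    · intro h
      have h1 : ⁅a * b, h⁆ = a * ⁅b, h⁆ * a⁻¹ * ⁅a, h⁆ := by
        rw [commutatorElement_def, commutatorElement_def, commutatorElement_def]; group
      rw [h1]
      have h2 := mem_center_iff.mp (hbc h) a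
      rw [h2, mul_assoc (⁅b, h⁆), mul_inv_cancel, mul_one]
      exact mul_mem (hbc h) (hac h)
  inv_mem' := by
    rintro a ⟨ha2, hac⟩
    constructor
    · rw [inv_pow]
      exact inv_mem ha2
    · intro h
      have h1 : ⁅a⁻¹, h⁆ = a⁻¹ * (⁅a, h⁆)⁻¹ * a := by
        rw [commutatorElement_def, commutatorElement_def]; group
      rw [h1]
      have hc := inv_mem (hac h)
      have h2 := mem_center_iff.mp hc a
      rw [mul_assoc, ← h2, ← mul_assoc, inv_mul_cancel, one_mul]
      exact hc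

theorem mem_DSub_iff (g : G) : g ∈ DSub G ↔ g ^ 2 ∈ center G ∧ ∀ h, ⁅g, h⁆ ∈ center G := Iff.rfl

theorem center_le_DSub : center G ≤ DSub G := by
  intro z hz
  refine ⟨pow_mem hz 2, fun h => ?_⟩
  have := mem_center_iff.mp hz h
  rw [commutatorElement_def, ← this, mul_assoc, mul_assoc, mul_inv_cancel_left, mul_inv_cancel]
  exact one_mem _

theorem map_mem_center (φ : G ≃* G) {z : G} (hz : z ∈ center G) : φ z ∈ center G := by
  rw [mem_center_iff]
  intro h
  have h1 := mem_center_iff.mp hz (φ.symm h)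
  have h2 := congrArg φ h1
  rw [map_mul, map_mul, MulEquiv.apply_symm_apply] at h2
  exact h2

instance DSub_characteristic : (DSub G).Characteristic := by
  rw [characteristic_iff_le_comap]
  intro φ g hg
  rw [mem_comap]
  obtain ⟨h2, hc⟩ := hg
  refine ⟨?_, fun h => ?_⟩
  · show (φ g) ^ 2 ∈ center G
    rw [← map_pow]
    exact map_mem_center φ h2
  · show ⁅φ g, h⁆ ∈ center G
    have h1 : ⁅φ g, h⁆ = φ ⁅g, φ.symm h⁆ := by
      rw [map_commutatorElement, MulEquiv.apply_symm_apply]
    rw [h1]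
    exact map_mem_center φ (hc _)

/-- commutators of elements of `DSub` have order at most two -/
theorem comm_sq_of_mem_DSub {x : G} (hx : x ∈ DSub G) (h : G) : ⁅x, h⁆ ^ 2 = 1 := by
  obtain ⟨hx2, hxc⟩ := hx
  have hc := hxc h
  have h1 : x * h * x⁻¹ = ⁅x, h⁆ * h := by rw [commutatorElement_def]; group
  have h2 : x ^ 2 * h * (x ^ 2)⁻¹ = ⁅x, h⁆ ^ 2 * h := by
    calc x ^ 2 * h * (x ^ 2)⁻¹ = x * (x * h * x⁻¹) * x⁻¹ := by rw [pow_two]; group
      _ = x * (⁅x, h⁆ * h) * x⁻¹ := by rw [h1]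
      _ = (x * ⁅x, h⁆) * h * x⁻¹ := by group
      _ = (⁅x, h⁆ * x) * h * x⁻¹ := by rw [mem_center_iff.mp hc x]
      _ = ⁅x, h⁆ * (x * h * x⁻¹) := by group
      _ = ⁅x, h⁆ * (⁅x, h⁆ * h) := by rw [h1]
      _ = ⁅x, h⁆ ^ 2 * h := by rw [pow_two]; group
  have h3 : x ^ 2 * h * (x ^ 2)⁻¹ = h := by
    rw [← mem_center_iff.mp hx2 h, mul_assoc, mul_inv_cancel, mul_one]
  rw [h3] at h2
  exact (mul_eq_right.mp h2.symm)

end Cfsg.Agent.Lib.Helper7.ST
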