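import Mathlib
import Cfsg.Agent.Lib.Helper7.STA

/-!
# 2-groups of symplectic type with centre of order 4 and exponent 4: `G = DSub G`
-/

set_option autoImplicit false

namespace Cfsg.Agent.Lib.Helper7.ST

open Subgroup
open scoped commutatorElement

variable {G : Type*} [Group G]

/-- the abstract hypotheses -/
structure Hyp (G : Type*) [Group G] : Prop where
  pgroup : IsPGroup 2 G
  exp4 : ∀ g : G, g ^ 4 = 1
  cyc : ∀ A : Subgroup G, A.Characteristic → IsMulCommutative A → IsCyclic A
  cardZ : Nat.card (center G) = 4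

variable [Finite G]

/-- the centre is a maximal characteristic abelian subgroup -/
theorem eq_center_of_char (h : Hyp G) (A : Subgroup G) [hAc : A.Characteristic]
    (hA : IsMulCommutative A) (hZA : center G ≤ A) : A = center G := by
  have hcyc := h.cyc A hAc hA
  obtain ⟨a, ha⟩ := IsCyclic.exists_generator (α := A)
  have hord := orderOf_eq_card_of_forall_mem_zpowers ha
  have ha4 : a ^ 4 = 1 := Subtype.ext (h.exp4 a.1)
  have hdvd : orderOf a ∣ 4 := orderOf_dvd_of_pow_eq_one ha4
  have hle : Nat.card A ≤ 4 := by
    rw [← hord]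
    exact Nat.le_of_dvd (by norm_num) hdvd
  symm
  apply eq_of_le_of_card_ge hZA
  rw [h.cardZ]
  exact hle

/-- the centre has a unique involution -/
theorem invol_unique (h : Hyp G) {c c' : G} (hc : c ∈ center G) (hc' : c' ∈ center G)
    (hc2 : c ^ 2 = 1) (hc'2 : c' ^ 2 = 1) (hc1 : c ≠ 1) (hc'1 : c' ≠ 1) : c = c' := by
  classical
  have hcyc : IsCyclic (center G) := h.cyc (center G) inferInstance inferInstance
  have : Fintype (center G) := Fintype.ofFinite _
  have hle := IsCyclic.card_pow_eq_one_le (α := center G) (n := 2) (by norm_num)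
  by_contra hne
  have hsub : ({1, ⟨c, hc⟩, ⟨c', hc'⟩} : Finset (center G)) ⊆
      Finset.univ.filter (fun a : center G => a ^ 2 = 1) := by
    intro a ha
    simp only [Finset.mem_insert, Finset.mem_singleton] at ha
    simp only [Finset.mem_filter, Finset.mem_univ, true_and]
    rcases ha with rfl | rfl | rfl
    · exact one_pow 2
    · exact Subtype.ext hc2
    · exact Subtype.ext hc'2
  have hcard : ({1, ⟨c, hc⟩, ⟨c', hc'⟩} : Finset (center G)).card = 3 := by
    rw [Finset.card_insert_of_notMem, Finset.card_insert_of_notMem, Finset.card_singleton]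
    · simp only [Finset.mem_singleton]
      intro heq
      exact hne (congrArg Subtype.val heq)
    · simp only [Finset.mem_insert, Finset.mem_singleton, not_or]
      constructor
      · intro heq
        exact hc1 (congrArg Subtype.val heq).symm
      · intro heq
        exact hc'1 (congrArg Subtype.val heq).symm
  have := Finset.card_le_card hsub
  omega

/-- the centre of `DSub G` is the centre of `G` -/
theorem center_DSub (h : Hyp G) {g : G} (hg : g ∈ DSub G)
    (hcomm : ∀ k ∈ DSub G, g * k = k * g) : g ∈ center G := by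
  have hA : centralizer (DSub G : Set G) ⊓ DSub G = center G := by
    apply eq_center_of_char h
    · refine ⟨⟨fun a b => ?_⟩⟩
      apply Subtype.ext
      have ha := (mem_inf.mp a.2).1
      have hb := (mem_inf.mp b.2).2
      exact (mem_centralizer_iff.mp ha b.1 hb).symm
    · intro z hz
      refine mem_inf.mpr ⟨?_, center_le_DSub hz⟩
      rw [mem_centralizer_iff]
      intro k _
      exact mem_center_iff.mp hz k
  rw [← hA]
  refine mem_inf.mpr ⟨?_, hg⟩
  rw [mem_centralizer_iff]
  intro k hk
  exact (hcomm k hk).symm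

/-- two elements of `DSub` that do not commute have the central involution as commutator;
 a third element not commuting with the first can be corrected by the second -/
theorem mul_comm_of_anti (h : Hyp G) {x y b : G} (hx : x ∈ DSub G) (hxy : x * y ≠ y * x)
    (hxb : x * b ≠ b * x) : x * (b * y) = (b * y) * x := by
  have hs := hx.2 b
  have ht := hx.2 y
  have hs2 := comm_sq_of_mem_DSub hx b
  have ht2 := comm_sq_of_mem_DSub hx y
  have hs1 : ⁅x, b⁆ ≠ 1 := by
    intro h1
    apply hxb
    rw [commutatorElement_eq_one_iff_mul_comm] at h1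
    exact h1
  have ht1 : ⁅x, y⁆ ≠ 1 := by
    intro h1
    apply hxy
    rw [commutatorElement_eq_one_iff_mul_comm] at h1
    exact h1
  have hst := invol_unique h hs ht hs2 ht2 hs1 ht1
  have h1 : x * b = ⁅x, b⁆ * b * x := by rw [commutatorElement_def]; group
  have h2 : x * y = ⁅x, y⁆ * y * x := by rw [commutatorElement_def]; group
  have hcy : ⁅x, y⁆ * b = b * ⁅x, y⁆ := (mem_center_iff.mp ht b).symm
  calc x * (b * y) = (x * b) * y := by group
    _ = ⁅x, b⁆ * b * (x * y) := by rw [h1]; group
    _ = ⁅x, y⁆ * b * (⁅x, y⁆ * y * x) := by rw [h2, hst]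
    _ = (⁅x, y⁆ * b * ⁅x, y⁆) * y * x := by group
    _ = (⁅x, y⁆ * (⁅x, y⁆ * b)) * y * x := by rw [mul_assoc ⁅x, y⁆ b, ← hcy]
    _ = ⁅x, y⁆ ^ 2 * b * y * x := by rw [pow_two]; group
    _ = (b * y) * x := by rw [ht2, one_mul]

end Cfsg.Agent.Lib.Helper7.ST
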