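import Mathlib
import Cfsg.Agent.Lib.Helper7.STB

/-!
# 2-groups of symplectic type with centre of order 4 and exponent 4: the maximality argument
-/

set_option autoImplicit false

namespace Cfsg.Agent.Lib.Helper7.ST

open Subgroup
open scoped commutatorElement

variable {G : Type*} [Group G]

/-- good subgroups: between the centre and `DSub`, and `G = E C_G(E)` -/
def Good (E : Subgroup G) : Prop :=
  center G ≤ E ∧ E ≤ DSub G ∧ ∀ g : G, ∃ e ∈ E, g * e ∈ centralizer (E : Set G)

theorem good_center : Good (center G) := by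
  refine ⟨le_refl _, center_le_DSub, fun g => ⟨1, one_mem _, ?_⟩⟩
  rw [mul_one, mem_centralizer_iff]
  intro z hz
  exact (mem_center_iff.mp hz g).symm

variable [Finite G]

theorem good_extend (h : Hyp G) (E : Subgroup G) (hE : Good E) (hlt : E ≠ DSub G) :
    ∃ E' : Subgroup G, Good E' ∧ Nat.card E < Nat.card E' := by
  obtain ⟨hZE, hED, hEC⟩ := hE
  obtain ⟨g, hgD, hgE⟩ : ∃ g ∈ DSub G, g ∉ E := by
    by_contra hcon
    push Not at hcon
    exact hlt (le_antisymm hED hcon)
  obtain ⟨e, heE, hx⟩ := hEC g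
  obtain ⟨x, hxdef⟩ : ∃ x, x = g * e := ⟨_, rfl⟩
  rw [← hxdef] at hx
  have hxD : x ∈ DSub G := by rw [hxdef]; exact mul_mem hgD (hED heE)
  have hxE : x ∉ E := by
    intro hx'
    apply hgE
    have := mul_mem hx' (inv_mem heE)
    rw [hxdef, mul_inv_cancel_right] at this
    exact this
  have hxZ : x ∉ center G := fun hz => hxE (hZE hz)
  obtain ⟨y₀, hy₀D, hxy₀⟩ : ∃ y₀ ∈ DSub G, x * y₀ ≠ y₀ * x := by
    by_contra hcon
    push Not at hcon
    exact hxZ (center_DSub h hxD hcon)
  obtain ⟨e', he'E, hy⟩ := hEC y₀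
  obtain ⟨y, hydef⟩ : ∃ y, y = y₀ * e' := ⟨_, rfl⟩
  rw [← hydef] at hy
  have hyD : y ∈ DSub G := by rw [hydef]; exact mul_mem hy₀D (hED he'E)
  have hxC := mem_centralizer_iff.mp hx
  have hyC := mem_centralizer_iff.mp hy
  have hxy : x * y ≠ y * x := by
    intro heq
    apply hxy₀
    have h1 := hxC e' he'E
    rw [hydef] at heq
    have h2 : x * y₀ * e' = y₀ * x * e' := by
      calc x * y₀ * e' = x * (y₀ * e') := by group
        _ = y₀ * e' * x := heq
        _ = y₀ * (e' * x) := by group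
        _ = y₀ * (x * e') := by rw [h1]
        _ = y₀ * x * e' := by group
    exact mul_right_cancel h2
  have hyx : y * x ≠ x * y := fun h' => hxy h'.symm
  refine ⟨E ⊔ closure {x, y}, ⟨le_sup_of_le_left hZE, ?_, ?_⟩, ?_⟩
  · apply sup_le hED
    rw [closure_le]
    rintro _ (rfl | rfl)
    · exact hxD
    · exact hyD
  · intro g'
    obtain ⟨e₁, he₁, hb⟩ := hEC g'
    obtain ⟨b, hbdef⟩ : ∃ b, b = g' * e₁ := ⟨_, rfl⟩
    rw [← hbdef] at hb
    have hxcl : x ∈ closure ({x, y} : Set G) := subset_closure (by simp)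
    have hycl : y ∈ closure ({x, y} : Set G) := subset_closure (by simp)
    -- step 1
    obtain ⟨f₁, hf₁cl, hf₁C, hf₁⟩ : ∃ f₁ ∈ closure ({x, y} : Set G),
        f₁ ∈ centralizer (E : Set G) ∧ x * (b * f₁) = (b * f₁) * x := by
      by_cases hbx : x * b = b * x
      · exact ⟨1, one_mem _, one_mem _, by rw [mul_one]; exact hbx⟩
      · exact ⟨y, hycl, hy, mul_comm_of_anti h hxD hxy hbx⟩
    obtain ⟨b₁, hb₁def⟩ : ∃ b₁, b₁ = b * f₁ := ⟨_, rfl⟩
    rw [← hb₁def] at hf₁
    have hb₁C : b₁ ∈ centralizer (E : Set G) := by rw [hb₁def]; exact mul_mem hb hf₁C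
    -- step 2
    obtain ⟨f₂, hf₂cl, hf₂C, hf₂y, hf₂x⟩ : ∃ f₂ ∈ closure ({x, y} : Set G),
        f₂ ∈ centralizer (E : Set G) ∧ y * (b₁ * f₂) = (b₁ * f₂) * y ∧
          x * (b₁ * f₂) = (b₁ * f₂) * x := by
      by_cases hby : y * b₁ = b₁ * y
      · exact ⟨1, one_mem _, one_mem _, by rw [mul_one]; exact hby, by rw [mul_one]; exact hf₁⟩
      · refine ⟨x, hxcl, hx, mul_comm_of_anti h hyD hyx hby, ?_⟩
        rw [← mul_assoc, hf₁]
    obtain ⟨b₂, hb₂def⟩ : ∃ b₂, b₂ = b₁ * f₂ := ⟨_, rfl⟩
    rw [← hb₂def] at hf₂y hf₂x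
    have hb₂C : b₂ ∈ centralizer (E : Set G) := by rw [hb₂def]; exact mul_mem hb₁C hf₂C
    refine ⟨e₁ * f₁ * f₂, ?_, ?_⟩
    · exact mul_mem (mul_mem (mem_sup_left he₁) (mem_sup_right hf₁cl)) (mem_sup_right hf₂cl)
    · have heq : g' * (e₁ * f₁ * f₂) = b₂ := by
        rw [hb₂def, hb₁def, hbdef]; group
      rw [heq, mem_centralizer_iff]
      have hle : E ⊔ closure {x, y} ≤ centralizer ({b₂} : Set G) := by
        apply sup_le
        · intro k hk
          rw [mem_centralizer_iff]
          intro b' hb'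
          rw [Set.mem_singleton_iff] at hb'
          rw [hb']
          exact (mem_centralizer_iff.mp hb₂C k hk).symm
        · rw [closure_le]
          rintro _ (rfl | rfl)
          · rw [SetLike.mem_coe, mem_centralizer_iff]
            intro b' hb'
            rw [Set.mem_singleton_iff] at hb'
            rw [hb']
            exact hf₂x.symm
          · rw [SetLike.mem_coe, mem_centralizer_iff]
            intro b' hb'
            rw [Set.mem_singleton_iff] at hb'
            rw [hb']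
            exact hf₂y.symm
      intro k hk
      have := mem_centralizer_iff.mp (hle hk) b₂ (Set.mem_singleton _)
      exact this.symm
  · by_contra hcon
    push Not at hcon
    have heq : E = E ⊔ closure {x, y} := eq_of_le_of_card_ge le_sup_left hcon
    apply hxE
    rw [heq]
    exact mem_sup_right (subset_closure (by simp))

end Cfsg.Agent.Lib.Helper7.ST
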