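import Mathlib
import Cfsg.Agent.Lib.Helper7.STC

/-!
# 2-groups of symplectic type with centre of order 4 and exponent 4: the structure theorem
-/

set_option autoImplicit false

namespace Cfsg.Agent.Lib.Helper7.ST

open Subgroup
open scoped commutatorElement

variable {G : Type*} [Group G] [Finite G]

theorem comm_mem_center_of_mk_mem_center {a : G}
    (ha : (QuotientGroup.mk' (center G) a) ∈ center (G ⧸ center G)) (k : G) :
    ⁅a, k⁆ ∈ center G := by
  rw [← QuotientGroup.eq_one_iff]
  have h1 : ((⁅a, k⁆ : G) : G ⧸ center G) =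
      ⁅(QuotientGroup.mk' (center G) a), (QuotientGroup.mk' (center G) k)⁆ := by
    rw [commutatorElement_def, commutatorElement_def]
    rfl
  rw [h1, commutatorElement_eq_one_iff_mul_comm]
  exact (mem_center_iff.mp ha _).symm

theorem centralizer_DSub_le (h : Hyp G) : centralizer (DSub G : Set G) ≤ center G := by
  by_contra hcon
  obtain ⟨b, hbB, hbZ⟩ : ∃ b ∈ centralizer (DSub G : Set G), b ∉ center G := by
    by_contra hc
    push Not at hc
    exact hcon hc
  have hnorm : (centralizer (DSub G : Set G)).Normal := normal_centralizer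
  obtain ⟨N, hNdef⟩ : ∃ N : Subgroup (G ⧸ center G),
      N = (centralizer (DSub G : Set G)).map (QuotientGroup.mk' (center G)) := ⟨_, rfl⟩
  have hNn : N.Normal := by
    rw [hNdef]
    exact hnorm.map _ (QuotientGroup.mk'_surjective _)
  have hNbot : N ≠ ⊥ := by
    intro hbot
    have hmem : QuotientGroup.mk' (center G) b ∈ N := by
      rw [hNdef]
      exact mem_map_of_mem _ hbB
    rw [hbot, mem_bot] at hmem
    exact hbZ ((QuotientGroup.eq_one_iff b).mp hmem)
  have hPq : IsPGroup 2 (G ⧸ center G) := h.pgroup.to_quotient _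
  have hmeet := Cfsg.Agent.Lib.Helper10.normal_inf_center_ne_bot hPq N hNbot
  obtain ⟨⟨abar, habar⟩, hne⟩ := (ne_bot_iff_exists_ne_one).mp hmeet
  obtain ⟨habarN, habarZ⟩ := mem_inf.mp habar
  rw [hNdef] at habarN
  obtain ⟨a, haB, hamk⟩ := mem_map.mp habarN
  have haZ : a ∉ center G := by
    intro hz
    apply hne
    apply Subtype.ext
    show abar = 1
    rw [← hamk]
    exact (QuotientGroup.eq_one_iff a).mpr hz
  rw [← hamk] at habarZ
  have hac : ∀ k, ⁅a, k⁆ ∈ center G := comm_mem_center_of_mk_mem_center habarZ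
  by_cases ha2 : a ^ 2 ∈ center G
  · have haD : a ∈ DSub G := ⟨ha2, hac⟩
    apply haZ
    apply center_DSub h haD
    intro k hk
    exact (mem_centralizer_iff.mp haB k hk).symm
  · have ha2B : a ^ 2 ∈ centralizer (DSub G : Set G) := pow_mem haB 2
    have ha2c : (QuotientGroup.mk' (center G) (a ^ 2)) ∈ center (G ⧸ center G) := by
      rw [map_pow]
      exact pow_mem habarZ 2
    have ha2D : a ^ 2 ∈ DSub G := by
      refine ⟨?_, comm_mem_center_of_mk_mem_center ha2c⟩
      rw [← pow_mul]
      rw [h.exp4 a]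
      exact one_mem _
    apply ha2
    apply center_DSub h ha2D
    intro k hk
    exact (mem_centralizer_iff.mp ha2B k hk).symm

/-- **structure theorem**: `G = DSub G` -/
theorem DSub_eq_top (h : Hyp G) : DSub G = ⊤ := by
  have hne : Nonempty {E : Subgroup G // Good E} := ⟨⟨center G, good_center⟩⟩
  obtain ⟨⟨E, hE⟩, hmax⟩ := Finite.exists_max (fun E : {E : Subgroup G // Good E} => Nat.card E.1)
  have hED : E = DSub G := by
    by_contra hlt
    obtain ⟨E', hE', hcard⟩ := good_extend h E hE hlt
    have := hmax ⟨E', hE'⟩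
    simp only at this
    omega
  rw [eq_top_iff]
  intro g _
  obtain ⟨e, heE, hge⟩ := hE.2.2 g
  rw [hED] at heE hge
  have h1 : g * e ∈ DSub G := center_le_DSub (centralizer_DSub_le h hge)
  have h2 := mul_mem h1 (inv_mem heE)
  rw [mul_inv_cancel_right] at h2
  exact h2

/-- the consequences used later -/
theorem structure_main (h : Hyp G) (g k : G) :
    g ^ 2 ∈ center G ∧ ⁅g, k⁆ ∈ center G ∧ ⁅g, k⁆ ^ 2 = 1 := by
  have hg : g ∈ DSub G := by rw [DSub_eq_top h]; exact mem_top g
  exact ⟨hg.1, hg.2 k, comm_sq_of_mem_DSub hg k⟩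

end Cfsg.Agent.Lib.Helper7.ST
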