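import Mathlib
import Cfsg.Prelude.Def_GeometricClasses
import Cfsg.Agent.Lib.Helper7.STD

/-!
# The group `4 ∘ 2^{1+4}` in `GL_4(F)`: squares are `±1` and elements commute up to sign
-/

set_option autoImplicit false

namespace Cfsg.Agent.Lib.Helper7.ST

open Matrix Cfsg
open scoped commutatorElement

variable {F : Type*} [Field F]

/-- the hypotheses on `R` -/
structure RHyp (R : Subgroup (GL (Fin 4) F)) : Prop where
  symp : Cfsg.Geo.IsSymplecticTypeGroup 2 R
  irr : Cfsg.Geo.ActsAbsolutelyIrreducibly (Cfsg.Geo.matrixSet R)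
  card : Nat.card R = 2 ^ 6
  cardZ : Nat.card (Subgroup.center R) = 4

variable {R : Subgroup (GL (Fin 4) F)}

theorem RHyp.finite (h : RHyp R) : Finite R := by
  apply Nat.finite_of_card_ne_zero
  rw [h.card]
  norm_num

theorem RHyp.hyp (h : RHyp R) : Hyp ↥R where
  pgroup := h.symp.pGroup
  exp4 := by
    intro g
    have h1 := h.symp.exponent_eq
    have h2 : Monoid.exponent ↥R = 4 := by rw [h1]; rfl
    have h3 := Monoid.pow_exponent_eq_one g
    rw [h2] at h3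
    exact h3
  cyc := h.symp.cyclic_of_characteristic
  cardZ := h.cardZ

theorem RHyp.scalar_of_commute (h : RHyp R) (M : Matrix (Fin 4) (Fin 4) F)
    (hM : ∀ g ∈ R, M * (g : Matrix (Fin 4) (Fin 4) F) = (g : Matrix (Fin 4) (Fin 4) F) * M) :
    ∃ c : F, M = c • (1 : Matrix (Fin 4) (Fin 4) F) := by
  apply h.irr.2
  rintro s ⟨g, hg, rfl⟩
  exact hM g hg

theorem RHyp.center_scalar (h : RHyp R) (z : ↥R) (hz : z ∈ Subgroup.center ↥R) :
    ∃ c : F, ((z : GL (Fin 4) F) : Matrix (Fin 4) (Fin 4) F) = c • (1 : Matrix (Fin 4) (Fin 4) F) := by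
  apply h.scalar_of_commute
  intro g hg
  have h1 := Subgroup.mem_center_iff.mp hz ⟨g, hg⟩
  have h2 := congrArg (fun y : ↥R => ((y : GL (Fin 4) F) : Matrix (Fin 4) (Fin 4) F)) h1
  simp only [Subgroup.coe_mul, Units.val_mul] at h2
  exact h2.symm

theorem smul_one_eq_one_iff (c : F) :
    c • (1 : Matrix (Fin 4) (Fin 4) F) = 1 ↔ c = 1 := by
  constructor
  · intro h
    have := congrFun (congrFun h 0) 0
    simpa using this
  · rintro rfl
    rw [one_smul]

/-- squares in `R` are `±1` -/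
theorem RHyp.sq (h : RHyp R) {g : GL (Fin 4) F} (hg : g ∈ R) :
    (g : Matrix (Fin 4) (Fin 4) F) * (g : Matrix (Fin 4) (Fin 4) F) = 1 ∨
      (g : Matrix (Fin 4) (Fin 4) F) * (g : Matrix (Fin 4) (Fin 4) F) = -1 := by
  have := h.finite
  obtain ⟨h1, -, -⟩ := structure_main h.hyp (⟨g, hg⟩ : ↥R) 1
  obtain ⟨c, hc⟩ := h.center_scalar _ h1
  have hval : (((⟨g, hg⟩ : ↥R) ^ 2 : ↥R) : GL (Fin 4) F) = g ^ 2 := rfl
  rw [hval, Units.val_pow_eq_pow_val, pow_two] at hc
  have h4 : ((g : Matrix (Fin 4) (Fin 4) F) * (g : Matrix (Fin 4) (Fin 4) F)) *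
      ((g : Matrix (Fin 4) (Fin 4) F) * (g : Matrix (Fin 4) (Fin 4) F)) = 1 := by
    have h5 := h.hyp.exp4 (⟨g, hg⟩ : ↥R)
    have h6 := congrArg (fun y : ↥R => ((y : GL (Fin 4) F) : Matrix (Fin 4) (Fin 4) F)) h5
    simp only [Subgroup.coe_pow, Units.val_pow_eq_pow_val, Subgroup.coe_one, Units.val_one] at h6
    rw [← h6]
    noncomm_ring
  rw [hc, Matrix.smul_mul, Matrix.mul_smul, Matrix.mul_one, smul_smul, smul_one_eq_one_iff] at h4
  have h7 : (c - 1) * (c + 1) = 0 := by linear_combination h4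
  rcases mul_eq_zero.mp h7 with h8 | h8
  · left
    rw [hc, sub_eq_zero.mp h8, one_smul]
  · right
    rw [hc, eq_neg_of_add_eq_zero_left h8, neg_smul, one_smul]

/-- two elements of `R` commute or anticommute -/
theorem RHyp.comm (h : RHyp R) {g k : GL (Fin 4) F} (hg : g ∈ R) (hk : k ∈ R) :
    (g : Matrix (Fin 4) (Fin 4) F) * (k : Matrix (Fin 4) (Fin 4) F) =
      (k : Matrix (Fin 4) (Fin 4) F) * (g : Matrix (Fin 4) (Fin 4) F) ∨
    (g : Matrix (Fin 4) (Fin 4) F) * (k : Matrix (Fin 4) (Fin 4) F) =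
      -((k : Matrix (Fin 4) (Fin 4) F) * (g : Matrix (Fin 4) (Fin 4) F)) := by
  have := h.finite
  obtain ⟨-, h1, h2⟩ := structure_main h.hyp (⟨g, hg⟩ : ↥R) ⟨k, hk⟩
  obtain ⟨c, hc⟩ := h.center_scalar _ h1
  have hval : ((⁅(⟨g, hg⟩ : ↥R), (⟨k, hk⟩ : ↥R)⁆ : ↥R) : GL (Fin 4) F) = g * k * g⁻¹ * k⁻¹ := rfl
  rw [hval] at hc
  have h3 : (g : Matrix (Fin 4) (Fin 4) F) * (k : Matrix (Fin 4) (Fin 4) F) =
      c • ((k : Matrix (Fin 4) (Fin 4) F) * (g : Matrix (Fin 4) (Fin 4) F)) := by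
    have h4 : g * k = (g * k * g⁻¹ * k⁻¹) * (k * g) := by group
    have h5 := congrArg (fun y : GL (Fin 4) F => (y : Matrix (Fin 4) (Fin 4) F)) h4
    simp only [Units.val_mul] at h5
    rw [h5]
    simp only [Units.val_mul] at hc
    rw [hc, Matrix.smul_mul, Matrix.one_mul]
  have h6 : c * c = 1 := by
    have h7 := congrArg (fun y : ↥R => ((y : GL (Fin 4) F) : Matrix (Fin 4) (Fin 4) F)) h2
    simp only [Subgroup.coe_pow, Units.val_pow_eq_pow_val, Subgroup.coe_one, Units.val_one] at h7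
    rw [hval] at h7
    simp only [Units.val_mul] at h7 hc
    rw [hc, pow_two, Matrix.smul_mul, Matrix.mul_smul, Matrix.mul_one, smul_smul,
      smul_one_eq_one_iff] at h7
    exact h7
  have h7 : (c - 1) * (c + 1) = 0 := by linear_combination h6
  rcases mul_eq_zero.mp h7 with h8 | h8
  · left
    rw [h3, sub_eq_zero.mp h8, one_smul]
  · right
    rw [h3, eq_neg_of_add_eq_zero_left h8, neg_smul, one_smul]

end Cfsg.Agent.Lib.Helper7.ST
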