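import Mathlib
import Cfsg.Agent.Lib.Helper7.STE

/-!
# The group `4 ∘ 2^{1+4}` in `GL_4(F)`: the scalar `i` and calculus of (anti)commutation
-/

set_option autoImplicit false

namespace Cfsg.Agent.Lib.Helper7.ST

open Matrix Cfsg
open scoped commutatorElement

variable {F : Type*} [Field F]

local notation "MM" => Matrix (Fin 4) (Fin 4) F
local notation "GG" => GL (Fin 4) F

/-- anticommuting matrices -/
def AC (X Y : MM) : Prop := X * Y = -(Y * X)

theorem AC.symm {X Y : MM} (h : AC X Y) : AC Y X := by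
  unfold AC at h ⊢
  rw [h, neg_neg]

theorem AC.smul_left {X Y : MM} (h : AC X Y) (e : F) : AC (e • X) Y := by
  unfold AC at h ⊢
  rw [Matrix.smul_mul, Matrix.mul_smul, h, smul_neg]

theorem AC.smul_right {X Y : MM} (h : AC X Y) (e : F) : AC X (e • Y) := (h.symm.smul_left e).symm

theorem AC.mul_left_comm {X Y W : MM} (h : AC X Y) (hW : W * Y = Y * W) : AC (X * W) Y := by
  unfold AC at h ⊢
  rw [Matrix.mul_assoc, hW, ← Matrix.mul_assoc, h, Matrix.neg_mul, Matrix.mul_assoc]

theorem AC.mul_right_comm {X Y W : MM} (h : AC X Y) (hW : W * X = X * W) : AC X (Y * W) :=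
  (h.symm.mul_left_comm hW).symm

/-- two anticommuting factors give a commuting product -/
theorem com_of_AC_AC {X Y W : MM} (h : AC X Y) (hW : AC W Y) : (X * W) * Y = Y * (X * W) := by
  unfold AC at h hW
  rw [Matrix.mul_assoc, hW, Matrix.mul_neg, ← Matrix.mul_assoc, h, Matrix.neg_mul, neg_neg,
    Matrix.mul_assoc]

theorem com_mul {X Y W : MM} (h : X * Y = Y * X) (hW : W * Y = Y * W) :
    (X * W) * Y = Y * (X * W) := by
  rw [Matrix.mul_assoc, hW, ← Matrix.mul_assoc, h, Matrix.mul_assoc]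

theorem not_AC_of_com (h2 : (2 : F) ≠ 0) {X Y : MM} (hX : IsUnit X.det) (hY : IsUnit Y.det)
    (h : X * Y = Y * X) : ¬ AC X Y := by
  intro hac
  unfold AC at hac
  rw [h] at hac
  have h1 : (2 : F) • (Y * X) = 0 := by
    rw [two_smul]
    nth_rewrite 1 [hac]
    rw [neg_add_cancel]
  have h3 : Y * X = 0 := by
    rcases smul_eq_zero.mp h1 with h4 | h4
    · exact absurd h4 h2
    · exact h4
  have h5 := congrArg Matrix.det h3
  rw [Matrix.det_mul, Matrix.det_zero] at h5
  exact (hY.mul hX).ne_zero h5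

theorem trace_eq_zero_of_AC (h2 : (2 : F) ≠ 0) {X Y : MM} (hY : IsUnit Y.det) (h : AC X Y) :
    X.trace = 0 := by
  unfold AC at h
  have h1 : X = -(Y * X * Y⁻¹) := by
    have := congrArg (fun W => W * Y⁻¹) h
    simp only [Matrix.neg_mul] at this
    rw [Matrix.mul_assoc, Matrix.mul_nonsing_inv _ hY, Matrix.mul_one] at this
    exact this
  have h3 : X.trace = -X.trace := by
    nth_rewrite 1 [h1]
    rw [Matrix.trace_neg, Matrix.mul_assoc, Matrix.trace_mul_comm, Matrix.mul_assoc,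
      Matrix.nonsing_inv_mul _ hY, Matrix.mul_one]
  have h4 : (2 : F) * X.trace = 0 := by linear_combination h3
  rcases mul_eq_zero.mp h4 with h5 | h5
  · exact absurd h5 h2
  · exact h5

variable {R : Subgroup (GL (Fin 4) F)}

theorem unit_det (g : GG) : IsUnit (g : MM).det :=
  (Matrix.isUnit_iff_isUnit_det _).mp g.isUnit

/-- the scalar `i` -/
theorem RHyp.exists_i (h : RHyp R) : ∃ (i : F) (zi : GG), i ^ 2 = -1 ∧ zi ∈ R ∧
    (zi : MM) = i • (1 : MM) := by
  have := h.finite
  have hcyc : IsCyclic (Subgroup.center ↥R) := h.hyp.cyc _ inferInstance inferInstance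
  obtain ⟨z, hz⟩ := IsCyclic.exists_generator (α := Subgroup.center ↥R)
  have hord := orderOf_eq_card_of_forall_mem_zpowers hz
  rw [h.cardZ] at hord
  obtain ⟨c, hc⟩ := h.center_scalar z.1 z.2
  have hpow : ∀ n : ℕ, (((z ^ n : Subgroup.center ↥R) : ↥R) : GG) = (z.1.1) ^ n := by
    intro n
    rfl
  have hmat : ∀ n : ℕ, ((z.1.1 ^ n : GG) : MM) = (c ^ n) • (1 : MM) := by
    intro n
    rw [Units.val_pow_eq_pow_val, hc, smul_pow, one_pow]
  have h4 : c ^ 4 = 1 := by
    have h5 : z ^ 4 = 1 := by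
      have h5' := pow_orderOf_eq_one z
      rwa [hord] at h5'
    have h6 := congrArg (fun y : Subgroup.center ↥R => (((y : ↥R) : GG) : MM)) h5
    beta_reduce at h6
    rw [hpow, hmat] at h6
    have h7 : (((1 : Subgroup.center ↥R) : ↥R) : GG) = 1 := rfl
    rw [h7, Units.val_one, smul_one_eq_one_iff] at h6
    exact h6
  have h2 : c ^ 2 ≠ 1 := by
    intro h5
    have h6 : z ^ 2 = 1 := by
      apply Subtype.ext
      apply Subtype.ext
      apply Units.ext
      rw [hpow, hmat, h5, one_smul]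
      rfl
    have := orderOf_dvd_of_pow_eq_one h6
    rw [hord] at this
    norm_num at this
  refine ⟨c, z.1.1, ?_, z.1.2, hc⟩
  have h5 : (c ^ 2 - 1) * (c ^ 2 + 1) = 0 := by linear_combination h4
  rcases mul_eq_zero.mp h5 with h6 | h6
  · exact absurd (sub_eq_zero.mp h6) h2
  · exact eq_neg_of_add_eq_zero_left h6

/-- a non-central element has an anticommuting partner -/
theorem RHyp.exists_AC (h : RHyp R) {g : GG} (hg : g ∈ R)
    (hnc : ∀ c : F, (g : MM) ≠ c • (1 : MM)) : ∃ k ∈ R, AC (g : MM) (k : MM) := by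
  by_contra hcon
  push Not at hcon
  obtain ⟨c, hc⟩ := h.scalar_of_commute (g : MM) (by
    intro k hk
    rcases h.comm hg hk with h1 | h1
    · exact h1
    · exact absurd h1 (hcon k hk))
  exact hnc c hc

/-- normalising the square of an element by the scalar `i` -/
theorem RHyp.exists_sq_one (h : RHyp R) {i : F} {zi : GG} (hi : i ^ 2 = -1) (hzi : zi ∈ R)
    (hzim : (zi : MM) = i • (1 : MM)) {g : GG} (hg : g ∈ R) :
    ∃ g' ∈ R, (g' : MM) * (g' : MM) = 1 ∧ ∃ e : F, e ≠ 0 ∧ (g' : MM) = e • (g : MM) := by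
  rcases h.sq hg with h1 | h1
  · exact ⟨g, hg, h1, 1, one_ne_zero, by rw [one_smul]⟩
  · refine ⟨zi * g, mul_mem hzi hg, ?_, i, ?_, ?_⟩
    · rw [Units.val_mul, hzim, Matrix.smul_mul, Matrix.one_mul, Matrix.smul_mul, Matrix.mul_smul,
        h1, smul_smul, ← pow_two, hi, neg_smul, one_smul, neg_neg]
    · rintro rfl
      norm_num at hi
    · rw [Units.val_mul, hzim, Matrix.smul_mul, Matrix.one_mul]

end Cfsg.Agent.Lib.Helper7.ST
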