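import Mathlib
import Cfsg.Agent.Lib.Helper7.STF

/-!
# The group `4 ∘ 2^{1+4}` in `GL_4(F)`: a symplectic frame `a, b, c, d`
-/

set_option autoImplicit false

namespace Cfsg.Agent.Lib.Helper7.ST

open Matrix Cfsg

variable {F : Type*} [Field F]

local notation "MM" => Matrix (Fin 4) (Fin 4) F
local notation "GG" => GL (Fin 4) F

variable {R : Subgroup (GL (Fin 4) F)}

/-- the centraliser of one element -/
def CC (x : GG) : Subgroup GG := Subgroup.centralizer {x}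

theorem mem_CC {x g : GG} : g ∈ CC x ↔ (g : MM) * (x : MM) = (x : MM) * (g : MM) := by
  unfold CC
  rw [Subgroup.mem_centralizer_iff]
  constructor
  · intro h
    have h1 := h x rfl
    have h2 := congrArg (fun y : GG => (y : MM)) h1
    simp only [Units.val_mul] at h2
    exact h2.symm
  · intro h y hy
    rw [Set.mem_singleton_iff] at hy
    subst hy
    apply Units.ext
    rw [Units.val_mul, Units.val_mul]
    exact h.symm

/-- cutting with the centraliser of `x` halves a subgroup containing an element anticommuting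
with `x` -/
theorem card_half (h : RHyp R) (h2 : (2 : F) ≠ 0) (H : Subgroup GG) (hH : H ≤ R) {x k₀ : GG}
    (hx : x ∈ R) (hk : k₀ ∈ H) (hac : AC (k₀ : MM) (x : MM)) :
    Nat.card H = 2 * Nat.card ↥(H ⊓ CC x) := by
  have hKH : H ⊓ CC x ≤ H := inf_le_left
  have hidx : ((H ⊓ CC x).subgroupOf H).index = 2 := by
    rw [Subgroup.index_eq_two_iff]
    refine ⟨⟨k₀, hk⟩, ?_⟩
    intro b
    have hbR : (b : GG) ∈ R := hH b.2
    rw [Subgroup.mem_subgroupOf, Subgroup.mem_subgroupOf]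
    have hbk : (((b * ⟨k₀, hk⟩ : ↥H) : GG) : MM) = (b : GG).1 * (k₀ : MM) := by
      rw [Subgroup.coe_mul, Units.val_mul]
    have hb1 : ((b * ⟨k₀, hk⟩ : ↥H) : GG) ∈ H ⊓ CC x ↔
        ((b : GG).1 * (k₀ : MM)) * (x : MM) = (x : MM) * ((b : GG).1 * (k₀ : MM)) := by
      rw [Subgroup.mem_inf, mem_CC, hbk]
      exact ⟨fun h => h.2, fun h => ⟨(b * ⟨k₀, hk⟩ : ↥H).2, h⟩⟩
    have hb2 : (b : GG) ∈ H ⊓ CC x ↔ (b : GG).1 * (x : MM) = (x : MM) * (b : GG).1 := by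
      rw [Subgroup.mem_inf, mem_CC]
      exact ⟨fun h => h.2, fun h => ⟨b.2, h⟩⟩
    rw [hb1, hb2]
    rcases h.comm hbR hx with h1 | h1
    · refine Or.inr ⟨h1, ?_⟩
      intro h3
      have h4 : AC ((b : GG).1 * (k₀ : MM)) (x : MM) := by
        unfold AC at hac ⊢
        rw [Matrix.mul_assoc, hac, Matrix.mul_neg, ← Matrix.mul_assoc, h1, Matrix.mul_assoc]
      exact not_AC_of_com h2 (by rw [Matrix.det_mul]; exact (unit_det _).mul (unit_det _))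
        (unit_det _) h3 h4
    · refine Or.inl ⟨com_of_AC_AC h1 hac, ?_⟩
      intro h3
      exact not_AC_of_com h2 (unit_det _) (unit_det _) h3 h1
  have h5 := Subgroup.card_mul_index ((H ⊓ CC x).subgroupOf H)
  rw [hidx, Nat.card_congr (Subgroup.subgroupOfEquivOfLe hKH).toEquiv] at h5
  omega

/-- the scalars of `R`, as a subgroup of `GL` -/
def ZZ (R : Subgroup GG) : Subgroup GG := (Subgroup.center ↥R).map R.subtype

theorem card_ZZ (h : RHyp R) : Nat.card ↥(ZZ R) = 4 := by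
  unfold ZZ
  rw [Subgroup.card_map_of_injective R.subtype_injective, h.cardZ]

theorem ZZ_le : ZZ R ≤ R := by
  unfold ZZ
  rintro _ ⟨z, -, rfl⟩
  exact z.2

theorem ZZ_scalar (h : RHyp R) {g : GG} (hg : g ∈ ZZ R) : ∃ c : F, (g : MM) = c • (1 : MM) := by
  unfold ZZ at hg
  obtain ⟨z, hz, rfl⟩ := hg
  exact h.center_scalar z hz

theorem mem_ZZ_of_scalar {g : GG} (hg : g ∈ R) {c : F} (hc : (g : MM) = c • (1 : MM)) :
    g ∈ ZZ R := by
  unfold ZZ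
  refine Subgroup.mem_map.mpr ⟨⟨g, hg⟩, ?_, rfl⟩
  rw [Subgroup.mem_center_iff]
  intro k
  apply Subtype.ext
  apply Units.ext
  rw [Subgroup.coe_mul, Subgroup.coe_mul, Units.val_mul, Units.val_mul]
  change (k : GG).1 * (g : MM) = (g : MM) * (k : GG).1
  rw [hc, Matrix.mul_smul, Matrix.smul_mul, Matrix.mul_one, Matrix.one_mul]

theorem ZZ_le_CC {x : GG} (h : RHyp R) : ZZ R ≤ CC x := by
  intro g hg
  obtain ⟨c, hc⟩ := ZZ_scalar h hg
  rw [mem_CC, hc, Matrix.mul_smul, Matrix.smul_mul, Matrix.mul_one, Matrix.one_mul]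

/-- a symplectic frame of `R` -/
structure Frame (R : Subgroup GG) (a b c d : GG) : Prop where
  ha : a ∈ R
  hb : b ∈ R
  hc : c ∈ R
  hd : d ∈ R
  aa : (a : MM) * (a : MM) = 1
  bb : (b : MM) * (b : MM) = 1
  cc : (c : MM) * (c : MM) = 1
  dd : (d : MM) * (d : MM) = 1
  ac : AC (a : MM) (c : MM)
  bd : AC (b : MM) (d : MM)
  ab : (a : MM) * (b : MM) = (b : MM) * (a : MM)
  ad : (a : MM) * (d : MM) = (d : MM) * (a : MM)
  cb : (c : MM) * (b : MM) = (b : MM) * (c : MM)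
  cd : (c : MM) * (d : MM) = (d : MM) * (c : MM)
  scal : ∀ g ∈ R, (g : MM) * (a : MM) = (a : MM) * (g : MM) →
    (g : MM) * (b : MM) = (b : MM) * (g : MM) → (g : MM) * (c : MM) = (c : MM) * (g : MM) →
    (g : MM) * (d : MM) = (d : MM) * (g : MM) → ∃ e : F, (g : MM) = e • (1 : MM)

/-- a nonscalar element exists -/
theorem RHyp.exists_nonscalar (h : RHyp R) : ∃ g ∈ R, ∀ c : F, (g : MM) ≠ c • (1 : MM) := by
  by_contra hcon
  push Not at hcon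
  have h1 : ZZ R = R := by
    apply le_antisymm ZZ_le
    intro g hg
    obtain ⟨c, hc⟩ := hcon g hg
    exact mem_ZZ_of_scalar hg hc
  have h2 := card_ZZ h
  rw [h1, h.card] at h2
  norm_num at h2

/-- adjusting an element to commute with `x` -/
theorem RHyp.adjust (h : RHyp R) {g x y : GG} (hg : g ∈ R) (hx : x ∈ R) (hy : y ∈ R)
    (hxy : AC (y : MM) (x : MM)) :
    ∃ g' ∈ R, (g' : MM) * (x : MM) = (x : MM) * (g' : MM) ∧ (g' = g ∨ g' = g * y) := by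
  rcases h.comm hg hx with h1 | h1
  · exact ⟨g, hg, h1, Or.inl rfl⟩
  · refine ⟨g * y, mul_mem hg hy, ?_, Or.inr rfl⟩
    rw [Units.val_mul]
    exact com_of_AC_AC h1 hxy

theorem RHyp.exists_frame (h : RHyp R) (h2 : (2 : F) ≠ 0) : ∃ a b c d : GG, Frame R a b c d := by
  have hfin := h.finite
  obtain ⟨i, zi, hi, hzi, hzim⟩ := h.exists_i
  -- a
  obtain ⟨a₀, ha₀, ha₀n⟩ := h.exists_nonscalar
  obtain ⟨a, ha, haa, ea, hea, hae⟩ := h.exists_sq_one hi hzi hzim ha₀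
  have han : ∀ e : F, (a : MM) ≠ e • (1 : MM) := by
    intro e he
    apply ha₀n (ea⁻¹ * e)
    rw [hae] at he
    rw [mul_smul, ← he, smul_smul, inv_mul_cancel₀ hea, one_smul]
  -- c
  obtain ⟨c₀, hc₀, hac₀⟩ := h.exists_AC ha han
  obtain ⟨c, hc, hcc, ec, hec, hce⟩ := h.exists_sq_one hi hzi hzim hc₀
  have hac : AC (a : MM) (c : MM) := by
    rw [hce]
    exact hac₀.smul_right ec
  -- the subgroup commuting with a and c
  have hH1 : Nat.card R = 2 * Nat.card ↥(R ⊓ CC a) :=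
    card_half h h2 R le_rfl ha hc hac.symm
  have haH1 : a ∈ R ⊓ CC a := ⟨ha, mem_CC.mpr rfl⟩
  have hH2 : Nat.card ↥(R ⊓ CC a) = 2 * Nat.card ↥(R ⊓ CC a ⊓ CC c) :=
    card_half h h2 (R ⊓ CC a) inf_le_left hc haH1 hac
  have hcard2 : Nat.card ↥(R ⊓ CC a ⊓ CC c) = 16 := by
    rw [h.card] at hH1
    omega
  -- b
  have hZle : ZZ R ≤ R ⊓ CC a ⊓ CC c := le_inf (le_inf ZZ_le (ZZ_le_CC h)) (ZZ_le_CC h)
  have hb₀ : ∃ b₀ ∈ R ⊓ CC a ⊓ CC c, b₀ ∉ ZZ R := by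
    by_contra hcon
    push Not at hcon
    have h3 : R ⊓ CC a ⊓ CC c = ZZ R := le_antisymm hcon hZle
    rw [h3, card_ZZ h] at hcard2
    norm_num at hcard2
  obtain ⟨b₀, hb₀mem, hb₀Z⟩ := hb₀
  rw [Subgroup.mem_inf, Subgroup.mem_inf, mem_CC, mem_CC] at hb₀mem
  obtain ⟨⟨hb₀R, hb₀a⟩, hb₀c⟩ := hb₀mem
  obtain ⟨b, hb, hbb, eb, heb, hbe⟩ := h.exists_sq_one hi hzi hzim hb₀R
  have hbn : ∀ e : F, (b : MM) ≠ e • (1 : MM) := by
    intro e he
    apply hb₀Z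
    apply mem_ZZ_of_scalar hb₀R (c := eb⁻¹ * e)
    rw [hbe] at he
    rw [mul_smul, ← he, smul_smul, inv_mul_cancel₀ heb, one_smul]
  have hba : (b : MM) * (a : MM) = (a : MM) * (b : MM) := by
    rw [hbe, Matrix.smul_mul, Matrix.mul_smul, hb₀a]
  have hbc : (b : MM) * (c : MM) = (c : MM) * (b : MM) := by
    rw [hbe, Matrix.smul_mul, Matrix.mul_smul, hb₀c]
  -- d
  obtain ⟨d₀, hd₀, hbd₀⟩ := h.exists_AC hb hbn
  obtain ⟨d₁, hd₁, hd₁a, hd₁e⟩ := h.adjust hd₀ ha hc hac.symm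
  have hbd₁ : AC (b : MM) (d₁ : MM) := by
    rcases hd₁e with rfl | rfl
    · exact hbd₀
    · rw [Units.val_mul]
      exact hbd₀.mul_right_comm hbc.symm
  obtain ⟨d₂, hd₂, hd₂c, hd₂e⟩ := h.adjust hd₁ hc ha hac
  have hbd₂ : AC (b : MM) (d₂ : MM) := by
    rcases hd₂e with rfl | rfl
    · exact hbd₁
    · rw [Units.val_mul]
      exact hbd₁.mul_right_comm hba.symm
  have hd₂a : (d₂ : MM) * (a : MM) = (a : MM) * (d₂ : MM) := by
    rcases hd₂e with rfl | rfl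
    · exact hd₁a
    · rw [Units.val_mul]
      exact com_mul hd₁a rfl
  obtain ⟨d, hd, hdd, ed, hed, hde⟩ := h.exists_sq_one hi hzi hzim hd₂
  have hbd : AC (b : MM) (d : MM) := by
    rw [hde]
    exact hbd₂.smul_right ed
  have hda : (d : MM) * (a : MM) = (a : MM) * (d : MM) := by
    rw [hde, Matrix.smul_mul, Matrix.mul_smul, hd₂a]
  have hdc : (d : MM) * (c : MM) = (c : MM) * (d : MM) := by
    rw [hde, Matrix.smul_mul, Matrix.mul_smul, hd₂c]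
  -- counting down
  have hdH2 : d ∈ R ⊓ CC a ⊓ CC c := ⟨⟨hd, mem_CC.mpr hda⟩, mem_CC.mpr hdc⟩
  have hH3 : Nat.card ↥(R ⊓ CC a ⊓ CC c) = 2 * Nat.card ↥(R ⊓ CC a ⊓ CC c ⊓ CC b) :=
    card_half h h2 _ (inf_le_left.trans inf_le_left) hb hdH2 hbd.symm
  have hbH3 : b ∈ R ⊓ CC a ⊓ CC c ⊓ CC b :=
    ⟨⟨⟨hb, mem_CC.mpr hba⟩, mem_CC.mpr hbc⟩, mem_CC.mpr rfl⟩
  have hH4 : Nat.card ↥(R ⊓ CC a ⊓ CC c ⊓ CC b) = 2 * Nat.card ↥(R ⊓ CC a ⊓ CC c ⊓ CC b ⊓ CC d) :=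
    card_half h h2 _ ((inf_le_left.trans inf_le_left).trans inf_le_left) hd hbH3 hbd
  have hcard4 : Nat.card ↥(R ⊓ CC a ⊓ CC c ⊓ CC b ⊓ CC d) = 4 := by omega
  have hZle4 : ZZ R ≤ R ⊓ CC a ⊓ CC c ⊓ CC b ⊓ CC d :=
    le_inf (le_inf hZle (ZZ_le_CC h)) (ZZ_le_CC h)
  have hfin4 : Finite ↥(R ⊓ CC a ⊓ CC c ⊓ CC b ⊓ CC d) :=
    Nat.finite_of_card_ne_zero (by rw [hcard4]; norm_num)
  have hZeq : ZZ R = R ⊓ CC a ⊓ CC c ⊓ CC b ⊓ CC d :=
    Subgroup.eq_of_le_of_card_ge hZle4 (by rw [hcard4, card_ZZ h])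
  refine ⟨a, b, c, d, ⟨ha, hb, hc, hd, haa, hbb, hcc, hdd, hac, hbd, hba.symm, hda.symm, hbc.symm,
    hdc.symm, ?_⟩⟩
  intro g hg hga hgb hgc hgd
  apply ZZ_scalar h
  rw [hZeq]
  exact ⟨⟨⟨⟨hg, mem_CC.mpr hga⟩, mem_CC.mpr hgc⟩, mem_CC.mpr hgb⟩, mem_CC.mpr hgd⟩

end Cfsg.Agent.Lib.Helper7.ST
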