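import Mathlib
import Cfsg.Agent.Lib.Helper7.STG

/-!
# Normalising matrices of `R = 4 ∘ 2^{1+4}`: the calculus of "rotations" `1 + w`
(ring lemmas adapted from helper9's `Ex24Q/Ex24R`)
-/

set_option autoImplicit false

namespace Cfsg.Agent.Lib.Helper7.ST

open Matrix Cfsg

section ring

variable {A : Type*} [Ring A]

theorem semi_one_add_1 {a b : A} (ha : a * a = 1) (hb : b * b = 1) :
    SemiconjBy (1 + b * a) a b := by
  unfold SemiconjBy
  rw [add_mul, one_mul, mul_assoc, ha, mul_one, mul_add, mul_one, ← mul_assoc, hb, one_mul, add_comm]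

theorem semi_one_add_2 {a b : A} (ha : a * a = 1) (hb : b * b = 1) (hab : a * b = -(b * a)) :
    SemiconjBy (1 + b * a) b (-a) := by
  unfold SemiconjBy
  rw [add_mul, one_mul, mul_assoc, hab, mul_neg, ← mul_assoc, hb, one_mul, mul_add, mul_one,
    neg_mul, ← mul_assoc, hab, neg_mul, neg_neg, mul_assoc, ha, mul_one]
  abel

theorem semi_one_add_3 {a b c : A} (hca : c * a = -(a * c)) (hcb : c * b = -(b * c)) :
    SemiconjBy (1 + b * a) c c := by
  unfold SemiconjBy
  rw [add_mul, one_mul, mul_add, mul_one, mul_assoc, ← mul_assoc c b a, hcb, neg_mul, mul_assoc,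
    hca, mul_neg, neg_neg]

theorem sq_neg_of_anti {a b : A} (ha : a * a = 1) (hb : b * b = 1) (hab : a * b = -(b * a)) :
    (b * a) * (b * a) = -1 := by
  rw [mul_assoc, ← mul_assoc a b a, hab, neg_mul, mul_neg, mul_assoc, ha, mul_one, hb]

theorem one_add_mul_one_sub {w : A} (hw : w * w = -1) : (1 + w) * (1 - w) = 2 := by
  rw [add_mul, one_mul, mul_sub, mul_one, hw, ← one_add_one_eq_two]
  abel

theorem one_sub_mul_one_add {w : A} (hw : w * w = -1) : (1 - w) * (1 + w) = 2 := by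
  rw [sub_mul, one_mul, mul_add, mul_one, hw, ← one_add_one_eq_two]
  abel

variable {K : Type*} [Semiring K] [Module K A] [IsScalarTower K A A] [SMulCommClass K A A]

theorem semi_smul {M x y : A} (c : K) (h : SemiconjBy M x y) : SemiconjBy (c • M) x y := by
  unfold SemiconjBy at h ⊢
  rw [smul_mul_assoc, mul_smul_comm, h]

/-- the product of the four "rotations" permutes the five anticommuting involutions cyclically up
to sign -/
theorem five_cycle (T : Fin 5 → A) (hsq : ∀ a, T a * T a = 1)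
    (hanti : ∀ a b, a ≠ b → T a * T b = -(T b * T a)) (c d : K) (Y : A)
    (hY : Y = (c • ((1 + T 4 * T 3) * (1 + T 3 * T 2))) * (d • ((1 + T 2 * T 1) * (1 + T 1 * T 0)))) :
    SemiconjBy Y (T 0) (T 4) ∧ SemiconjBy Y (T 1) (-T 0) ∧ SemiconjBy Y (T 2) (-T 1) ∧
      SemiconjBy Y (T 3) (-T 2) ∧ SemiconjBy Y (T 4) (-T 3) := by
  have s1 : ∀ a b, a ≠ b → SemiconjBy (1 + T b * T a) (T a) (T b) := fun a b _ =>
    semi_one_add_1 (hsq a) (hsq b)
  have s2 : ∀ a b, a ≠ b → SemiconjBy (1 + T b * T a) (T b) (-T a) := fun a b hab =>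
    semi_one_add_2 (hsq a) (hsq b) (hanti a b hab)
  have s3 : ∀ a b c, c ≠ a → c ≠ b → SemiconjBy (1 + T b * T a) (T c) (T c) := fun a b c hca hcb =>
    semi_one_add_3 (hanti c a hca) (hanti c b hcb)
  have s3' : ∀ a b c, c ≠ a → c ≠ b → SemiconjBy (1 + T b * T a) (-T c) (-T c) := fun a b c hca hcb =>
    (s3 a b c hca hcb).neg_right
  subst hY
  refine ⟨?_, ?_, ?_, ?_, ?_⟩
  · exact (semi_smul c ((s1 3 4 (by decide)).mul_left (s1 2 3 (by decide)))).mul_left
      (semi_smul d ((s1 1 2 (by decide)).mul_left (s1 0 1 (by decide))))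
  · exact (semi_smul c ((s3' 3 4 0 (by decide) (by decide)).mul_left
      (s3' 2 3 0 (by decide) (by decide)))).mul_left
      (semi_smul d ((s3' 1 2 0 (by decide) (by decide)).mul_left (s2 0 1 (by decide))))
  · exact (semi_smul c ((s3' 3 4 1 (by decide) (by decide)).mul_left
      (s3' 2 3 1 (by decide) (by decide)))).mul_left
      (semi_smul d ((s2 1 2 (by decide)).mul_left (s3 0 1 2 (by decide) (by decide))))
  · exact (semi_smul c ((s3' 3 4 2 (by decide) (by decide)).mul_left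
      (s2 2 3 (by decide)))).mul_left
      (semi_smul d ((s3 1 2 3 (by decide) (by decide)).mul_left (s3 0 1 3 (by decide) (by decide))))
  · exact (semi_smul c ((s2 3 4 (by decide)).mul_left
      (s3 2 3 4 (by decide) (by decide)))).mul_left
      (semi_smul d ((s3 1 2 4 (by decide) (by decide)).mul_left (s3 0 1 4 (by decide) (by decide))))

theorem five_dvd_of_pow_eq_one (T : Fin 5 → A) (Y : A)
    (h0 : SemiconjBy Y (T 0) (T 4)) (h1 : SemiconjBy Y (T 1) (-T 0)) (h2 : SemiconjBy Y (T 2) (-T 1))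
    (h3 : SemiconjBy Y (T 3) (-T 2)) (h4 : SemiconjBy Y (T 4) (-T 3))
    (hne : ∀ a b, a ≠ b → T a ≠ T b ∧ T a ≠ -T b) (n : ℕ) (hn : Y ^ n = 1) : 5 ∣ n := by
  have p1 : SemiconjBy (Y ^ 1) (T 4) (-T 3) := by rw [pow_one]; exact h4
  have p2 : SemiconjBy (Y ^ 2) (T 4) (T 2) := by
    rw [pow_succ']
    have := h3.neg_right
    rw [neg_neg] at this
    exact this.mul_left p1
  have p3 : SemiconjBy (Y ^ 3) (T 4) (-T 1) := by
    rw [pow_succ']
    exact h2.mul_left p2
  have p4 : SemiconjBy (Y ^ 4) (T 4) (T 0) := by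
    rw [pow_succ']
    have := h1.neg_right
    rw [neg_neg] at this
    exact this.mul_left p3
  have p5 : SemiconjBy (Y ^ 5) (T 4) (T 4) := by
    rw [pow_succ']
    exact h0.mul_left p4
  have p5q : ∀ q : ℕ, SemiconjBy ((Y ^ 5) ^ q) (T 4) (T 4) := fun q => Commute.pow_left p5 q
  have hdecomp : Y ^ n = Y ^ (n % 5) * (Y ^ 5) ^ (n / 5) := by
    rw [← pow_mul, ← pow_add, Nat.mod_add_div]
  have key : ∀ S : A, SemiconjBy (Y ^ (n % 5)) (T 4) S → T 4 = S := by
    intro S hS
    have := hS.mul_left (p5q (n / 5))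
    rw [← hdecomp, hn] at this
    unfold SemiconjBy at this
    rw [one_mul, mul_one] at this
    exact this
  have hlt : n % 5 < 5 := Nat.mod_lt _ (by norm_num)
  by_contra hdvd
  have hne0 : n % 5 ≠ 0 := fun h => hdvd (Nat.dvd_of_mod_eq_zero h)
  have hcases : n % 5 = 1 ∨ n % 5 = 2 ∨ n % 5 = 3 ∨ n % 5 = 4 := by omega
  rcases hcases with hk | hk | hk | hk <;> rw [hk] at key
  · exact (hne 4 3 (by decide)).2 (key _ p1)
  · exact (hne 4 2 (by decide)).1 (key _ p2)
  · exact (hne 4 1 (by decide)).2 (key _ p3)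
  · exact (hne 4 0 (by decide)).1 (key _ p4)

/-- the quaternion identity: `S = (1+I)(1+J)` satisfies `S² = 2S - 4` -/
theorem quatS_sq {I J : A} (hI : I * I = -1) (hJ : J * J = -1) (hIJ : J * I = -(I * J)) :
    ((1 + I) * (1 + J)) * ((1 + I) * (1 + J)) = 2 * ((1 + I) * (1 + J)) - 4 := by
  have r1 : ∀ X : A, I * (I * X) = -X := fun X => by rw [← mul_assoc, hI, neg_mul, one_mul]
  have r2 : ∀ X : A, J * (J * X) = -X := fun X => by rw [← mul_assoc, hJ, neg_mul, one_mul]
  have r3 : ∀ X : A, J * (I * X) = -(I * (J * X)) := fun X => by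
    rw [← mul_assoc, hIJ, neg_mul, mul_assoc]
  simp only [mul_add, add_mul, mul_one, one_mul, mul_assoc, hI, hJ, hIJ, r1, r2, r3, mul_neg,
    neg_mul, neg_neg]
  have h2 : (2 : A) = 1 + 1 := one_add_one_eq_two.symm
  have h4 : (4 : A) = 1 + 1 + 1 + 1 := by norm_num
  rw [h2, h4]
  simp only [mul_add, add_mul, mul_one, one_mul]
  abel

end ring

variable {F : Type*} [Field F]

local notation "MM" => Matrix (Fin 4) (Fin 4) F
local notation "GG" => GL (Fin 4) F

variable {R : Subgroup (GL (Fin 4) F)}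

/-! ### matrices normalising `R` -/

/-- `Y` conjugates `R` into itself -/
def Nmz (R : Subgroup GG) (Y : MM) : Prop := ∀ g ∈ R, ∃ g' ∈ R, Y * (g : MM) = (g' : MM) * Y

theorem Nmz.one : Nmz R (1 : MM) := fun g hg => ⟨g, hg, by rw [Matrix.one_mul, Matrix.mul_one]⟩

theorem Nmz.mul {Y Y' : MM} (h : Nmz R Y) (h' : Nmz R Y') : Nmz R (Y * Y') := by
  intro g hg
  obtain ⟨g1, hg1, e1⟩ := h' g hg
  obtain ⟨g2, hg2, e2⟩ := h g1 hg1
  exact ⟨g2, hg2, by rw [Matrix.mul_assoc, e1, ← Matrix.mul_assoc, e2, Matrix.mul_assoc]⟩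

theorem Nmz.smul {Y : MM} (e : F) (h : Nmz R Y) : Nmz R (e • Y) := by
  intro g hg
  obtain ⟨g1, hg1, e1⟩ := h g hg
  exact ⟨g1, hg1, by rw [Matrix.smul_mul, Matrix.mul_smul, e1]⟩

theorem Nmz.pow {Y : MM} (h : Nmz R Y) (k : ℕ) : Nmz R (Y ^ k) := by
  induction k with
  | zero => rw [pow_zero]; exact Nmz.one
  | succ k ih => rw [pow_succ]; exact ih.mul h

theorem Nmz.of_mem {k : GG} (hk : k ∈ R) : Nmz R (k : MM) := by
  intro g hg
  refine ⟨k * g * k⁻¹, mul_mem (mul_mem hk hg) (inv_mem hk), ?_⟩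
  rw [← Units.val_mul, ← Units.val_mul]
  congr 1
  group

theorem RHyp.nmz_one_add (h : RHyp R) {w : GG} (hw : w ∈ R) (hww : (w : MM) * (w : MM) = -1) :
    Nmz R (1 + (w : MM)) := by
  intro g hg
  rcases h.comm hg hw with e | e
  · refine ⟨g, hg, ?_⟩
    rw [add_mul, one_mul, mul_add, mul_one, e]
  · refine ⟨w * g, R.mul_mem hw hg, ?_⟩
    rw [Units.val_mul, add_mul, one_mul, mul_add, mul_one, Matrix.mul_assoc, e, Matrix.mul_neg,
      ← Matrix.mul_assoc, hww, neg_mul, one_mul, neg_neg, add_comm]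

/-- in a group, an element conjugating a finite subgroup into itself normalises it -/
theorem mem_normalizer_of_conj_mem {G : Type*} [Group G] (H : Subgroup G) [Finite H] (n : G)
    (hn : ∀ g ∈ H, n * g * n⁻¹ ∈ H) : n ∈ Subgroup.normalizer (H : Set G) := by
  rw [Subgroup.mem_normalizer_iff]
  intro g
  refine ⟨hn g, fun hg => ?_⟩
  let f : H → H := fun k => ⟨n * k * n⁻¹, hn k k.2⟩
  have hinj : Function.Injective f := by
    intro k k' hkk
    have h1 := congrArg Subtype.val hkk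
    simp only [f] at h1
    apply Subtype.ext
    exact mul_left_cancel (mul_right_cancel h1)
  have hsurj := Finite.surjective_of_injective hinj
  obtain ⟨k, hk⟩ := hsurj ⟨n * g * n⁻¹, hg⟩
  have h1 := congrArg Subtype.val hk
  simp only [f] at h1
  have h2 : (k : G) = g := mul_left_cancel (mul_right_cancel h1)
  rw [← h2]
  exact k.2

theorem Nmz.mem_normalizer [Finite R] {y : GG} (h : Nmz R (y : MM)) :
    y ∈ Cfsg.Geo.subgroupNormalizer R := by
  unfold Cfsg.Geo.subgroupNormalizer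
  apply mem_normalizer_of_conj_mem
  intro g hg
  obtain ⟨g', hg', e⟩ := h g hg
  have h1 : y * g = g' * y := by
    apply Units.ext
    rw [Units.val_mul, Units.val_mul]
    exact e
  rw [h1, mul_inv_cancel_right]
  exact hg'

theorem nmz_of_mem_normalizer {y : GG} (h : y ∈ Cfsg.Geo.subgroupNormalizer R) :
    Nmz R (y : MM) := by
  unfold Cfsg.Geo.subgroupNormalizer at h
  rw [Subgroup.mem_normalizer_iff] at h
  intro g hg
  refine ⟨y * g * y⁻¹, (h g).mp hg, ?_⟩
  rw [← Units.val_mul, ← Units.val_mul]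
  congr 1
  group

/-- scalar matrices normalise everything -/
theorem Nmz.scalar (e : F) : Nmz R (e • (1 : MM)) := Nmz.one.smul e

end Cfsg.Agent.Lib.Helper7.ST
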