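import Mathlib
import Cfsg.Agent.Lib.Helper14.GUConj7
import Cfsg.Agent.Lib.Helper15.PSf7

/-!
# Diagonalisable matrices: kernel dimensions, eigenvalue counts and conjugacy

Generic tools for the class theory of `SU_4(p)` used for S6001.
-/

set_option autoImplicit false
set_option linter.unusedSectionVars false

namespace Cfsg.Agent.Lib.Helper7.SU4

open Matrix Module Polynomial
open Cfsg.Agent.Lib.Helper14.GUConj

section kd

variable {F : Type*} [Field F] {n : ℕ}

/-- the kernel dimension of a matrix (field-generic version) -/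
noncomputable def kd (M : Matrix (Fin n) (Fin n) F) : ℕ :=
  finrank F (LinearMap.ker (Matrix.toLin' M))

theorem kd_add_rank (M : Matrix (Fin n) (Fin n) F) : M.rank + kd M = n := by
  have h := LinearMap.finrank_range_add_finrank_ker (Matrix.toLin' M)
  rw [Module.finrank_fin_fun] at h
  exact h

theorem kd_transpose (M : Matrix (Fin n) (Fin n) F) : kd Mᵀ = kd M := by
  have h1 := kd_add_rank M
  have h2 := kd_add_rank Mᵀ
  rw [Matrix.rank_transpose] at h2
  omega

theorem kd_unit_mul (U M : Matrix (Fin n) (Fin n) F) (hU : IsUnit U.det) :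
    kd (U * M) = kd M := by
  have h1 := kd_add_rank M
  have h2 := kd_add_rank (U * M)
  rw [Matrix.rank_mul_eq_right_of_isUnit_det U M hU] at h2
  omega

theorem kd_mul_unit (M U : Matrix (Fin n) (Fin n) F) (hU : IsUnit U.det) :
    kd (M * U) = kd M := by
  have h1 := kd_add_rank M
  have h2 := kd_add_rank (M * U)
  rw [Matrix.rank_mul_eq_left_of_isUnit_det U M hU] at h2
  omega

theorem kd_smul (a : F) (ha : a ≠ 0) (M : Matrix (Fin n) (Fin n) F) : kd (a • M) = kd M := by
  have h : a • M = (a • (1 : Matrix (Fin n) (Fin n) F)) * M := by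
    rw [Matrix.smul_mul, Matrix.one_mul]
  rw [h]
  apply kd_unit_mul
  rw [Matrix.det_smul, Matrix.det_one, mul_one]
  exact (isUnit_iff_ne_zero.mpr ha).pow _

theorem kd_diagonal [DecidableEq F] (w : Fin n → F) :
    kd (Matrix.diagonal w) = (Finset.univ.filter (fun j => w j = 0)).card := by
  have h1 := kd_add_rank (Matrix.diagonal w)
  rw [Matrix.rank_diagonal] at h1
  have h2 : Fintype.card {i // w i ≠ 0} = (Finset.univ.filter (fun j => w j ≠ 0)).card :=
    Fintype.card_subtype _
  have h3 := Finset.card_filter_add_card_filter_not (s := (Finset.univ : Finset (Fin n)))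
    (fun j => w j = 0)
  rw [Finset.card_univ, Fintype.card_fin] at h3
  have h4 : (Finset.univ.filter (fun j => w j ≠ 0)).card =
      (Finset.univ.filter (fun j => ¬ w j = 0)).card := rfl
  omega

theorem kd_pos_iff (M : Matrix (Fin n) (Fin n) F) : 0 < kd M ↔ ∃ v : Fin n → F, v ≠ 0 ∧ M *ᵥ v = 0 := by
  unfold kd
  rw [Module.finrank_pos_iff_exists_ne_zero]
  constructor
  · rintro ⟨⟨v, hv⟩, hne⟩
    refine ⟨v, fun h => hne (Subtype.ext h), ?_⟩
    rw [LinearMap.mem_ker, Matrix.toLin'_apply] at hv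
    exact hv
  · rintro ⟨v, hv, hMv⟩
    refine ⟨⟨v, ?_⟩, fun h => hv (congrArg Subtype.val h)⟩
    rw [LinearMap.mem_ker, Matrix.toLin'_apply]
    exact hMv

end kd

section diag

variable {F : Type*} [Field F] [DecidableEq F] {n : ℕ}

/-- eigenvalue counts from a diagonalisation -/
theorem kd_of_diag (x P : Matrix (Fin n) (Fin n) F) (ν : Fin n → F) (hP : IsUnit P.det)
    (hx : x * P = P * Matrix.diagonal ν) (lam : F) :
    kd (x - lam • (1 : Matrix (Fin n) (Fin n) F)) =
      (Finset.univ.filter (fun j => ν j = lam)).card := by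
  have h1 : (x - lam • (1 : Matrix (Fin n) (Fin n) F)) * P =
      P * Matrix.diagonal (fun j => ν j - lam) := by
    rw [Matrix.sub_mul, hx, Matrix.smul_mul, Matrix.one_mul]
    have : Matrix.diagonal (fun j => ν j - lam) =
        Matrix.diagonal ν - lam • (1 : Matrix (Fin n) (Fin n) F) := by
      ext i j
      by_cases hij : i = j
      · subst hij
        simp
      · simp [hij]
    rw [this, Matrix.mul_sub, Matrix.mul_smul, Matrix.mul_one]
  have h2 : kd ((x - lam • (1 : Matrix (Fin n) (Fin n) F)) * P) =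
      kd (x - lam • (1 : Matrix (Fin n) (Fin n) F)) := kd_mul_unit _ _ hP
  rw [← h2, h1, kd_unit_mul _ _ hP, kd_diagonal]
  congr 1
  ext j
  simp only [Finset.mem_filter, Finset.mem_univ, true_and, sub_eq_zero]

/-- two functions with the same fibre sizes differ by a permutation -/
theorem exists_perm_of_card_fiber (ν ν' : Fin n → F)
    (h : ∀ lam : F, (Finset.univ.filter (fun j => ν j = lam)).card =
      (Finset.univ.filter (fun j => ν' j = lam)).card) :
    ∃ σ : Equiv.Perm (Fin n), ∀ j, ν' j = ν (σ j) := by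
  have hfib : ∀ lam : F, Nonempty ({j // ν' j = lam} ≃ {j // ν j = lam}) := by
    intro lam
    apply Fintype.card_eq.mp
    rw [Fintype.card_subtype, Fintype.card_subtype]
    exact (h lam).symm
  let e : (lam : F) → ({j // ν' j = lam} ≃ {j // ν j = lam}) := fun lam => (hfib lam).some
  let σ : Fin n ≃ Fin n :=
    ((Equiv.sigmaFiberEquiv ν').symm.trans (Equiv.sigmaCongrRight e)).trans
      (Equiv.sigmaFiberEquiv ν)
  refine ⟨σ, ?_⟩
  intro j
  have h1 : σ j = ((e (ν' j)) ⟨j, rfl⟩ : Fin n) := rfl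
  rw [h1]
  exact ((e (ν' j)) ⟨j, rfl⟩).2.symm

/-- conjugacy of diagonalisable matrices with the same eigenvalue counts -/
theorem conj_of_diag (x m P P' : Matrix (Fin n) (Fin n) F) (ν ν' : Fin n → F)
    (hP : IsUnit P.det) (hP' : IsUnit P'.det)
    (hx : x * P = P * Matrix.diagonal ν) (hm : m * P' = P' * Matrix.diagonal ν')
    (h : ∀ lam : F, (Finset.univ.filter (fun j => ν j = lam)).card =
      (Finset.univ.filter (fun j => ν' j = lam)).card) :
    ∃ G : Matrix (Fin n) (Fin n) F, IsUnit G.det ∧ G * m = x * G := by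
  obtain ⟨σ, hσ⟩ := exists_perm_of_card_fiber ν ν' h
  -- reorder the columns of `P'`
  obtain ⟨P'', hP''⟩ : ∃ P'' : Matrix (Fin n) (Fin n) F, P'' = P'.submatrix id σ.symm := ⟨_, rfl⟩
  have hP''det : IsUnit P''.det := by
    rw [hP'', Matrix.det_permute']
    refine IsUnit.mul ?_ hP'
    rcases Int.units_eq_one_or (Equiv.Perm.sign σ.symm) with h1 | h1 <;> rw [h1] <;> simp
  have hm'' : m * P'' = P'' * Matrix.diagonal ν := by
    ext i k
    have h1 := congrFun (congrFun hm i) (σ.symm k)
    rw [Matrix.mul_apply] at h1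
    rw [Matrix.mul_apply, Matrix.mul_diagonal]
    rw [Matrix.mul_diagonal] at h1
    simp only [hP'', Matrix.submatrix_apply, id_eq]
    rw [h1, hσ, Equiv.apply_symm_apply]
  refine ⟨P * P''⁻¹, ?_, ?_⟩
  · rw [Matrix.det_mul]
    refine IsUnit.mul hP ?_
    exact (Matrix.isUnit_nonsing_inv_det_iff).mpr hP''det
  · have h1 : P''⁻¹ * m = Matrix.diagonal ν * P''⁻¹ := by
      calc P''⁻¹ * m = P''⁻¹ * m * (P'' * P''⁻¹) := by
            rw [Matrix.mul_nonsing_inv _ hP''det, Matrix.mul_one]
        _ = P''⁻¹ * (m * P'') * P''⁻¹ := by simp only [Matrix.mul_assoc]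
        _ = P''⁻¹ * (P'' * Matrix.diagonal ν) * P''⁻¹ := by rw [hm'']
        _ = (P''⁻¹ * P'') * Matrix.diagonal ν * P''⁻¹ := by simp only [Matrix.mul_assoc]
        _ = Matrix.diagonal ν * P''⁻¹ := by
            rw [Matrix.nonsing_inv_mul _ hP''det, Matrix.one_mul]
    rw [Matrix.mul_assoc, h1, ← Matrix.mul_assoc, ← hx, Matrix.mul_assoc]

end diag

end Cfsg.Agent.Lib.Helper7.SU4
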