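import Mathlib
import Cfsg.Agent.Lib.Helper7.SU4A

/-!
# Unitary matrices: adjoint kernel lemma, outer products, centraliser elements of prescribed
determinant, and conjugacy in `SU` from conjugacy in `GL`
-/

set_option autoImplicit false
set_option linter.unusedSectionVars false

namespace Cfsg.Agent.Lib.Helper7.SU4

open Matrix Module Polynomial Cfsg
open Cfsg.Agent.Lib.Helper14.GUConj
open Cfsg.Agent.Lib.Helper14.HSemi (sigQ sigQ_apply)
open Cfsg.Agent.Lib.Helper14.HCount (sigQ_sigQ)

variable {F : Type*} [Field F] [Fintype F] {q : ℕ} (hF : Fintype.card F = q ^ 2) {n : ℕ}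

theorem sharp_sub (M N : Matrix (Fin n) (Fin n) F) :
    sharp hF (M - N) = sharp hF M - sharp hF N := by
  unfold sharp
  rw [map_sub, Matrix.transpose_sub]

theorem sharp_smul_one (a : F) :
    sharp hF (a • (1 : Matrix (Fin n) (Fin n) F)) = (a ^ q) • (1 : Matrix (Fin n) (Fin n) F) := by
  rw [sharp_smul, sharp_one, sigQ_apply]

theorem unitary_mul_sharp {M : Matrix (Fin n) (Fin n) F} (hM : sharp hF M * M = 1) :
    M * sharp hF M = 1 := _root_.mul_eq_one_comm.mp hM

theorem unitary_isUnit_det {M : Matrix (Fin n) (Fin n) F} (hM : sharp hF M * M = 1) :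
    IsUnit M.det := by
  have h := congrArg Matrix.det hM
  rw [Matrix.det_mul, Matrix.det_one] at h
  rw [isUnit_iff_ne_zero]
  intro h0
  rw [h0, mul_zero] at h
  exact zero_ne_one h

theorem unitary_det_norm {M : Matrix (Fin n) (Fin n) F} (hM : sharp hF M * M = 1) :
    M.det ^ (q + 1) = 1 := by
  have h := congrArg Matrix.det hM
  rw [Matrix.det_mul, Matrix.det_one, det_sharp, sigQ_apply] at h
  rw [pow_succ]
  exact h

theorem unitary_mul {M N : Matrix (Fin n) (Fin n) F} (hM : sharp hF M * M = 1)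
    (hN : sharp hF N * N = 1) : sharp hF (M * N) * (M * N) = 1 := by
  rw [sharp_mul, Matrix.mul_assoc, ← Matrix.mul_assoc (sharp hF M), hM, Matrix.one_mul, hN]

/-- **adjoint kernel lemma**: for a unitary matrix the eigenvalues `λ` and `λ^{-q}` have the same
multiplicity -/
theorem kd_unitary_sub (M : Matrix (Fin n) (Fin n) F) (hM : sharp hF M * M = 1) (lam : F)
    (hlam : lam ≠ 0) :
    kd (M - lam • (1 : Matrix (Fin n) (Fin n) F)) =
      kd (M - (lam ^ q)⁻¹ • (1 : Matrix (Fin n) (Fin n) F)) := by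
  have hM' := unitary_mul_sharp hF hM
  have hMdet := unitary_isUnit_det hF hM
  have hc : lam ^ q ≠ 0 := pow_ne_zero _ hlam
  have h1 : sharp hF (M - lam • (1 : Matrix (Fin n) (Fin n) F)) =
      sharp hF M - (lam ^ q) • (1 : Matrix (Fin n) (Fin n) F) := by
    rw [sharp_sub, sharp_smul_one]
  have h2 : M * (sharp hF M - (lam ^ q) • (1 : Matrix (Fin n) (Fin n) F)) =
      (-(lam ^ q)) • (M - (lam ^ q)⁻¹ • (1 : Matrix (Fin n) (Fin n) F)) := by
    rw [Matrix.mul_sub, hM', Matrix.mul_smul, Matrix.mul_one, smul_sub, smul_smul, neg_mul,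
      mul_inv_cancel₀ hc, neg_smul, neg_smul, one_smul]
    abel
  calc kd (M - lam • (1 : Matrix (Fin n) (Fin n) F))
      = kd (sharp hF (M - lam • (1 : Matrix (Fin n) (Fin n) F))) := (kdim_sharp hF _).symm
    _ = kd (M * (sharp hF M - (lam ^ q) • (1 : Matrix (Fin n) (Fin n) F))) := by
        rw [h1, kd_unit_mul _ _ hMdet]
    _ = kd (M - (lam ^ q)⁻¹ • (1 : Matrix (Fin n) (Fin n) F)) := by
        rw [h2, kd_smul _ (neg_ne_zero.mpr hc)]

/-! ### outer products -/

/-- the matrix `u w^♯` -/
noncomputable def op (u w : Fin n → F) : Matrix (Fin n) (Fin n) F :=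
  Matrix.of fun i j => u i * sigQ hF (w j)

theorem op_apply (u w : Fin n → F) (i j : Fin n) : op hF u w i j = u i * sigQ hF (w j) := rfl

theorem op_mulVec (u w z : Fin n → F) : op hF u w *ᵥ z = hermForm n F q z w • u := by
  funext i
  simp only [Matrix.mulVec, dotProduct, op_apply, hermForm, Pi.smul_apply, smul_eq_mul,
    sigQ_apply, Finset.sum_mul]
  apply Finset.sum_congr rfl
  intro j _
  ring

theorem sharp_op (u w : Fin n → F) : sharp hF (op hF u w) = op hF w u := by
  ext i j
  rw [sharp_apply, op_apply, op_apply, map_mul, sigQ_sigQ, mul_comm]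

theorem mul_op (M : Matrix (Fin n) (Fin n) F) (u w : Fin n → F) :
    M * op hF u w = op hF (M *ᵥ u) w := by
  ext i k
  simp only [Matrix.mul_apply, op_apply, Matrix.mulVec, dotProduct, Finset.sum_mul]
  apply Finset.sum_congr rfl
  intro j _
  ring

theorem op_mul (M : Matrix (Fin n) (Fin n) F) (u w : Fin n → F) :
    op hF u w * M = op hF u (sharp hF M *ᵥ w) := by
  have h := congrArg (sharp hF) (mul_op hF (sharp hF M) w u)
  rw [sharp_mul, sharp_sharp, sharp_op, sharp_op] at h
  exact h

theorem op_smul_left (a : F) (u w : Fin n → F) : op hF (a • u) w = a • op hF u w := by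
  ext i j
  simp only [op_apply, Pi.smul_apply, smul_eq_mul, Matrix.smul_apply]
  ring

theorem op_smul_right (a : F) (u w : Fin n → F) : op hF u (a • w) = (a ^ q) • op hF u w := by
  ext i j
  simp only [op_apply, Pi.smul_apply, smul_eq_mul, Matrix.smul_apply, map_mul, sigQ_apply]
  ring

theorem op_mul_op (u w u' w' : Fin n → F) :
    op hF u w * op hF u' w' = hermForm n F q u' w • op hF u w' := by
  rw [mul_op, op_mulVec, op_smul_left]

theorem det_one_add_smul_op (a : F) (u w : Fin n → F) :
    (1 + a • op hF u w).det = 1 + a * hermForm n F q u w := by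
  have h : a • op hF u w =
      Matrix.replicateCol Unit (a • u) * Matrix.replicateRow Unit (fun j => sigQ hF (w j)) := by
    ext i j
    simp only [Matrix.smul_apply, op_apply, smul_eq_mul, Matrix.mul_apply,
      Matrix.replicateCol_apply, Matrix.replicateRow_apply, Pi.smul_apply, Finset.univ_unique,
      Finset.sum_singleton]
    ring
  rw [h, Matrix.det_one_add_replicateCol_mul_replicateRow]
  congr 1
  simp only [dotProduct, hermForm, Pi.smul_apply, smul_eq_mul, sigQ_apply, Finset.mul_sum]
  apply Finset.sum_congr rfl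
  intro j _
  ring

include hF in
theorem herm_self_fixed (v : Fin n → F) : (hermForm n F q v v) ^ q = hermForm n F q v v :=
  Cfsg.Agent.S0779.herm_conj hF v v

/-- the eigenvalue of a unitary matrix on a vector pairing non-trivially with an eigenvector -/
theorem eig_pair {x : Matrix (Fin n) (Fin n) F} (hx : sharp hF x * x = 1) (e f : Fin n → F)
    (α β : F) (he : x *ᵥ e = α • e) (hf : x *ᵥ f = β • f) (hef : hermForm n F q e f ≠ 0) :
    α * β ^ q = 1 := by
  have h := (pres_iff hF x).mpr hx e f
  rw [he, hf, Cfsg.Agent.S0779.herm_smul_left, Cfsg.Agent.S0779.herm_smul_right] at h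
  have h2 : (α * β ^ q - 1) * hermForm n F q e f = 0 := by linear_combination h
  rcases mul_eq_zero.mp h2 with h3 | h3
  · linear_combination h3
  · exact absurd h3 hef

theorem sharp_mulVec_eig {x : Matrix (Fin n) (Fin n) F} (hx : sharp hF x * x = 1) (e : Fin n → F)
    (α : F) (hα : α ≠ 0) (he : x *ᵥ e = α • e) : sharp hF x *ᵥ e = α⁻¹ • e := by
  have h1 : sharp hF x *ᵥ (x *ᵥ e) = e := by
    rw [Matrix.mulVec_mulVec, hx, Matrix.one_mulVec]
  rw [he, Matrix.mulVec_smul] at h1
  have h2 : sharp hF x *ᵥ e = α⁻¹ • (α • sharp hF x *ᵥ e) := by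
    rw [smul_smul, inv_mul_cancel₀ hα, one_smul]
  rw [h2, h1]

end Cfsg.Agent.Lib.Helper7.SU4
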