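import Mathlib
import Cfsg.Agent.Lib.Helper7.SU4B
import Cfsg.Agent.Lib.Helper6.Hermitian

/-!
# Centraliser elements of prescribed determinant and conjugacy in `SU`
-/

set_option autoImplicit false
set_option linter.unusedSectionVars false

namespace Cfsg.Agent.Lib.Helper7.SU4

open Matrix Module Polynomial Cfsg
open Cfsg.Agent.Lib.Helper14.GUConj
open Cfsg.Agent.Lib.Helper14.HSemi (sigQ sigQ_apply)
open Cfsg.Agent.Lib.Helper14.HCount (sigQ_sigQ)

variable {F : Type*} [Field F] [Fintype F] {q : ℕ} (hF : Fintype.card F = q ^ 2) {n : ℕ}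

include hF in
theorem pow_q_q' (a : F) : (a ^ q) ^ q = a := by
  have := sigQ_sigQ hF a
  rwa [sigQ_apply, sigQ_apply] at this

/-- centraliser elements from a non-isotropic eigenvector -/
theorem cent_of_nonisotropic (x : Matrix (Fin n) (Fin n) F) (hx : sharp hF x * x = 1)
    (v : Fin n → F) (lam : F) (hv : x *ᵥ v = lam • v) (hvv : hermForm n F q v v ≠ 0)
    (δ : F) (hδ : δ ^ (q + 1) = 1) :
    ∃ c : Matrix (Fin n) (Fin n) F, sharp hF c * c = 1 ∧ c * x = x * c ∧ c.det = δ := by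
  obtain ⟨a₀, ha₀⟩ : ∃ a₀ : F, a₀ = hermForm n F q v v := ⟨_, rfl⟩
  have ha₀0 : a₀ ≠ 0 := by rw [ha₀]; exact hvv
  have ha₀q : a₀ ^ q = a₀ := by rw [ha₀]; exact herm_self_fixed hF v
  have hlam : lam * lam ^ q = 1 := eig_pair hF hx v v lam lam hv hv hvv
  have hlam0 : lam ≠ 0 := by
    rintro rfl
    rw [zero_mul] at hlam
    exact zero_ne_one hlam
  obtain ⟨N, hN⟩ : ∃ N : Matrix (Fin n) (Fin n) F, N = op hF v v := ⟨_, rfl⟩
  have hNN : N * N = a₀ • N := by rw [hN, op_mul_op, ← ha₀]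
  have hsN : sharp hF N = N := by rw [hN, sharp_op]
  have hxN : x * N = lam • N := by rw [hN, mul_op, hv, op_smul_left]
  have hNx : N * x = lam • N := by
    rw [hN, op_mul, sharp_mulVec_eig hF hx v lam hlam0 hv, op_smul_right]
    congr 1
    have : lam⁻¹ ^ q * (lam * lam ^ q) = lam := by
      rw [inv_pow, mul_comm lam, ← mul_assoc, inv_mul_cancel₀ (pow_ne_zero _ hlam0), one_mul]
    rw [hlam, mul_one] at this
    exact this
  obtain ⟨k, hk⟩ : ∃ k : F, k = (δ - 1) * a₀⁻¹ := ⟨_, rfl⟩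
  have hkq : k ^ q = (δ ^ q - 1) * a₀⁻¹ := by
    rw [hk, mul_pow, inv_pow, ha₀q]
    congr 1
    have := map_sub (sigQ hF) δ 1
    rw [sigQ_apply, sigQ_apply, sigQ_apply, one_pow] at this
    exact this
  have hδ' : δ ^ q * δ = 1 := by rw [← pow_succ]; exact hδ
  refine ⟨1 + k • N, ?_, ?_, ?_⟩
  · rw [sharp_add, sharp_one, sharp_smul, hsN, sigQ_apply, Matrix.add_mul, Matrix.one_mul,
      Matrix.mul_add, Matrix.mul_one, Matrix.smul_mul, Matrix.mul_smul, hNN, smul_smul, smul_smul,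
      add_assoc, add_eq_left, ← add_smul, ← add_smul]
    have : k + (k ^ q + k ^ q * k * a₀) = 0 := by
      rw [hkq, hk]
      field_simp
      linear_combination hδ'
    rw [this, zero_smul]
  · rw [Matrix.add_mul, Matrix.mul_add, Matrix.one_mul, Matrix.mul_one, Matrix.smul_mul,
      Matrix.mul_smul, hNx, hxN]
  · rw [hN, det_one_add_smul_op, ← ha₀, hk, mul_assoc, inv_mul_cancel₀ ha₀0]
    ring

/-- centraliser elements from a hyperbolic pair of eigenvectors -/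
theorem cent_of_hyperbolic (x : Matrix (Fin n) (Fin n) F) (hx : sharp hF x * x = 1)
    (e f : Fin n → F) (α β : F) (he : x *ᵥ e = α • e) (hf : x *ᵥ f = β • f)
    (hee : hermForm n F q e e = 0) (hff : hermForm n F q f f = 0)
    (hef : hermForm n F q e f ≠ 0) (δ : F) (hδ : δ ^ (q + 1) = 1) :
    ∃ c : Matrix (Fin n) (Fin n) F, sharp hF c * c = 1 ∧ c * x = x * c ∧ c.det = δ := by
  obtain ⟨t, ht⟩ : ∃ t : F, t = hermForm n F q e f := ⟨_, rfl⟩
  have ht0 : t ≠ 0 := by rw [ht]; exact hef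
  have htq : hermForm n F q f e = t ^ q := by rw [ht]; exact (Cfsg.Agent.S0779.herm_conj hF e f).symm
  have htq0 : t ^ q ≠ 0 := pow_ne_zero _ ht0
  have hαβ : α * β ^ q = 1 := eig_pair hF hx e f α β he hf hef
  have hα0 : α ≠ 0 := by
    rintro rfl
    rw [zero_mul] at hαβ
    exact zero_ne_one hαβ
  have hβ0 : β ≠ 0 := by
    rintro rfl
    have hq0 : q ≠ 0 := by
      intro h0
      have := Fintype.card_pos (α := F)
      rw [hF, h0] at this
      norm_num at this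
    rw [zero_pow hq0, mul_zero] at hαβ
    exact zero_ne_one hαβ
  have hβα : β * α ^ q = 1 := by
    have := congrArg (fun y => y ^ q) hαβ
    simp only [mul_pow, one_pow, pow_q_q' hF] at this
    rw [mul_comm]
    exact this
  -- Hilbert 90
  have hσne : (sigQ hF : F →+* F) ≠ RingHom.id F := by
    obtain ⟨a, ha⟩ := sig_ne hF
    intro h
    apply ha
    have := congrArg (fun φ : F →+* F => φ a) h
    simpa using this
  obtain ⟨a, ha0, ha⟩ := Cfsg.Agent.Lib.Helper6.hilbert90 (sigQ hF : F →+* F) hσne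
    (fun a => sigQ_sigQ hF a) δ (by
      show δ * sigQ hF δ = 1
      rw [sigQ_apply, ← pow_succ']
      exact hδ)
  have ha' : a = δ * a ^ q := ha
  have haq0 : a ^ q ≠ 0 := pow_ne_zero _ ha0
  obtain ⟨b, hb⟩ : ∃ b : F, b = (a ^ q)⁻¹ := ⟨_, rfl⟩
  have hb0 : b ≠ 0 := by rw [hb]; exact inv_ne_zero haq0
  have hbq : b ^ q = a⁻¹ := by rw [hb, inv_pow, pow_q_q' hF]
  obtain ⟨E, hE⟩ : ∃ E : Matrix (Fin n) (Fin n) F, E = op hF e f := ⟨_, rfl⟩
  obtain ⟨E', hE'⟩ : ∃ E' : Matrix (Fin n) (Fin n) F, E' = op hF f e := ⟨_, rfl⟩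
  have hEE : E * E = t • E := by rw [hE, op_mul_op, ← ht]
  have hE'E' : E' * E' = (t ^ q) • E' := by rw [hE', op_mul_op, htq]
  have hEE' : E * E' = 0 := by rw [hE, hE', op_mul_op, hff, zero_smul]
  have hE'E : E' * E = 0 := by rw [hE, hE', op_mul_op, hee, zero_smul]
  have hsE : sharp hF E = E' := by rw [hE, hE', sharp_op]
  have hsE' : sharp hF E' = E := by rw [hE, hE', sharp_op]
  have hxE : x * E = α • E := by rw [hE, mul_op, he, op_smul_left]
  have hxE' : x * E' = β • E' := by rw [hE', mul_op, hf, op_smul_left]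
  have hEx : E * x = α • E := by
    rw [hE, op_mul, sharp_mulVec_eig hF hx f β hβ0 hf, op_smul_right]
    congr 1
    rw [inv_pow]
    exact (eq_inv_of_mul_eq_one_left hαβ).symm
  have hE'x : E' * x = β • E' := by
    rw [hE', op_mul, sharp_mulVec_eig hF hx e α hα0 he, op_smul_right]
    congr 1
    rw [inv_pow]
    exact (eq_inv_of_mul_eq_one_left hβα).symm
  obtain ⟨k₁, hk₁⟩ : ∃ k₁ : F, k₁ = (a - 1) * t⁻¹ := ⟨_, rfl⟩
  obtain ⟨k₂, hk₂⟩ : ∃ k₂ : F, k₂ = (b - 1) * (t ^ q)⁻¹ := ⟨_, rfl⟩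
  have hsub : ∀ y : F, (y - 1) ^ q = y ^ q - 1 := by
    intro y
    have := map_sub (sigQ hF) y 1
    rw [sigQ_apply, sigQ_apply, sigQ_apply, one_pow] at this
    exact this
  have hk₁q : k₁ ^ q = (a ^ q - 1) * (t ^ q)⁻¹ := by
    rw [hk₁, mul_pow, inv_pow, hsub]
  have hk₂q : k₂ ^ q = (a⁻¹ - 1) * t⁻¹ := by
    rw [hk₂, mul_pow, inv_pow, hsub, pow_q_q' hF, hbq]
  refine ⟨1 + k₁ • E + k₂ • E', ?_, ?_, ?_⟩
  · rw [sharp_add, sharp_add, sharp_one, sharp_smul, sharp_smul, hsE, hsE', sigQ_apply, sigQ_apply]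
    have expand : (1 + k₁ ^ q • E' + k₂ ^ q • E) * (1 + k₁ • E + k₂ • E') =
        1 + (k₁ + k₂ ^ q + k₂ ^ q * k₁ * t) • E + (k₂ + k₁ ^ q + k₁ ^ q * k₂ * t ^ q) • E' := by
      simp only [Matrix.add_mul, Matrix.mul_add, Matrix.one_mul, Matrix.mul_one, Matrix.smul_mul,
        Matrix.mul_smul, hEE, hE'E', hEE', hE'E, smul_zero, add_zero, smul_smul, add_smul]
      module
    rw [expand]
    have h1 : k₁ + k₂ ^ q + k₂ ^ q * k₁ * t = 0 := by
      rw [hk₂q, hk₁]
      field_simp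
      ring
    have h2 : k₂ + k₁ ^ q + k₁ ^ q * k₂ * t ^ q = 0 := by
      rw [hk₁q, hk₂, hb]
      field_simp
      ring
    rw [h1, h2, zero_smul, zero_smul, add_zero, add_zero]
  · simp only [Matrix.add_mul, Matrix.mul_add, Matrix.one_mul, Matrix.mul_one, Matrix.smul_mul,
      Matrix.mul_smul, hxE, hxE', hEx, hE'x]
  · have hfac : 1 + k₁ • E + k₂ • E' = (1 + k₁ • E) * (1 + k₂ • E') := by
      simp only [Matrix.add_mul, Matrix.mul_add, Matrix.one_mul, Matrix.mul_one, Matrix.smul_mul,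
        Matrix.mul_smul, hEE', smul_zero, add_zero]
    rw [hfac, Matrix.det_mul, hE, hE', det_one_add_smul_op, det_one_add_smul_op, ← ht, htq, hk₁,
      hk₂, mul_assoc, inv_mul_cancel₀ ht0, mul_assoc, inv_mul_cancel₀ htq0, mul_one, mul_one,
      add_sub_cancel, add_sub_cancel, hb]
    rw [mul_inv_eq_iff_eq_mul₀ haq0]
    exact ha'

end Cfsg.Agent.Lib.Helper7.SU4
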