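import Mathlib
import Cfsg.Agent.Lib.Helper7.SU4C

/-!
# Diagonalisable unitary matrices: conjugacy in `SU` is detected by eigenvalue multiplicities
-/

set_option autoImplicit false
set_option linter.unusedSectionVars false

namespace Cfsg.Agent.Lib.Helper7.SU4

open Matrix Module Polynomial Cfsg
open Cfsg.Agent.Lib.Helper14.GUConj
open Cfsg.Agent.Lib.Helper14.HSemi (sigQ sigQ_apply)
open Cfsg.Agent.Lib.Helper14.HCount (sigQ_sigQ)

variable {F : Type*} [Field F] [Fintype F] {q : ℕ} (hF : Fintype.card F = q ^ 2) {n : ℕ}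

/-- a matrix is diagonalisable -/
def Diag (x : Matrix (Fin n) (Fin n) F) : Prop :=
  ∃ (P : Matrix (Fin n) (Fin n) F) (ν : Fin n → F), IsUnit P.det ∧ x * P = P * Matrix.diagonal ν

theorem col_eig (x P : Matrix (Fin n) (Fin n) F) (ν : Fin n → F)
    (hx : x * P = P * Matrix.diagonal ν) (j : Fin n) :
    x *ᵥ (fun i => P i j) = ν j • (fun i => P i j) := by
  funext i
  have h := congrFun (congrFun hx i) j
  rw [Matrix.mul_apply, Matrix.mul_diagonal] at h
  simp only [Matrix.mulVec, dotProduct, Pi.smul_apply, smul_eq_mul]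
  rw [h, mul_comm]

/-- every norm-one scalar is the determinant of a unitary matrix commuting with a given
diagonalisable unitary matrix -/
theorem cent_of_diag (hn : 0 < n) (x : Matrix (Fin n) (Fin n) F) (hx : sharp hF x * x = 1)
    (hd : Diag x) (δ : F) (hδ : δ ^ (q + 1) = 1) :
    ∃ c : Matrix (Fin n) (Fin n) F, sharp hF c * c = 1 ∧ c * x = x * c ∧ c.det = δ := by
  obtain ⟨P, ν, hP, hxP⟩ := hd
  obtain ⟨v, hv⟩ : ∃ v : Fin n → Fin n → F, v = fun j i => P i j := ⟨_, rfl⟩
  have heig : ∀ j, x *ᵥ v j = ν j • v j := by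
    intro j
    rw [hv]
    exact col_eig x P ν hxP j
  have hgram : ∀ k j, (sharp hF P * P) k j = hermForm n F q (v j) (v k) := by
    intro k j
    rw [Matrix.mul_apply, hv]
    simp only [hermForm, sharp_apply, sigQ_apply]
    apply Finset.sum_congr rfl
    intro i _
    rw [mul_comm]
  have hdet : (sharp hF P * P).det ≠ 0 := by
    rw [Matrix.det_mul, det_sharp]
    exact mul_ne_zero ((_root_.map_ne_zero _).mpr hP.ne_zero) hP.ne_zero
  by_cases hiso : ∃ j, hermForm n F q (v j) (v j) ≠ 0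
  · obtain ⟨j, hj⟩ := hiso
    exact cent_of_nonisotropic hF x hx (v j) (ν j) (heig j) hj δ hδ
  · push Not at hiso
    obtain ⟨k, hk⟩ : ∃ k, hermForm n F q (v ⟨0, hn⟩) (v k) ≠ 0 := by
      by_contra hcon
      push Not at hcon
      apply hdet
      apply Matrix.det_eq_zero_of_column_eq_zero ⟨0, hn⟩
      intro k
      rw [hgram]
      exact hcon k
    exact cent_of_hyperbolic hF x hx (v ⟨0, hn⟩) (v k) (ν ⟨0, hn⟩) (ν k) (heig _) (heig _)
      (hiso _) (hiso _) hk δ hδ

/-- **conjugacy in `SU`**: two diagonalisable unitary matrices with the same eigenvalue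
multiplicities are conjugate by a unitary matrix of determinant one -/
theorem exists_SU_conj [DecidableEq F] (hn : 0 < n) (x m : Matrix (Fin n) (Fin n) F)
    (hx : sharp hF x * x = 1) (hm : sharp hF m * m = 1) (hdx : Diag x) (hdm : Diag m)
    (hk : ∀ lam : F, kd (x - lam • (1 : Matrix (Fin n) (Fin n) F)) =
      kd (m - lam • (1 : Matrix (Fin n) (Fin n) F))) :
    ∃ U : Matrix (Fin n) (Fin n) F, sharp hF U * U = 1 ∧ U.det = 1 ∧ U * m = x * U := by
  obtain ⟨P, ν, hP, hxP⟩ := hdx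
  obtain ⟨P', ν', hP', hmP'⟩ := hdm
  obtain ⟨G, hG, hGm⟩ := conj_of_diag x m P P' ν ν' hP hP' hxP hmP' (by
    intro lam
    rw [← kd_of_diag x P ν hP hxP lam, ← kd_of_diag m P' ν' hP' hmP' lam]
    exact hk lam)
  obtain ⟨U₀, hU₀d, hU₀, hU₀m⟩ := gu_conj_core hF m x G hm hx hG hGm
  have hd := unitary_det_norm hF hU₀
  have hd0 : U₀.det ≠ 0 := hU₀d.ne_zero
  obtain ⟨c, hc, hcx, hcd⟩ := cent_of_diag hF hn x hx ⟨P, ν, hP, hxP⟩ (U₀.det)⁻¹ (by
    rw [inv_pow, hd, inv_one])
  refine ⟨c * U₀, unitary_mul hF hc hU₀, ?_, ?_⟩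
  · rw [Matrix.det_mul, hcd, inv_mul_cancel₀ hd0]
  · rw [Matrix.mul_assoc, hU₀m, ← Matrix.mul_assoc, hcx, Matrix.mul_assoc]

/-- diagonalisability of matrices of prime order `r ∣ |F| - 1` -/
theorem diag_of_pow (p : ℕ) [Fact p.Prime] [CharP F p] (r : ℕ) [hr : Fact r.Prime] (hrp : r ≠ p)
    (hrq : r ∣ Fintype.card F - 1) (x : Matrix (Fin n) (Fin n) F) (hxr : x ^ r = 1) :
    ∃ (P : Matrix (Fin n) (Fin n) F) (ν : Fin n → F), IsUnit P.det ∧
      x * P = P * Matrix.diagonal ν ∧ ∀ j, ν j ^ r = 1 := by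
  classical
  have hu : (Matrix.toLin' x) ^ r = 1 := by
    rw [← Matrix.toLin'_pow, hxr, Matrix.toLin'_one]
    rfl
  obtain ⟨e, μ, hLI, -, hact⟩ := Cfsg.Agent.Lib.Helper15.PSf.exists_eigenbasis p r hrp hrq
    (Matrix.toLin' x) hu n ⊤ (Module.End.invtSubmodule.top_mem _) (by
      rw [finrank_top, Module.finrank_fin_fun])
  obtain ⟨P, hPdef⟩ : ∃ P : Matrix (Fin n) (Fin n) F, P = Matrix.of fun i j => e j i := ⟨_, rfl⟩
  have hPcol : P.col = e := by
    funext j i
    rw [hPdef]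
    rfl
  have hPunit : IsUnit P := by
    rw [← Matrix.linearIndependent_cols_iff_isUnit, hPcol]
    exact hLI
  have hxP : x * P = P * Matrix.diagonal μ := by
    ext i j
    rw [Matrix.mul_diagonal, Matrix.mul_apply]
    have h := congrFun (hact j) i
    rw [Matrix.toLin'_apply] at h
    simp only [Matrix.mulVec, dotProduct, Pi.smul_apply, smul_eq_mul] at h
    rw [hPdef]
    simp only [Matrix.of_apply]
    rw [h, mul_comm]
  refine ⟨P, μ, (Matrix.isUnit_iff_isUnit_det _).mp hPunit, hxP, ?_⟩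
  intro j
  have hej : e j ≠ 0 := hLI.ne_zero j
  have h1 : ∀ k : ℕ, ((Matrix.toLin' x) ^ k) (e j) = μ j ^ k • e j := by
    intro k
    induction k with
    | zero => simp
    | succ k ih => rw [pow_succ', Module.End.mul_apply, ih, map_smul, hact, smul_smul, ← pow_succ]
  have h2 := h1 r
  rw [hu, Module.End.one_apply] at h2
  have h3 : (μ j ^ r - 1) • e j = 0 := by rw [sub_smul, one_smul, ← h2, sub_self]
  rcases smul_eq_zero.mp h3 with h4 | h4
  · exact sub_eq_zero.mp h4
  · exact absurd h4 hej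

end Cfsg.Agent.Lib.Helper7.SU4
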