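import Mathlib
import Cfsg.Agent.Lib.Helper7.SU4D

/-!
# Eigenvalue multiplicities of unitary matrices of order 2 and 3
-/

set_option autoImplicit false
set_option linter.unusedSectionVars false

namespace Cfsg.Agent.Lib.Helper7.SU4

open Matrix Module Polynomial Cfsg
open Cfsg.Agent.Lib.Helper14.GUConj
open Cfsg.Agent.Lib.Helper14.HSemi (sigQ sigQ_apply)
open Cfsg.Agent.Lib.Helper14.HCount (sigQ_sigQ)

section gen

variable {F : Type*} [Field F] [DecidableEq F] {n : ℕ}

/-- eigenvalue count of a function -/
def cnt (ν : Fin n → F) (lam : F) : ℕ := (Finset.univ.filter (fun j => ν j = lam)).card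

theorem cnt_sum (ν : Fin n → F) (S : Finset F) (hS : ∀ j, ν j ∈ S) :
    ∑ lam ∈ S, cnt ν lam = n := by
  have h := Finset.card_eq_sum_card_fiberwise (s := (Finset.univ : Finset (Fin n))) (t := S)
    (f := ν) (fun j _ => hS j)
  rw [Finset.card_univ, Fintype.card_fin] at h
  exact h.symm

theorem cnt_eq_zero (ν : Fin n → F) (lam : F) (h : ∀ j, ν j ≠ lam) : cnt ν lam = 0 := by
  unfold cnt
  rw [Finset.card_eq_zero, Finset.filter_eq_empty_iff]
  intro j _
  exact h j

theorem det_of_diag (x P : Matrix (Fin n) (Fin n) F) (ν : Fin n → F) (hP : IsUnit P.det)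
    (hx : x * P = P * Matrix.diagonal ν) : x.det = ∏ j, ν j := by
  have h := congrArg Matrix.det hx
  rw [Matrix.det_mul, Matrix.det_mul, Matrix.det_diagonal, mul_comm] at h
  exact mul_left_cancel₀ hP.ne_zero h

theorem prod_eq_pow_cnt (ν : Fin n → F) (a b : F) (hab : a ≠ b) (h : ∀ j, ν j = a ∨ ν j = b) :
    ∏ j, ν j = a ^ cnt ν a * b ^ cnt ν b := by
  unfold cnt
  rw [← Finset.prod_filter_mul_prod_filter_not Finset.univ (fun j => ν j = a)]
  congr 1
  · rw [Finset.prod_congr rfl (fun j hj => (Finset.mem_filter.mp hj).2), Finset.prod_const]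
  · have : Finset.univ.filter (fun j => ¬ ν j = a) = Finset.univ.filter (fun j => ν j = b) := by
      ext j
      simp only [Finset.mem_filter, Finset.mem_univ, true_and]
      constructor
      · intro hj
        rcases h j with h1 | h1
        · exact absurd h1 hj
        · exact h1
      · intro hj h1
        exact hab (h1.symm.trans hj)
    rw [this, Finset.prod_congr rfl (fun j hj => (Finset.mem_filter.mp hj).2), Finset.prod_const]

theorem eq_smul_one_of_diag (x P : Matrix (Fin n) (Fin n) F) (ν : Fin n → F) (hP : IsUnit P.det)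
    (hx : x * P = P * Matrix.diagonal ν) (c : F) (h : ∀ j, ν j = c) :
    x = c • (1 : Matrix (Fin n) (Fin n) F) := by
  have h1 : Matrix.diagonal ν = c • (1 : Matrix (Fin n) (Fin n) F) := by
    ext i j
    by_cases hij : i = j
    · subst hij
      simp [h i]
    · simp [hij]
  rw [h1, Matrix.mul_smul, Matrix.mul_one] at hx
  have h2 : x * P * P⁻¹ = (c • P) * P⁻¹ := by rw [hx]
  rw [Matrix.mul_assoc, Matrix.mul_nonsing_inv _ hP, Matrix.mul_one, Matrix.smul_mul,
    Matrix.mul_nonsing_inv _ hP] at h2
  exact h2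

end gen

section two

variable {F : Type*} [Field F] [Fintype F] [DecidableEq F] {q : ℕ} (hF : Fintype.card F = q ^ 2)
  {n : ℕ}

/-- kernel dimensions of an involution -/
theorem kd_involution (p : ℕ) [Fact p.Prime] [CharP F p] (hp2 : p ≠ 2)
    (x : Matrix (Fin n) (Fin n) F) (hx2 : x ^ 2 = 1) :
    Diag x ∧ kd (x - (1 : F) • (1 : Matrix (Fin n) (Fin n) F)) +
      kd (x - (-1 : F) • (1 : Matrix (Fin n) (Fin n) F)) = n ∧
      (∀ lam : F, lam ≠ 1 → lam ≠ -1 → kd (x - lam • (1 : Matrix (Fin n) (Fin n) F)) = 0) ∧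
      x.det = (-1) ^ kd (x - (-1 : F) • (1 : Matrix (Fin n) (Fin n) F)) ∧
      (kd (x - (1 : F) • (1 : Matrix (Fin n) (Fin n) F)) = n → x = 1) ∧
      (kd (x - (-1 : F) • (1 : Matrix (Fin n) (Fin n) F)) = n → x = -1) := by
  have h2F : (2 : F) ≠ 0 := by
    intro h
    have h' : ((2 : ℕ) : F) = 0 := by exact_mod_cast h
    rw [CharP.cast_eq_zero_iff F p] at h'
    have hp := (Fact.out : p.Prime)
    exact hp2 ((Nat.prime_dvd_prime_iff_eq hp Nat.prime_two).mp h')
  have hne : (1 : F) ≠ -1 := by
    intro h
    apply h2F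
    linear_combination h
  have hodd : 2 ∣ Fintype.card F - 1 := by
    have hcodd : Fintype.card F % 2 = 1 := by
      apply FiniteField.odd_card_of_char_ne_two
      intro hch
      apply h2F
      have := ringChar.Nat.cast_ringChar (R := F)
      rw [hch] at this
      exact_mod_cast this
    omega
  have : Fact (Nat.Prime 2) := ⟨Nat.prime_two⟩
  obtain ⟨P, ν, hP, hxP, hν⟩ := diag_of_pow p 2 (Ne.symm hp2) hodd x hx2
  have hν' : ∀ j, ν j = 1 ∨ ν j = -1 := by
    intro j
    have := hν j
    have h3 : (ν j - 1) * (ν j + 1) = 0 := by linear_combination this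
    rcases mul_eq_zero.mp h3 with h4 | h4
    · left; linear_combination h4
    · right; linear_combination h4
  have hk : ∀ lam, kd (x - lam • (1 : Matrix (Fin n) (Fin n) F)) = cnt ν lam :=
    fun lam => kd_of_diag x P ν hP hxP lam
  refine ⟨⟨P, ν, hP, hxP⟩, ?_, ?_, ?_, ?_, ?_⟩
  · rw [hk, hk]
    have := cnt_sum ν {1, -1} (by
      intro j
      rcases hν' j with h | h <;> simp [h])
    rw [Finset.sum_pair hne] at this
    exact this
  · intro lam h1 h2
    rw [hk]
    apply cnt_eq_zero
    intro j
    rcases hν' j with h | h <;> rw [h]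
    · exact Ne.symm h1
    · exact Ne.symm h2
  · rw [hk, det_of_diag x P ν hP hxP, prod_eq_pow_cnt ν 1 (-1) hne hν', one_pow, one_mul]
  · intro h
    rw [hk] at h
    have h1 := eq_smul_one_of_diag x P ν hP hxP 1 (by
      intro j
      have : j ∈ Finset.univ.filter (fun j => ν j = 1) := by
        have heq : Finset.univ.filter (fun j => ν j = 1) = Finset.univ := by
          apply Finset.eq_univ_of_card
          rw [Fintype.card_fin]
          exact h
        rw [heq]
        exact Finset.mem_univ j
      exact (Finset.mem_filter.mp this).2)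
    rw [h1, one_smul]
  · intro h
    rw [hk] at h
    have h1 := eq_smul_one_of_diag x P ν hP hxP (-1) (by
      intro j
      have : j ∈ Finset.univ.filter (fun j => ν j = -1) := by
        have heq : Finset.univ.filter (fun j => ν j = -1) = Finset.univ := by
          apply Finset.eq_univ_of_card
          rw [Fintype.card_fin]
          exact h
        rw [heq]
        exact Finset.mem_univ j
      exact (Finset.mem_filter.mp this).2)
    rw [h1, neg_smul, one_smul]

end two

end Cfsg.Agent.Lib.Helper7.SU4
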