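import Mathlib
import Cfsg.Agent.Lib.Helper7.SU4E

/-!
# Unitary matrices of order 3, and conjugacy in `SU` of elements of order 2 and 3
-/

set_option autoImplicit false
set_option linter.unusedSectionVars false

namespace Cfsg.Agent.Lib.Helper7.SU4

open Matrix Module Polynomial Cfsg
open Cfsg.Agent.Lib.Helper14.GUConj
open Cfsg.Agent.Lib.Helper14.HSemi (sigQ sigQ_apply)
open Cfsg.Agent.Lib.Helper14.HCount (sigQ_sigQ)

variable {F : Type*} [Field F] [Fintype F] [DecidableEq F] {q : ℕ} (hF : Fintype.card F = q ^ 2)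
  {n : ℕ}

/-- kernel dimensions of an element of order 3 -/
theorem kd_order_three (p : ℕ) [Fact p.Prime] [CharP F p] (hp3 : p ≠ 3)
    (h3 : 3 ∣ Fintype.card F - 1) (ω : F) (hω : ω ^ 2 + ω + 1 = 0)
    (x : Matrix (Fin n) (Fin n) F) (hx3 : x ^ 3 = 1) :
    Diag x ∧ kd (x - (1 : F) • (1 : Matrix (Fin n) (Fin n) F)) +
      kd (x - ω • (1 : Matrix (Fin n) (Fin n) F)) +
      kd (x - (ω ^ 2) • (1 : Matrix (Fin n) (Fin n) F)) = n ∧
      (∀ lam : F, lam ≠ 1 → lam ≠ ω → lam ≠ ω ^ 2 →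
        kd (x - lam • (1 : Matrix (Fin n) (Fin n) F)) = 0) ∧
      (kd (x - (1 : F) • (1 : Matrix (Fin n) (Fin n) F)) = n → x = 1) := by
  have h3F : (3 : F) ≠ 0 := by
    intro h
    have h' : ((3 : ℕ) : F) = 0 := by exact_mod_cast h
    rw [CharP.cast_eq_zero_iff F p] at h'
    have hp := (Fact.out : p.Prime)
    exact hp3 ((Nat.prime_dvd_prime_iff_eq hp Nat.prime_three).mp h')
  have hω1 : ω ≠ 1 := by
    rintro rfl
    apply h3F
    linear_combination hω
  have hω3 : ω ^ 3 = 1 := by linear_combination (ω - 1) * hω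
  have hω0 : ω ≠ 0 := by
    rintro rfl
    norm_num at hω3
  have hω21 : ω ^ 2 ≠ 1 := by
    intro h
    apply hω1
    have : ω * ω ^ 2 = ω := by rw [h, mul_one]
    rw [← pow_succ', hω3] at this
    exact this.symm
  have hωω2 : ω ≠ ω ^ 2 := by
    intro h
    apply hω1
    have h1 : ω * (ω - 1) = 0 := by linear_combination -h
    rcases mul_eq_zero.mp h1 with h2 | h2
    · exact absurd h2 hω0
    · linear_combination h2
  have : Fact (Nat.Prime 3) := ⟨Nat.prime_three⟩
  obtain ⟨P, ν, hP, hxP, hν⟩ := diag_of_pow p 3 (Ne.symm hp3) h3 x hx3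
  have hν' : ∀ j, ν j = 1 ∨ ν j = ω ∨ ν j = ω ^ 2 := by
    intro j
    have := hν j
    have h4 : (ν j - 1) * ((ν j - ω) * (ν j - ω ^ 2)) = 0 := by
      linear_combination this + (-(ν j) ^ 2 + ω * ν j - (ω - 1)) * hω
    rcases mul_eq_zero.mp h4 with h5 | h5
    · left; linear_combination h5
    · rcases mul_eq_zero.mp h5 with h6 | h6
      · right; left; linear_combination h6
      · right; right; linear_combination h6
  have hk : ∀ lam, kd (x - lam • (1 : Matrix (Fin n) (Fin n) F)) = cnt ν lam :=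
    fun lam => kd_of_diag x P ν hP hxP lam
  refine ⟨⟨P, ν, hP, hxP⟩, ?_, ?_, ?_⟩
  · rw [hk, hk, hk]
    have := cnt_sum ν {1, ω, ω ^ 2} (by
      intro j
      rcases hν' j with h | h | h <;> simp [h])
    rw [Finset.sum_insert (by
      simp only [Finset.mem_insert, Finset.mem_singleton, not_or]
      exact ⟨Ne.symm hω1, Ne.symm hω21⟩), Finset.sum_pair hωω2, ← add_assoc] at this
    exact this
  · intro lam h1 h2 h3
    rw [hk]
    apply cnt_eq_zero
    intro j
    rcases hν' j with h | h | h <;> rw [h]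
    · exact Ne.symm h1
    · exact Ne.symm h2
    · exact Ne.symm h3
  · intro h
    rw [hk] at h
    have h1 := eq_smul_one_of_diag x P ν hP hxP 1 (by
      intro j
      have : j ∈ Finset.univ.filter (fun j => ν j = 1) := by
        have heq : Finset.univ.filter (fun j => ν j = 1) = Finset.univ := by
          apply Finset.eq_univ_of_card
          rw [Fintype.card_fin]
          exact h
        rw [heq]
        exact Finset.mem_univ j
      exact (Finset.mem_filter.mp this).2)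
    rw [h1, one_smul]

/-- for a unitary matrix and `ω ∈ F_q` the eigenvalues `ω`, `ω²` have the same multiplicity -/
theorem kd_omega_eq (ω : F) (hω : ω ^ 2 + ω + 1 = 0) (hωq : ω ^ q = ω)
    (x : Matrix (Fin n) (Fin n) F) (hx : sharp hF x * x = 1) :
    kd (x - ω • (1 : Matrix (Fin n) (Fin n) F)) =
      kd (x - (ω ^ 2) • (1 : Matrix (Fin n) (Fin n) F)) := by
  have hω3 : ω ^ 3 = 1 := by linear_combination (ω - 1) * hω
  have hω0 : ω ≠ 0 := by
    rintro rfl
    norm_num at hω3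
  have h := kd_unitary_sub hF x hx ω hω0
  rw [hωq] at h
  have hinv : ω⁻¹ = ω ^ 2 := by
    apply inv_eq_of_mul_eq_one_right
    rw [← pow_succ', hω3]
  rw [hinv] at h
  exact h

/-- conjugacy in `SU` of unitary involutions with fixed spaces of the same dimension -/
theorem su_conj_two (p : ℕ) [Fact p.Prime] [CharP F p] (hp2 : p ≠ 2) (hn : 0 < n)
    (x m : Matrix (Fin n) (Fin n) F) (hx : sharp hF x * x = 1) (hm : sharp hF m * m = 1)
    (hx2 : x ^ 2 = 1) (hm2 : m ^ 2 = 1)
    (hk : kd (x - (1 : F) • (1 : Matrix (Fin n) (Fin n) F)) =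
      kd (m - (1 : F) • (1 : Matrix (Fin n) (Fin n) F))) :
    ∃ U : Matrix (Fin n) (Fin n) F, sharp hF U * U = 1 ∧ U.det = 1 ∧ U * m = x * U := by
  obtain ⟨hdx, hsx, hzx, -, -, -⟩ := kd_involution p hp2 x hx2
  obtain ⟨hdm, hsm, hzm, -, -, -⟩ := kd_involution p hp2 m hm2
  apply exists_SU_conj hF hn x m hx hm hdx hdm
  intro lam
  by_cases h1 : lam = 1
  · rw [h1]; exact hk
  by_cases h2 : lam = -1
  · rw [h2]; omega
  rw [hzx lam h1 h2, hzm lam h1 h2]

/-- conjugacy in `SU` of unitary elements of order 3 with fixed spaces of the same dimension -/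
theorem su_conj_three (p : ℕ) [Fact p.Prime] [CharP F p] (hp3 : p ≠ 3)
    (h3 : 3 ∣ Fintype.card F - 1) (ω : F) (hω : ω ^ 2 + ω + 1 = 0) (hωq : ω ^ q = ω)
    (hn : 0 < n)
    (x m : Matrix (Fin n) (Fin n) F) (hx : sharp hF x * x = 1) (hm : sharp hF m * m = 1)
    (hx3 : x ^ 3 = 1) (hm3 : m ^ 3 = 1)
    (hk : kd (x - (1 : F) • (1 : Matrix (Fin n) (Fin n) F)) =
      kd (m - (1 : F) • (1 : Matrix (Fin n) (Fin n) F))) :
    ∃ U : Matrix (Fin n) (Fin n) F, sharp hF U * U = 1 ∧ U.det = 1 ∧ U * m = x * U := by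
  obtain ⟨hdx, hsx, hzx, -⟩ := kd_order_three p hp3 h3 ω hω x hx3
  obtain ⟨hdm, hsm, hzm, -⟩ := kd_order_three p hp3 h3 ω hω m hm3
  have hex := kd_omega_eq hF ω hω hωq x hx
  have hem := kd_omega_eq hF ω hω hωq m hm
  apply exists_SU_conj hF hn x m hx hm hdx hdm
  intro lam
  by_cases h1 : lam = 1
  · rw [h1]; exact hk
  by_cases h2 : lam = ω
  · rw [h2]; omega
  by_cases h3 : lam = ω ^ 2
  · rw [h3]; omega
  rw [hzx lam h1 h2 h3, hzm lam h1 h2 h3]

end Cfsg.Agent.Lib.Helper7.SU4
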