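import Mathlib
import Cfsg.Agent.Lib.Helper7.STH
import Cfsg.Agent.Lib.Helper7.SU4F

/-!
# The elements `V(w,w') = (1/2)(1+w)(1+w')` and elements of order 3 normalising `R`
-/

set_option autoImplicit false
set_option linter.unusedSectionVars false
set_option linter.style.haveILetI false

namespace Cfsg.Agent.Lib.Helper7.ST

open Matrix Cfsg
open Cfsg.Agent.Lib.Helper14.GUConj
open Cfsg.Agent.Lib.Helper14.HSemi (sigQ sigQ_apply)
open Cfsg.Agent.Lib.Helper7.SU4

section comm

variable {F : Type*} [Field F] {A : Type*} [Ring A] [Algebra F A]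

theorem adjoin_pair_comm {u w : A} (huw : u * w = w * u) :
    ∀ a ∈ ({u, w} : Set A), ∀ b ∈ ({u, w} : Set A), a * b = b * a := by
  intro a ha b hb
  simp only [Set.mem_insert_iff, Set.mem_singleton_iff] at ha hb
  rcases ha with rfl | rfl <;> rcases hb with rfl | rfl
  · rfl
  · exact huw
  · exact huw.symm
  · rfl

/-- the commutative ring structure on the subalgebra generated by two commuting elements -/
@[reducible] def commRingAdjoin (F : Type*) [Field F] {A : Type*} [Ring A] [Algebra F A] {u w : A}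
    (huw : u * w = w * u) : CommRing (Algebra.adjoin F ({u, w} : Set A)) :=
  { (inferInstance : Ring (Algebra.adjoin F ({u, w} : Set A))) with
    mul_comm := (Algebra.isMulCommutative_adjoin F (adjoin_pair_comm huw)).is_comm.comm }

theorem mem_adjoin_left (F : Type*) [Field F] {A : Type*} [Ring A] [Algebra F A] (u w : A) :
    u ∈ Algebra.adjoin F ({u, w} : Set A) := Algebra.subset_adjoin (by simp)

theorem mem_adjoin_right (F : Type*) [Field F] {A : Type*} [Ring A] [Algebra F A] (u w : A) :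
    w ∈ Algebra.adjoin F ({u, w} : Set A) := Algebra.subset_adjoin (by simp)

/-- two commuting roots of `X²+X+1` whose product is again a root are "equal" -/
theorem order3_eq (F : Type*) [Field F] {A : Type*} [Ring A] [Algebra F A] (u w : A)
    (huw : u * w = w * u)
    (hu : u * u + u + 1 = 0) (hw : w * w + w + 1 = 0) (hX : (u * w) * (u * w) + u * w + 1 = 0) :
    (3 : A) * u = (3 : A) * w := by
  letI := commRingAdjoin F huw
  let u' : Algebra.adjoin F ({u, w} : Set A) := ⟨u, mem_adjoin_left F u w⟩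
  let w' : Algebra.adjoin F ({u, w} : Set A) := ⟨w, mem_adjoin_right F u w⟩
  have hu' : u' * u' + u' + 1 = 0 := Subtype.ext hu
  have hw' : w' * w' + w' + 1 = 0 := Subtype.ext hw
  have hX' : (u' * w') * (u' * w') + u' * w' + 1 = 0 := Subtype.ext hX
  have key : 3 * u' = 3 * w' := by
    linear_combination (1 + 2 * u') * hX' + (-(1 + 2 * u') * (w' * w' + w' + 1) +
      (1 + 2 * u') * (w' + 1) - 2 * (2 * w' + 1)) * hu' + ((1 + 2 * u') * (u' + 1)) * hw'
  exact congrArg Subtype.val key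

end comm

variable {F : Type*} [Field F]

local notation "MM" => Matrix (Fin 4) (Fin 4) F
local notation "GG" => GL (Fin 4) F

/-- `V(w,w') = (1/2)(1+w)(1+w')` -/
noncomputable def VV (w w' : MM) : MM := (2 : F)⁻¹ • ((1 + w) * (1 + w'))

/-- the inverse of `V(w,w')` -/
noncomputable def VV' (w w' : MM) : MM := (2 : F)⁻¹ • ((1 - w') * (1 - w))

theorem quarter_sum (h2 : (2 : F) ≠ 0) :
    ((2 : F)⁻¹ * (2 : F)⁻¹ + (2 : F)⁻¹ * (2 : F)⁻¹) + ((2 : F)⁻¹ * (2 : F)⁻¹ + (2 : F)⁻¹ * (2 : F)⁻¹)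
      = 1 := by
  field_simp
  norm_num

theorem four_eq : ((2 : MM) * 2) = (1 + 1) + (1 + 1) := by norm_num

theorem VV_mul_VV' (h2 : (2 : F) ≠ 0) {w w' : MM} (hw : w * w = -1) (hw' : w' * w' = -1) :
    VV w w' * VV' w w' = 1 := by
  unfold VV VV'
  have e0 : (1 + w) * ((2 : MM) * (1 - w)) = (2 : MM) * ((1 + w) * (1 - w)) := by
    rw [← Matrix.mul_assoc, ← Matrix.mul_assoc]
    congr 1
    rw [mul_two, two_mul]
  have e : (1 + w) * (1 + w') * ((1 - w') * (1 - w)) = ((1 + 1) + (1 + 1) : MM) := by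
    rw [Matrix.mul_assoc, ← Matrix.mul_assoc (1 + w') _ _, one_add_mul_one_sub hw', e0,
      one_add_mul_one_sub hw, four_eq]
  rw [smul_mul_smul_comm, e]
  simp only [smul_add]
  simp only [← add_smul]
  rw [quarter_sum h2, one_smul]

theorem VV'_mul_VV (h2 : (2 : F) ≠ 0) {w w' : MM} (hw : w * w = -1) (hw' : w' * w' = -1) :
    VV' w w' * VV w w' = 1 := by
  unfold VV VV'
  have e0 : (1 - w') * ((2 : MM) * (1 + w')) = (2 : MM) * ((1 - w') * (1 + w')) := by
    rw [← Matrix.mul_assoc, ← Matrix.mul_assoc]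
    congr 1
    rw [mul_two, two_mul]
  have e : (1 - w') * (1 - w) * ((1 + w) * (1 + w')) = ((1 + 1) + (1 + 1) : MM) := by
    rw [Matrix.mul_assoc, ← Matrix.mul_assoc (1 - w) _ _, one_sub_mul_one_add hw, e0,
      one_sub_mul_one_add hw', four_eq]
  rw [smul_mul_smul_comm, e]
  simp only [smul_add]
  simp only [← add_smul]
  rw [quarter_sum h2, one_smul]

theorem RHyp.nmz_VV {R : Subgroup GG} (h : RHyp R) {w w' : GG} (hw : w ∈ R) (hw' : w' ∈ R)
    (hww : (w : MM) * (w : MM) = -1) (hww' : (w' : MM) * (w' : MM) = -1) :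
    Nmz R (VV (w : MM) (w' : MM)) :=
  ((h.nmz_one_add hw hww).mul (h.nmz_one_add hw' hww')).smul _

/-- `τ² = τ - 1` -/
theorem VV_sq (h2 : (2 : F) ≠ 0) {I J : MM} (hI : I * I = -1) (hJ : J * J = -1)
    (hIJ : J * I = -(I * J)) : VV I J * VV I J = VV I J - 1 := by
  unfold VV
  rw [smul_mul_smul_comm, quatS_sq hI hJ hIJ]
  have e2 : (2 : MM) = 1 + 1 := one_add_one_eq_two.symm
  have e4 : (4 : MM) = (1 + 1) + (1 + 1) := by norm_num
  rw [e2, e4, Matrix.add_mul, Matrix.one_mul, smul_sub, smul_add]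
  simp only [smul_add]
  simp only [← add_smul]
  rw [quarter_sum h2, one_smul]
  congr 2
  field_simp
  norm_num

/-- `τ I = J τ` -/
theorem VV_semi {I J : MM} (hI : I * I = -1) (hJ : J * J = -1)
    (hIJ : J * I = -(I * J)) : VV I J * I = J * VV I J := by
  unfold VV
  rw [Matrix.smul_mul, Matrix.mul_smul]
  congr 1
  have r1 : ∀ X : MM, I * (I * X) = -X := fun X => by rw [← Matrix.mul_assoc, hI, neg_mul, one_mul]
  have r2 : ∀ X : MM, J * (J * X) = -X := fun X => by rw [← Matrix.mul_assoc, hJ, neg_mul, one_mul]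
  have r3 : ∀ X : MM, J * (I * X) = -(I * (J * X)) := fun X => by
    rw [← Matrix.mul_assoc, hIJ, neg_mul, Matrix.mul_assoc]
  simp only [mul_add, add_mul, mul_one, one_mul, Matrix.mul_assoc, hI, hJ, hIJ, r1, r2, r3, mul_neg,
    neg_mul, neg_neg]
  abel

/-- `u = -τ` is a root of `X² + X + 1` -/
theorem negVV_quad (h2 : (2 : F) ≠ 0) {I J : MM} (hI : I * I = -1) (hJ : J * J = -1)
    (hIJ : J * I = -(I * J)) : (-VV I J) * (-VV I J) + (-VV I J) + 1 = 0 := by
  rw [neg_mul_neg, VV_sq h2 hI hJ hIJ]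
  abel

theorem cube_of_quad {u : MM} (hu : u * u + u + 1 = 0) : u ^ 3 = 1 := by
  have h1 : u * u = -u - 1 := by
    have h0 := hu
    rw [add_assoc, add_eq_zero_iff_eq_neg] at h0
    rw [h0]
    abel
  rw [pow_succ, pow_two, h1, Matrix.sub_mul, Matrix.neg_mul, h1, Matrix.one_mul]
  abel

theorem det_unit_of_kd_zero {M : MM} (h : kd M = 0) : IsUnit M.det := by
  rw [isUnit_iff_ne_zero]
  intro h0
  have h1 := (Matrix.exists_mulVec_eq_zero_iff (M := M)).mpr h0
  have h2 := (kd_pos_iff M).mpr h1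
  omega

theorem kd_zero_of_quad (h3 : (3 : F) ≠ 0) {u : MM} (hu : u * u + u + 1 = 0) :
    kd (u - (1 : F) • (1 : MM)) = 0 := by
  by_contra hne
  have hpos : 0 < kd (u - (1 : F) • (1 : MM)) := Nat.pos_of_ne_zero hne
  obtain ⟨v, hv, hv0⟩ := (kd_pos_iff _).mp hpos
  rw [one_smul, Matrix.sub_mulVec, Matrix.one_mulVec, sub_eq_zero] at hv0
  have h1 := congrArg (fun M : MM => M *ᵥ v) hu
  simp only [Matrix.add_mulVec, Matrix.one_mulVec, Matrix.zero_mulVec, ← Matrix.mulVec_mulVec,
    hv0] at h1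
  apply hv
  have h4 : (3 : F) • v = 0 := by
    rw [← h1]
    have : (3 : F) = 1 + 1 + 1 := by norm_num
    rw [this, add_smul, add_smul, one_smul]
  rcases smul_eq_zero.mp h4 with h5 | h5
  · exact absurd h5 h3
  · exact h5

theorem three_eq : (3 : MM) = (3 : F) • (1 : MM) := by
  rw [← Algebra.algebraMap_eq_smul_one, map_ofNat]

section unitary

variable [Fintype F] {q : ℕ} (hF : Fintype.card F = q ^ 2)

theorem sharp_of_sq_one {g : MM} (hg : sharp hF g * g = 1) (hgg : g * g = 1) : sharp hF g = g := by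
  have h1 : sharp hF g * (g * g) = g := by rw [← Matrix.mul_assoc, hg, Matrix.one_mul]
  rw [hgg, Matrix.mul_one] at h1
  exact h1

theorem sharp_of_sq_neg {g : MM} (hg : sharp hF g * g = 1) (hgg : g * g = -1) :
    sharp hF g = -g := by
  have h1 : sharp hF g * (g * g) = g := by rw [← Matrix.mul_assoc, hg, Matrix.one_mul]
  rw [hgg, Matrix.mul_neg, Matrix.mul_one] at h1
  exact neg_eq_iff_eq_neg.mp h1

theorem sigQ_half : sigQ hF (2 : F)⁻¹ = (2 : F)⁻¹ := by
  rw [map_inv₀, map_ofNat]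

theorem sharp_neg (M : MM) : sharp hF (-M) = -sharp hF M := by
  have h := sharp_add hF M (-M)
  rw [add_neg_cancel, sharp_zero] at h
  exact eq_neg_of_add_eq_zero_right h.symm

theorem sharp_VV {w w' : MM} (hw : sharp hF w = -w) (hw' : sharp hF w' = -w') :
    sharp hF (VV w w') = VV' w w' := by
  unfold VV VV'
  rw [sharp_smul, sigQ_half, sharp_mul, sharp_add, sharp_add, sharp_one, hw, hw',
    ← sub_eq_add_neg, ← sub_eq_add_neg]

theorem VV_unitary (h2 : (2 : F) ≠ 0) {w w' : MM} (hw : w * w = -1) (hw' : w' * w' = -1)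
    (hsw : sharp hF w = -w) (hsw' : sharp hF w' = -w') : sharp hF (VV w w') * VV w w' = 1 := by
  rw [sharp_VV hF hsw hsw', VV'_mul_VV h2 hw hw']

theorem neg_unitary {M : MM} (h : sharp hF M * M = 1) : sharp hF (-M) * (-M) = 1 := by
  rw [sharp_neg, neg_mul_neg, h]

end unitary

end Cfsg.Agent.Lib.Helper7.ST
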