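import Mathlib
import Cfsg.Agent.Lib.Helper7.STI

/-!
# Elements of order 3 normalising `R`, of both types
-/

set_option autoImplicit false
set_option linter.unusedSectionVars false

namespace Cfsg.Agent.Lib.Helper7.ST

open Matrix Cfsg
open Cfsg.Agent.Lib.Helper14.GUConj
open Cfsg.Agent.Lib.Helper14.HSemi (sigQ sigQ_apply)
open Cfsg.Agent.Lib.Helper7.SU4

variable {F : Type*} [Field F]

local notation "MM" => Matrix (Fin 4) (Fin 4) F
local notation "GG" => GL (Fin 4) F

theorem quat_rel {i : F} (hi : i * i = -1) {a c : MM} (haa : a * a = 1) (hcc : c * c = 1)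
    (hac : AC a c) :
    (i • a) * (i • a) = -1 ∧ (i • c) * (i • c) = -1 ∧ (i • c) * (i • a) = -((i • a) * (i • c)) := by
  unfold AC at hac
  refine ⟨?_, ?_, ?_⟩
  · rw [smul_mul_smul_comm, hi, haa, neg_smul, one_smul]
  · rw [smul_mul_smul_comm, hi, hcc, neg_smul, one_smul]
  · rw [smul_mul_smul_comm, smul_mul_smul_comm, hac, smul_neg, neg_neg]

theorem Frame.a_ne_c {R : Subgroup (GL (Fin 4) F)} {a b c d : GG} (f : Frame R a b c d)
    (h2 : (2 : F) ≠ 0) : (a : MM) ≠ (c : MM) := by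
  intro h
  have h1 := f.ac
  unfold AC at h1
  rw [← h, f.aa] at h1
  have h3 := congrFun (congrFun h1 0) 0
  simp only [Matrix.one_apply_eq, Matrix.neg_apply] at h3
  apply h2
  linear_combination h3

theorem commute_VV {X I J : MM} (hI : Commute X I) (hJ : Commute X J) : Commute X (VV I J) := by
  unfold VV
  exact (((Commute.one_right X).add_right hI).mul_right
    ((Commute.one_right X).add_right hJ)).smul_right _

theorem commute_VV_VV {I J I' J' : MM} (h1 : Commute I I') (h2 : Commute I J') (h3 : Commute J I')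
    (h4 : Commute J J') : Commute (VV I J) (VV I' J') := by
  exact commute_VV (commute_VV h1.symm h3.symm).symm (commute_VV h2.symm h4.symm).symm

section unitary

variable [Fintype F] {q : ℕ} (hF : Fintype.card F = q ^ 2)

/-- elements of order 3 normalising `R`: type `(0,2,2)` and type `(2,1,1)` -/
theorem order3_models {R : Subgroup (GL (Fin 4) F)} (h : RHyp R) (h2 : (2 : F) ≠ 0)
    (h3 : (3 : F) ≠ 0) (p : ℕ) [Fact p.Prime] [CharP F p] (hp3 : p ≠ 3)
    (hU : ∀ g ∈ R, sharp hF (g : MM) * (g : MM) = 1) (h3d : 3 ∣ Fintype.card F - 1) (ω : F)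
    (hω : ω ^ 2 + ω + 1 = 0) (hωq : ω ^ q = ω) [DecidableEq F] :
    (∃ m : MM, Nmz R m ∧ sharp hF m * m = 1 ∧ m ^ 3 = 1 ∧ kd (m - (1 : F) • (1 : MM)) = 0) ∧
    (∃ m : MM, Nmz R m ∧ sharp hF m * m = 1 ∧ m ^ 3 = 1 ∧ kd (m - (1 : F) • (1 : MM)) = 2) := by
  obtain ⟨a, b, c, d, f⟩ := h.exists_frame h2
  obtain ⟨i, zi, hi, hzi, hzim⟩ := h.exists_i
  have hi' : i * i = -1 := by rw [← pow_two]; exact hi
  have hi0 : i ≠ 0 := by
    rintro rfl
    norm_num at hi
  obtain ⟨qa1, qa2, qa3⟩ := quat_rel hi' f.aa f.cc f.ac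
  obtain ⟨qb1, qb2, qb3⟩ := quat_rel hi' f.bb f.dd f.bd
  -- group elements
  have hval : ∀ g : GG, ((zi * g : GG) : MM) = i • (g : MM) := by
    intro g
    rw [Units.val_mul, hzim, Matrix.smul_mul, Matrix.one_mul]
  have hmem : ∀ g : GG, g ∈ R → zi * g ∈ R := fun g hg => mul_mem hzi hg
  have hsh : ∀ g : GG, g ∈ R → (i • (g : MM)) * (i • (g : MM)) = -1 →
      sharp hF (i • (g : MM)) = -(i • (g : MM)) := by
    intro g hg hgg
    apply sharp_of_sq_neg hF _ hgg
    rw [← hval]
    exact hU _ (hmem g hg)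
  -- the two elements
  have n1 : Nmz R (VV (i • (a : MM)) (i • (c : MM))) := by
    have := h.nmz_VV (hmem a f.ha) (hmem c f.hc) (by rw [hval]; exact qa1) (by rw [hval]; exact qa2)
    rwa [hval, hval] at this
  have n2 : Nmz R (VV (i • (b : MM)) (i • (d : MM))) := by
    have := h.nmz_VV (hmem b f.hb) (hmem d f.hd) (by rw [hval]; exact qb1) (by rw [hval]; exact qb2)
    rwa [hval, hval] at this
  have u1 := VV_unitary hF h2 qa1 qa2 (hsh a f.ha qa1) (hsh c f.hc qa2)
  have u2 := VV_unitary hF h2 qb1 qb2 (hsh b f.hb qb1) (hsh d f.hd qb2)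
  set t1 := VV (i • (a : MM)) (i • (c : MM)) with ht1
  set t2 := VV (i • (b : MM)) (i • (d : MM)) with ht2
  have q1 : (-t1) * (-t1) + (-t1) + 1 = 0 := negVV_quad h2 qa1 qa2 qa3
  have q2 : (-t2) * (-t2) + (-t2) + 1 = 0 := negVV_quad h2 qb1 qb2 qb3
  have nn1 : Nmz R (-t1) := by
    have := n1.smul (-1 : F)
    rwa [neg_one_smul] at this
  have nn2 : Nmz R (-t2) := by
    have := n2.smul (-1 : F)
    rwa [neg_one_smul] at this
  have uu1 := neg_unitary hF u1
  have uu2 := neg_unitary hF u2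
  refine ⟨⟨-t1, nn1, uu1, cube_of_quad q1, kd_zero_of_quad h3 q1⟩, ?_⟩
  -- the product
  have cab : Commute (a : MM) (b : MM) := f.ab
  have cad : Commute (a : MM) (d : MM) := f.ad
  have ccb : Commute (c : MM) (b : MM) := f.cb
  have ccd : Commute (c : MM) (d : MM) := f.cd
  have com12 : Commute (-t1) (-t2) := by
    apply Commute.neg_left
    apply Commute.neg_right
    rw [ht1, ht2]
    apply commute_VV_VV
    · exact (cab.smul_left i).smul_right i
    · exact (cad.smul_left i).smul_right i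
    · exact (ccb.smul_left i).smul_right i
    · exact (ccd.smul_left i).smul_right i
  have coma : Commute (-t2) (a : MM) := by
    apply Commute.neg_left
    apply Commute.symm
    rw [ht2]
    apply commute_VV
    · exact cab.smul_right i
    · exact cad.smul_right i
  have semi : (-t1) * (a : MM) = (c : MM) * (-t1) := by
    have h5 := VV_semi qa1 qa2 qa3
    rw [Matrix.mul_smul, Matrix.smul_mul] at h5
    have h6 := smul_right_injective MM hi0 h5
    rw [neg_mul, mul_neg]
    congr 1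
  have hm3 : ((-t1) * (-t2)) ^ 3 = 1 := by
    rw [com12.mul_pow, cube_of_quad q1, cube_of_quad q2, Matrix.one_mul]
  have hmU := unitary_mul hF uu1 uu2
  have hsemi : ((-t1) * (-t2)) * (a : MM) = (c : MM) * ((-t1) * (-t2)) := by
    rw [Matrix.mul_assoc, coma.eq, ← Matrix.mul_assoc, semi, Matrix.mul_assoc]
  refine ⟨(-t1) * (-t2), nn1.mul nn2, hmU, hm3, ?_⟩
  obtain ⟨-, hsum, -, hfour⟩ := kd_order_three p hp3 h3d ω hω _ hm3
  have heq := kd_omega_eq hF ω hω hωq _ hmU
  have hinv1 : (-t1) * ((-t1) * (-t1)) = 1 := by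
    have := cube_of_quad q1
    rw [pow_succ, pow_two] at this
    rw [← Matrix.mul_assoc]
    exact this
  have hcancel : ∀ X Y : MM, X * (-t1) = Y * (-t1) → X = Y := by
    intro X Y hXY
    have := congrArg (fun M : MM => M * ((-t1) * (-t1))) hXY
    simp only [Matrix.mul_assoc, hinv1, Matrix.mul_one] at this
    exact this
  have hne4 : kd ((-t1) * (-t2) - (1 : F) • (1 : MM)) ≠ 4 := by
    intro h4
    have hm1 := hfour h4
    rw [hm1, Matrix.one_mul, Matrix.mul_one] at hsemi
    exact f.a_ne_c h2 hsemi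
  have hne0 : kd ((-t1) * (-t2) - (1 : F) • (1 : MM)) ≠ 0 := by
    intro h0
    have hdet := det_unit_of_kd_zero h0
    have hfac : ((-t1) * (-t2) - (1 : F) • (1 : MM)) *
        (((-t1) * (-t2)) * ((-t1) * (-t2)) + (-t1) * (-t2) + 1) = 0 := by
      have e : ((-t1) * (-t2)) ^ 3 - 1 = 0 := by rw [hm3, sub_self]
      rw [← e, one_smul]
      noncomm_ring
    have hquad : ((-t1) * (-t2)) * ((-t1) * (-t2)) + (-t1) * (-t2) + 1 = 0 := by
      have := congrArg (fun M : MM => ((-t1) * (-t2) - (1 : F) • (1 : MM))⁻¹ * M) hfac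
      simp only [Matrix.mul_zero] at this
      rwa [← Matrix.mul_assoc, Matrix.nonsing_inv_mul _ hdet, Matrix.one_mul] at this
    have h5 := order3_eq F (-t1) (-t2) com12.eq q1 q2 hquad
    rw [three_eq, Matrix.smul_mul, Matrix.smul_mul, Matrix.one_mul, Matrix.one_mul] at h5
    have h6 := smul_right_injective MM h3 h5
    have h7 : (a : MM) * (-t1) = (c : MM) * (-t1) := by
      rw [← semi, h6, coma.eq]
    exact f.a_ne_c h2 (hcancel _ _ h7)
  omega

end unitary

end Cfsg.Agent.Lib.Helper7.ST
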