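import Mathlib
import Cfsg.Agent.Lib.Helper7.SU4F

/-!
# The trace of an involution in terms of its eigenvalue multiplicities
-/

set_option autoImplicit false
set_option linter.unusedSectionVars false

namespace Cfsg.Agent.Lib.Helper7.SU4

open Matrix Module Polynomial Cfsg

variable {F : Type*} [Field F] [DecidableEq F] {n : ℕ}

theorem trace_of_diag (x P : Matrix (Fin n) (Fin n) F) (ν : Fin n → F) (hP : IsUnit P.det)
    (hx : x * P = P * Matrix.diagonal ν) : x.trace = ∑ j, ν j := by
  have h1 : x = P * Matrix.diagonal ν * P⁻¹ := by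
    rw [← hx, Matrix.mul_assoc, Matrix.mul_nonsing_inv _ hP, Matrix.mul_one]
  rw [h1, Matrix.trace_mul_comm, ← Matrix.mul_assoc, Matrix.nonsing_inv_mul _ hP, Matrix.one_mul,
    Matrix.trace_diagonal]

theorem sum_eq_cnt (ν : Fin n → F) (a b : F) (hab : a ≠ b) (h : ∀ j, ν j = a ∨ ν j = b) :
    ∑ j, ν j = (cnt ν a : F) * a + (cnt ν b : F) * b := by
  unfold cnt
  rw [← Finset.sum_filter_add_sum_filter_not Finset.univ (fun j => ν j = a)]
  congr 1
  · rw [Finset.sum_congr rfl (fun j hj => (Finset.mem_filter.mp hj).2), Finset.sum_const,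
      nsmul_eq_mul]
  · have : Finset.univ.filter (fun j => ¬ ν j = a) = Finset.univ.filter (fun j => ν j = b) := by
      ext j
      simp only [Finset.mem_filter, Finset.mem_univ, true_and]
      constructor
      · intro hj
        rcases h j with h1 | h1
        · exact absurd h1 hj
        · exact h1
      · intro hj h1
        exact hab (h1.symm.trans hj)
    rw [this, Finset.sum_congr rfl (fun j hj => (Finset.mem_filter.mp hj).2), Finset.sum_const,
      nsmul_eq_mul]

/-- the trace of an involution -/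
theorem trace_involution [Fintype F] (p : ℕ) [Fact p.Prime] [CharP F p] (hp2 : p ≠ 2)
    (x : Matrix (Fin n) (Fin n) F) (hx2 : x ^ 2 = 1) :
    x.trace = (kd (x - (1 : F) • (1 : Matrix (Fin n) (Fin n) F)) : F) -
      (kd (x - (-1 : F) • (1 : Matrix (Fin n) (Fin n) F)) : F) := by
  have h2F : (2 : F) ≠ 0 := by
    intro h
    have h' : ((2 : ℕ) : F) = 0 := by exact_mod_cast h
    rw [CharP.cast_eq_zero_iff F p] at h'
    have hp := (Fact.out : p.Prime)
    exact hp2 ((Nat.prime_dvd_prime_iff_eq hp Nat.prime_two).mp h')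
  have hne : (1 : F) ≠ -1 := by
    intro h
    apply h2F
    linear_combination h
  obtain ⟨⟨P, ν, hP, hxP⟩, -, -, -, -, -⟩ := kd_involution p hp2 x hx2
  have hν : ∀ j, ν j = 1 ∨ ν j = -1 := by
    intro j
    have h1 : x * x * P = P * (Matrix.diagonal ν * Matrix.diagonal ν) := by
      rw [Matrix.mul_assoc, hxP, ← Matrix.mul_assoc, hxP, Matrix.mul_assoc]
    rw [← pow_two, hx2, Matrix.one_mul, Matrix.diagonal_mul_diagonal] at h1
    have h3 : P⁻¹ * P = P⁻¹ * (P * Matrix.diagonal (fun j => ν j * ν j)) := by rw [← h1]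
    rw [← Matrix.mul_assoc, Matrix.nonsing_inv_mul _ hP, Matrix.one_mul] at h3
    have h4 := congrFun (congrFun h3 j) j
    rw [Matrix.one_apply_eq, Matrix.diagonal_apply_eq] at h4
    have h5 : (ν j - 1) * (ν j + 1) = 0 := by linear_combination -h4
    rcases mul_eq_zero.mp h5 with h6 | h6
    · left; linear_combination h6
    · right; linear_combination h6
  rw [trace_of_diag x P ν hP hxP, sum_eq_cnt ν 1 (-1) hne hν, kd_of_diag x P ν hP hxP,
    kd_of_diag x P ν hP hxP]
  unfold cnt
  ring

end Cfsg.Agent.Lib.Helper7.SU4
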