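import Mathlib
import Cfsg.Agent.Lib.Helper7.STJ
import Cfsg.Agent.Lib.Helper7.SU4G

/-!
# Involutions normalising `R`: eigenvalue multiplicities `(2,2)` and `(3,1)`
-/

set_option autoImplicit false
set_option linter.unusedSectionVars false
set_option linter.style.haveILetI false

namespace Cfsg.Agent.Lib.Helper7.ST

open Matrix Cfsg
open Cfsg.Agent.Lib.Helper14.GUConj
open Cfsg.Agent.Lib.Helper14.HSemi (sigQ sigQ_apply)
open Cfsg.Agent.Lib.Helper7.SU4

variable {F : Type*} [Field F]

local notation "MM" => Matrix (Fin 4) (Fin 4) F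
local notation "GG" => GL (Fin 4) F

theorem s0_sq {A B : MM} (hAB : A * B = B * A) (hA : A * A = 1) (hB : B * B = 1) :
    (1 - A - B - A * B) * (1 - A - B - A * B) = 4 := by
  letI := commRingAdjoin F hAB
  let A' : Algebra.adjoin F ({A, B} : Set MM) := ⟨A, mem_adjoin_left F A B⟩
  let B' : Algebra.adjoin F ({A, B} : Set MM) := ⟨B, mem_adjoin_right F A B⟩
  have hA' : A' * A' = 1 := Subtype.ext hA
  have hB' : B' * B' = 1 := Subtype.ext hB
  have key : (1 - A' - B' - A' * B') * (1 - A' - B' - A' * B') = 4 := by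
    linear_combination (1 + 2 * B' + B' * B') * hA' + (2 + 2 * A') * hB'
  exact congrArg Subtype.val key

theorem s0_fix {A B : MM} (hAB : A * B = B * A) (hA : A * A = 1) :
    (1 - A - B - A * B) * (1 - A) = 2 * (1 - A) := by
  letI := commRingAdjoin F hAB
  let A' : Algebra.adjoin F ({A, B} : Set MM) := ⟨A, mem_adjoin_left F A B⟩
  let B' : Algebra.adjoin F ({A, B} : Set MM) := ⟨B, mem_adjoin_right F A B⟩
  have hA' : A' * A' = 1 := Subtype.ext hA
  have key : (1 - A' - B' - A' * B') * (1 - A') = 2 * (1 - A') := by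
    linear_combination (1 + B') * hA'
  exact congrArg Subtype.val key

theorem s0_prod {A B : MM} (hAB : A * B = B * A) (hA : A * A = 1) (hB : B * B = 1) {i : F}
    (hi : i * i = -1) :
    (1 + i • A) * (1 + i • B) * (1 + i • (A * B)) = (1 - i) • (1 - A - B - A * B) := by
  letI := commRingAdjoin F hAB
  let A' : Algebra.adjoin F ({A, B} : Set MM) := ⟨A, mem_adjoin_left F A B⟩
  let B' : Algebra.adjoin F ({A, B} : Set MM) := ⟨B, mem_adjoin_right F A B⟩
  have hA' : A' * A' = 1 := Subtype.ext hA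
  have hB' : B' * B' = 1 := Subtype.ext hB
  set ι : Algebra.adjoin F ({A, B} : Set MM) := algebraMap F _ i with hι
  have hιι : ι * ι = -1 := by rw [hι, ← map_mul, hi, map_neg, map_one]
  have key : (1 + i • A') * (1 + i • B') * (1 + i • (A' * B')) =
      (1 - i) • (1 - A' - B' - A' * B') := by
    rw [Algebra.smul_def, Algebra.smul_def, Algebra.smul_def, Algebra.smul_def, map_sub, map_one,
      ← hι]
    linear_combination (-B' - ι * (B' * B')) * hA' + (-A' - ι) * hB' +
      (A' * B' + A' * A' * B' + A' * B' * B' + ι * (A' * A' * B' * B')) * hιι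
  exact congrArg Subtype.val key

theorem four_eq' : (4 : MM) = (4 : F) • (1 : MM) := by
  rw [← Algebra.algebraMap_eq_smul_one, map_ofNat]

theorem two_eq' : (2 : MM) = (2 : F) • (1 : MM) := by
  rw [← Algebra.algebraMap_eq_smul_one, map_ofNat]

theorem Frame.one_sub_a_ne {R : Subgroup (GL (Fin 4) F)} {a b c d : GG} (f : Frame R a b c d)
    (h2 : (2 : F) ≠ 0) : (1 : MM) - (a : MM) ≠ 0 := by
  intro h
  have ha : (a : MM) = 1 := (sub_eq_zero.mp h).symm
  have h1 := f.ac
  unfold AC at h1
  rw [ha, Matrix.one_mul, Matrix.mul_one] at h1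
  have h3 : (2 : F) • (c : MM) = 0 := by
    rw [two_smul]
    nth_rewrite 1 [h1]
    rw [neg_add_cancel]
  rcases smul_eq_zero.mp h3 with h4 | h4
  · exact h2 h4
  · have h5 := f.cc
    rw [h4, Matrix.mul_zero] at h5
    have h6 := congrFun (congrFun h5 0) 0
    simp at h6

section unitary

variable [Fintype F] {q : ℕ} (hF : Fintype.card F = q ^ 2)

/-- involutions normalising `R`, of types `(2,2)` and `(3,1)` -/
theorem invol_models {R : Subgroup (GL (Fin 4) F)} (h : RHyp R) (h2 : (2 : F) ≠ 0)
    (p : ℕ) [Fact p.Prime] [CharP F p] (hp2 : p ≠ 2)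
    (hU : ∀ g ∈ R, sharp hF (g : MM) * (g : MM) = 1) [DecidableEq F] :
    (∃ m : MM, Nmz R m ∧ sharp hF m * m = 1 ∧ m ^ 2 = 1 ∧ kd (m - (1 : F) • (1 : MM)) = 2) ∧
    (∃ m : MM, Nmz R m ∧ sharp hF m * m = 1 ∧ m ^ 2 = 1 ∧ kd (m - (1 : F) • (1 : MM)) = 3) := by
  obtain ⟨a, b, c, d, f⟩ := h.exists_frame h2
  obtain ⟨i, zi, hi, hzi, hzim⟩ := h.exists_i
  have hi' : i * i = -1 := by rw [← pow_two]; exact hi
  have hca : (c : MM) * (a : MM) = -((a : MM) * (c : MM)) := by
    have := f.ac
    unfold AC at this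
    rw [this, neg_neg]
  constructor
  · refine ⟨(a : MM), Nmz.of_mem f.ha, hU a f.ha, by rw [pow_two]; exact f.aa, ?_⟩
    obtain ⟨-, hsum, -, -, -, -⟩ := kd_involution p hp2 (a : MM) (by rw [pow_two]; exact f.aa)
    have hconj : (c : MM) * ((a : MM) - (1 : F) • (1 : MM)) * (c : MM) =
        (-1 : F) • ((a : MM) - (-1 : F) • (1 : MM)) := by
      rw [Matrix.mul_sub, Matrix.sub_mul, one_smul, Matrix.mul_one, f.cc, hca, Matrix.neg_mul,
        Matrix.mul_assoc, f.cc, Matrix.mul_one, neg_smul, one_smul, neg_smul, one_smul]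
      abel
    have hk : kd ((a : MM) - (1 : F) • (1 : MM)) = kd ((a : MM) - (-1 : F) • (1 : MM)) := by
      rw [← kd_mul_unit _ (c : MM) (unit_det c), ← kd_unit_mul (c : MM) _ (unit_det c),
        ← Matrix.mul_assoc, hconj, kd_smul _ (by norm_num)]
    omega
  · -- the reflection
    have hab : (a : MM) * (b : MM) = (b : MM) * (a : MM) := f.ab
    set X : MM := 1 - (a : MM) - (b : MM) - (a : MM) * (b : MM) with hX
    have hXX : X * X = 4 := s0_sq hab f.aa f.bb
    have hhalf : (2 : F)⁻¹ * (2 : F)⁻¹ * 4 = 1 := by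
      field_simp
      norm_num
    have hss : ((2 : F)⁻¹ • X) * ((2 : F)⁻¹ • X) = 1 := by
      rw [smul_mul_smul_comm, hXX, four_eq', smul_smul, hhalf, one_smul]
    -- normalising
    have hval : ∀ g : GG, ((zi * g : GG) : MM) = i • (g : MM) := by
      intro g
      rw [Units.val_mul, hzim, Matrix.smul_mul, Matrix.one_mul]
    have hmem : ∀ g : GG, g ∈ R → zi * g ∈ R := fun g hg => mul_mem hzi hg
    have habab : ((a : MM) * (b : MM)) * ((a : MM) * (b : MM)) = 1 := by
      rw [Matrix.mul_assoc, ← Matrix.mul_assoc (b : MM), ← hab, Matrix.mul_assoc (a : MM),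
        f.bb, Matrix.mul_one, f.aa]
    have n1 : Nmz R (1 + i • (a : MM)) := by
      have := h.nmz_one_add (hmem a f.ha) (by
        rw [hval, smul_mul_smul_comm, hi', f.aa, neg_smul, one_smul])
      rwa [hval] at this
    have n2 : Nmz R (1 + i • (b : MM)) := by
      have := h.nmz_one_add (hmem b f.hb) (by
        rw [hval, smul_mul_smul_comm, hi', f.bb, neg_smul, one_smul])
      rwa [hval] at this
    have n3 : Nmz R (1 + i • ((a : MM) * (b : MM))) := by
      have := h.nmz_one_add (hmem (a * b) (mul_mem f.ha f.hb)) (by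
        rw [hval, Units.val_mul, smul_mul_smul_comm, hi', habab, neg_smul, one_smul])
      rwa [hval, Units.val_mul] at this
    have h1i : (1 - i) ≠ 0 := by
      intro h0
      apply h2
      have : (1 - i) * (1 + i) = 2 := by linear_combination -hi'
      rw [← this, h0, zero_mul]
    have nX : Nmz R X := by
      have n4 := ((n1.mul n2).mul n3).smul (1 - i)⁻¹
      rwa [s0_prod hab f.aa f.bb hi', smul_smul, inv_mul_cancel₀ h1i, one_smul] at n4
    -- hermitian
    have sa : sharp hF (a : MM) = (a : MM) := sharp_of_sq_one hF (hU a f.ha) f.aa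
    have sb : sharp hF (b : MM) = (b : MM) := sharp_of_sq_one hF (hU b f.hb) f.bb
    have sX : sharp hF X = X := by
      rw [hX, sharp_sub, sharp_sub, sharp_sub, sharp_one, sharp_mul, sa, sb, ← hab]
    have sU : sharp hF ((2 : F)⁻¹ • X) * ((2 : F)⁻¹ • X) = 1 := by
      rw [sharp_smul, sigQ_half, sX, hss]
    refine ⟨(2 : F)⁻¹ • X, nX.smul _, sU, by rw [pow_two]; exact hss, ?_⟩
    -- the trace
    have ta : (a : MM).trace = 0 := trace_eq_zero_of_AC h2 (unit_det c) f.ac
    have tb : (b : MM).trace = 0 := trace_eq_zero_of_AC h2 (unit_det d) f.bd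
    have tab : ((a : MM) * (b : MM)).trace = 0 :=
      trace_eq_zero_of_AC h2 (unit_det c) (f.ac.mul_left_comm f.cb.symm)
    have tX : ((2 : F)⁻¹ • X).trace = 2 := by
      rw [Matrix.trace_smul, hX, Matrix.trace_sub, Matrix.trace_sub, Matrix.trace_sub, ta, tb, tab,
        Matrix.trace_one, Fintype.card_fin, smul_eq_mul]
      push_cast
      field_simp
      norm_num
    have htr := trace_involution p hp2 ((2 : F)⁻¹ • X) (by rw [pow_two]; exact hss)
    obtain ⟨-, hsum, -, -, -, -⟩ := kd_involution p hp2 ((2 : F)⁻¹ • X) (by rw [pow_two]; exact hss)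
    -- a fixed vector
    have hfix : ((2 : F)⁻¹ • X) * (1 - (a : MM)) = 1 - (a : MM) := by
      rw [Matrix.smul_mul, s0_fix hab f.aa, two_eq', Matrix.smul_mul, Matrix.one_mul, smul_smul,
        inv_mul_cancel₀ h2, one_smul]
    have hpos : 0 < kd ((2 : F)⁻¹ • X - (1 : F) • (1 : MM)) := by
      rw [kd_pos_iff]
      have hne := f.one_sub_a_ne h2
      have hex : ∃ j k, (1 - (a : MM)) j k ≠ 0 := by
        by_contra hcon
        push Not at hcon
        apply hne
        ext j k
        exact hcon j k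
      obtain ⟨j, k, hjk⟩ := hex
      refine ⟨(1 - (a : MM)) *ᵥ (Pi.single k 1), ?_, ?_⟩
      · intro h0
        apply hjk
        have := congrFun h0 j
        simpa using this
      · rw [Matrix.mulVec_mulVec, Matrix.sub_mul, hfix, one_smul, Matrix.one_mul, sub_self,
          Matrix.zero_mulVec]
    rw [tX] at htr
    have hle : kd ((2 : F)⁻¹ • X - (1 : F) • (1 : MM)) ≤ 4 := by omega
    have h4F : (4 : F) ≠ 0 := by
      have : (4 : F) = 2 * 2 := by norm_num
      rw [this]
      exact mul_ne_zero h2 h2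
    interval_cases hk : kd ((2 : F)⁻¹ • X - (1 : F) • (1 : MM))
    · exfalso
      have h3 : kd ((2 : F)⁻¹ • X - (-1 : F) • (1 : MM)) = 3 := by omega
      rw [h3] at htr
      apply h4F
      push_cast at htr
      linear_combination htr
    · exfalso
      have h3 : kd ((2 : F)⁻¹ • X - (-1 : F) • (1 : MM)) = 2 := by omega
      rw [h3] at htr
      apply h2
      push_cast at htr
      linear_combination htr
    · rfl
    · exfalso
      have h3 : kd ((2 : F)⁻¹ • X - (-1 : F) • (1 : MM)) = 0 := by omega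
      rw [h3] at htr
      apply h2
      push_cast at htr
      linear_combination -htr

end unitary

end Cfsg.Agent.Lib.Helper7.ST
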