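import Mathlib
import Cfsg.Agent.Lib.Helper7.STK

/-!
# An element of order 5 normalising `R`
-/

set_option autoImplicit false
set_option linter.unusedSectionVars false
set_option linter.unusedSimpArgs false

namespace Cfsg.Agent.Lib.Helper7.ST

open Matrix Cfsg
open Cfsg.Agent.Lib.Helper14.GUConj
open Cfsg.Agent.Lib.Helper14.HSemi (sigQ sigQ_apply)
open Cfsg.Agent.Lib.Helper7.SU4

variable {F : Type*} [Field F]

local notation "MM" => Matrix (Fin 4) (Fin 4) F
local notation "GG" => GL (Fin 4) F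

/-- five pairwise anticommuting involutions -/
theorem five_T (a b c d : MM) (i : F) (hi : i * i = -1)
    (aa : a * a = 1) (bb : b * b = 1) (cc : c * c = 1) (dd : d * d = 1)
    (ca : c * a = -(a * c)) (db : d * b = -(b * d)) (ba : b * a = a * b) (da : d * a = a * d)
    (cb : c * b = b * c) (dc : d * c = c * d) :
    (∀ j, (![a, c, i • (a * (c * b)), i • (a * (c * d)), a * (c * (b * d))] : Fin 5 → MM) j *
      (![a, c, i • (a * (c * b)), i • (a * (c * d)), a * (c * (b * d))] : Fin 5 → MM) j = 1) ∧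
    (∀ j k, j ≠ k →
      (![a, c, i • (a * (c * b)), i • (a * (c * d)), a * (c * (b * d))] : Fin 5 → MM) j *
      (![a, c, i • (a * (c * b)), i • (a * (c * d)), a * (c * (b * d))] : Fin 5 → MM) k =
      -((![a, c, i • (a * (c * b)), i • (a * (c * d)), a * (c * (b * d))] : Fin 5 → MM) k *
      (![a, c, i • (a * (c * b)), i • (a * (c * d)), a * (c * (b * d))] : Fin 5 → MM) j)) := by
  have aa' : ∀ X : MM, a * (a * X) = X := fun X => by rw [← Matrix.mul_assoc, aa, Matrix.one_mul]
  have bb' : ∀ X : MM, b * (b * X) = X := fun X => by rw [← Matrix.mul_assoc, bb, Matrix.one_mul]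
  have cc' : ∀ X : MM, c * (c * X) = X := fun X => by rw [← Matrix.mul_assoc, cc, Matrix.one_mul]
  have dd' : ∀ X : MM, d * (d * X) = X := fun X => by rw [← Matrix.mul_assoc, dd, Matrix.one_mul]
  have ca' : ∀ X : MM, c * (a * X) = -(a * (c * X)) := fun X => by
    rw [← Matrix.mul_assoc, ca, Matrix.neg_mul, Matrix.mul_assoc]
  have db' : ∀ X : MM, d * (b * X) = -(b * (d * X)) := fun X => by
    rw [← Matrix.mul_assoc, db, Matrix.neg_mul, Matrix.mul_assoc]
  have ba' : ∀ X : MM, b * (a * X) = a * (b * X) := fun X => by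
    rw [← Matrix.mul_assoc, ba, Matrix.mul_assoc]
  have da' : ∀ X : MM, d * (a * X) = a * (d * X) := fun X => by
    rw [← Matrix.mul_assoc, da, Matrix.mul_assoc]
  have cb' : ∀ X : MM, c * (b * X) = b * (c * X) := fun X => by
    rw [← Matrix.mul_assoc, cb, Matrix.mul_assoc]
  have dc' : ∀ X : MM, d * (c * X) = c * (d * X) := fun X => by
    rw [← Matrix.mul_assoc, dc, Matrix.mul_assoc]
  constructor
  · intro j
    fin_cases j <;>
    simp [Matrix.mul_assoc, aa, bb, cc, dd, ca, db, ba, da, cb, dc, aa', bb', cc', dd', ca', db',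
      ba', da', cb', dc', smul_smul, hi]
  · intro j k hjk
    fin_cases j <;> fin_cases k <;> first | exact absurd rfl hjk |
    simp [Matrix.mul_assoc, aa, bb, cc, dd, ca, db, ba, da, cb, dc, aa', bb', cc', dd', ca', db',
      ba', da', cb', dc', smul_smul, hi]

theorem ne_of_anti (h2 : (2 : F) ≠ 0) {X Y : MM} (hY : Y * Y = 1) (h : X * Y = -(Y * X)) :
    X ≠ Y ∧ X ≠ -Y := by
  have key : (1 : MM) ≠ -1 := by
    intro h1
    have h3 := congrFun (congrFun h1 0) 0
    simp only [Matrix.one_apply_eq, Matrix.neg_apply] at h3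
    apply h2
    linear_combination h3
  constructor
  · intro hXY
    rw [hXY, hY] at h
    exact key h
  · intro hXY
    rw [hXY, Matrix.neg_mul, Matrix.mul_neg, hY, neg_neg] at h
    exact key h.symm

section unitary

variable [Fintype F] {q : ℕ} (hF : Fintype.card F = q ^ 2)

theorem unitary_pow {M : MM} (hM : sharp hF M * M = 1) (k : ℕ) : sharp hF (M ^ k) * M ^ k = 1 := by
  have hc : Commute (sharp hF M) M := by
    unfold Commute SemiconjBy
    rw [hM, unitary_mul_sharp hF hM]
  rw [sharp_pow, ← hc.mul_pow, hM, one_pow]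

/-- an element of order 5 normalising `R` -/
theorem order5_model {R : Subgroup (GL (Fin 4) F)} (h : RHyp R) (h2 : (2 : F) ≠ 0)
    (hU : ∀ g ∈ R, sharp hF (g : MM) * (g : MM) = 1) :
    ∃ y : GG, Nmz R (y : MM) ∧ sharp hF (y : MM) * (y : MM) = 1 ∧ orderOf y = 5 := by
  obtain ⟨a, b, c, d, f⟩ := h.exists_frame h2
  obtain ⟨i, zi, hi, hzi, hzim⟩ := h.exists_i
  have hi' : i * i = -1 := by rw [← pow_two]; exact hi
  have hca : (c : MM) * (a : MM) = -((a : MM) * (c : MM)) := by
    have := f.ac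
    unfold AC at this
    rw [this, neg_neg]
  have hdb : (d : MM) * (b : MM) = -((b : MM) * (d : MM)) := by
    have := f.bd
    unfold AC at this
    rw [this, neg_neg]
  obtain ⟨hsq, hanti⟩ := five_T (a : MM) (b : MM) (c : MM) (d : MM) i hi' f.aa f.bb f.cc f.dd
    hca hdb f.ab.symm f.ad.symm f.cb f.cd.symm
  set T : Fin 5 → MM := ![(a : MM), (c : MM), i • ((a : MM) * ((c : MM) * (b : MM))),
    i • ((a : MM) * ((c : MM) * (d : MM))), (a : MM) * ((c : MM) * ((b : MM) * (d : MM)))] with hT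
  have hval : ∀ g : GG, ((zi * g : GG) : MM) = i • (g : MM) := by
    intro g
    rw [Units.val_mul, hzim, Matrix.smul_mul, Matrix.one_mul]
  -- group elements
  let t : Fin 5 → GG := ![a, c, zi * (a * (c * b)), zi * (a * (c * d)), a * (c * (b * d))]
  have ht : ∀ j, t j ∈ R := by
    intro j
    fin_cases j
    · exact f.ha
    · exact f.hc
    · exact mul_mem hzi (mul_mem f.ha (mul_mem f.hc f.hb))
    · exact mul_mem hzi (mul_mem f.ha (mul_mem f.hc f.hd))
    · exact mul_mem f.ha (mul_mem f.hc (mul_mem f.hb f.hd))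
  have htv : ∀ j, ((t j : GG) : MM) = T j := by
    intro j
    fin_cases j
    · rfl
    · rfl
    · change ((zi * (a * (c * b)) : GG) : MM) = i • ((a : MM) * ((c : MM) * (b : MM)))
      rw [hval, Units.val_mul, Units.val_mul]
    · change ((zi * (a * (c * d)) : GG) : MM) = i • ((a : MM) * ((c : MM) * (d : MM)))
      rw [hval, Units.val_mul, Units.val_mul]
    · change ((a * (c * (b * d)) : GG) : MM) = (a : MM) * ((c : MM) * ((b : MM) * (d : MM)))
      rw [Units.val_mul, Units.val_mul, Units.val_mul]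
  have hw : ∀ j k, j ≠ k → (T k * T j) * (T k * T j) = -1 := fun j k hjk =>
    sq_neg_of_anti (hsq j) (hsq k) (hanti j k hjk)
  have hwv : ∀ j k, ((t k * t j : GG) : MM) = T k * T j := by
    intro j k
    rw [Units.val_mul, htv, htv]
  have hsh : ∀ j k, j ≠ k → sharp hF (T k * T j) = -(T k * T j) := by
    intro j k hjk
    apply sharp_of_sq_neg hF _ (hw j k hjk)
    rw [← hwv]
    exact hU _ (mul_mem (ht k) (ht j))
  have nV : ∀ j k l m, j ≠ k → l ≠ m → Nmz R (VV (T k * T j) (T m * T l)) := by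
    intro j k l m hjk hlm
    have := h.nmz_VV (mul_mem (ht k) (ht j)) (mul_mem (ht m) (ht l))
      (by rw [hwv]; exact hw j k hjk) (by rw [hwv]; exact hw l m hlm)
    rwa [hwv, hwv] at this
  have uV : ∀ j k l m, j ≠ k → l ≠ m →
      sharp hF (VV (T k * T j) (T m * T l)) * VV (T k * T j) (T m * T l) = 1 := by
    intro j k l m hjk hlm
    exact VV_unitary hF h2 (hw j k hjk) (hw l m hlm) (hsh j k hjk) (hsh l m hlm)
  set Y : MM := VV (T 4 * T 3) (T 3 * T 2) * VV (T 2 * T 1) (T 1 * T 0) with hY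
  have nY : Nmz R Y := (nV 3 4 2 3 (by decide) (by decide)).mul (nV 1 2 0 1 (by decide) (by decide))
  have uY : sharp hF Y * Y = 1 :=
    unitary_mul hF (uV 3 4 2 3 (by decide) (by decide)) (uV 1 2 0 1 (by decide) (by decide))
  obtain ⟨c0, c1, c2, c3, c4⟩ := five_cycle T hsq hanti (2 : F)⁻¹ (2 : F)⁻¹ Y rfl
  have hne : ∀ j k, j ≠ k → T j ≠ T k ∧ T j ≠ -T k := fun j k hjk =>
    ne_of_anti h2 (hsq k) (hanti j k hjk)
  let y : GG := ⟨Y, sharp hF Y, unitary_mul_sharp hF uY, uY⟩
  have hyv : (y : MM) = Y := rfl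
  have hdvd : 5 ∣ orderOf y := by
    apply five_dvd_of_pow_eq_one T Y c0 c1 c2 c3 c4 hne
    rw [← hyv, ← Units.val_pow_eq_pow_val, pow_orderOf_eq_one, Units.val_one]
  have hfin : orderOf y ≠ 0 := by
    have : IsOfFinOrder y := isOfFinOrder_of_finite y
    exact this.orderOf_pos.ne'
  refine ⟨y ^ (orderOf y / 5), ?_, ?_, orderOf_pow_orderOf_div hfin hdvd⟩
  · rw [Units.val_pow_eq_pow_val, hyv]
    exact nY.pow _
  · rw [Units.val_pow_eq_pow_val, hyv]
    exact unitary_pow hF uY _

end unitary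

end Cfsg.Agent.Lib.Helper7.ST
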