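import Mathlib
import Cfsg.Agent.Lib.Helper7.STH

/-!
# Elements of prime order `≥ 7` normalising `R` are scalar; fixed point counting
-/

set_option autoImplicit false
set_option linter.unusedSectionVars false

namespace Cfsg.Agent.Lib.Helper7.ST

open Matrix Cfsg

variable {F : Type*} [Field F]

local notation "MM" => Matrix (Fin 4) (Fin 4) F
local notation "GG" => GL (Fin 4) F

theorem mem_CC' {x g : GG} : g ∈ CC x ↔ x * g = g * x := by
  unfold CC
  rw [Subgroup.mem_centralizer_iff]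
  constructor
  · intro h
    exact h x rfl
  · intro h y hy
    rw [Set.mem_singleton_iff] at hy
    rw [hy]
    exact h

/-- fixed point counting for an element of prime order acting on a finite subgroup -/
theorem card_fix_modEq (H : Subgroup (GL (Fin 4) F)) [Finite H] (y : GG)
    (hy : ∀ g ∈ H, y * g * y⁻¹ ∈ H) (r : ℕ) [Fact r.Prime] (hyr : y ^ r = 1) :
    Nat.card ↥H ≡ Nat.card ↥(H ⊓ CC y) [MOD r] := by
  classical
  haveI := Fintype.ofFinite ↥H
  let f : Function.End ↥H := fun g => ⟨y * g * y⁻¹, hy g g.2⟩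
  have hpow : ∀ (k : ℕ) (g : ↥H), (((f ^ k) g : ↥H) : GG) = y ^ k * g * (y ^ k)⁻¹ := by
    intro k
    induction k with
    | zero =>
      intro g
      rw [pow_zero, pow_zero, one_mul, inv_one, mul_one]
      rfl
    | succ k ih =>
      intro g
      rw [pow_succ]
      change (((f ^ k) (f g) : ↥H) : GG) = _
      rw [ih]
      change y ^ k * (y * g * y⁻¹) * (y ^ k)⁻¹ = _
      rw [pow_succ]
      group
  have hf : f ^ r ^ 1 = 1 := by
    funext g
    apply Subtype.ext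
    rw [pow_one, hpow, hyr, one_mul, inv_one, mul_one]
    rfl
  have h1 := Equiv.Perm.card_fixedPoints_modEq (p := r) (n := 1) hf
  have e : ↥(Function.fixedPoints f) ≃ ↥(H ⊓ CC y) :=
    { toFun := fun g => ⟨g.1.1, Subgroup.mem_inf.mpr ⟨g.1.2, by
        rw [mem_CC']
        have := congrArg Subtype.val g.2
        change y * g.1.1 * y⁻¹ = g.1.1 at this
        calc y * g.1.1 = (y * g.1.1 * y⁻¹) * y := by group
          _ = g.1.1 * y := by rw [this]⟩⟩
      invFun := fun k => ⟨⟨k.1, (Subgroup.mem_inf.mp k.2).1⟩, by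
        have h2 := mem_CC'.mp (Subgroup.mem_inf.mp k.2).2
        apply Subtype.ext
        change y * k.1 * y⁻¹ = k.1
        rw [h2]
        group⟩
      left_inv := fun g => rfl
      right_inv := fun k => rfl }
  rw [Nat.card_eq_fintype_card, Nat.card_congr e.symm, Nat.card_eq_fintype_card]
  exact h1

variable {R : Subgroup (GL (Fin 4) F)}

theorem ZZ_le_cent (h : RHyp R) (y : GG) : ZZ R ≤ R ⊓ CC y := le_inf ZZ_le (ZZ_le_CC h)

/-- the centraliser of `y` in `R` has order `4, 8, 16, 32` or `64` -/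
theorem card_cent_cases (h : RHyp R) (y : GG) :
    Nat.card ↥(R ⊓ CC y) = 4 ∨ Nat.card ↥(R ⊓ CC y) = 8 ∨ Nat.card ↥(R ⊓ CC y) = 16 ∨
      Nat.card ↥(R ⊓ CC y) = 32 ∨ Nat.card ↥(R ⊓ CC y) = 64 := by
  have h1 : Nat.card ↥(R ⊓ CC y) ∣ 2 ^ 6 := by
    rw [← h.card]
    exact Subgroup.card_dvd_of_le inf_le_left
  have h2 : 4 ∣ Nat.card ↥(R ⊓ CC y) := by
    have h3 := Subgroup.card_dvd_of_le (ZZ_le_cent h y)
    rwa [card_ZZ h] at h3
  obtain ⟨k, hk, hk2⟩ := (Nat.dvd_prime_pow Nat.prime_two).mp h1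
  rw [hk2] at h2 ⊢
  interval_cases k <;> simp_all <;> omega

theorem scalar_of_cent_full (h : RHyp R) (y : GG) (hC : Nat.card ↥(R ⊓ CC y) = 64) :
    ∃ e : F, (y : MM) = e • (1 : MM) := by
  have := h.finite
  have h1 : R ⊓ CC y = R := by
    apply Subgroup.eq_of_le_of_card_ge inf_le_left
    rw [hC, h.card]
    norm_num
  apply h.scalar_of_commute
  intro g hg
  rw [← h1] at hg
  have h2 := (Subgroup.mem_inf.mp hg).2
  rw [mem_CC] at h2
  exact h2.symm

theorem prime_ge_seven_facts (r : ℕ) (hr : r.Prime) (h7 : 7 ≤ r) :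
    ¬ r ∣ 60 ∧ ¬ r ∣ 48 ∧ ¬ r ∣ 32 ∧ (r ∣ 56 → r = 7) := by
  have c2 : Nat.Coprime r 2 := (Nat.coprime_primes hr Nat.prime_two).mpr (by omega)
  have c3 : Nat.Coprime r 3 := (Nat.coprime_primes hr Nat.prime_three).mpr (by omega)
  have c5 : Nat.Coprime r 5 := (Nat.coprime_primes hr Nat.prime_five).mpr (by omega)
  have hr1 : r ≠ 1 := hr.one_lt.ne'
  refine ⟨?_, ?_, ?_, ?_⟩
  · intro h
    have : Nat.Coprime r 60 := by
      have : (60 : ℕ) = 2 * (2 * (3 * 5)) := by norm_num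
      rw [this]
      exact c2.mul_right (c2.mul_right (c3.mul_right c5))
    exact hr1 (Nat.Coprime.eq_one_of_dvd this h)
  · intro h
    have : Nat.Coprime r 48 := by
      have : (48 : ℕ) = 2 * (2 * (2 * (2 * 3))) := by norm_num
      rw [this]
      exact c2.mul_right (c2.mul_right (c2.mul_right (c2.mul_right c3)))
    exact hr1 (Nat.Coprime.eq_one_of_dvd this h)
  · intro h
    have : Nat.Coprime r 32 := by
      have : (32 : ℕ) = 2 * (2 * (2 * (2 * 2))) := by norm_num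
      rw [this]
      exact c2.mul_right (c2.mul_right (c2.mul_right (c2.mul_right c2)))
    exact hr1 (Nat.Coprime.eq_one_of_dvd this h)
  · intro h
    have c8 : Nat.Coprime r 8 := by
      have : (8 : ℕ) = 2 * (2 * 2) := by norm_num
      rw [this]
      exact c2.mul_right (c2.mul_right c2)
    have h56 : (56 : ℕ) = 8 * 7 := by norm_num
    rw [h56] at h
    have h7' := c8.dvd_of_dvd_mul_left h
    exact (Nat.prime_dvd_prime_iff_eq hr (by norm_num)).mp h7'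

/-- the case `r = 7`, `|C_R(y)| = 8` is impossible -/
theorem cent_eight_impossible (h : RHyp R) (h2 : (2 : F) ≠ 0) (y : GG)
    (hconj : ∀ g ∈ R, y * g * y⁻¹ ∈ R) (hy7 : y ^ 7 = 1)
    (hC : Nat.card ↥(R ⊓ CC y) = 8) : False := by
  have hfin := h.finite
  have : Fact (Nat.Prime 7) := ⟨by norm_num⟩
  have hg₀ : ∃ g₀ ∈ R ⊓ CC y, g₀ ∉ ZZ R := by
    by_contra hcon
    push Not at hcon
    have h3 : R ⊓ CC y = ZZ R := le_antisymm hcon (ZZ_le_cent h y)
    rw [h3, card_ZZ h] at hC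
    norm_num at hC
  obtain ⟨g₀, hg₀m, hg₀Z⟩ := hg₀
  obtain ⟨hg₀R, hg₀y⟩ := Subgroup.mem_inf.mp hg₀m
  have hg₀n : ∀ e : F, (g₀ : MM) ≠ e • (1 : MM) := fun e he => hg₀Z (mem_ZZ_of_scalar hg₀R he)
  obtain ⟨k₀, hk₀, hac⟩ := h.exists_AC hg₀R hg₀n
  have hD : Nat.card R = 2 * Nat.card ↥(R ⊓ CC g₀) := card_half h h2 R le_rfl hg₀R hk₀ hac.symm
  have hD32 : Nat.card ↥(R ⊓ CC g₀) = 32 := by
    rw [h.card] at hD
    omega
  have hyg₀ : y * g₀ = g₀ * y := mem_CC'.mp hg₀y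
  have hconjD : ∀ g ∈ R ⊓ CC g₀, y * g * y⁻¹ ∈ R ⊓ CC g₀ := by
    intro g hg
    obtain ⟨hgR, hgg₀⟩ := Subgroup.mem_inf.mp hg
    refine Subgroup.mem_inf.mpr ⟨hconj g hgR, ?_⟩
    rw [mem_CC'] at hgg₀ ⊢
    have e1 : g₀ * y⁻¹ = y⁻¹ * g₀ := by
      calc g₀ * y⁻¹ = y⁻¹ * (y * g₀) * y⁻¹ := by group
        _ = y⁻¹ * (g₀ * y) * y⁻¹ := by rw [hyg₀]
        _ = y⁻¹ * g₀ := by group
    calc g₀ * (y * g * y⁻¹) = (g₀ * y) * g * y⁻¹ := by simp only [mul_assoc]
      _ = (y * g₀) * g * y⁻¹ := by rw [hyg₀]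
      _ = y * (g₀ * g) * y⁻¹ := by simp only [mul_assoc]
      _ = y * (g * g₀) * y⁻¹ := by rw [hgg₀]
      _ = y * g * (g₀ * y⁻¹) := by simp only [mul_assoc]
      _ = y * g * (y⁻¹ * g₀) := by rw [e1]
      _ = y * g * y⁻¹ * g₀ := by simp only [mul_assoc]
  have hfinD : Finite ↥(R ⊓ CC g₀) := Nat.finite_of_card_ne_zero (by rw [hD32]; norm_num)
  have hmod := card_fix_modEq (R ⊓ CC g₀) y hconjD 7 hy7
  rw [hD32] at hmod
  -- the fixed points
  have hle : R ⊓ CC g₀ ⊓ CC y ≤ R ⊓ CC y := inf_le_inf_right _ inf_le_left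
  have hdvd : Nat.card ↥(R ⊓ CC g₀ ⊓ CC y) ∣ 8 := by
    rw [← hC]
    exact Subgroup.card_dvd_of_le hle
  have hZle : ZZ R ≤ R ⊓ CC g₀ ⊓ CC y := le_inf (le_inf ZZ_le (ZZ_le_CC h)) (ZZ_le_CC h)
  have h4 : 4 ∣ Nat.card ↥(R ⊓ CC g₀ ⊓ CC y) := by
    have h3 := Subgroup.card_dvd_of_le hZle
    rwa [card_ZZ h] at h3
  have hg₀E : g₀ ∈ R ⊓ CC g₀ ⊓ CC y :=
    Subgroup.mem_inf.mpr ⟨Subgroup.mem_inf.mpr ⟨hg₀R, mem_CC'.mpr rfl⟩, hg₀y⟩
  have hfinE : Finite ↥(R ⊓ CC g₀ ⊓ CC y) :=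
    Nat.finite_of_card_ne_zero (fun h0 => by rw [h0] at hdvd; norm_num at hdvd)
  have hne4 : Nat.card ↥(R ⊓ CC g₀ ⊓ CC y) ≠ 4 := by
    intro h4'
    have : ZZ R = R ⊓ CC g₀ ⊓ CC y :=
      Subgroup.eq_of_le_of_card_ge hZle (by rw [h4', card_ZZ h])
    rw [← this] at hg₀E
    exact hg₀Z hg₀E
  have h8 : Nat.card ↥(R ⊓ CC g₀ ⊓ CC y) = 8 := by
    have hle8 : Nat.card ↥(R ⊓ CC g₀ ⊓ CC y) ≤ 8 := Nat.le_of_dvd (by norm_num) hdvd
    have hpos : 0 < Nat.card ↥(R ⊓ CC g₀ ⊓ CC y) := Nat.card_pos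
    generalize Nat.card ↥(R ⊓ CC g₀ ⊓ CC y) = c at *
    obtain ⟨m, hm⟩ := h4
    omega
  rw [h8] at hmod
  exact absurd hmod (by decide)

/-- elements of prime order at least 7 normalising `R` are scalar -/
theorem scalar_of_prime_ge_seven (h : RHyp R) (h2 : (2 : F) ≠ 0) (y : GG)
    (hconj : ∀ g ∈ R, y * g * y⁻¹ ∈ R) (r : ℕ) [hr : Fact r.Prime] (h7 : 7 ≤ r)
    (hyr : y ^ r = 1) : ∃ e : F, (y : MM) = e • (1 : MM) := by
  have hfin := h.finite
  have hmod := card_fix_modEq R y hconj r hyr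
  rw [h.card] at hmod
  obtain ⟨f1, f2, f3, f4⟩ := prime_ge_seven_facts r hr.out h7
  have hdv : ∀ c : ℕ, c ≤ 64 → Nat.card ↥(R ⊓ CC y) = c → r ∣ 64 - c := by
    intro c hc hcard
    rw [hcard] at hmod
    exact (Nat.modEq_iff_dvd' hc).mp hmod.symm
  rcases card_cent_cases h y with hc | hc | hc | hc | hc
  · exact absurd (hdv 4 (by norm_num) hc) f1
  · have h7' := f4 (hdv 8 (by norm_num) hc)
    subst h7'
    exact (cent_eight_impossible h h2 y hconj hyr hc).elim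
  · exact absurd (hdv 16 (by norm_num) hc) f2
  · exact absurd (hdv 32 (by norm_num) hc) f3
  · exact scalar_of_cent_full h y hc

/-- a nonscalar element of order 5 normalising `R` has centraliser of order 4 in `R` -/
theorem cent_five (h : RHyp R) (y : GG) (hconj : ∀ g ∈ R, y * g * y⁻¹ ∈ R) (hy5 : y ^ 5 = 1)
    (hns : ∀ e : F, (y : MM) ≠ e • (1 : MM)) : Nat.card ↥(R ⊓ CC y) = 4 := by
  have hfin := h.finite
  have : Fact (Nat.Prime 5) := ⟨by norm_num⟩
  have hmod := card_fix_modEq R y hconj 5 hy5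
  rw [h.card] at hmod
  rcases card_cent_cases h y with hc | hc | hc | hc | hc
  · exact hc
  · rw [hc] at hmod
    exact absurd hmod (by decide)
  · rw [hc] at hmod
    exact absurd hmod (by decide)
  · rw [hc] at hmod
    exact absurd hmod (by decide)
  · obtain ⟨e, he⟩ := scalar_of_cent_full h y hc
    exact absurd he (hns e)

end Cfsg.Agent.Lib.Helper7.ST
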