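import Mathlib
import Cfsg.Agent.Lib.Helper7.STM

/-!
# Elements normalising `R` which are scalar on a hyperplane and of odd order modulo scalars
are scalar
-/

set_option autoImplicit false
set_option linter.unusedSectionVars false

namespace Cfsg.Agent.Lib.Helper7.ST

open Matrix Cfsg

variable {F : Type*} [Field F]

local notation "MM" => Matrix (Fin 4) (Fin 4) F
local notation "GG" => GL (Fin 4) F

/-- commutation up to the scalar `ε` -/
def Sg (ε : F) (X Y : MM) : Prop := X * Y = ε • (Y * X)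

theorem Sg.mul_left {ε δ : F} {X X' Y : MM} (h : Sg ε X Y) (h' : Sg δ X' Y) :
    Sg (ε * δ) (X * X') Y := by
  unfold Sg at *
  rw [Matrix.mul_assoc, h', Matrix.mul_smul, ← Matrix.mul_assoc, h, Matrix.smul_mul, smul_smul,
    Matrix.mul_assoc, mul_comm]

theorem Sg.mul_right {ε δ : F} {X Y Y' : MM} (h : Sg ε X Y) (h' : Sg δ X Y') :
    Sg (ε * δ) X (Y * Y') := by
  unfold Sg at *
  rw [← Matrix.mul_assoc, h, Matrix.smul_mul, Matrix.mul_assoc, h', Matrix.mul_smul, smul_smul,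
    ← Matrix.mul_assoc]

theorem Sg.unique {ε δ : F} {X Y : MM} (hX : IsUnit X.det) (hY : IsUnit Y.det) (h : Sg ε X Y)
    (h' : Sg δ X Y) : ε = δ := by
  unfold Sg at *
  rw [h] at h'
  have h1 : (ε - δ) • (Y * X) = 0 := by rw [sub_smul, h', sub_self]
  rcases smul_eq_zero.mp h1 with h2 | h2
  · exact sub_eq_zero.mp h2
  · exfalso
    have h3 := congrArg Matrix.det h2
    rw [Matrix.det_mul, Matrix.det_zero] at h3
    exact (hY.mul hX).ne_zero h3

theorem Sg.symm {ε : F} {X Y : MM} (hε : ε * ε = 1) (h : Sg ε X Y) : Sg ε Y X := by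
  unfold Sg at *
  rw [h, smul_smul, hε, one_smul]

theorem Sg.conj {ε : F} {X Y P P' : MM} (hPP' : P' * P = 1) (h : Sg ε X Y) :
    Sg ε (P * X * P') (P * Y * P') := by
  unfold Sg at *
  have e1 : P * X * P' * (P * Y * P') = P * (X * Y) * P' := by
    simp only [Matrix.mul_assoc]
    rw [← Matrix.mul_assoc P' P, hPP', Matrix.one_mul]
  have e2 : P * Y * P' * (P * X * P') = P * (Y * X) * P' := by
    simp only [Matrix.mul_assoc]
    rw [← Matrix.mul_assoc P' P, hPP', Matrix.one_mul]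
  rw [e1, e2, h, Matrix.mul_smul, Matrix.smul_mul]

variable {R : Subgroup (GL (Fin 4) F)}

theorem RHyp.exists_sg (h : RHyp R) {g k : GG} (hg : g ∈ R) (hk : k ∈ R) :
    ∃ ε : F, ε * ε = 1 ∧ Sg ε (g : MM) (k : MM) := by
  rcases h.comm hg hk with h1 | h1
  · exact ⟨1, by ring, by unfold Sg; rw [one_smul]; exact h1⟩
  · exact ⟨-1, by ring, by unfold Sg; rw [neg_smul, one_smul]; exact h1⟩

theorem one_ne_neg_one_mat (h2 : (2 : F) ≠ 0) : (1 : MM) ≠ -1 := by
  intro h1
  have h3 := congrFun (congrFun h1 0) 0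
  simp only [Matrix.one_apply_eq, Matrix.neg_apply] at h3
  apply h2
  linear_combination h3

/-- squares in `R` are `σ • 1` with `σ² = 1` -/
theorem RHyp.sq' (h : RHyp R) {g : GG} (hg : g ∈ R) :
    ∃ σ : F, σ * σ = 1 ∧ (g : MM) * (g : MM) = σ • (1 : MM) := by
  rcases h.sq hg with h1 | h1
  · exact ⟨1, by ring, by rw [h1, one_smul]⟩
  · exact ⟨-1, by ring, by rw [h1, neg_smul, one_smul]⟩

/-- step A: if `y` is scalar on a hyperplane then `y c y⁻¹` commutes with `c` for `c ∈ R` -/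
theorem fix_comm (h : RHyp R) (h2 : (2 : F) ≠ 0) (y : GG) (hconj : ∀ g ∈ R, y * g * y⁻¹ ∈ R)
    (lam : F) (w : Fin 4 → F) (hw : ∀ v : Fin 4 → F, w ⬝ᵥ v = 0 → (y : MM) *ᵥ v = lam • v)
    {c : GG} (hc : c ∈ R) : Sg 1 ((y * c * y⁻¹ : GG) : MM) (c : MM) := by
  -- a vector in the common kernel
  let M : MM := Matrix.of ![w, w ᵥ* (c : MM), 0, 0]
  have hdet : M.det = 0 := by
    apply Matrix.det_eq_zero_of_row_eq_zero (2 : Fin 4)
    intro j
    rfl
  obtain ⟨v', hv', hMv⟩ := (Matrix.exists_mulVec_eq_zero_iff (M := M)).mpr hdet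
  have hwv : w ⬝ᵥ v' = 0 := by
    have := congrFun hMv 0
    exact this
  have hwcv : w ⬝ᵥ ((c : MM) *ᵥ v') = 0 := by
    have := congrFun hMv 1
    rw [Matrix.dotProduct_mulVec]
    exact this
  have hy1 := hw v' hwv
  have hy2 := hw _ hwcv
  -- the commutator
  have hkR : y * c * y⁻¹ * c⁻¹ ∈ R := mul_mem (hconj c hc) (inv_mem hc)
  set k : GG := y * c * y⁻¹ * c⁻¹ with hk
  have hkcy : k * (c * y) = y * c := by rw [hk]; group
  set v : Fin 4 → F := ((c * y : GG) : MM) *ᵥ v' with hv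
  have hkv : (k : MM) *ᵥ v = v := by
    rw [hv, Matrix.mulVec_mulVec, ← Units.val_mul, hkcy, Units.val_mul, Units.val_mul,
      ← Matrix.mulVec_mulVec, ← Matrix.mulVec_mulVec, hy2, hy1, Matrix.mulVec_smul]
  have hv0 : v ≠ 0 := by
    intro h0
    apply hv'
    have h3 := congrArg (fun z => (((c * y)⁻¹ : GG) : MM) *ᵥ z) h0
    simp only [Matrix.mulVec_zero] at h3
    rw [hv, Matrix.mulVec_mulVec, ← Units.val_mul, inv_mul_cancel, Units.val_one,
      Matrix.one_mulVec] at h3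
    exact h3
  -- the commutator is an involution
  have hkk : (k : MM) * (k : MM) = 1 := by
    rcases h.sq hkR with h1 | h1
    · exact h1
    · exfalso
      have h3 : ((k : MM) * (k : MM)) *ᵥ v = v := by
        rw [← Matrix.mulVec_mulVec, hkv, hkv]
      rw [h1, Matrix.neg_mulVec, Matrix.one_mulVec] at h3
      apply hv0
      have h4 : (2 : F) • v = 0 := by
        rw [two_smul]
        nth_rewrite 1 [← h3]
        rw [neg_add_cancel]
      rcases smul_eq_zero.mp h4 with h5 | h5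
      · exact absurd h5 h2
      · exact h5
  -- conclude
  obtain ⟨ε, hε, hsg⟩ := h.exists_sg (hconj c hc) hc
  obtain ⟨σ, hσ, hcc⟩ := h.sq' hc
  have hε' : ε = 1 ∨ ε = -1 := by
    have : (ε - 1) * (ε + 1) = 0 := by linear_combination hε
    rcases mul_eq_zero.mp this with h3 | h3
    · left; linear_combination h3
    · right; linear_combination h3
  rcases hε' with rfl | rfl
  · exact hsg
  · exfalso
    -- then k² = -1
    set P : MM := ((y * c * y⁻¹ : GG) : MM) with hP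
    have hcinv : ((c⁻¹ : GG) : MM) = σ • (c : MM) := by
      have h3 : (c : MM) * (σ • (c : MM)) = 1 := by
        rw [Matrix.mul_smul, hcc, smul_smul, hσ, one_smul]
      have h4 : ((c⁻¹ : GG) : MM) * ((c : MM) * (σ • (c : MM))) = ((c⁻¹ : GG) : MM) := by
        rw [h3, Matrix.mul_one]
      rw [← Matrix.mul_assoc, ← Units.val_mul, inv_mul_cancel, Units.val_one, Matrix.one_mul] at h4
      exact h4.symm
    have hPP : P * P = σ • (1 : MM) := by
      have h3 : (y * c * y⁻¹) * (y * c * y⁻¹) = y * (c * c) * y⁻¹ := by group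
      rw [hP, ← Units.val_mul, h3, Units.val_mul, Units.val_mul, Units.val_mul, hcc,
        Matrix.mul_smul, Matrix.mul_one, Matrix.smul_mul, ← Units.val_mul, mul_inv_cancel,
        Units.val_one]
    have hkval : (k : MM) = σ • (P * (c : MM)) := by
      rw [hk, Units.val_mul, hcinv, Matrix.mul_smul]
    unfold Sg at hsg
    have hk2 : (k : MM) * (k : MM) = -1 := by
      rw [hkval, smul_mul_smul_comm, hσ, one_smul, Matrix.mul_assoc, ← Matrix.mul_assoc (c : MM),
        ]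
      have h5 : (c : MM) * P = -(P * (c : MM)) := by
        rw [hsg, neg_smul, one_smul, neg_neg]
      rw [h5, Matrix.neg_mul, Matrix.mul_neg, Matrix.mul_assoc, hcc, ← Matrix.mul_assoc,
        Matrix.mul_smul, Matrix.mul_one, hPP, smul_smul, hσ, one_smul]
    rw [hkk] at hk2
    exact one_ne_neg_one_mat h2 hk2

theorem conj_val (y c : GG) : ((y * c * y⁻¹ : GG) : MM) = (y : MM) * (c : MM) * ((y⁻¹ : GG) : MM) := by
  rw [Units.val_mul, Units.val_mul]

theorem inv_mul_val (y : GG) : ((y⁻¹ : GG) : MM) * (y : MM) = 1 := by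
  rw [← Units.val_mul, inv_mul_cancel, Units.val_one]

theorem mul_inv_val (y : GG) : (y : MM) * ((y⁻¹ : GG) : MM) = 1 := by
  rw [← Units.val_mul, mul_inv_cancel, Units.val_one]

/-- step B: the symmetry of the pairing -/
theorem sg_sym (h : RHyp R) (y : GG) (hconj : ∀ g ∈ R, y * g * y⁻¹ ∈ R)
    (hA : ∀ c ∈ R, Sg 1 ((y * c * y⁻¹ : GG) : MM) (c : MM)) {c d : GG} (hc : c ∈ R) (hd : d ∈ R)
    {ε δ : F} (hδ : δ * δ = 1) (h1 : Sg ε ((y * c * y⁻¹ : GG) : MM) (d : MM))
    (h2 : Sg δ ((y * d * y⁻¹ : GG) : MM) (c : MM)) : ε = δ := by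
  have s1 : Sg (1 * ε) ((y * c * y⁻¹ : GG) : MM) ((c : MM) * (d : MM)) := (hA c hc).mul_right h1
  have s2 : Sg (δ * 1) ((y * d * y⁻¹ : GG) : MM) ((c : MM) * (d : MM)) := h2.mul_right (hA d hd)
  have s3 := s1.mul_left s2
  have s4 := hA (c * d) (mul_mem hc hd)
  have e : y * (c * d) * y⁻¹ = (y * c * y⁻¹) * (y * d * y⁻¹) := by group
  rw [e, Units.val_mul, Units.val_mul c d] at s4
  have h5 := Sg.unique (by rw [← Units.val_mul]; exact unit_det _)
    (by rw [← Units.val_mul]; exact unit_det _) s3 s4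
  have : ε = ε * (δ * δ) := by rw [hδ, mul_one]
  rw [this]
  linear_combination δ * h5

/-- step C: `y²` acts on `R` modulo scalars trivially -/
theorem sq_quasi (h : RHyp R) (y : GG) (hconj : ∀ g ∈ R, y * g * y⁻¹ ∈ R)
    (hA : ∀ c ∈ R, Sg 1 ((y * c * y⁻¹ : GG) : MM) (c : MM)) {c : GG} (hc : c ∈ R) :
    ∃ ν : F, ((y * (y * c * y⁻¹) * y⁻¹ : GG) : MM) = ν • (c : MM) := by
  have hφc := hconj c hc
  have hφφc := hconj _ hφc
  have hcomm : ∀ d ∈ R, (((y * (y * c * y⁻¹) * y⁻¹ : GG) : MM) * (c : MM)) * (d : MM) =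
      (d : MM) * (((y * (y * c * y⁻¹) * y⁻¹ : GG) : MM) * (c : MM)) := by
    intro d hd
    obtain ⟨ε, hε, s1⟩ := h.exists_sg hφφc hd
    obtain ⟨δ, hδ, s2⟩ := h.exists_sg (hconj d hd) hφc
    have e1 := sg_sym h y hconj hA hφc hd hδ s1 s2
    obtain ⟨ε', hε', s3⟩ := h.exists_sg hd hc
    have s4 := s3.conj (P := (y : MM)) (P' := ((y⁻¹ : GG) : MM)) (inv_mul_val y)
    rw [← conj_val, ← conj_val] at s4
    have e2 := Sg.unique (unit_det _) (unit_det _) s2 s4
    have s5 := s3.symm hε'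
    rw [e1, e2] at s1
    have s6 := s1.mul_left s5
    rw [hε'] at s6
    unfold Sg at s6
    rw [one_smul] at s6
    exact s6
  obtain ⟨ν, hν⟩ := h.scalar_of_commute _ hcomm
  obtain ⟨σ, hσ, hcc⟩ := h.sq' hc
  refine ⟨σ * ν, ?_⟩
  have h3 := congrArg (fun M : MM => M * (c : MM)) hν
  beta_reduce at h3
  rw [Matrix.mul_assoc, hcc, Matrix.mul_smul, Matrix.mul_one, Matrix.smul_mul, Matrix.one_mul] at h3
  have h4 := congrArg (fun M : MM => σ • M) h3
  beta_reduce at h4
  rw [smul_smul, hσ, one_smul, smul_smul] at h4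
  exact h4

/-- quasi-commutation with all of `R` -/
def QC (R : Subgroup (GL (Fin 4) F)) (Y : MM) : Prop :=
  ∀ c ∈ R, ∃ ν : F, Y * (c : MM) = ν • ((c : MM) * Y)

theorem QC.mul {Y Y' : MM} (h1 : QC R Y) (h2 : QC R Y') : QC R (Y * Y') := by
  intro c hc
  obtain ⟨ν, hν⟩ := h1 c hc
  obtain ⟨ν', hν'⟩ := h2 c hc
  refine ⟨ν' * ν, ?_⟩
  rw [Matrix.mul_assoc, hν', Matrix.mul_smul, ← Matrix.mul_assoc, hν, Matrix.smul_mul, smul_smul,
    Matrix.mul_assoc]

theorem QC.one : QC R (1 : MM) := fun c _ => ⟨1, by rw [Matrix.one_mul, Matrix.mul_one, one_smul]⟩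

theorem QC.pow {Y : MM} (h1 : QC R Y) (k : ℕ) : QC R (Y ^ k) := by
  induction k with
  | zero => rw [pow_zero]; exact QC.one
  | succ k ih => rw [pow_succ]; exact ih.mul h1

theorem QC.smul {Y : MM} (h1 : QC R Y) (e : F) : QC R (e • Y) := by
  intro c hc
  obtain ⟨ν, hν⟩ := h1 c hc
  exact ⟨ν, by rw [Matrix.smul_mul, hν, Matrix.mul_smul, smul_comm]⟩

theorem QC.inv {y : GG} (h1 : QC R ((y⁻¹ : GG) : MM)) : QC R (y : MM) := by
  intro c hc
  obtain ⟨ν, hν⟩ := h1 c hc
  have hν0 : ν ≠ 0 := by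
    rintro rfl
    rw [zero_smul] at hν
    have h3 := congrArg Matrix.det hν
    rw [← Units.val_mul, Matrix.det_zero] at h3
    exact (unit_det _).ne_zero h3
  refine ⟨ν⁻¹, ?_⟩
  have h3 := congrArg (fun M : MM => (y : MM) * M * (y : MM)) hν
  beta_reduce at h3
  rw [← Matrix.mul_assoc, mul_inv_val, Matrix.one_mul, Matrix.mul_smul, Matrix.smul_mul,
    Matrix.mul_assoc, Matrix.mul_assoc, inv_mul_val, Matrix.mul_one] at h3
  rw [h3, smul_smul, inv_mul_cancel₀ hν0, one_smul]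

/-- **the hyperplane lemma**: an element normalising `R`, scalar on a hyperplane, and of odd order
modulo scalars, is scalar -/
theorem scalar_of_hyperplane (h : RHyp R) (h2 : (2 : F) ≠ 0) (y : GG)
    (hconj : ∀ g ∈ R, y * g * y⁻¹ ∈ R) (lam : F) (w : Fin 4 → F)
    (hw : ∀ v : Fin 4 → F, w ⬝ᵥ v = 0 → (y : MM) *ᵥ v = lam • v)
    (r : ℕ) (hodd : Odd r) (e : F) (hyr : ((y ^ r : GG) : MM) = e • (1 : MM)) :
    ∃ e' : F, (y : MM) = e' • (1 : MM) := by
  have hA : ∀ c ∈ R, Sg 1 ((y * c * y⁻¹ : GG) : MM) (c : MM) :=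
    fun c hc => fix_comm h h2 y hconj lam w hw hc
  have he0 : e ≠ 0 := by
    rintro rfl
    rw [zero_smul] at hyr
    have h3 := congrArg Matrix.det hyr
    rw [Matrix.det_zero] at h3
    exact (unit_det _).ne_zero h3
  -- y² quasi-commutes with R
  have hQ2 : QC R ((y : MM) * (y : MM)) := by
    intro c hc
    obtain ⟨ν, hν⟩ := sq_quasi h y hconj hA hc
    refine ⟨ν, ?_⟩
    have e1 : y * (y * c * y⁻¹) * y⁻¹ * (y * y) = y * y * c := by group
    have h3 := congrArg (fun M : MM => M * ((y : MM) * (y : MM))) hν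
    beta_reduce at h3
    rw [← Units.val_mul y y, ← Units.val_mul, e1, Units.val_mul, Units.val_mul,
      Matrix.smul_mul] at h3
    exact h3
  obtain ⟨m, hm⟩ := hodd
  have hQm := hQ2.pow m
  have hpow : ((y : MM) * (y : MM)) ^ m = e • ((y⁻¹ : GG) : MM) := by
    have e1 : ((y : MM) * (y : MM)) ^ m * (y : MM) = e • (1 : MM) := by
      rw [← hyr, hm, Units.val_pow_eq_pow_val, pow_succ, pow_mul, pow_two]
    have h3 := congrArg (fun M : MM => M * ((y⁻¹ : GG) : MM)) e1
    beta_reduce at h3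
    rw [Matrix.mul_assoc, mul_inv_val, Matrix.mul_one, Matrix.smul_mul, Matrix.one_mul] at h3
    exact h3
  rw [hpow] at hQm
  have hQi : QC R ((y⁻¹ : GG) : MM) := by
    have := hQm.smul e⁻¹
    rwa [smul_smul, inv_mul_cancel₀ he0, one_smul] at this
  have hQ : QC R (y : MM) := hQi.inv
  -- all the scalars are trivial
  apply h.scalar_of_commute
  intro c hc
  obtain ⟨ν, hν⟩ := hQ c hc
  have hgval : ((y * c * y⁻¹ : GG) : MM) = ν • (c : MM) := by
    rw [Units.val_mul, Units.val_mul, hν, Matrix.smul_mul, Matrix.mul_assoc, mul_inv_val,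
      Matrix.mul_one]
  obtain ⟨σ, hσ, hcc⟩ := h.sq' hc
  obtain ⟨σ', hσ', hgg⟩ := h.sq' (hconj c hc)
  have hν4 : ν ^ 4 = 1 := by
    rw [hgval, smul_mul_smul_comm, hcc, smul_smul] at hgg
    have h3 := congrFun (congrFun hgg 0) 0
    simp only [Matrix.smul_apply, Matrix.one_apply_eq, smul_eq_mul, mul_one] at h3
    have h4 : ν * ν = σ' * σ := by
      have : ν * ν = (ν * ν * σ) * σ := by rw [mul_assoc, hσ, mul_one]
      rw [this, h3]
    have : ν ^ 4 = (ν * ν) * (ν * ν) := by ring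
    rw [this, h4]
    have : σ' * σ * (σ' * σ) = (σ' * σ') * (σ * σ) := by ring
    rw [this, hσ, hσ', one_mul]
  have hk : ∀ k : ℕ, (y : MM) ^ k * (c : MM) = ν ^ k • ((c : MM) * (y : MM) ^ k) := by
    intro k
    induction k with
    | zero => rw [pow_zero, pow_zero, Matrix.one_mul, Matrix.mul_one, one_smul]
    | succ k ih =>
      rw [pow_succ, Matrix.mul_assoc, hν, Matrix.mul_smul, ← Matrix.mul_assoc, ih, Matrix.smul_mul,
        smul_smul, Matrix.mul_assoc, pow_succ, mul_comm ν]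
  have hνr : ν ^ r = 1 := by
    have h3 := hk r
    rw [← Units.val_pow_eq_pow_val, hyr, Matrix.smul_mul, Matrix.one_mul, Matrix.mul_smul,
      Matrix.mul_one, smul_smul] at h3
    have h4 : (e - ν ^ r * e) • (c : MM) = 0 := by rw [sub_smul, ← h3, sub_self]
    rcases smul_eq_zero.mp h4 with h5 | h5
    · have h6 : e * (1 - ν ^ r) = 0 := by linear_combination h5
      rcases mul_eq_zero.mp h6 with h7 | h7
      · exact absurd h7 he0
      · linear_combination -h7
    · exfalso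
      have h6 := congrArg Matrix.det h5
      rw [Matrix.det_zero] at h6
      exact (unit_det c).ne_zero h6
  have hcop : Nat.gcd r 4 = 1 := by
    have h3 : Nat.Coprime r 2 := Nat.coprime_two_right.mpr ⟨m, hm⟩
    have h4 : Nat.Coprime r (2 ^ 2) := Nat.Coprime.pow_right 2 h3
    exact h4
  have hν1 : ν = 1 := by
    have h3 := pow_gcd_eq_one.mpr ⟨hνr, hν4⟩
    rwa [hcop, pow_one] at h3
  rw [hν, hν1, one_smul]

end Cfsg.Agent.Lib.Helper7.ST
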