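import Mathlib
import Cfsg.Agent.Lib.Helper7.SU4G

/-!
# Elements of order 5 in `GU_n(p)` when `p` has order 4 modulo 5: field-theoretic preliminaries
-/

set_option autoImplicit false
set_option linter.unusedSectionVars false

namespace Cfsg.Agent.Lib.Helper7.SU4

open Matrix Module Polynomial Cfsg

variable {F : Type*} [Field F] [Fintype F] {p : ℕ} [Fact p.Prime] [CharP F p]

theorem not_dvd_of_order_four (h4 : orderOf (p : ZMod 5) = 4) : ¬ (5 ∣ p ^ 2 - 1) := by
  intro h
  have hp : 1 ≤ p ^ 2 := Nat.one_le_pow _ _ (Fact.out : p.Prime).pos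
  have h1 : ((p ^ 2 - 1 : ℕ) : ZMod 5) = 0 := (ZMod.natCast_eq_zero_iff _ _).mpr h
  rw [Nat.cast_sub hp, Nat.cast_pow, Nat.cast_one, sub_eq_zero] at h1
  have h2 := orderOf_dvd_of_pow_eq_one h1
  rw [h4] at h2
  norm_num at h2

theorem p_ne_five_of_order_four (h4 : orderOf (p : ZMod 5) = 4) : p ≠ 5 := by
  rintro rfl
  have : ((5 : ℕ) : ZMod 5) = 0 := ZMod.natCast_self 5
  rw [this, orderOf_eq_zero_iff.mpr] at h4
  · norm_num at h4
  · intro hfin
    obtain ⟨n, hn, hn1⟩ := hfin.exists_pow_eq_one
    rw [zero_pow hn.ne'] at hn1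
    exact zero_ne_one hn1

theorem not_dvd_succ_of_order_four (h4 : orderOf (p : ZMod 5) = 4) : ¬ (5 ∣ p + 1) := by
  intro h
  apply not_dvd_of_order_four h4
  have hp : 1 ≤ p := (Fact.out : p.Prime).one_le
  have : p ^ 2 - 1 = (p + 1) * (p - 1) := by
    obtain ⟨k, rfl⟩ : ∃ k, p = k + 1 := ⟨p - 1, by omega⟩
    simp only [Nat.add_sub_cancel]
    have : (k + 1) ^ 2 = (k + 1 + 1) * k + 1 := by ring
    omega
  rw [this]
  exact Dvd.dvd.mul_right h _

/-- no nontrivial fifth roots of unity in `F` -/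
theorem no_fifth_root (hF : Fintype.card F = p ^ 2) (h5 : ¬ (5 ∣ p ^ 2 - 1)) (lam : F)
    (hlam : lam ^ 5 = 1) : lam = 1 := by
  classical
  have h0 : lam ≠ 0 := by
    rintro rfl
    norm_num at hlam
  by_contra hne
  let u : Fˣ := Units.mk0 lam h0
  have hu5 : u ^ 5 = 1 := by
    apply Units.ext
    rw [Units.val_pow_eq_pow_val, Units.val_mk0, hlam, Units.val_one]
  have hu1 : u ≠ 1 := by
    intro h
    apply hne
    have := congrArg Units.val h
    rwa [Units.val_mk0, Units.val_one] at this
  have : Fact (Nat.Prime 5) := ⟨by norm_num⟩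
  have hord : orderOf u = 5 := orderOf_eq_prime hu5 hu1
  have hdvd : orderOf u ∣ Fintype.card Fˣ := orderOf_dvd_card
  rw [hord, Fintype.card_units, hF] at hdvd
  exact h5 hdvd

theorem frob_natCast (k : ℕ) : ((k : F)) ^ p = (k : F) := by
  have := map_natCast (frobenius F p) k
  exact this

/-- elements fixed by the Frobenius are squares -/
theorem isSquare_of_frob_fixed (hF : Fintype.card F = p ^ 2) (hp2 : p ≠ 2) (t : F) (ht : t ^ p = t) : IsSquare t := by
  by_cases h0 : t = 0
  · rw [h0]
    exact IsSquare.zero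
  have hchar : ringChar F ≠ 2 := by
    rw [ringChar.eq F p]
    exact hp2
  rw [FiniteField.isSquare_iff hchar h0, hF]
  have hodd : p % 2 = 1 := by
    rcases (Fact.out : p.Prime).eq_two_or_odd with h | h
    · exact absurd h hp2
    · exact h
  obtain ⟨j, hj⟩ : ∃ j, p = 2 * j + 1 := ⟨p / 2, by omega⟩
  have hdiv : p ^ 2 / 2 = (p - 1) * (j + 1) := by
    subst hj
    have : (2 * j + 1) ^ 2 = 2 * ((2 * j + 1 - 1) * (j + 1)) + 1 := by
      simp only [Nat.add_sub_cancel]
      ring
    omega
  have h1 : t ^ (p - 1) = 1 := by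
    have hp : 1 ≤ p := (Fact.out : p.Prime).one_le
    have h2 : t ^ (p - 1) * t = t := by
      rw [← pow_succ, Nat.sub_add_cancel hp, ht]
    exact mul_right_cancel₀ h0 (by rw [h2, one_mul])
  rw [hdiv, pow_mul, h1, one_pow]

/-- the golden ratio pair, swapped by the Frobenius -/
theorem exists_golden (hF : Fintype.card F = p ^ 2) (hp2 : p ≠ 2) (h4 : orderOf (p : ZMod 5) = 4) :
    ∃ s s' : F, s + s' = -1 ∧ s * s' = -1 ∧ s ^ p = s' ∧ s' ^ p = s ∧ s ≠ s' := by
  have h5 := not_dvd_of_order_four h4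
  have h2F : (2 : F) ≠ 0 := by
    intro h
    have h' : ((2 : ℕ) : F) = 0 := by exact_mod_cast h
    rw [CharP.cast_eq_zero_iff F p] at h'
    exact hp2 ((Nat.prime_dvd_prime_iff_eq (Fact.out : p.Prime) Nat.prime_two).mp h')
  have h5F : (5 : F) ≠ 0 := by
    intro h
    have h' : ((5 : ℕ) : F) = 0 := by exact_mod_cast h
    rw [CharP.cast_eq_zero_iff F p] at h'
    exact p_ne_five_of_order_four h4
      ((Nat.prime_dvd_prime_iff_eq (Fact.out : p.Prime) (by norm_num)).mp h')
  have f5 : (5 : F) ^ p = 5 := by exact_mod_cast frob_natCast (F := F) (p := p) 5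
  have f2 : (2 : F) ^ p = 2 := by exact_mod_cast frob_natCast (F := F) (p := p) 2
  obtain ⟨r, hr⟩ := isSquare_of_frob_fixed hF hp2 (5 : F) f5
  have hr0 : r ≠ 0 := by
    rintro rfl
    rw [mul_zero] at hr
    exact h5F hr
  have hodd : Odd p := (Fact.out : p.Prime).odd_of_ne_two hp2
  have hrp : r ^ p = r ∨ r ^ p = -r := by
    have h1 : (r ^ p) * (r ^ p) = r * r := by
      rw [← mul_pow, ← hr, f5]
    have h2 : (r ^ p - r) * (r ^ p + r) = 0 := by linear_combination h1
    rcases mul_eq_zero.mp h2 with h3 | h3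
    · left; linear_combination h3
    · right; linear_combination h3
  have hswap : r ^ p = -r := by
    rcases hrp with h1 | h1
    · exfalso
      -- s ∈ F_p, so X² - sX + 1 splits in F, giving a fifth root of unity
      set s : F := (-1 + r) / 2 with hs
      have hsq : s ^ 2 + s - 1 = 0 := by
        rw [hs]
        field_simp
        linear_combination -hr
      have hsp : s ^ p = s := by
        rw [hs, div_pow, add_pow_char (R := F) (p := p), h1, f2, hodd.neg_one_pow]
      have hD : (s ^ 2 - 4) ^ p = s ^ 2 - 4 := by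
        have f4 : (4 : F) ^ p = 4 := by exact_mod_cast frob_natCast (F := F) (p := p) 4
        rw [sub_pow_char (R := F) (p := p), ← pow_mul, mul_comm 2 p, pow_mul, hsp, f4]
      obtain ⟨e, he⟩ := isSquare_of_frob_fixed hF hp2 _ hD
      set z : F := (s + e) / 2 with hz
      have hz2 : z ^ 2 - s * z + 1 = 0 := by
        rw [hz]
        field_simp
        linear_combination -he
      have hz5 : z ^ 5 = 1 := by
        linear_combination (z ^ 3 + s * z ^ 2 + (s ^ 2 - 1) * z + (s ^ 3 - 2 * s)) * hz2 +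
          (z * (s ^ 2 - s - 1) + 1 - s) * hsq
      have hz1 := no_fifth_root hF h5 z hz5
      rw [hz1] at hz2
      have hs2 : s = 2 := by linear_combination -hz2
      rw [hs2] at hsq
      apply h5F
      linear_combination hsq
    · exact h1
  refine ⟨(-1 + r) / 2, (-1 - r) / 2, ?_, ?_, ?_, ?_, ?_⟩
  · field_simp
    ring
  · field_simp
    linear_combination hr
  · rw [div_pow, add_pow_char (R := F) (p := p), hswap, f2, hodd.neg_one_pow]
    ring
  · rw [div_pow, sub_pow_char (R := F) (p := p), hswap, f2, hodd.neg_one_pow]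
    ring
  · intro h
    have : r = 0 := by
      field_simp at h
      have h' : (2 : F) * r = 0 := by linear_combination h
      rcases mul_eq_zero.mp h' with h6 | h6
      · exact absurd h6 h2F
      · exact h6
    exact hr0 this

end Cfsg.Agent.Lib.Helper7.SU4
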