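import Mathlib
import Cfsg.Agent.Lib.Helper7.SU4H

/-!
# Elements of order 5 in `GU_4(p)` have no fixed vectors when `p` has order 4 modulo 5
-/

set_option autoImplicit false
set_option linter.unusedSectionVars false

namespace Cfsg.Agent.Lib.Helper7.SU4

open Matrix Module Polynomial Cfsg
open Cfsg.Agent.Lib.Helper14.GUConj
open Cfsg.Agent.Lib.Helper14.HSemi (sigQ sigQ_apply)

section gen

variable {F : Type*} [Field F] {n : ℕ}

theorem kd_aeval_mul (a : Matrix (Fin n) (Fin n) F) {P Q : F[X]} (h : IsCoprime P Q) :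
    kd (aeval a (P * Q)) = kd (aeval a P) + kd (aeval a Q) := by
  unfold kd
  have e : ∀ P : F[X], Matrix.toLin' (aeval a P) = aeval (Matrix.toLin' a) P := by
    intro P
    exact (Polynomial.aeval_algHom_apply
      (Matrix.toLinAlgEquiv' : Matrix (Fin n) (Fin n) F ≃ₐ[F] _) a P).symm
  rw [e, e, e, ← Polynomial.sup_ker_aeval_eq_ker_aeval_mul_of_coprime _ h]
  have hd := Polynomial.disjoint_ker_aeval_of_isCoprime (Matrix.toLin' a) h
  have h1 := Submodule.finrank_sup_add_finrank_inf_eq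
    (LinearMap.ker (aeval (Matrix.toLin' a) P)) (LinearMap.ker (aeval (Matrix.toLin' a) Q))
  rw [disjoint_iff.mp hd, finrank_bot, add_zero] at h1
  exact h1

theorem kd_zero_matrix : kd (0 : Matrix (Fin n) (Fin n) F) = n := by
  have := kd_add_rank (0 : Matrix (Fin n) (Fin n) F)
  rw [Matrix.rank_zero] at this
  omega

theorem eq_zero_of_kd_eq (M : Matrix (Fin n) (Fin n) F) (h : kd M = n) : M = 0 := by
  have h1 := kd_add_rank M
  have h2 : M.rank = 0 := by omega
  have h3 : LinearMap.range (Matrix.mulVecLin M) = ⊥ := by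
    apply Submodule.finrank_eq_zero.mp
    exact h2
  have h4 : Matrix.mulVecLin M = 0 := LinearMap.range_eq_bot.mp h3
  have h5 : Matrix.toLin' M = 0 := h4
  exact (Matrix.toLin' (R := F)).injective (by rw [h5, map_zero])

/-- the quadratic `X² - sX + 1` -/
noncomputable def fs (s : F) : F[X] := X ^ 2 - C s * X + 1

theorem aeval_fs (s : F) (a : Matrix (Fin n) (Fin n) F) :
    aeval a (fs s) = a * a - s • a + 1 := by
  unfold fs
  simp only [map_add, map_sub, map_mul, map_pow, aeval_X, aeval_C, map_one, pow_two]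
  rw [Algebra.algebraMap_eq_smul_one, Matrix.smul_mul, Matrix.one_mul]

theorem fs_mul {s s' : F} (h1 : s + s' = -1) (h2 : s * s' = -1) :
    (X - 1) * (fs s * fs s') = (X ^ 5 - 1 : F[X]) := by
  have hC1 : (C s + C s' : F[X]) = -1 := by rw [← C_add, h1, C_neg, C_1]
  have hC2 : (C s * C s' : F[X]) = -1 := by rw [← C_mul, h2, C_neg, C_1]
  unfold fs
  linear_combination (-(X - 1) * (X ^ 3 + X)) * hC1 + ((X - 1) * X ^ 2) * hC2

theorem coprime_one (h5 : (5 : F) ≠ 0) {s s' : F} (h1 : s + s' = -1) (h2 : s * s' = -1) :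
    IsCoprime (X - 1 : F[X]) (fs s * fs s') := by
  have hC1 : (C s + C s' : F[X]) = -1 := by rw [← C_add, h1, C_neg, C_1]
  have hC2 : (C s * C s' : F[X]) = -1 := by rw [← C_mul, h2, C_neg, C_1]
  have h5' : (C (5 : F)⁻¹ * 5 : F[X]) = 1 := by
    have : (5 : F[X]) = C (5 : F) := (map_ofNat C 5).symm
    rw [this, ← C_mul, inv_mul_cancel₀ h5, C_1]
  refine ⟨-C (5 : F)⁻¹ * (X ^ 3 + 2 * X ^ 2 + 3 * X + 4), C (5 : F)⁻¹, ?_⟩
  unfold fs
  linear_combination (C (5 : F)⁻¹ * (-(X ^ 3 + X))) * hC1 + (C (5 : F)⁻¹ * X ^ 2) * hC2 + h5'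

theorem coprime_two {s s' : F} (hne : s ≠ s') : IsCoprime (fs s) (fs s') := by
  have hd : s' - s ≠ 0 := sub_ne_zero.mpr (Ne.symm hne)
  have hδ : (C (s' - s)⁻¹ * (C s' - C s) : F[X]) = 1 := by
    rw [← C_sub, ← C_mul, inv_mul_cancel₀ hd, C_1]
  refine ⟨1 - (X - C s) * C (s' - s)⁻¹, (X - C s) * C (s' - s)⁻¹, ?_⟩
  unfold fs
  linear_combination (-(X - C s) * X) * hδ

theorem isUnit_det_of_kd_zero {M : Matrix (Fin n) (Fin n) F} (h : kd M = 0) : IsUnit M.det := by
  rw [isUnit_iff_ne_zero]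
  intro h0
  have h1 := (Matrix.exists_mulVec_eq_zero_iff (M := M)).mpr h0
  have h2 := (kd_pos_iff M).mpr h1
  omega

end gen

section unit

variable {F : Type*} [Field F] [Fintype F] {p : ℕ} [Fact p.Prime] [CharP F p]
  (hF : Fintype.card F = p ^ 2) {n : ℕ}

theorem kd_fs_swap (a : Matrix (Fin n) (Fin n) F) (ha : sharp hF a * a = 1) {s s' : F}
    (hs : s ^ p = s') : kd (a * a - s • a + 1) = kd (a * a - s' • a + 1) := by
  have ha' := unitary_mul_sharp hF ha
  have h1 : sharp hF (a * a - s • a + 1) =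
      sharp hF a * sharp hF a - s' • sharp hF a + 1 := by
    rw [sharp_add, sharp_sub, sharp_mul, sharp_smul, sharp_one, sigQ_apply, hs]
  have h2 : (a * a) * (sharp hF a * sharp hF a - s' • sharp hF a + 1) = a * a - s' • a + 1 := by
    rw [Matrix.mul_add, Matrix.mul_sub, Matrix.mul_one, Matrix.mul_smul]
    have e1 : a * a * (sharp hF a * sharp hF a) = 1 := by
      rw [Matrix.mul_assoc, ← Matrix.mul_assoc a (sharp hF a) (sharp hF a), ha', Matrix.one_mul, ha']
    have e2 : a * a * sharp hF a = a := by rw [Matrix.mul_assoc, ha', Matrix.mul_one]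
    rw [e1, e2]
    abel
  have hdet : IsUnit (a * a).det := by
    rw [Matrix.det_mul]
    exact (unitary_isUnit_det hF ha).mul (unitary_isUnit_det hF ha)
  calc kd (a * a - s • a + 1) = kd (sharp hF (a * a - s • a + 1)) := (kdim_sharp hF _).symm
    _ = kd ((a * a) * (sharp hF a * sharp hF a - s' • sharp hF a + 1)) := by
        rw [h1, kd_unit_mul _ _ hdet]
    _ = kd (a * a - s' • a + 1) := by rw [h2]

include hF in
theorem kd_fs_ne_one (h5 : ¬ (5 ∣ p ^ 2 - 1)) (h5F : (5 : F) ≠ 0) (a : Matrix (Fin n) (Fin n) F)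
    {s : F} (hsq : s ^ 2 + s - 1 = 0) : kd (a * a - s • a + 1) ≠ 1 := by
  intro hk
  set M := a * a - s • a + 1 with hM
  have hcomm : M * a = a * M := by
    rw [hM]
    simp only [Matrix.add_mul, Matrix.sub_mul, Matrix.mul_add, Matrix.mul_sub, Matrix.one_mul,
      Matrix.mul_one, Matrix.smul_mul, Matrix.mul_smul, Matrix.mul_assoc]
  obtain ⟨v, hv, hMv⟩ := (kd_pos_iff M).mp (by omega)
  have hvK : v ∈ LinearMap.ker (Matrix.toLin' M) := by
    rw [LinearMap.mem_ker, Matrix.toLin'_apply]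
    exact hMv
  have havK : a *ᵥ v ∈ LinearMap.ker (Matrix.toLin' M) := by
    rw [LinearMap.mem_ker, Matrix.toLin'_apply, Matrix.mulVec_mulVec, hcomm, ← Matrix.mulVec_mulVec,
      hMv, Matrix.mulVec_zero]
  have hv' : (⟨v, hvK⟩ : LinearMap.ker (Matrix.toLin' M)) ≠ 0 :=
    fun h => hv (congrArg Subtype.val h)
  have hone : finrank F (LinearMap.ker (Matrix.toLin' M)) = 1 := hk
  obtain ⟨c, hc⟩ := (finrank_eq_one_iff_of_nonzero'
    (⟨v, hvK⟩ : LinearMap.ker (Matrix.toLin' M)) hv').mp hone ⟨a *ᵥ v, havK⟩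
  have hav : a *ᵥ v = c • v := by
    have := congrArg Subtype.val hc
    simpa using this.symm
  have h0 : (c ^ 2 - s * c + 1) • v = 0 := by
    have h1 : M *ᵥ v = (c ^ 2 - s * c + 1) • v := by
      rw [hM, Matrix.add_mulVec, Matrix.sub_mulVec, Matrix.one_mulVec, Matrix.smul_mulVec,
        ← Matrix.mulVec_mulVec, hav, Matrix.mulVec_smul, hav]
      module
    rw [← h1, hMv]
  have hc2 : c ^ 2 - s * c + 1 = 0 := by
    rcases smul_eq_zero.mp h0 with h | h
    · exact h
    · exact absurd h hv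
  have hc5 : c ^ 5 = 1 := by
    linear_combination (c ^ 3 + s * c ^ 2 + (s ^ 2 - 1) * c + (s ^ 3 - 2 * s)) * hc2 +
      (c * (s ^ 2 - s - 1) + 1 - s) * hsq
  have hc1 := no_fifth_root hF h5 c hc5
  rw [hc1] at hc2
  have hs2 : s = 2 := by linear_combination -hc2
  rw [hs2] at hsq
  apply h5F
  linear_combination hsq

/-- a unitary matrix of order 5 has no nonzero fixed vector -/
theorem order5_sum_zero (hp2 : p ≠ 2) (h4 : orderOf (p : ZMod 5) = 4)
    (a : Matrix (Fin 4) (Fin 4) F) (ha : sharp hF a * a = 1) (ha5 : a ^ 5 = 1) (hne : a ≠ 1) :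
    1 + a + a ^ 2 + a ^ 3 + a ^ 4 = 0 := by
  obtain ⟨s, s', h1, h2, hs, hs', hne'⟩ := exists_golden hF hp2 h4
  have h5 := not_dvd_of_order_four h4
  have h5F : (5 : F) ≠ 0 := by
    intro h
    have h' : ((5 : ℕ) : F) = 0 := by exact_mod_cast h
    rw [CharP.cast_eq_zero_iff F p] at h'
    exact p_ne_five_of_order_four h4
      ((Nat.prime_dvd_prime_iff_eq (Fact.out : p.Prime) (by norm_num)).mp h')
  have hsq : s ^ 2 + s - 1 = 0 := by
    have : s' = -1 - s := by linear_combination h1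
    rw [this] at h2
    linear_combination -h2
  have e0 : aeval a ((X - 1) * (fs s * fs s')) = 0 := by
    rw [fs_mul h1 h2]
    simp only [map_sub, map_pow, aeval_X, map_one, ha5, sub_self]
  have k1 := kd_aeval_mul a (coprime_one h5F h1 h2)
  have k2 := kd_aeval_mul a (coprime_two hne')
  rw [e0, kd_zero_matrix, k2, aeval_fs, aeval_fs] at k1
  have e1 : aeval a (X - 1 : F[X]) = a - 1 := by
    simp only [map_sub, aeval_X, map_one]
  rw [e1] at k1
  have k3 := kd_fs_swap hF a ha hs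
  have k4 := kd_fs_ne_one hF h5 h5F a hsq
  have hcases : kd (a - 1) = 4 ∨ kd (a - 1) = 0 := by omega
  rcases hcases with h | h
  · exfalso
    apply hne
    have := eq_zero_of_kd_eq _ h
    exact sub_eq_zero.mp this
  · have hdet := isUnit_det_of_kd_zero h
    have hfac : (a - 1) * (1 + a + a ^ 2 + a ^ 3 + a ^ 4) = 0 := by
      have e : a ^ 5 - 1 = 0 := by rw [ha5, sub_self]
      rw [← e]
      noncomm_ring
    have := congrArg (fun M : Matrix (Fin 4) (Fin 4) F => (a - 1)⁻¹ * M) hfac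
    simp only [Matrix.mul_zero] at this
    rwa [← Matrix.mul_assoc, Matrix.nonsing_inv_mul _ hdet, Matrix.one_mul] at this

end unit

end Cfsg.Agent.Lib.Helper7.SU4
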