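import Mathlib
import Cfsg.Agent.Lib.Helper7.SU4I
import Cfsg.Agent.Lib.Helper9.Ex24T

/-!
# Subgroups of order 5 of a 5-group acting without fixed vectors: uniqueness, and Sylow conjugacy
-/

set_option autoImplicit false
set_option linter.unusedSectionVars false

namespace Cfsg.Agent.Lib.Helper7.SU4

open Matrix Cfsg
open Cfsg.Agent.Lib.Helper9.Ex24 (exists_conj_mem_sylow exists_central_of_order)

variable {F : Type*} [Field F]

/-- in a finite 5-group acting on a vector space such that elements of order 5 have no fixed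
vectors, all elements of order 5 generate the same subgroup -/
theorem unique_order5 {n : ℕ} {Q : Type*} [Group Q] [Finite Q] (hQ : IsPGroup 5 Q)
    (φ : Q →* Matrix (Fin (n + 1)) (Fin (n + 1)) F) (h5F : (5 : F) ≠ 0)
    (Hfix : ∀ g : Q, g ^ 5 = 1 → g ≠ 1 → ∑ j ∈ Finset.range 5, (φ g) ^ j = 0)
    (a c : Q) (ha : orderOf a = 5) (hc : orderOf c = 5) : a ∈ Subgroup.zpowers c := by
  have : Fact (Nat.Prime 5) := ⟨by norm_num⟩
  have hnt : Nontrivial Q := by
    refine ⟨⟨a, 1, ?_⟩⟩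
    rintro rfl
    rw [orderOf_one] at ha
    norm_num at ha
  obtain ⟨z, hz5, hzc⟩ := exists_central_of_order hQ
  have key : ∀ b : Q, orderOf b = 5 → b ∈ Subgroup.zpowers z := by
    intro b hb
    by_contra hnot
    have hb5 : b ^ 5 = 1 := by rw [← hb]; exact pow_orderOf_eq_one b
    have hz5' : z ^ 5 = 1 := by rw [← hz5]; exact pow_orderOf_eq_one z
    have hcomm : ∀ k : ℕ, Commute b (z ^ k) := fun k => Commute.pow_right (hzc b) k
    have h0 : ∀ k : ℕ, ∑ j ∈ Finset.range 5, (φ (b * z ^ k)) ^ j = 0 := by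
      intro k
      apply Hfix
      · rw [(hcomm k).mul_pow, hb5, ← pow_mul, mul_comm, pow_mul, hz5', one_pow, one_mul]
      · intro h1
        apply hnot
        have : b = (z ^ k)⁻¹ := eq_inv_of_mul_eq_one_left h1
        rw [this]
        exact Subgroup.inv_mem _ (Subgroup.pow_mem _ (Subgroup.mem_zpowers z) k)
    have hzj : ∀ j : ℕ, j % 5 ≠ 0 → ∑ k ∈ Finset.range 5, (φ (z ^ j)) ^ k = 0 := by
      intro j hj
      apply Hfix
      · rw [← pow_mul, mul_comm, pow_mul, hz5', one_pow]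
      · intro h1
        have := orderOf_dvd_of_pow_eq_one h1
        rw [hz5] at this
        exact hj (Nat.mod_eq_zero_of_dvd this)
    have hcφ : ∀ k : ℕ, Commute (φ b) (φ (z ^ k)) := by
      intro k
      unfold Commute SemiconjBy
      rw [← map_mul, ← map_mul, (hcomm k).eq]
    have hexp : ∀ k j : ℕ, (φ (b * z ^ k)) ^ j = (φ b) ^ j * (φ (z ^ j)) ^ k := by
      intro k j
      rw [map_mul, (hcφ k).mul_pow, map_pow, map_pow, ← pow_mul, ← pow_mul, mul_comm k j]
    have hsum : ∑ k ∈ Finset.range 5, ∑ j ∈ Finset.range 5, (φ (b * z ^ k)) ^ j = 0 :=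
      Finset.sum_eq_zero (fun k _ => h0 k)
    rw [Finset.sum_comm] at hsum
    simp only [hexp, ← Finset.mul_sum] at hsum
    rw [Finset.sum_range_succ, Finset.sum_range_succ, Finset.sum_range_succ, Finset.sum_range_succ,
      Finset.sum_range_one, hzj 1 (by norm_num), hzj 2 (by norm_num), hzj 3 (by norm_num),
      hzj 4 (by norm_num)] at hsum
    simp only [mul_zero, add_zero, pow_zero, map_one, one_pow, one_mul, Finset.sum_const,
      Finset.card_range] at hsum
    have h00 := congrFun (congrFun hsum 0) 0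
    simp only [Matrix.smul_apply, Matrix.one_apply_eq, Matrix.zero_apply, nsmul_eq_mul,
      mul_one] at h00
    apply h5F
    exact_mod_cast h00
  have hcz := key c hc
  have haz := key a ha
  have hle : Subgroup.zpowers c ≤ Subgroup.zpowers z := by
    rw [Subgroup.zpowers_le]
    exact hcz
  have heq : Subgroup.zpowers c = Subgroup.zpowers z := by
    apply Subgroup.eq_of_le_of_card_ge hle
    rw [Nat.card_zpowers, Nat.card_zpowers, hz5, hc]
  rw [heq]
  exact haz

/-- Sylow conjugacy of elements of order 5 -/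
theorem conj_order5 {n : ℕ} {G : Type*} [Group G] [Finite G]
    (φ : G →* Matrix (Fin (n + 1)) (Fin (n + 1)) F) (h5F : (5 : F) ≠ 0)
    (Hfix : ∀ g : G, g ^ 5 = 1 → g ≠ 1 → ∑ j ∈ Finset.range 5, (φ g) ^ j = 0)
    (x m : G) (hx : orderOf x = 5) (hm : orderOf m = 5) :
    ∃ (g : G) (k : ℤ), g⁻¹ * x * g = m ^ k := by
  have : Fact (Nat.Prime 5) := ⟨by norm_num⟩
  obtain ⟨P⟩ : Nonempty (Sylow 5 G) := inferInstance
  have hx5 : x ^ 5 ^ 1 = 1 := by rw [pow_one, ← hx]; exact pow_orderOf_eq_one x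
  have hm5 : m ^ 5 ^ 1 = 1 := by rw [pow_one, ← hm]; exact pow_orderOf_eq_one m
  obtain ⟨g1, hg1⟩ := exists_conj_mem_sylow P hx5
  obtain ⟨g2, hg2⟩ := exists_conj_mem_sylow P hm5
  have ho1 : orderOf (⟨g1⁻¹ * x * g1, hg1⟩ : ↥(P : Subgroup G)) = 5 := by
    rw [← Subgroup.orderOf_coe]
    change orderOf (g1⁻¹ * x * g1) = 5
    rw [← hx]
    have : g1⁻¹ * x * g1 = MulAut.conj g1⁻¹ x := by simp [MulAut.conj_apply]
    rw [this, MulEquiv.orderOf_eq]
  have ho2 : orderOf (⟨g2⁻¹ * m * g2, hg2⟩ : ↥(P : Subgroup G)) = 5 := by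
    rw [← Subgroup.orderOf_coe]
    change orderOf (g2⁻¹ * m * g2) = 5
    rw [← hm]
    have : g2⁻¹ * m * g2 = MulAut.conj g2⁻¹ m := by simp [MulAut.conj_apply]
    rw [this, MulEquiv.orderOf_eq]
  have hmem := unique_order5 P.isPGroup' (φ.comp (P : Subgroup G).subtype) h5F
    (by
      intro g hg5 hg1
      apply Hfix g.1
      · have := congrArg Subtype.val hg5
        simpa using this
      · intro h
        apply hg1
        exact Subtype.ext h)
    _ _ ho1 ho2
  obtain ⟨k, hk⟩ := Subgroup.mem_zpowers_iff.mp hmem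
  have hk' : (g2⁻¹ * m * g2) ^ k = g1⁻¹ * x * g1 := by
    have := congrArg Subtype.val hk
    simpa using this
  refine ⟨g1 * g2⁻¹, k, ?_⟩
  have h1 : (g2⁻¹ * m * g2) ^ k = g2⁻¹ * m ^ k * g2 := by
    have : g2⁻¹ * m * g2 = MulAut.conj g2⁻¹ m := by simp [MulAut.conj_apply]
    rw [this, ← map_zpow]
    simp [MulAut.conj_apply]
  rw [h1] at hk'
  calc (g1 * g2⁻¹)⁻¹ * x * (g1 * g2⁻¹) = g2 * (g1⁻¹ * x * g1) * g2⁻¹ := by group
    _ = g2 * (g2⁻¹ * m ^ k * g2) * g2⁻¹ := by rw [hk']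
    _ = m ^ k := by group

end Cfsg.Agent.Lib.Helper7.SU4
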