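import Mathlib
import Cfsg.Agent.Lib.Helper7.SU4I

/-!
# Special elements of `SU_4(p)`: a transvection, `diag(ω,ω,ω,1)`, and a rotation of order 5
-/

set_option autoImplicit false
set_option linter.unusedSectionVars false

namespace Cfsg.Agent.Lib.Helper7.SU4

open Matrix Module Polynomial Cfsg
open Cfsg.Agent.Lib.Helper14.GUConj
open Cfsg.Agent.Lib.Helper14.HSemi (sigQ sigQ_apply)
open Cfsg.Agent.Lib.Helper14.HCount (sigQ_sigQ)

variable {F : Type*} [Field F] [Fintype F] {p : ℕ} [Fact p.Prime] [CharP F p]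
  (hF : Fintype.card F = p ^ 2)

local notation "MM" => Matrix (Fin 4) (Fin 4) F

include hF in
theorem sigQ_ne_id : (sigQ hF : F →+* F) ≠ RingHom.id F := by
  obtain ⟨a, ha⟩ := sig_ne hF
  intro h
  apply ha
  have := congrArg (fun φ : F →+* F => φ a) h
  simpa using this

include hF in
/-- the norm map is onto the fixed field -/
theorem exists_norm_eq (t : F) (ht : t ^ p = t) : ∃ c : F, c * c ^ p = t := by
  by_cases h0 : t = 0
  · exact ⟨0, by rw [h0, zero_mul]⟩
  · obtain ⟨c, hc⟩ := Cfsg.Agent.Lib.Helper6.exists_norm (sigQ hF : F →+* F) (sigQ_ne_id hF)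
      (fun a => sigQ_sigQ hF a) t h0 (by
        show sigQ hF t = t
        rw [sigQ_apply, ht])
    exact ⟨c, hc⟩

include hF in
/-- a nonzero element of trace zero -/
theorem exists_trace_zero' : ∃ c : F, c ≠ 0 ∧ c ^ p = -c := by
  obtain ⟨b, hb⟩ := sig_ne hF
  rw [sigQ_apply] at hb
  refine ⟨b - b ^ p, ?_, ?_⟩
  · intro h
    exact hb (sub_eq_zero.mp h).symm
  · rw [sub_pow_char (R := F) (p := p), pow_q_q' hF]
    ring

theorem sharp_diagonal (d : Fin 4 → F) :
    sharp hF (Matrix.diagonal d) = Matrix.diagonal (fun j => d j ^ p) := by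
  ext i j
  rw [sharp_apply, sigQ_apply]
  by_cases hij : i = j
  · subst hij
    rw [Matrix.diagonal_apply_eq, Matrix.diagonal_apply_eq]
  · rw [Matrix.diagonal_apply_ne _ (Ne.symm hij), Matrix.diagonal_apply_ne _ hij, zero_pow]
    exact (Fact.out : p.Prime).ne_zero

/-- the element `diag(ω,ω,ω,1)` -/
theorem exists_diag_omega (h3 : 3 ∣ p + 1) :
    ∃ x : MM, sharp hF x * x = 1 ∧ x.det = 1 ∧ x ^ 3 = 1 ∧ (∀ e : F, x ≠ e • (1 : MM)) ∧
      ∃ (lam : F) (w : Fin 4 → F), ∀ v : Fin 4 → F, w ⬝ᵥ v = 0 → x *ᵥ v = lam • v := by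
  classical
  have : Fact (Nat.Prime 3) := ⟨Nat.prime_three⟩
  have hcard : 3 ∣ Fintype.card Fˣ := by
    rw [Fintype.card_units, hF]
    have hp : 1 ≤ p := (Fact.out : p.Prime).one_le
    have : p ^ 2 - 1 = (p + 1) * (p - 1) := by
      obtain ⟨k, rfl⟩ : ∃ k, p = k + 1 := ⟨p - 1, by omega⟩
      simp only [Nat.add_sub_cancel]
      have : (k + 1) ^ 2 = (k + 1 + 1) * k + 1 := by ring
      omega
    rw [this]
    exact Dvd.dvd.mul_right h3 _
  obtain ⟨u, hu⟩ := exists_prime_orderOf_dvd_card 3 hcard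
  set ω : F := (u : F) with hω
  have hω3 : ω ^ 3 = 1 := by
    have := pow_orderOf_eq_one u
    rw [hu] at this
    rw [hω, ← Units.val_pow_eq_pow_val, this, Units.val_one]
  have hω1 : ω ≠ 1 := by
    intro h
    have h1 : u = 1 := Units.ext h
    rw [h1, orderOf_one] at hu
    norm_num at hu
  have hωp : ω ^ p * ω = 1 := by
    obtain ⟨k, hk⟩ := h3
    rw [← pow_succ, hk, pow_mul, hω3, one_pow]
  refine ⟨Matrix.diagonal ![ω, ω, ω, 1], ?_, ?_, ?_, ?_, ω, Pi.single 3 1, ?_⟩
  · rw [sharp_diagonal, Matrix.diagonal_mul_diagonal, ← Matrix.diagonal_one]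
    congr 1
    funext j
    fin_cases j <;> simp [hωp]
  · rw [Matrix.det_diagonal, Fin.prod_univ_four]
    simp only [Matrix.cons_val_zero, Matrix.cons_val_one, Matrix.cons_val]
    linear_combination hω3
  · rw [Matrix.diagonal_pow, ← Matrix.diagonal_one]
    congr 1
    funext j
    fin_cases j <;> simp [hω3]
  · intro e he
    have h0 := congrFun (congrFun he 0) 0
    have h3' := congrFun (congrFun he 3) 3
    simp at h0 h3'
    exact hω1 (h0.trans h3'.symm)
  · intro v hv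
    rw [single_dotProduct, one_mul] at hv
    funext j
    rw [Matrix.mulVec_diagonal]
    fin_cases j <;> simp [hv]

theorem nil_mul {N : MM} (hNN : N * N = 0) (a b : F) :
    (1 + a • N) * (1 + b • N) = 1 + (a + b) • N := by
  rw [Matrix.add_mul, Matrix.mul_add, Matrix.mul_add, Matrix.one_mul, Matrix.one_mul,
    Matrix.mul_one, Matrix.smul_mul, Matrix.mul_smul, hNN, smul_zero, smul_zero, add_zero, add_smul]
  abel

/-- a unitary transvection -/
theorem exists_transvection (hp2 : p ≠ 2) :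
    ∃ x : MM, sharp hF x * x = 1 ∧ x.det = 1 ∧ x ^ p = 1 ∧ (∀ e : F, x ≠ e • (1 : MM)) ∧
      ∃ (lam : F) (w : Fin 4 → F), ∀ v : Fin 4 → F, w ⬝ᵥ v = 0 → x *ᵥ v = lam • v := by
  have hp0 : p ≠ 0 := (Fact.out : p.Prime).ne_zero
  have hodd : Odd p := (Fact.out : p.Prime).odd_of_ne_two hp2
  obtain ⟨a, ha⟩ := exists_norm_eq hF (-1 : F) hodd.neg_one_pow
  obtain ⟨c, hc0, hcp⟩ := exists_trace_zero' hF
  set v₀ : Fin 4 → F := ![1, a, 0, 0] with hv₀
  have hiso : hermForm 4 F p v₀ v₀ = 0 := by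
    simp only [hermForm, Fin.sum_univ_four, hv₀, Matrix.cons_val_zero, Matrix.cons_val_one,
      Matrix.cons_val, one_pow, mul_one, zero_pow hp0, mul_zero, add_zero]
    linear_combination ha
  set N : MM := op hF v₀ v₀ with hN
  have hNN : N * N = 0 := by rw [hN, op_mul_op, hiso, zero_smul]
  have hsN : sharp hF N = N := by rw [hN, sharp_op]
  have hNv : ∀ v : Fin 4 → F, N *ᵥ v = hermForm 4 F p v v₀ • v₀ := fun v => op_mulVec hF v₀ v₀ v
  refine ⟨1 + c • N, ?_, ?_, ?_, ?_, 1, fun j => (v₀ j) ^ p, ?_⟩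
  · rw [sharp_add, sharp_one, sharp_smul, sigQ_apply, hcp, hsN, nil_mul hNN, neg_add_cancel,
      zero_smul, add_zero]
  · rw [hN, det_one_add_smul_op, hiso, mul_zero, add_zero]
  · have hk : ∀ k : ℕ, (1 + c • N) ^ k = 1 + (k : F) • (c • N) := by
      intro k
      induction k with
      | zero => simp
      | succ k ih =>
        rw [pow_succ, ih, smul_smul, nil_mul hNN, smul_smul]
        push_cast
        ring_nf
    rw [hk, CharP.cast_eq_zero, zero_smul, add_zero]
  · intro e he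
    have h1 : c • N = (e - 1) • (1 : MM) := by
      rw [sub_smul, one_smul, ← he]
      abel
    have h2 := congrArg (fun M : MM => M *ᵥ v₀) h1
    simp only [Matrix.smul_mulVec, hNv, hiso, zero_smul, smul_zero, Matrix.one_mulVec] at h2
    have h3 := congrFun h2 0
    simp only [Pi.zero_apply, Pi.smul_apply, hv₀, Matrix.cons_val_zero, smul_eq_mul, mul_one] at h3
    rw [← h3, zero_smul] at h1
    have h4 := congrFun (congrFun h1 0) 0
    simp only [Matrix.smul_apply, hN, op_apply, hv₀, Matrix.cons_val_zero, map_one, mul_one,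
      smul_eq_mul, Matrix.zero_apply] at h4
    exact hc0 h4
  · intro v hv
    have h1 : hermForm 4 F p v v₀ = 0 := by
      rw [← hv]
      simp only [hermForm, dotProduct]
      apply Finset.sum_congr rfl
      intro j _
      ring
    rw [Matrix.add_mulVec, Matrix.one_mulVec, Matrix.smul_mulVec, hNv, h1, zero_smul, smul_zero,
      add_zero, one_smul]

/-- the explicit rotation matrix -/
def xx (a b c : F) : MM := !![a, b, 0, 0; -c, a, 0, 0; 0, 0, 1, 0; 0, 0, 0, 1]

theorem xx_quad (a b c s : F) (hs : s = 2 * a) (hrel : a * a + b * c = 1) :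
    (xx a b c - 1) * (xx a b c * xx a b c - s • xx a b c + 1) = 0 := by
  subst hs
  ext i j
  fin_cases i <;> fin_cases j <;>
  simp [xx, Matrix.mul_apply, Fin.sum_univ_four, Matrix.one_apply] <;>
  first
  | linear_combination (1 - a) * hrel
  | linear_combination (-b) * hrel
  | linear_combination c * hrel

theorem xx_det (a b c : F) (hrel : a * a + b * c = 1) : (xx a b c).det = 1 := by
  unfold xx
  rw [Matrix.det_succ_row_zero]
  simp [Fin.sum_univ_four, Matrix.det_fin_three, Fin.succAbove]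
  linear_combination hrel

theorem sharp_xx (hp2 : p ≠ 2) (a b c : F) :
    sharp hF (xx a b c) = xx (a ^ p) (-(c ^ p)) (-(b ^ p)) := by
  have hp0 : p ≠ 0 := (Fact.out : p.Prime).ne_zero
  have hodd : Odd p := (Fact.out : p.Prime).odd_of_ne_two hp2
  have hneg : ∀ t : F, (-t) ^ p = -(t ^ p) := fun t => hodd.neg_pow t
  ext i j
  rw [sharp_apply, sigQ_apply]
  fin_cases i <;> fin_cases j <;> simp [xx, hneg, zero_pow hp0]

theorem xx_mul_xx (a b c a' b' c' : F) :
    xx a b c * xx a' b' c' =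
      !![a * a' - b * c', a * b' + b * a', 0, 0; -(c * a') - a * c', a * a' - c * b', 0, 0;
        0, 0, 1, 0; 0, 0, 0, 1] := by
  ext i j
  fin_cases i <;> fin_cases j <;>
  simp [xx, Matrix.mul_apply, Fin.sum_univ_four] <;> ring

theorem xx_unitary (hp2 : p ≠ 2) (a b : F) (ha : a ^ p = a) (hrel : a * a + b * b ^ p = 1) :
    sharp hF (xx a b (b ^ p)) * xx a b (b ^ p) = 1 := by
  rw [sharp_xx hF hp2, ha, pow_q_q' hF, xx_mul_xx]
  ext i j
  fin_cases i <;> fin_cases j <;>
  simp [Matrix.one_apply] <;>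
  first
  | linear_combination hrel
  | ring

theorem xx_trace (a b c : F) : (xx a b c).trace = 2 * a + 2 := by
  rw [Matrix.trace, Fin.sum_univ_four]
  simp [xx]
  ring

theorem xx_pow_five (a b c s s' : F) (hs : s = 2 * a) (hrel : a * a + b * c = 1)
    (h1 : s + s' = -1) (h2 : s * s' = -1) : xx a b c ^ 5 = 1 := by
  have h := congrArg (aeval (xx a b c)) (fs_mul h1 h2)
  rw [map_mul, map_mul, aeval_fs, aeval_fs, ← Matrix.mul_assoc] at h
  simp only [map_sub, aeval_X, map_one, map_pow] at h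
  rw [xx_quad a b c s hs hrel, Matrix.zero_mul] at h
  exact (sub_eq_zero.mp h.symm)

include hF in
/-- a rotation of order 5 in a nondegenerate plane, when `5 ∣ p² - 1` -/
theorem exists_rot5 (hp2 : p ≠ 2) (hp5 : p ≠ 5) (h5 : 5 ∣ p ^ 2 - 1) :
    ∃ (x : MM) (s : F), sharp hF x * x = 1 ∧ x.det = 1 ∧ x ^ 5 = 1 ∧
      (∀ e : F, x ≠ e • (1 : MM)) ∧ x.trace = 2 + s ∧ (sharp hF x).trace = 2 + s ∧
      s * s + s - 1 = 0 := by
  classical
  have hpP : p.Prime := Fact.out
  have : Fact (Nat.Prime 5) := ⟨by norm_num⟩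
  have h2F : (2 : F) ≠ 0 := by
    intro h
    have h' : ((2 : ℕ) : F) = 0 := by exact_mod_cast h
    rw [CharP.cast_eq_zero_iff F p] at h'
    exact hp2 ((Nat.prime_dvd_prime_iff_eq hpP Nat.prime_two).mp h')
  have h5F : (5 : F) ≠ 0 := by
    intro h
    have h' : ((5 : ℕ) : F) = 0 := by exact_mod_cast h
    rw [CharP.cast_eq_zero_iff F p] at h'
    exact hp5 ((Nat.prime_dvd_prime_iff_eq hpP (by norm_num)).mp h')
  have hcard : 5 ∣ Fintype.card Fˣ := by
    rw [Fintype.card_units, hF]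
    exact h5
  obtain ⟨u, hu⟩ := exists_prime_orderOf_dvd_card 5 hcard
  set ζ : F := (u : F) with hζ
  have hζ5 : ζ ^ 5 = 1 := by
    have := pow_orderOf_eq_one u
    rw [hu] at this
    rw [hζ, ← Units.val_pow_eq_pow_val, this, Units.val_one]
  have hζ1 : ζ ≠ 1 := by
    intro h
    have h1 : u = 1 := Units.ext h
    rw [h1, orderOf_one] at hu
    norm_num at hu
  have hsum : 1 + ζ + ζ ^ 2 + ζ ^ 3 + ζ ^ 4 = 0 := by
    have h : (ζ - 1) * (1 + ζ + ζ ^ 2 + ζ ^ 3 + ζ ^ 4) = 0 := by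
      linear_combination hζ5
    rcases mul_eq_zero.mp h with h | h
    · exact absurd (sub_eq_zero.mp h) hζ1
    · exact h
  set s : F := ζ + ζ ^ 4 with hs
  have hs2 : s * s + s - 1 = 0 := by
    rw [hs]
    linear_combination hsum + (2 + ζ ^ 3) * hζ5
  -- `s` is fixed by the Frobenius
  have hsp : s ^ p = s := by
    have hdvd : 5 ∣ (p - 1) * (p + 1) := by
      have hp : 1 ≤ p := hpP.one_le
      have : p ^ 2 - 1 = (p - 1) * (p + 1) := by
        obtain ⟨k, rfl⟩ : ∃ k, p = k + 1 := ⟨p - 1, by omega⟩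
        simp only [Nat.add_sub_cancel]
        have : (k + 1) ^ 2 = k * (k + 1 + 1) + 1 := by ring
        omega
      rw [← this]
      exact h5
    have hadd : (ζ + ζ ^ 4) ^ p = ζ ^ p + (ζ ^ 4) ^ p := add_pow_char ζ (ζ ^ 4) p
    rw [hs, hadd]
    rcases (Nat.Prime.dvd_mul (by norm_num : Nat.Prime 5)).mp hdvd with h | h
    · obtain ⟨k, hk⟩ := h
      have hp : p = 5 * k + 1 := by
        have hp : 1 ≤ p := hpP.one_le
        omega
      have e1 : ζ ^ p = ζ := by rw [hp, pow_succ, pow_mul, hζ5, one_pow, one_mul]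
      rw [← pow_mul, mul_comm, pow_mul, e1]
    · obtain ⟨k, hk⟩ := h
      obtain ⟨k', rfl⟩ : ∃ k', k = k' + 1 := ⟨k - 1, by omega⟩
      have hp : p = 5 * k' + 4 := by omega
      have e1 : ζ ^ p = ζ ^ 4 := by rw [hp, pow_add, pow_mul, hζ5, one_pow, one_mul]
      rw [← pow_mul, mul_comm, pow_mul, e1]
      have : (ζ ^ 4) ^ 4 = ζ := by
        calc (ζ ^ 4) ^ 4 = (ζ ^ 5) ^ 3 * ζ := by ring
          _ = ζ := by rw [hζ5, one_pow, one_mul]
      rw [this, add_comm]
  set a₀ : F := s / 2 with ha₀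
  have h2p : (2 : F) ^ p = 2 := by
    have := frob_natCast (F := F) (p := p) 2
    exact_mod_cast this
  have ha₀p : a₀ ^ p = a₀ := by rw [ha₀, div_pow, hsp, h2p]
  have hsa : s = 2 * a₀ := by rw [ha₀]; field_simp
  have htp : (1 - a₀ * a₀) ^ p = 1 - a₀ * a₀ := by
    rw [sub_pow_char (R := F) (p := p), one_pow, mul_pow, ha₀p]
  obtain ⟨b₀, hb₀⟩ := exists_norm_eq hF (1 - a₀ * a₀) htp
  have hrel : a₀ * a₀ + b₀ * b₀ ^ p = 1 := by rw [hb₀]; ring
  refine ⟨xx a₀ b₀ (b₀ ^ p), s, xx_unitary hF hp2 a₀ b₀ ha₀p hrel, xx_det a₀ b₀ _ hrel,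
    xx_pow_five a₀ b₀ _ s (-1 - s) hsa hrel (by ring) (by linear_combination -hs2), ?_, ?_, ?_, hs2⟩
  · intro e he
    have h22 := congrFun (congrFun he 2) 2
    have h00 := congrFun (congrFun he 0) 0
    simp [xx] at h22 h00
    have ha1 : a₀ = 1 := by rw [h00, ← h22]
    apply h5F
    have hs2' := hs2
    rw [hsa, ha1] at hs2'
    linear_combination hs2'
  · rw [xx_trace, hsa]; ring
  · rw [sharp_xx hF hp2, xx_trace, ha₀p, hsa]; ring

/-- the trace contradiction for the rotation of order 5 -/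
theorem rot5_contra (h5F : (5 : F) ≠ 0) (s : F) (hs2 : s * s + s - 1 = 0)
    (h : (2 + s) * (2 + s) = 1) : False := by
  apply h5F
  linear_combination (3 * s - 1) * h - (3 * s - 1) * hs2 - 9 * hs2

end Cfsg.Agent.Lib.Helper7.SU4
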