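import Mathlib
import Cfsg.Prelude.Def_LieClassical
import Cfsg.Agent.Lib.Helper7.STN
import Cfsg.Agent.Lib.Helper7.STL
import Cfsg.Agent.Lib.Helper7.STK
import Cfsg.Agent.Lib.Helper7.STJ
import Cfsg.Agent.Lib.Helper7.SU4K
import Cfsg.Agent.Lib.Helper7.SU4J
import Cfsg.Agent.Lib.Helper9.TraceId

/-!
# `SU_4(p)` as a subgroup of `GL_4(p²)`: membership, conjugation into the normaliser of `R`
-/

set_option autoImplicit false
set_option linter.unusedSectionVars false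

namespace Cfsg.Agent.Lib.Helper7.ST

open Matrix Cfsg
open Cfsg.Agent.Lib.Helper14.GUConj
open Cfsg.Agent.Lib.Helper14.HSemi (sigQ sigQ_apply)
open Cfsg.Agent.Lib.Helper7.SU4

variable {F : Type*} [Field F] [Fintype F] {p : ℕ} (hF : Fintype.card F = p ^ 2)

local notation "MM" => Matrix (Fin 4) (Fin 4) F
local notation "GG" => GL (Fin 4) F

theorem mem_GU_iff' (x : GL (Fin 4) F) :
    x ∈ Cfsg.GU 4 F p ↔ sharp hF (x : MM) * (x : MM) = 1 :=
  pres_iff hF (x : MM)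

theorem mem_SL_iff' (x : GL (Fin 4) F) :
    x ∈ Cfsg.Geo.specialLinear (Fin 4) F ↔ (x : MM).det = 1 := by
  unfold Cfsg.Geo.specialLinear
  rw [MonoidHom.mem_ker, Units.ext_iff]
  rfl

theorem mem_SU_iff (x : GL (Fin 4) F) :
    x ∈ Cfsg.GU 4 F p ⊓ Cfsg.Geo.specialLinear (Fin 4) F ↔
      sharp hF (x : MM) * (x : MM) = 1 ∧ (x : MM).det = 1 := by
  rw [Subgroup.mem_inf, mem_GU_iff' hF, mem_SL_iff']

/-- a unitary matrix as an element of `GL` -/
noncomputable def mkU (M : MM) (h : sharp hF M * M = 1) : GL (Fin 4) F :=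
  ⟨M, sharp hF M, unitary_mul_sharp hF h, h⟩

@[simp] theorem mkU_val (M : MM) (h : sharp hF M * M = 1) : ((mkU hF M h : GL (Fin 4) F) : MM) = M :=
  rfl

theorem mkU_inv_val (M : MM) (h : sharp hF M * M = 1) :
    (((mkU hF M h)⁻¹ : GL (Fin 4) F) : MM) = sharp hF M := rfl

theorem mkU_mem (M : MM) (h : sharp hF M * M = 1) (hdet : M.det = 1) :
    mkU hF M h ∈ Cfsg.GU 4 F p ⊓ Cfsg.Geo.specialLinear (Fin 4) F := by
  rw [mem_SU_iff hF]
  exact ⟨h, hdet⟩

theorem inv_val_of_unitary (x : GL (Fin 4) F) (h : sharp hF (x : MM) * (x : MM) = 1) :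
    ((x⁻¹ : GL (Fin 4) F) : MM) = sharp hF (x : MM) := by
  have h1 : ((x⁻¹ : GL (Fin 4) F) : MM) * (x : MM) = 1 := inv_mul_val x
  have h2 : (x : MM) * sharp hF (x : MM) = 1 := unitary_mul_sharp hF h
  calc ((x⁻¹ : GL (Fin 4) F) : MM) = ((x⁻¹ : GL (Fin 4) F) : MM) * ((x : MM) * sharp hF (x : MM)) := by
        rw [h2, Matrix.mul_one]
    _ = sharp hF (x : MM) := by rw [← Matrix.mul_assoc, h1, Matrix.one_mul]

variable {R : Subgroup (GL (Fin 4) F)}

/-- the basic mechanism of the "good" direction -/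
theorem good_of_conj [Finite R] (x : GL (Fin 4) F) (c : F) (hc : c ≠ 0) (U m : MM)
    (hm : Nmz R m) (hU : sharp hF U * U = 1) (hdet : U.det = 1)
    (hconj : U * m = (c • (x : MM)) * U) :
    ∃ g ∈ Cfsg.GU 4 F p ⊓ Cfsg.Geo.specialLinear (Fin 4) F,
      g⁻¹ * x * g ∈ Cfsg.Geo.subgroupNormalizer R := by
  refine ⟨mkU hF U hU, mkU_mem hF U hU hdet, ?_⟩
  apply Nmz.mem_normalizer
  have h1 : ((((mkU hF U hU)⁻¹ * x * mkU hF U hU : GL (Fin 4) F)) : MM) = c⁻¹ • m := by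
    rw [Units.val_mul, Units.val_mul, mkU_inv_val, mkU_val]
    have h2 : (x : MM) * U = c⁻¹ • (U * m) := by
      rw [hconj, Matrix.smul_mul, smul_smul, inv_mul_cancel₀ hc, one_smul]
    rw [Matrix.mul_assoc, h2, Matrix.mul_smul, ← Matrix.mul_assoc, hU, Matrix.one_mul]
  rw [h1]
  exact hm.smul _

theorem conj_mem_of_mem_normalizer {y : GL (Fin 4) F} (hy : y ∈ Cfsg.Geo.subgroupNormalizer R) :
    ∀ g ∈ R, y * g * y⁻¹ ∈ R := by
  unfold Cfsg.Geo.subgroupNormalizer at hy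
  rw [Subgroup.mem_normalizer_iff] at hy
  intro g hg
  exact (hy g).mp hg

theorem conj_mem_of_mem_normalizer' {y : GL (Fin 4) F} (hy : y ∈ Cfsg.Geo.subgroupNormalizer R) :
    ∀ g ∈ R, y⁻¹ * g * y ∈ R := by
  have h := conj_mem_of_mem_normalizer ((Cfsg.Geo.subgroupNormalizer R).inv_mem hy)
  intro g hg
  have := h g hg
  rwa [inv_inv] at this

/-- transfer of the hyperplane condition under conjugation -/
theorem hyperplane_conj (x g : GL (Fin 4) F) (lam : F) (w : Fin 4 → F)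
    (hw : ∀ v : Fin 4 → F, w ⬝ᵥ v = 0 → (x : MM) *ᵥ v = lam • v) :
    ∀ v : Fin 4 → F, (w ᵥ* (g : MM)) ⬝ᵥ v = 0 → ((g⁻¹ * x * g : GL (Fin 4) F) : MM) *ᵥ v = lam • v := by
  intro v hv
  rw [← Matrix.dotProduct_mulVec] at hv
  have h1 := hw _ hv
  rw [Units.val_mul, Units.val_mul, ← Matrix.mulVec_mulVec, ← Matrix.mulVec_mulVec, h1,
    Matrix.mulVec_smul, Matrix.mulVec_mulVec, inv_mul_val, Matrix.one_mulVec]

/-- scalar matrices and conjugation -/
theorem scalar_of_conj_scalar (x g : GL (Fin 4) F) (e : F)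
    (h : ((g⁻¹ * x * g : GL (Fin 4) F) : MM) = e • (1 : MM)) : (x : MM) = e • (1 : MM) := by
  have h1 : x = g * (g⁻¹ * x * g) * g⁻¹ := by group
  rw [h1, Units.val_mul, Units.val_mul, h, Matrix.mul_smul, Matrix.mul_one, Matrix.smul_mul,
    mul_inv_val]

theorem conj_pow_val (x g : GL (Fin 4) F) (k : ℕ) :
    (g⁻¹ * x * g) ^ k = g⁻¹ * x ^ k * g := by
  induction k with
  | zero => simp
  | succ k ih => rw [pow_succ, ih, pow_succ]; group

theorem trace_conj (x g : GL (Fin 4) F) :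
    (((g⁻¹ * x * g : GL (Fin 4) F)) : MM).trace = (x : MM).trace := by
  rw [Units.val_mul, Units.val_mul, Matrix.trace_mul_cycle, mul_inv_val, Matrix.one_mul]

/-- the fixed points of the conjugation action as a subgroup -/
theorem card_filter_eq (y : GL (Fin 4) F) [Fintype ↥R] [DecidableEq (GL (Fin 4) F)] :
    (Finset.univ.filter (fun g : ↥R => y⁻¹ * (g : GL (Fin 4) F) * y = g)).card =
      Nat.card ↥(R ⊓ CC y) := by
  rw [← Fintype.card_subtype, ← Nat.card_eq_fintype_card]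
  apply Nat.card_congr
  refine
    { toFun := fun g => ⟨g.1.1, Subgroup.mem_inf.mpr ⟨g.1.2, mem_CC'.mpr ?_⟩⟩
      invFun := fun g => ⟨⟨g.1, (Subgroup.mem_inf.mp g.2).1⟩, ?_⟩
      left_inv := fun g => rfl
      right_inv := fun g => rfl }
  · have h := g.2
    calc y * (g.1 : GL (Fin 4) F) = y * (y⁻¹ * (g.1 : GL (Fin 4) F) * y) := by rw [h]
      _ = (g.1 : GL (Fin 4) F) * y := by group
  · have h := mem_CC'.mp (Subgroup.mem_inf.mp g.2).2
    show y⁻¹ * (g.1 : GL (Fin 4) F) * y = g.1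
    rw [mul_assoc, ← h, inv_mul_cancel_left]

end Cfsg.Agent.Lib.Helper7.ST
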