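import Mathlib
import Cfsg.Agent.Lib.Helper7.STO

/-!
# S6001, the "bad" direction: elements of `SU_4(p)` with no conjugate in the normaliser of `R`
-/

set_option autoImplicit false
set_option linter.unusedSectionVars false

namespace Cfsg.Agent.Lib.Helper7.ST

open Matrix Cfsg
open Cfsg.Agent.Lib.Helper14.GUConj
open Cfsg.Agent.Lib.Helper14.HSemi (sigQ sigQ_apply)
open Cfsg.Agent.Lib.Helper7.SU4

variable {F : Type*} [Field F] [Fintype F] {p : ℕ} [Fact p.Prime] [CharP F p]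
  (hF : Fintype.card F = p ^ 2)

local notation "MM" => Matrix (Fin 4) (Fin 4) F

/-- every element of order `r` modulo scalars has a conjugate normalising `R` -/
def AllGood (R : Subgroup (GL (Fin 4) F)) (p r : ℕ) : Prop :=
  ∀ x ∈ Cfsg.GU 4 F p ⊓ Cfsg.Geo.specialLinear (Fin 4) F,
    (∃ z : F, ((x ^ r : GL (Fin 4) F) : MM) = z • (1 : MM)) →
    (∀ z : F, (x : MM) ≠ z • (1 : MM)) →
    ∃ g ∈ Cfsg.GU 4 F p ⊓ Cfsg.Geo.specialLinear (Fin 4) F,
      g⁻¹ * x * g ∈ Cfsg.Geo.subgroupNormalizer R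

variable {R : Subgroup (GL (Fin 4) F)}

include hF in
theorem bad_of_hyperplane (h : RHyp R) (h2 : (2 : F) ≠ 0) (k : ℕ) (hk : Odd k) (x : MM)
    (hxU : sharp hF x * x = 1) (hdet : x.det = 1) (hxk : x ^ k = 1)
    (hns : ∀ e : F, x ≠ e • (1 : MM)) (lam : F) (w : Fin 4 → F)
    (hw : ∀ v : Fin 4 → F, w ⬝ᵥ v = 0 → x *ᵥ v = lam • v) : ¬ AllGood R p k := by
  intro hall
  obtain ⟨g, hg, hN⟩ := hall (mkU hF x hxU) (mkU_mem hF x hxU hdet)
    ⟨1, by rw [Units.val_pow_eq_pow_val, mkU_val, hxk, one_smul]⟩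
    (by intro z; rw [mkU_val]; exact hns z)
  have hconj := conj_mem_of_mem_normalizer hN
  obtain ⟨e', he'⟩ := scalar_of_hyperplane h h2 (g⁻¹ * mkU hF x hxU * g) hconj lam
    (w ᵥ* (g : MM)) (hyperplane_conj (mkU hF x hxU) g lam w hw) k hk 1 (by
      rw [conj_pow_val, Units.val_mul, Units.val_mul, Units.val_pow_eq_pow_val, mkU_val, hxk,
        Matrix.mul_one, inv_mul_val, one_smul])
  exact hns e' (scalar_of_conj_scalar (mkU hF x hxU) g e' he')

include hF in
theorem bad_three (h : RHyp R) (hp2 : p ≠ 2) (h31 : p % 3 ≠ 1) : ¬ AllGood R p 3 := by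
  have hpP : p.Prime := Fact.out
  have h2F : (2 : F) ≠ 0 := by
    intro h
    have h' : ((2 : ℕ) : F) = 0 := by exact_mod_cast h
    rw [CharP.cast_eq_zero_iff F p] at h'
    exact hp2 ((Nat.prime_dvd_prime_iff_eq hpP Nat.prime_two).mp h')
  by_cases hp3 : p = 3
  · obtain ⟨x, hxU, hdet, hxp, hns, lam, w, hw⟩ := exists_transvection hF hp2
    rw [hp3] at hxp
    have := bad_of_hyperplane hF h h2F 3 (by decide) x hxU hdet hxp hns lam w hw
    exact this
  · have h3 : 3 ∣ p + 1 := by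
      have h30 : p % 3 ≠ 0 := by
        intro h0
        have : 3 ∣ p := Nat.dvd_of_mod_eq_zero h0
        exact hp3 ((Nat.prime_dvd_prime_iff_eq Nat.prime_three hpP).mp this).symm
      omega
    obtain ⟨x, hxU, hdet, hx3, hns, lam, w, hw⟩ := exists_diag_omega hF h3
    exact bad_of_hyperplane hF h h2F 3 (by decide) x hxU hdet hx3 hns lam w hw

theorem five_dvd_of_order_ne_four (hp5 : p ≠ 5) (h4 : orderOf (p : ZMod 5) ≠ 4) :
    5 ∣ p ^ 2 - 1 := by
  have hpP : p.Prime := Fact.out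
  haveI : Fact (Nat.Prime 5) := ⟨by norm_num⟩
  have hp0 : (p : ZMod 5) ≠ 0 := by
    rw [Ne, ZMod.natCast_eq_zero_iff]
    intro h
    exact hp5 ((Nat.prime_dvd_prime_iff_eq (by norm_num) hpP).mp h).symm
  have h41 : (p : ZMod 5) ^ 4 = 1 := ZMod.pow_card_sub_one_eq_one hp0
  have hd : orderOf (p : ZMod 5) ∣ 2 ^ 2 := orderOf_dvd_of_pow_eq_one h41
  obtain ⟨k, hk, hk'⟩ := (Nat.dvd_prime_pow Nat.prime_two).mp hd
  have hd2 : orderOf (p : ZMod 5) ∣ 2 := by
    rw [hk']
    interval_cases k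
    · norm_num
    · norm_num
    · exact absurd hk' (by norm_num at h4 ⊢; exact h4)
  have h21 : (p : ZMod 5) ^ 2 = 1 := orderOf_dvd_iff_pow_eq_one.mp hd2
  have hp1 : 1 ≤ p ^ 2 := Nat.one_le_pow _ _ hpP.pos
  rw [← ZMod.natCast_eq_zero_iff, Nat.cast_sub hp1, Nat.cast_pow, Nat.cast_one, h21, sub_self]

include hF in
theorem bad_five (h : RHyp R) (hp2 : p ≠ 2) (hp5 : p ≠ 5) (h4 : orderOf (p : ZMod 5) ≠ 4) :
    ¬ AllGood R p 5 := by
  classical
  have hpP : p.Prime := Fact.out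
  have h2F : (2 : F) ≠ 0 := by
    intro h
    have h' : ((2 : ℕ) : F) = 0 := by exact_mod_cast h
    rw [CharP.cast_eq_zero_iff F p] at h'
    exact hp2 ((Nat.prime_dvd_prime_iff_eq hpP Nat.prime_two).mp h')
  have h5F : (5 : F) ≠ 0 := by
    intro h
    have h' : ((5 : ℕ) : F) = 0 := by exact_mod_cast h
    rw [CharP.cast_eq_zero_iff F p] at h'
    exact hp5 ((Nat.prime_dvd_prime_iff_eq hpP (by norm_num)).mp h')
  have h5 := five_dvd_of_order_ne_four hp5 h4
  obtain ⟨x, s, hxU, hdet, hx5, hns, htr, htr', hs⟩ := exists_rot5 hF hp2 hp5 h5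
  intro hall
  obtain ⟨g, hg, hN⟩ := hall (mkU hF x hxU) (mkU_mem hF x hxU hdet)
    ⟨1, by rw [Units.val_pow_eq_pow_val, mkU_val, hx5, one_smul]⟩
    (by intro z; rw [mkU_val]; exact hns z)
  set X : GL (Fin 4) F := mkU hF x hxU with hX
  set y : GL (Fin 4) F := g⁻¹ * X * g with hy
  have hconj := conj_mem_of_mem_normalizer hN
  have hconj' := conj_mem_of_mem_normalizer' hN
  have hX5 : X ^ 5 = 1 := by
    apply Units.ext
    rw [Units.val_pow_eq_pow_val, hX, mkU_val, hx5, Units.val_one]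
  have hy5 : y ^ 5 = 1 := by
    rw [hy, conj_pow_val, hX5]
    group
  have hyns : ∀ e : F, (y : MM) ≠ e • (1 : MM) := by
    intro e he
    exact hns e (scalar_of_conj_scalar X g e he)
  have hcent := cent_five h y hconj hy5 hyns
  haveI := h.finite
  haveI : Fintype ↥R := Fintype.ofFinite ↥R
  have htr0 : ∀ k ∈ R, (∀ c : F, (k : MM) ≠ c • (1 : MM)) → Matrix.trace (k : MM) = 0 := by
    intro k hk hkns
    obtain ⟨k', hk', hAC⟩ := h.exists_AC hk hkns
    exact trace_eq_zero_of_AC h2F (unit_det k') hAC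
  have hno : ∀ k ∈ R, ∀ c : F, ((y⁻¹ * k * y : GL (Fin 4) F) : MM) = c • (k : MM) → c = 1 := by
    apply Cfsg.Agent.Lib.Helper9.TraceId.hno_of_pow hy5 _ hconj'
    rintro c hc5 ⟨k, hk, k', hk', hkk'⟩
    -- `c • 1 = k' * k⁻¹ ∈ R` has order dividing 4
    have h1 : ((k' * k⁻¹ : GL (Fin 4) F) : MM) = c • (1 : MM) := by
      rw [Units.val_mul, hkk', Matrix.smul_mul, mul_inv_val]
    have h2 := h.hyp.exp4 (⟨k' * k⁻¹, R.mul_mem hk' (R.inv_mem hk)⟩ : ↥R)
    have h3 := congrArg (fun t : ↥R => ((t : GL (Fin 4) F) : MM)) h2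
    simp only [Subgroup.coe_pow, Units.val_pow_eq_pow_val, h1, Subgroup.coe_one, Units.val_one] at h3
    rw [smul_pow, one_pow, smul_one_eq_one_iff] at h3
    calc c = c ^ 5 * (c ^ 4)⁻¹ := by
          have hc0 : c ≠ 0 := by
            intro h0
            rw [h0] at h3
            norm_num at h3
          field_simp
      _ = 1 := by rw [hc5, h3, inv_one, one_mul]
  have key := Cfsg.Agent.Lib.Helper9.TraceId.trace_identity h.irr.2 htr0 y hconj' hno
  rw [card_filter_eq, hcent, Fintype.card_fin, ← Nat.card_eq_fintype_card, h.card] at key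
  -- traces
  have ht1 : Matrix.trace (y : MM) = 2 + s := by
    rw [hy, trace_conj, hX, mkU_val, htr]
  have ht2 : Matrix.trace ((y⁻¹ : GL (Fin 4) F) : MM) = 2 + s := by
    have e : y⁻¹ = g⁻¹ * X⁻¹ * g := by rw [hy]; group
    rw [e, trace_conj, hX, mkU_inv_val, htr']
  rw [ht1, ht2] at key
  apply rot5_contra h5F s hs
  have h64 : (64 : F) ≠ 0 := by
    have : (64 : F) = 2 ^ 6 := by norm_num
    rw [this]
    exact pow_ne_zero _ h2F
  push_cast at key
  apply mul_left_cancel₀ h64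
  linear_combination -key

include hF in
theorem bad_large (h : RHyp R) (hp2 : p ≠ 2) (r : ℕ) [Fact r.Prime] (h7 : 7 ≤ r)
    (hdvd : r ∣ Nat.card ↥(Cfsg.GU 4 F p ⊓ Cfsg.Geo.specialLinear (Fin 4) F)) :
    ¬ AllGood R p r := by
  have hpP : p.Prime := Fact.out
  have hrP : r.Prime := Fact.out
  have h2F : (2 : F) ≠ 0 := by
    intro h
    have h' : ((2 : ℕ) : F) = 0 := by exact_mod_cast h
    rw [CharP.cast_eq_zero_iff F p] at h'
    exact hp2 ((Nat.prime_dvd_prime_iff_eq hpP Nat.prime_two).mp h')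
  obtain ⟨x, hx⟩ := exists_prime_orderOf_dvd_card' r hdvd
  intro hall
  have hxr : (x : GL (Fin 4) F) ^ r = 1 := by
    have := pow_orderOf_eq_one x
    rw [hx] at this
    have h1 := congrArg Subtype.val this
    simpa using h1
  have hxmem := (mem_SU_iff hF (x : GL (Fin 4) F)).mp x.2
  have hns : ∀ z : F, ((x : GL (Fin 4) F) : MM) ≠ z • (1 : MM) := by
    intro z hz
    have hz4 : z ^ 4 = 1 := by
      have := hxmem.2
      rw [hz, Matrix.det_smul, Matrix.det_one, mul_one, Fintype.card_fin] at this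
      exact this
    have hzr : z ^ r = 1 := by
      have h1 := congrArg (fun t : GL (Fin 4) F => (t : MM)) hxr
      simp only [Units.val_pow_eq_pow_val, hz, Units.val_one] at h1
      rw [smul_pow, one_pow, smul_one_eq_one_iff] at h1
      exact h1
    have hz1 : z = 1 := by
      have hcop : Nat.Coprime r 4 := by
        have : Nat.Coprime r 2 := by
          rw [Nat.coprime_primes hrP Nat.prime_two]
          omega
        exact Nat.Coprime.pow_right 2 this
      have h1 : orderOf z ∣ r := orderOf_dvd_of_pow_eq_one hzr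
      have h2 : orderOf z ∣ 4 := orderOf_dvd_of_pow_eq_one hz4
      have h3 : orderOf z ∣ Nat.gcd r 4 := Nat.dvd_gcd h1 h2
      rw [hcop] at h3
      exact orderOf_eq_one_iff.mp (Nat.dvd_one.mp h3)
    have hx1 : x = 1 := by
      apply Subtype.ext
      apply Units.ext
      rw [hz, hz1, one_smul]
      rfl
    rw [hx1, orderOf_one] at hx
    exact hrP.one_lt.ne hx
  obtain ⟨g, hg, hN⟩ := hall (x : GL (Fin 4) F) x.2
    ⟨1, by rw [hxr, Units.val_one, one_smul]⟩ hns
  have hconj := conj_mem_of_mem_normalizer hN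
  obtain ⟨e, he⟩ := scalar_of_prime_ge_seven h h2F (g⁻¹ * (x : GL (Fin 4) F) * g) hconj r h7 (by
    rw [conj_pow_val, hxr]
    group)
  exact hns e (scalar_of_conj_scalar _ g e he)

end Cfsg.Agent.Lib.Helper7.ST
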