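import Mathlib
import Cfsg.Agent.Lib.Helper7.STP

/-!
# S6001, the "good" direction: elements of `SU_4(p)` of order 2, 3, 5 modulo scalars
-/

set_option autoImplicit false
set_option linter.unusedSectionVars false

namespace Cfsg.Agent.Lib.Helper7.ST

open Matrix Cfsg
open Cfsg.Agent.Lib.Helper14.GUConj
open Cfsg.Agent.Lib.Helper14.HSemi (sigQ sigQ_apply)
open Cfsg.Agent.Lib.Helper7.SU4

variable {F : Type*} [Field F] [Fintype F] {p : ℕ} [Fact p.Prime] [CharP F p]
  (hF : Fintype.card F = p ^ 2)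

local notation "MM" => Matrix (Fin 4) (Fin 4) F

theorem two_ne_zero_of_odd (hp2 : p ≠ 2) : (2 : F) ≠ 0 := by
  have hpP : p.Prime := Fact.out
  intro h
  have h' : ((2 : ℕ) : F) = 0 := by exact_mod_cast h
  rw [CharP.cast_eq_zero_iff F p] at h'
  exact hp2 ((Nat.prime_dvd_prime_iff_eq hpP Nat.prime_two).mp h')

theorem smul_unitary {c : F} (hc : c ^ p * c = 1) {x : MM} (hx : sharp hF x * x = 1) :
    sharp hF (c • x) * (c • x) = 1 := by
  rw [sharp_smul, sigQ_apply, Matrix.smul_mul, Matrix.mul_smul, smul_smul, hx, mul_comm (c ^ p) c,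
    mul_comm, hc, one_smul]

theorem smul_det (c : F) (x : MM) : (c • x).det = c ^ 4 * x.det := by
  rw [Matrix.det_smul, Fintype.card_fin]

include hF in
/-- data on the scalar `z` with `x ^ r = z • 1` -/
theorem scal_data (x : GL (Fin 4) F)
    (hx : x ∈ Cfsg.GU 4 F p ⊓ Cfsg.Geo.specialLinear (Fin 4) F) (r : ℕ) (z : F)
    (hz : ((x ^ r : GL (Fin 4) F) : MM) = z • (1 : MM)) : z ^ 4 = 1 ∧ z ^ p * z = 1 := by
  obtain ⟨hxU, hxd⟩ := (mem_SU_iff hF x).mp hx
  rw [Units.val_pow_eq_pow_val] at hz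
  constructor
  · have h1 := congrArg Matrix.det hz
    rw [Matrix.det_pow, hxd, one_pow, smul_det, Matrix.det_one, mul_one] at h1
    exact h1.symm
  · have h1 := unitary_pow hF hxU r
    rw [hz, sharp_smul, sharp_one, sigQ_apply, Matrix.smul_mul, Matrix.mul_smul, Matrix.one_mul,
      smul_smul, smul_one_eq_one_iff] at h1
    exact h1

theorem nonscalar_smul (x : MM) (c : F) (hc : c ≠ 0) (hns : ∀ e : F, x ≠ e • (1 : MM)) :
    ∀ e : F, c • x ≠ e • (1 : MM) := by
  intro e he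
  apply hns (c⁻¹ * e)
  rw [← smul_smul, ← he, smul_smul, inv_mul_cancel₀ hc, one_smul]

variable {R : Subgroup (GL (Fin 4) F)}

/-! ### `r = 2` -/

include hF in
theorem good_two_core [DecidableEq F] (h : RHyp R) (hp2 : p ≠ 2)
    (hU : ∀ g ∈ R, sharp hF (g : MM) * (g : MM) = 1) (x : GL (Fin 4) F) (c : F) (hc : c ≠ 0)
    (hxU : sharp hF (c • (x : MM)) * (c • (x : MM)) = 1) (hx2 : (c • (x : MM)) ^ 2 = 1)
    (hk : kd (c • (x : MM) - (1 : F) • (1 : MM)) = 2 ∨ kd (c • (x : MM) - (1 : F) • (1 : MM)) = 3) :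
    ∃ g ∈ Cfsg.GU 4 F p ⊓ Cfsg.Geo.specialLinear (Fin 4) F,
      g⁻¹ * x * g ∈ Cfsg.Geo.subgroupNormalizer R := by
  have := h.finite
  have h2F := two_ne_zero_of_odd (F := F) hp2
  obtain ⟨⟨m2, hm2N, hm2U, hm22, hm2k⟩, ⟨m3, hm3N, hm3U, hm32, hm3k⟩⟩ :=
    invol_models hF h h2F p hp2 hU
  rcases hk with hk | hk
  · obtain ⟨U, hUU, hUd, hconj⟩ := su_conj_two hF p hp2 (by norm_num) (c • (x : MM)) m2 hxU hm2U
      hx2 hm22 (hk.trans hm2k.symm)
    exact good_of_conj hF x c hc U m2 hm2N hUU hUd hconj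
  · obtain ⟨U, hUU, hUd, hconj⟩ := su_conj_two hF p hp2 (by norm_num) (c • (x : MM)) m3 hxU hm3U
      hx2 hm32 (hk.trans hm3k.symm)
    exact good_of_conj hF x c hc U m3 hm3N hUU hUd hconj

/-- kernel dimensions of a nonscalar involution in dimension 4 -/
theorem invol_facts [DecidableEq F] (hp2 : p ≠ 2) (x : MM) (hx2 : x ^ 2 = 1)
    (hns : ∀ e : F, x ≠ e • (1 : MM)) :
    (x.det = 1 → kd (x - (1 : F) • (1 : MM)) = 2 ∧ kd (x - (-1 : F) • (1 : MM)) = 2) ∧
    (x.det = -1 → (kd (x - (1 : F) • (1 : MM)) = 3 ∧ kd (x - (-1 : F) • (1 : MM)) = 1) ∨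
      (kd (x - (1 : F) • (1 : MM)) = 1 ∧ kd (x - (-1 : F) • (1 : MM)) = 3)) := by
  have h2F := two_ne_zero_of_odd (F := F) hp2
  have hne : (1 : F) ≠ -1 := by
    intro h
    apply h2F
    linear_combination h
  obtain ⟨-, hsum, -, hdet, h1, h2⟩ := kd_involution p hp2 x hx2
  have ha : kd (x - (1 : F) • (1 : MM)) ≠ 4 := by
    intro h
    apply hns 1
    rw [h1 h, one_smul]
  have hb : kd (x - (-1 : F) • (1 : MM)) ≠ 4 := by
    intro h
    apply hns (-1)
    rw [h2 h, neg_smul, one_smul]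
  constructor
  · intro hd
    rw [hd] at hdet
    have hev : Even (kd (x - (-1 : F) • (1 : MM))) := by
      rcases Nat.even_or_odd (kd (x - (-1 : F) • (1 : MM))) with he | ho
      · exact he
      · rw [ho.neg_one_pow] at hdet
        exact absurd hdet hne
    obtain ⟨t, ht⟩ := hev
    omega
  · intro hd
    rw [hd] at hdet
    have hodd : Odd (kd (x - (-1 : F) • (1 : MM))) := by
      rcases Nat.even_or_odd (kd (x - (-1 : F) • (1 : MM))) with he | ho
      · rw [he.neg_one_pow] at hdet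
        exact absurd hdet.symm hne
      · exact ho
    obtain ⟨t, ht⟩ := hodd
    omega

include hF in
theorem good_two (h : RHyp R) (hp4 : p % 4 = 3)
    (hU : ∀ g ∈ R, sharp hF (g : MM) * (g : MM) = 1) : AllGood R p 2 := by
  classical
  have hpP : p.Prime := Fact.out
  have hp2 : p ≠ 2 := by
    intro h
    rw [h] at hp4
    norm_num at hp4
  have h2F := two_ne_zero_of_odd (F := F) hp2
  rintro x hx ⟨z, hz⟩ hns
  obtain ⟨hz4, hzp⟩ := scal_data hF x hx 2 z hz
  obtain ⟨hxU, hxd⟩ := (mem_SU_iff hF x).mp hx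
  rw [Units.val_pow_eq_pow_val] at hz
  obtain ⟨i, zi, hi2, hziR, hzi⟩ := h.exists_i
  have hip : i ^ p * i = 1 := by
    have := hU zi hziR
    rw [hzi, sharp_smul, sharp_one, sigQ_apply, Matrix.smul_mul, Matrix.mul_smul, Matrix.one_mul,
      smul_smul, smul_one_eq_one_iff] at this
    exact this
  -- the case of an involution of determinant one
  have even_case : ∀ c : F, c ^ p * c = 1 → c ^ 4 = 1 → c * c * z = 1 →
      ∃ g ∈ Cfsg.GU 4 F p ⊓ Cfsg.Geo.specialLinear (Fin 4) F,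
        g⁻¹ * x * g ∈ Cfsg.Geo.subgroupNormalizer R := by
    intro c hcp hc4 hcz
    have hc0 : c ≠ 0 := by
      rintro rfl
      norm_num at hc4
    have hx'U := smul_unitary hF hcp hxU
    have hx'2 : (c • (x : MM)) ^ 2 = 1 := by
      rw [smul_pow, hz, smul_smul, pow_two, hcz, one_smul]
    have hx'd : (c • (x : MM)).det = 1 := by rw [smul_det, hc4, hxd, one_mul]
    have := (invol_facts hp2 _ hx'2 (nonscalar_smul _ c hc0 hns)).1 hx'd
    exact good_two_core hF h hp2 hU x c hc0 hx'U hx'2 (Or.inl this.1)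
  have hfac : (z - 1) * (z + 1) * (z * z + 1) = 0 := by linear_combination hz4
  rcases mul_eq_zero.mp hfac with h1 | h1
  · rcases mul_eq_zero.mp h1 with h1 | h1
    · have hz1 : z = 1 := sub_eq_zero.mp h1
      exact even_case 1 (by simp) (by simp) (by rw [hz1]; ring)
    · have hz1 : z = -1 := eq_neg_of_add_eq_zero_left h1
      refine even_case i hip ?_ ?_
      · calc i ^ 4 = (i ^ 2) ^ 2 := by ring
          _ = 1 := by rw [hi2]; ring
      · rw [hz1]
        linear_combination -hi2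
  · have hzz : z * z = -1 := eq_neg_of_add_eq_zero_left h1
    have hz0 : z ≠ 0 := by
      rintro rfl
      norm_num at hz4
    obtain ⟨w, hw⟩ : IsSquare z := by
      rw [FiniteField.isSquare_iff (by rw [ringChar.eq F p]; exact hp2) hz0, hF]
      obtain ⟨j, hj⟩ : ∃ j, p = 4 * j + 3 := ⟨p / 4, by omega⟩
      have h8 : p ^ 2 / 2 = 4 * (2 * j * j + 3 * j + 1) := by
        subst hj
        have : (4 * j + 3) ^ 2 = 2 * (4 * (2 * j * j + 3 * j + 1)) + 1 := by ring
        omega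
      rw [h8, pow_mul, hz4, one_pow]
    have hw0 : w ≠ 0 := by
      rintro rfl
      rw [mul_zero] at hw
      exact hz0 hw
    have hw4 : w ^ 4 = -1 := by
      calc w ^ 4 = (w * w) * (w * w) := by ring
        _ = -1 := by rw [← hw, hzz]
    have hwp : (w ^ p * w) * (w ^ p * w) = 1 := by
      calc (w ^ p * w) * (w ^ p * w) = (w * w) ^ p * (w * w) := by ring
        _ = 1 := by rw [← hw, hzp]
    have hx'2 : (w⁻¹ • (x : MM)) ^ 2 = 1 := by
      rw [smul_pow, hz, smul_smul, hw]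
      have : w⁻¹ ^ 2 * (w * w) = 1 := by field_simp
      rw [this, one_smul]
    have hx'd : (w⁻¹ • (x : MM)).det = -1 := by
      rw [smul_det, hxd, mul_one, inv_pow, hw4]
      norm_num
    have hx'ns := nonscalar_smul (x : MM) w⁻¹ (inv_ne_zero hw0) hns
    have hfac2 : (w ^ p * w - 1) * (w ^ p * w + 1) = 0 := by linear_combination hwp
    rcases mul_eq_zero.mp hfac2 with h3 | h3
    · have hn1 : w ^ p * w = 1 := sub_eq_zero.mp h3
      have hcp : (w⁻¹) ^ p * w⁻¹ = 1 := by rw [inv_pow, ← mul_inv, hn1, inv_one]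
      have hx'U := smul_unitary hF hcp hxU
      rcases (invol_facts hp2 _ hx'2 hx'ns).2 hx'd with ⟨ha, hb⟩ | ⟨ha, hb⟩
      · exact good_two_core hF h hp2 hU x w⁻¹ (inv_ne_zero hw0) hx'U hx'2 (Or.inr ha)
      · have e : (-w⁻¹) • (x : MM) = -(w⁻¹ • (x : MM)) := neg_smul _ _
        have hx''U : sharp hF ((-w⁻¹) • (x : MM)) * ((-w⁻¹) • (x : MM)) = 1 := by
          rw [e]
          exact neg_unitary hF hx'U
        have hx''2 : ((-w⁻¹) • (x : MM)) ^ 2 = 1 := by rw [e, neg_sq, hx'2]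
        have hk : kd ((-w⁻¹) • (x : MM) - (1 : F) • (1 : MM)) = 3 := by
          have e3 : (-w⁻¹) • (x : MM) - (1 : F) • (1 : MM) =
              (-1 : F) • (w⁻¹ • (x : MM) - (-1 : F) • (1 : MM)) := by
            rw [e, smul_sub, smul_smul]
            simp
          rw [e3, kd_smul _ (by norm_num), hb]
        exact good_two_core hF h hp2 hU x (-w⁻¹) (neg_ne_zero.mpr (inv_ne_zero hw0)) hx''U hx''2
          (Or.inr hk)
    · exfalso
      have hn1 : w ^ p * w = -1 := eq_neg_of_add_eq_zero_left h3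
      have hinv : (w ^ p)⁻¹ = -w := by
        apply inv_eq_of_mul_eq_one_right
        linear_combination -hn1
      have hkd := kd_unitary_sub hF (x : MM) hxU w hw0
      rw [hinv] at hkd
      have e1 : w⁻¹ • (x : MM) - (1 : F) • (1 : MM) = w⁻¹ • ((x : MM) - w • (1 : MM)) := by
        rw [smul_sub, smul_smul, inv_mul_cancel₀ hw0]
      have e2 : w⁻¹ • (x : MM) - (-1 : F) • (1 : MM) = w⁻¹ • ((x : MM) - (-w) • (1 : MM)) := by
        rw [smul_sub, smul_smul]
        congr 2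
        field_simp
      rcases (invol_facts hp2 _ hx'2 hx'ns).2 hx'd with ⟨ha, hb⟩ | ⟨ha, hb⟩
      · rw [e1, kd_smul _ (inv_ne_zero hw0)] at ha
        rw [e2, kd_smul _ (inv_ne_zero hw0)] at hb
        omega
      · rw [e1, kd_smul _ (inv_ne_zero hw0)] at ha
        rw [e2, kd_smul _ (inv_ne_zero hw0)] at hb
        omega

/-! ### `r = 3` -/

include hF in
theorem good_three (h : RHyp R) (hp2 : p ≠ 2) (hp3 : p % 3 = 1)
    (hU : ∀ g ∈ R, sharp hF (g : MM) * (g : MM) = 1) : AllGood R p 3 := by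
  classical
  have hpP : p.Prime := Fact.out
  have := h.finite
  have h2F := two_ne_zero_of_odd (F := F) hp2
  have hp3' : p ≠ 3 := by
    intro h
    rw [h] at hp3
    norm_num at hp3
  have h3F : (3 : F) ≠ 0 := by
    intro h
    have h' : ((3 : ℕ) : F) = 0 := by exact_mod_cast h
    rw [CharP.cast_eq_zero_iff F p] at h'
    exact hp3' ((Nat.prime_dvd_prime_iff_eq hpP Nat.prime_three).mp h')
  obtain ⟨k, hk⟩ : ∃ k, p = 3 * k + 1 := ⟨p / 3, by omega⟩
  have h3d : 3 ∣ Fintype.card F - 1 := by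
    rw [hF, hk]
    have e : (3 * k + 1) ^ 2 = 3 * (3 * k * k + 2 * k) + 1 := by ring
    have : (3 * k + 1) ^ 2 - 1 = 3 * (3 * k * k + 2 * k) := by omega
    rw [this]
    exact dvd_mul_right _ _
  have : Fact (Nat.Prime 3) := ⟨Nat.prime_three⟩
  have hcard : 3 ∣ Fintype.card Fˣ := by
    rw [Fintype.card_units]
    exact h3d
  obtain ⟨u, hu⟩ := exists_prime_orderOf_dvd_card 3 hcard
  set ω : F := (u : F) with hω
  have hω3 : ω ^ 3 = 1 := by
    have := pow_orderOf_eq_one u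
    rw [hu] at this
    rw [hω, ← Units.val_pow_eq_pow_val, this, Units.val_one]
  have hω1 : ω ≠ 1 := by
    intro h
    have h1 : u = 1 := Units.ext h
    rw [h1, orderOf_one] at hu
    norm_num at hu
  have hω2 : ω ^ 2 + ω + 1 = 0 := by
    have : (ω - 1) * (ω ^ 2 + ω + 1) = 0 := by linear_combination hω3
    rcases mul_eq_zero.mp this with h | h
    · exact absurd (sub_eq_zero.mp h) hω1
    · exact h
  have hωp : ω ^ p = ω := by
    rw [hk, pow_succ, pow_mul, hω3, one_pow, one_mul]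
  obtain ⟨⟨m0, hm0N, hm0U, hm03, hm0k⟩, ⟨m2, hm2N, hm2U, hm23, hm2k⟩⟩ :=
    order3_models hF h h2F h3F p hp3' hU h3d ω hω2 hωp
  rintro x hx ⟨z, hz⟩ hns
  obtain ⟨hz4, hzp⟩ := scal_data hF x hx 3 z hz
  obtain ⟨hxU, hxd⟩ := (mem_SU_iff hF x).mp hx
  rw [Units.val_pow_eq_pow_val] at hz
  have hz0 : z ≠ 0 := by
    rintro rfl
    norm_num at hz4
  have hx'U := smul_unitary hF hzp hxU
  have hx'3 : (z • (x : MM)) ^ 3 = 1 := by
    rw [smul_pow, hz, smul_smul]
    have : z ^ 3 * z = 1 := by rw [← hz4]; ring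
    rw [this, one_smul]
  have hx'ns := nonscalar_smul (x : MM) z hz0 hns
  obtain ⟨-, hsum, -, h1⟩ := kd_order_three p hp3' h3d ω hω2 (z • (x : MM)) hx'3
  have heq := kd_omega_eq hF ω hω2 hωp (z • (x : MM)) hx'U
  have hne4 : kd (z • (x : MM) - (1 : F) • (1 : MM)) ≠ 4 := by
    intro h4
    apply hx'ns 1
    rw [h1 h4, one_smul]
  have hk02 : kd (z • (x : MM) - (1 : F) • (1 : MM)) = 0 ∨
      kd (z • (x : MM) - (1 : F) • (1 : MM)) = 2 := by omega
  rcases hk02 with hk0 | hk2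
  · obtain ⟨U, hUU, hUd, hconj⟩ := su_conj_three hF p hp3' h3d ω hω2 hωp (by norm_num)
      (z • (x : MM)) m0 hx'U hm0U hx'3 hm03 (hk0.trans hm0k.symm)
    exact good_of_conj hF x z hz0 U m0 hm0N hUU hUd hconj
  · obtain ⟨U, hUU, hUd, hconj⟩ := su_conj_three hF p hp3' h3d ω hω2 hωp (by norm_num)
      (z • (x : MM)) m2 hx'U hm2U hx'3 hm23 (hk2.trans hm2k.symm)
    exact good_of_conj hF x z hz0 U m2 hm2N hUU hUd hconj

/-! ### `r = 5` -/

include hF in
theorem good_five (h : RHyp R) (hp2 : p ≠ 2) (h4 : orderOf (p : ZMod 5) = 4)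
    (hU : ∀ g ∈ R, sharp hF (g : MM) * (g : MM) = 1) : AllGood R p 5 := by
  classical
  have hpP : p.Prime := Fact.out
  have := h.finite
  have h2F := two_ne_zero_of_odd (F := F) hp2
  have hp5 : p ≠ 5 := p_ne_five_of_order_four h4
  have h5F : (5 : F) ≠ 0 := by
    intro h
    have h' : ((5 : ℕ) : F) = 0 := by exact_mod_cast h
    rw [CharP.cast_eq_zero_iff F p] at h'
    exact hp5 ((Nat.prime_dvd_prime_iff_eq hpP (by norm_num)).mp h')
  obtain ⟨y, hyN, hyU, hy5⟩ := order5_model hF h h2F hU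
  have hyd : (y : MM).det = 1 := by
    have h1 := unitary_det_norm hF hyU
    have h2 : (y : MM).det ^ 5 = 1 := by
      have := pow_orderOf_eq_one y
      rw [hy5] at this
      have h3 := congrArg (fun t : GL (Fin 4) F => (t : MM).det) this
      simpa [Units.val_pow_eq_pow_val, Matrix.det_pow] using h3
    have hcop : Nat.gcd 5 (p + 1) = 1 :=
      (Nat.Prime.coprime_iff_not_dvd (by norm_num)).mpr (not_dvd_succ_of_order_four h4)
    have h3 : orderOf (y : MM).det ∣ Nat.gcd 5 (p + 1) :=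
      Nat.dvd_gcd (orderOf_dvd_of_pow_eq_one h2) (orderOf_dvd_of_pow_eq_one h1)
    rw [hcop] at h3
    exact orderOf_eq_one_iff.mp (Nat.dvd_one.mp h3)
  have hyS : y ∈ Cfsg.GU 4 F p ⊓ Cfsg.Geo.specialLinear (Fin 4) F :=
    (mem_SU_iff hF y).mpr ⟨hyU, hyd⟩
  rintro x hx ⟨z, hz⟩ hns
  obtain ⟨hz4, hzp⟩ := scal_data hF x hx 5 z hz
  obtain ⟨hxU, hxd⟩ := (mem_SU_iff hF x).mp hx
  rw [Units.val_pow_eq_pow_val] at hz
  have hz0 : z ≠ 0 := by
    rintro rfl
    norm_num at hz4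
  have hcp : (z⁻¹) ^ p * z⁻¹ = 1 := by rw [inv_pow, ← mul_inv, hzp, inv_one]
  have hx'U := smul_unitary hF hcp hxU
  have hx'5 : (z⁻¹ • (x : MM)) ^ 5 = 1 := by
    rw [smul_pow, hz, smul_smul]
    have : z⁻¹ ^ 5 * z = 1 := by
      have : z⁻¹ ^ 5 * z = (z ^ 4)⁻¹ := by field_simp
      rw [this, hz4, inv_one]
    rw [this, one_smul]
  have hx'd : (z⁻¹ • (x : MM)).det = 1 := by rw [smul_det, hxd, mul_one, inv_pow, hz4, inv_one]
  have hx'ns := nonscalar_smul (x : MM) z⁻¹ (inv_ne_zero hz0) hns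
  set X' : ↥(Cfsg.GU 4 F p ⊓ Cfsg.Geo.specialLinear (Fin 4) F) :=
    ⟨mkU hF _ hx'U, mkU_mem hF _ hx'U hx'd⟩ with hX'
  set Y : ↥(Cfsg.GU 4 F p ⊓ Cfsg.Geo.specialLinear (Fin 4) F) := ⟨y, hyS⟩ with hY
  haveI : Fact (Nat.Prime 5) := ⟨by norm_num⟩
  have hX'5 : orderOf X' = 5 := by
    apply orderOf_eq_prime
    · apply Subtype.ext
      apply Units.ext
      rw [Subgroup.coe_pow, Units.val_pow_eq_pow_val, hX']
      exact hx'5
    · intro h1
      have h2 := congrArg (fun t : ↥(Cfsg.GU 4 F p ⊓ Cfsg.Geo.specialLinear (Fin 4) F) =>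
        ((t : GL (Fin 4) F) : MM)) h1
      apply hx'ns 1
      rw [one_smul]
      exact h2
  have hY5 : orderOf Y = 5 := by
    rw [← hy5, hY]
    exact Subgroup.orderOf_mk y hyS
  let φ : ↥(Cfsg.GU 4 F p ⊓ Cfsg.Geo.specialLinear (Fin 4) F) →*
      Matrix (Fin (3 + 1)) (Fin (3 + 1)) F :=
    (Units.coeHom MM).comp (Subgroup.subtype _)
  have Hfix : ∀ g : ↥(Cfsg.GU 4 F p ⊓ Cfsg.Geo.specialLinear (Fin 4) F), g ^ 5 = 1 → g ≠ 1 →
      ∑ j ∈ Finset.range 5, φ g ^ j = 0 := by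
    intro g hg5 hg1
    have hgU := ((mem_SU_iff hF (g : GL (Fin 4) F)).mp g.2).1
    have h5 : ((g : GL (Fin 4) F) : MM) ^ 5 = 1 := by
      have := congrArg (fun t : ↥(Cfsg.GU 4 F p ⊓ Cfsg.Geo.specialLinear (Fin 4) F) =>
        ((t : GL (Fin 4) F) : MM)) hg5
      simpa using this
    have hne : ((g : GL (Fin 4) F) : MM) ≠ 1 := by
      intro h1
      apply hg1
      apply Subtype.ext
      apply Units.ext
      exact h1
    have := order5_sum_zero hF hp2 h4 _ hgU h5 hne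
    simp only [Finset.sum_range_succ, Finset.sum_range_zero, zero_add, pow_zero, pow_one]
    exact this
  obtain ⟨g, k, hgk⟩ := conj_order5 (n := 3) φ h5F Hfix X' Y hX'5 hY5
  refine ⟨(g : GL (Fin 4) F), g.2, ?_⟩
  have hYk : ((Y ^ k : ↥(Cfsg.GU 4 F p ⊓ Cfsg.Geo.specialLinear (Fin 4) F)) : GL (Fin 4) F) ∈
      Cfsg.Geo.subgroupNormalizer R := by
    rw [Subgroup.coe_zpow]
    exact (Cfsg.Geo.subgroupNormalizer R).zpow_mem hyN.mem_normalizer k
  apply Nmz.mem_normalizer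
  have e : ((((g : GL (Fin 4) F))⁻¹ * x * g : GL (Fin 4) F) : MM) =
      z • (((Y ^ k : ↥(Cfsg.GU 4 F p ⊓ Cfsg.Geo.specialLinear (Fin 4) F)) : GL (Fin 4) F) : MM) := by
    rw [← hgk, hX']
    simp only [Subgroup.coe_mul, Subgroup.coe_inv, Units.val_mul, mkU_val]
    rw [Matrix.mul_smul, Matrix.smul_mul, smul_smul, mul_inv_cancel₀ hz0, one_smul]
  rw [e]
  exact (nmz_of_mem_normalizer hYk).smul z

end Cfsg.Agent.Lib.Helper7.ST
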