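import Mathlib
import Cfsg.Agent.Lib.Helper7.SpExtBas

/-!
# S5664 FO-Ia: no T-pairs ⇒ the conjugates of the field commute, and the key identity
-/

set_option autoImplicit false

namespace Cfsg.Agent.Lib.Helper7.SpExt

open Matrix Module

variable {F : Type*} [Field F] {L : Type*} [Field L] [Algebra F L] {ι : Type} [Fintype ι]
  [DecidableEq ι] {ρ : L →ₐ[F] Matrix ι ι F} {f : (ι → F) →ₗ[F] (ι → F) →ₗ[F] F} {τ : L →ₗ[F] F}
  {B : (ι → F) →ₗ[F] (ι → F) →ₗ[F] L}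

/-- the map `v ↦ h (c ∙ h⁻¹ v)` -/
def Eh (ρ : L →ₐ[F] Matrix ι ι F) (h : GL ι F) (c : L) (v : ι → F) : ι → F :=
  act h (ρ c *ᵥ act h⁻¹ v)

lemma conjE_mulVec' (h : GL ι F) (c : L) (v : ι → F) : conjE ρ h c *ᵥ v = Eh ρ h c v :=
  conjE_mulVec ρ h c v

lemma Eh_add (h : GL ι F) (c : L) (v w : ι → F) : Eh ρ h c (v + w) = Eh ρ h c v + Eh ρ h c w := by
  unfold Eh
  rw [act_add, Matrix.mulVec_add, act_add]

lemma Eh_sub (h : GL ι F) (c : L) (v w : ι → F) : Eh ρ h c (v - w) = Eh ρ h c v - Eh ρ h c w := by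
  unfold Eh
  rw [act_sub, Matrix.mulVec_sub, act_sub]

lemma Eh_zero (h : GL ι F) (c : L) : Eh ρ h c 0 = 0 := by
  unfold Eh
  rw [act_zero, Matrix.mulVec_zero, act_zero]

lemma Eh_one (c : L) (v : ι → F) : Eh ρ (1 : GL ι F) c v = ρ c *ᵥ v := by
  unfold Eh
  simp

section
variable (S : SpStr ρ f τ B) (H : Subgroup (GL ι F)) (hH : H ≤ isom f)
  (hno : ∀ h h' v v', ¬ TPair ρ f H h h' v v')
include S hH hno

lemma Eh_perp {h h' : GL ι F} (hh : h ∈ H) (hh' : h' ∈ H) (c c' : L) (v : ι → F) :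
    f (Eh ρ h c v) (Eh ρ h' c' v) = 0 := by
  by_cases hv : v = 0
  · subst hv
    rw [Eh_zero, map_zero, LinearMap.zero_apply]
  by_contra hne
  apply hno h h' (act h⁻¹ v) (act h'⁻¹ v)
  refine ⟨hh, hh', ?_, ?_, ?_, ?_⟩
  · rw [Ne, act_eq_zero_iff]; exact hv
  · rw [Ne, act_eq_zero_iff]; exact hv
  · intro hbot
    have hv1 : v ∈ Img ρ h (act h⁻¹ v) := by
      rw [mem_Img]
      exact ⟨1, by rw [rho_one_mulVec, act_act_inv]⟩
    have hv2 : v ∈ Img ρ h' (act h'⁻¹ v) := by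
      rw [mem_Img]
      exact ⟨1, by rw [rho_one_mulVec, act_act_inv]⟩
    have : v ∈ Img ρ h (act h⁻¹ v) ⊓ Img ρ h' (act h'⁻¹ v) := ⟨hv1, hv2⟩
    rw [hbot] at this
    exact hv ((Submodule.mem_bot F).1 this)
  · refine ⟨Eh ρ h c v, ?_, Eh ρ h' c' v, ?_, hne⟩
    · rw [mem_Img]; exact ⟨c, rfl⟩
    · rw [mem_Img]; exact ⟨c', rfl⟩

omit hno in
lemma Eh_sa {h : GL ι F} (hh : h ∈ H) (c : L) (v w : ι → F) :
    f (Eh ρ h c v) w = f v (Eh ρ h c w) := by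
  have hi := hH hh
  have h1 : f (Eh ρ h c v) w = f (ρ c *ᵥ act h⁻¹ v) (act h⁻¹ w) := by
    have := hi (ρ c *ᵥ act h⁻¹ v) (act h⁻¹ w)
    rw [act_act_inv] at this
    exact this
  have h2 : f v (Eh ρ h c w) = f (act h⁻¹ v) (ρ c *ᵥ act h⁻¹ w) := by
    have := hi (act h⁻¹ v) (ρ c *ᵥ act h⁻¹ w)
    rw [act_act_inv] at this
    exact this
  rw [h1, h2, f_rho_left S, f_rho_right S]

lemma Eh_comm {h h' : GL ι F} (hh : h ∈ H) (hh' : h' ∈ H) (c c' : L) (v : ι → F) :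
    Eh ρ h c (Eh ρ h' c' v) = Eh ρ h' c' (Eh ρ h c v) := by
  by_contra hne
  have hne' : Eh ρ h' c' (Eh ρ h c v) - Eh ρ h c (Eh ρ h' c' v) ≠ 0 := by
    intro h0
    exact hne (sub_eq_zero.1 h0).symm
  obtain ⟨w, hw⟩ := S.nondeg _ hne'
  apply hw
  have hpol : f (Eh ρ h c v) (Eh ρ h' c' w) + f (Eh ρ h c w) (Eh ρ h' c' v) = 0 := by
    have h1 := Eh_perp S H hH hno hh hh' c c' (v + w)
    have h2 := Eh_perp S H hH hno hh hh' c c' v
    have h3 := Eh_perp S H hH hno hh hh' c c' w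
    simp only [Eh_add, map_add, LinearMap.add_apply] at h1
    rw [h2, h3] at h1
    linear_combination h1
  rw [map_sub, LinearMap.sub_apply, Eh_sa S H hH hh' c' (Eh ρ h c v) w,
    Eh_sa S H hH hh c (Eh ρ h' c' v) w, f_skew S (Eh ρ h' c' v) (Eh ρ h c w)]
  rw [sub_neg_eq_add]
  exact hpol

end

theorem identity_of_noT_aux (S : SpStr ρ f τ B) (hι : ∃ v : ι → F, v ≠ 0) (H : Subgroup (GL ι F))
    (hSpL : SpL ρ B ≤ H) (hH : H ≤ isom f) (hno : ∀ h h' v v', ¬ TPair ρ f H h h' v v')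
    (hroot : ∀ (u : ι → F) (a : L), ∃ g : GL ι F, IsRoot ρ B u a g ∧ IsRoot ρ B u (-a) g⁻¹ ∧
      g ∈ SpL ρ B)
    (g : GL ι F) (hg : g ∈ H) :
    (∀ c a v, conjE ρ g c *ᵥ (ρ a *ᵥ v) = ρ a *ᵥ (conjE ρ g c *ᵥ v)) ∧
    (∀ c v w, B (conjE ρ g c *ᵥ v) w = B v (conjE ρ g c *ᵥ w)) ∧
    (∀ c u v, ρ (2 * B (conjE ρ g c *ᵥ v) u) *ᵥ (conjE ρ g c *ᵥ u)
        - ρ (B (conjE ρ g c *ᵥ (conjE ρ g c *ᵥ v)) u) *ᵥ u
        - ρ (B v u) *ᵥ (conjE ρ g c *ᵥ (conjE ρ g c *ᵥ u)) = 0) := by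
  obtain ⟨v₀, hv₀⟩ := hι
  have hτ : τ ≠ 0 := tau_ne S hv₀
  have h1H : (1 : GL ι F) ∈ H := H.one_mem
  -- L-linearity
  have hlin : ∀ c a v, Eh ρ g c (ρ a *ᵥ v) = ρ a *ᵥ Eh ρ g c v := by
    intro c a v
    have := Eh_comm S H hH hno hg h1H c a v
    rw [Eh_one, Eh_one] at this
    exact this
  -- B-self-adjointness
  have hsa : ∀ c v w, B (Eh ρ g c v) w = B v (Eh ρ g c w) := by
    intro c v w
    have key : ∀ a, τ (a * (B (Eh ρ g c v) w - B v (Eh ρ g c w))) = 0 := by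
      intro a
      rw [mul_sub, map_sub, ← f_rho_left S, ← f_rho_left S, ← hlin, Eh_sa S H hH hg, sub_self]
    exact sub_eq_zero.1 (tau_sep hτ _ key)
  -- B(Ev,v) = 0
  have hEalt : ∀ c v, B (Eh ρ g c v) v = 0 := by
    intro c v
    apply tau_sep hτ
    intro a
    rw [← f_rho_right S]
    have := Eh_perp S H hH hno hg h1H c a v
    rw [Eh_one] at this
    exact this
  refine ⟨?_, ?_, ?_⟩
  · intro c a v
    rw [conjE_mulVec', conjE_mulVec']
    exact hlin c a v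
  · intro c v w
    rw [conjE_mulVec', conjE_mulVec']
    exact hsa c v w
  · intro c u v
    simp only [conjE_mulVec']
    obtain ⟨t, ht, hti, htS⟩ := hroot u 1
    have htH : t * g ∈ H := H.mul_mem (hSpL htS) hg
    -- `Eh (t g) c w = t (E (t⁻¹ w))`
    have hconj : ∀ w, Eh ρ (t * g) c w = act t (Eh ρ g c (act t⁻¹ w)) := by
      intro w
      unfold Eh
      rw [_root_.mul_inv_rev, act_mul, act_mul]
    have hcomm := Eh_comm S H hH hno hg htH c c (act t v)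
    rw [hconj, hconj, act_inv_act] at hcomm
    -- explicit forms of `t`, `t⁻¹`
    have ht' : ∀ w, act t w = w + ρ (B w u) *ᵥ u := by
      intro w
      rw [ht w, one_mul]
    have hti' : ∀ w, act t⁻¹ w = w - ρ (B w u) *ᵥ u := by
      intro w
      rw [hti w, neg_one_mul, rho_neg_mulVec, sub_eq_add_neg]
    -- abbreviations
    set E := Eh ρ g c with hE
    have hEadd : ∀ x y, E (x + y) = E x + E y := fun x y => Eh_add g c x y
    have hEsub : ∀ x y, E (x - y) = E x - E y := fun x y => Eh_sub g c x y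
    have hElin : ∀ a x, E (ρ a *ᵥ x) = ρ a *ᵥ E x := fun a x => hlin c a x
    have hEu : B (E u) u = 0 := hEalt c u
    -- LHS: E (t (E v))  (since `t⁻¹ (t v) = v`)
    -- RHS: t (E (t⁻¹ (E (t v))))
    have hL : E (act t (E v)) = E (E v) + ρ (B (E v) u) *ᵥ E u := by
      rw [ht', hEadd, hElin]
    have hR : act t (E (act t⁻¹ (E (act t v)))) =
        E (E v) + ρ (B v u) *ᵥ E (E u) - ρ (B (E v) u) *ᵥ E u
          + ρ (B (E (E v)) u) *ᵥ u := by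
      have e1 : E (act t v) = E v + ρ (B v u) *ᵥ E u := by
        rw [ht', hEadd, hElin]
      have e2 : act t⁻¹ (E (act t v)) = E v + ρ (B v u) *ᵥ E u - ρ (B (E v) u) *ᵥ u := by
        rw [hti', e1, map_add, LinearMap.add_apply, S.lin, hEu, mul_zero, add_zero]
      have e3 : E (act t⁻¹ (E (act t v))) =
          E (E v) + ρ (B v u) *ᵥ E (E u) - ρ (B (E v) u) *ᵥ E u := by
        rw [e2, hEsub, hEadd, hElin, hElin]
      rw [ht', e3]
      have e4 : B (E (E v) + ρ (B v u) *ᵥ E (E u) - ρ (B (E v) u) *ᵥ E u) u = B (E (E v)) u := by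
        rw [map_sub, LinearMap.sub_apply, map_add, LinearMap.add_apply, S.lin, S.lin, hEu,
          mul_zero, sub_zero]
        have : B (E (E u)) u = 0 := by
          have h' := hsa c (E u) u
          rw [h']
          exact S.alt _
        rw [this, mul_zero, add_zero]
      rw [e4]
    rw [hL, hR] at hcomm
    -- conclude
    have h2 : ρ (2 * B (E v) u) *ᵥ E u = ρ (B (E v) u) *ᵥ E u + ρ (B (E v) u) *ᵥ E u := by
      rw [two_mul, rho_add_mulVec]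
    rw [h2]
    have := hcomm
    -- `E(Ev) + b∙Eu = E(Ev) + a∙EEu - b∙Eu + d∙u`
    have key : ρ (B (E v) u) *ᵥ E u + ρ (B (E v) u) *ᵥ E u
        - ρ (B (E (E v)) u) *ᵥ u - ρ (B v u) *ᵥ E (E u) =
        (E (E v) + ρ (B (E v) u) *ᵥ E u) -
          (E (E v) + ρ (B v u) *ᵥ E (E u) - ρ (B (E v) u) *ᵥ E u
            + ρ (B (E (E v)) u) *ᵥ u) := by
      abel
    rw [key, ← hcomm, sub_self]

end Cfsg.Agent.Lib.Helper7.SpExt
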