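import Mathlib
import Cfsg.Agent.Lib.Helper7.SpExtDefs
import Cfsg.Agent.Lib.Helper7.SpExtRel
import Cfsg.Agent.Lib.Helper7.SpExtBas
import Cfsg.Agent.Lib.Helper7.SpExtIa
import Cfsg.Agent.H5.S5664FOIV
import Cfsg.Agent.Lib.Helper18.S5664FOALG
import Cfsg.Agent.Lib.Helper18.S5664FOIIalg
import Cfsg.Agent.Lib.Helper21.S5664FOBASb
import Cfsg.Agent.Lib.Helper22.S5664FOIIa
import Cfsg.Agent.Lib.Helper22.S5664FOIIbFinal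
import Cfsg.Agent.H5.S5664FOIb
import Cfsg.Agent.Lib.Helper10.S5664FO22c
import Cfsg.Agent.Lib.Helper21.S5664FOROOT
import Cfsg.Agent.Lib.Helper26.S5664FOG0124
import Cfsg.Agent.Lib.Helper26.S5664FOG3
import Cfsg.Agent.Lib.Helper27.S5664FO22b

/-!
# S5664: abstract main theorem (assembly of the farmed-out pieces; architect helper7)

`SpL ρ B ≤ H ≤ isom f` and some `g ∈ H` does not normalise the field `ρ L` ⇒ `H` contains every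
`F`-transvection of `f`.  See `notes/S5664Skel_helper7.lean.txt` for the proof.
-/

set_option autoImplicit false

namespace Cfsg.Agent.Lib.Helper7.SpExtMain

open Matrix Module Cfsg.Agent.Lib.Helper7.SpExt

variable {F : Type*} [Field F] [Fintype F] {L : Type*} [Field L] [Algebra F L] {ι : Type} [Fintype ι]
  [DecidableEq ι] {ρ : L →ₐ[F] Matrix ι ι F} {f : (ι → F) →ₗ[F] (ι → F) →ₗ[F] F} {τ : L →ₗ[F] F}
  {B : (ι → F) →ₗ[F] (ι → F) →ₗ[F] L} {r : ℕ}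

-- the farmed-out pieces, restated with the skeleton signatures
theorem exists_root (S : SpStr ρ f τ B) (u : ι → F) (a : L) :
    ∃ g : GL ι F, IsRoot ρ B u a g ∧ IsRoot ρ B u (-a) g⁻¹ ∧ g ∈ SpL ρ B :=
  Cfsg.Agent.Lib.Helper21.S5664ROOT.exists_root S u a

theorem exists_SpL_map (S : SpStr ρ f τ B) {v w : ι → F} (hv : v ≠ 0) (hw : w ≠ 0) :
    ∃ h ∈ SpL ρ B, act h v = w :=
  Cfsg.Agent.Lib.Helper21.S5664ROOT.exists_SpL_map S hv hw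

theorem scalar_of_identity (S : SpStr ρ f τ B) (hrk : finrank F L = r) (hr : 0 < r)
    (hι : ∃ v : ι → F, v ≠ 0) (E : L → Matrix ι ι F)
    (hmul : ∀ c d, E (c * d) = E c * E d)
    (hlin : ∀ c a v, E c *ᵥ (ρ a *ᵥ v) = ρ a *ᵥ (E c *ᵥ v))
    (hsa : ∀ c v w, B (E c *ᵥ v) w = B v (E c *ᵥ w))
    (hid : ∀ c u v, ρ (2 * B (E c *ᵥ v) u) *ᵥ (E c *ᵥ u)
        - ρ (B (E c *ᵥ (E c *ᵥ v)) u) *ᵥ u
        - ρ (B v u) *ᵥ (E c *ᵥ (E c *ᵥ u)) = 0) :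
    ∀ c, ∃ μ : L, E c = ρ μ :=
  Cfsg.H5.S5664Ib.scalar_of_identity S hrk hr hι E hmul hlin hsa hid

theorem config_of_max (S : SpStr ρ f τ B) (hr : r.Prime) (hrk : finrank F L = r)
    (H : Subgroup (GL ι F)) (hSpL : SpL ρ B ≤ H) (hH : H ≤ isom f)
    (v₁ v₀ : ι → F) (g₀ : GL ι F) (hg₀ : g₀ ∈ H) (hv₁ : v₁ ≠ 0) (hv₀ : v₀ ≠ 0)
    (hne : pt ρ v₁ ⊓ Img ρ g₀ v₀ ≠ ⊥)
    (hf : ∃ x ∈ pt ρ v₁, ∃ y ∈ Img ρ g₀ v₀, f x y ≠ 0)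
    (hmax : ∀ k k' w w', TPair ρ f H k k' w w' →
        finrank F ↥(Img ρ k w ⊓ Img ρ k' w') ≤ finrank F ↥(pt ρ v₁ ⊓ Img ρ g₀ v₀)) :
    Config ρ f H r v₁ v₀ g₀ :=
  Cfsg.Agent.Lib.Helper22.S5664II.config_of_max S hr hrk H hSpL hH v₁ v₀ g₀ hg₀ hv₁ hv₀ hne hf hmax

theorem inM_add (S : SpStr ρ f τ B) (H : Subgroup (GL ι F)) (g₀ : GL ι F) (v₀ : ι → F)
    (M M' : L →ₗ[F] L) (hM : InM ρ B H g₀ v₀ M) (hM' : InM ρ B H g₀ v₀ M') :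
    InM ρ B H g₀ v₀ (M + M') :=
  Cfsg.Agent.Lib.Helper26.S5664G.inM_add S H g₀ v₀ M M' hM hM'

theorem inM_neg (S : SpStr ρ f τ B) (H : Subgroup (GL ι F)) (g₀ : GL ι F) (v₀ : ι → F)
    (M : L →ₗ[F] L) (hM : InM ρ B H g₀ v₀ M) : InM ρ B H g₀ v₀ (-M) :=
  Cfsg.Agent.Lib.Helper26.S5664G.inM_neg S H g₀ v₀ M hM

theorem inM_mulLeft (S : SpStr ρ f τ B) (H : Subgroup (GL ι F)) (hSpL : SpL ρ B ≤ H)
    (g₀ : GL ι F) (hg₀ : g₀ ∈ H) (v₀ : ι → F) (b : L) :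
    InM ρ B H g₀ v₀ (LinearMap.mulLeft F b) :=
  Cfsg.Agent.Lib.Helper26.S5664G.inM_mulLeft S H hSpL g₀ hg₀ v₀ b

theorem inM_torus (S : SpStr ρ f τ B) (H : Subgroup (GL ι F)) (hSpL : SpL ρ B ≤ H)
    (g₀ : GL ι F) (hg₀ : g₀ ∈ H) (v₀ : ι → F) (hv₀ : v₀ ≠ 0) (M : L →ₗ[F] L)
    (hM : InM ρ B H g₀ v₀ M) (c : L) (hc : c ≠ 0) :
    InM ρ B H g₀ v₀ (LinearMap.mulLeft F c ∘ₗ M ∘ₗ LinearMap.mulLeft F c) :=
  Cfsg.Agent.Lib.Helper26.S5664G.inM_torus S H hSpL g₀ hg₀ v₀ hv₀ M hM c hc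

theorem tv_of_inM (S : SpStr ρ f τ B) (H : Subgroup (GL ι F)) (g₀ : GL ι F) (hg₀ : g₀ ∈ isom f)
    (v₀ : ι → F) (κ₀ : F)
    (hM : InM ρ B H g₀ v₀ (κ₀ • (LinearMap.toSpanSingleton F L 1 ∘ₗ τ))) :
    ∀ g : GL ι F, IsTv f (act g₀ v₀) κ₀ g → g ∈ H :=
  Cfsg.Agent.Lib.Helper26.S5664G.tv_of_inM S H g₀ hg₀ v₀ κ₀ hM

theorem inM_sieg (S : SpStr ρ f τ B) (hr : r.Prime) (hrk : finrank F L = r)
    (H : Subgroup (GL ι F)) (hSpL : SpL ρ B ≤ H) (hH : H ≤ isom f)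
    (v₁ v₀ : ι → F) (g₀ : GL ι F) (hc : Config ρ f H r v₁ v₀ g₀) :
    ∃ (z : L) (D₂ : Submodule F L), z ≠ 0 ∧ finrank F ↥D₂ + 1 = r ∧
      ∀ M : L →ₗ[F] L, InM ρ B H g₀ v₀ M → ∀ d ∈ D₂,
        InM ρ B H g₀ v₀ (addRk (τ ∘ₗ LinearMap.mulLeft F z) d ∘ₗ M ∘ₗ
          addRk (τ ∘ₗ LinearMap.mulLeft F d) z) :=
  Cfsg.Agent.Lib.Helper26.S5664G.inM_sieg S hr hrk H hSpL hH v₁ v₀ g₀ hc

theorem rel_all (S : SpStr ρ f τ B) (hrk : finrank F L = 2) (hq : Fintype.card F = 2)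
    (H : Subgroup (GL ι F)) (hSpL : SpL ρ B ≤ H) (hH : H ≤ isom f)
    (v₁ v₀ : ι → F) (g₀ : GL ι F) (hc : Config ρ f H 2 v₁ v₀ g₀) :
    ∀ x y : ι → F, x ≠ 0 → y ≠ 0 → Rel f H x y :=
  Cfsg.Agent.Lib.Helper27.S5664FO22b.rel_all S hrk hq H hSpL hH v₁ v₀ g₀ hc

theorem hasTv_of_rel_all (S : SpStr ρ f τ B) (hrk : finrank F L = 2) (hq : Fintype.card F = 2)
    (hn : 6 ≤ Fintype.card ι) (H : Subgroup (GL ι F))
    (hall : ∀ x y : ι → F, x ≠ 0 → y ≠ 0 → Rel f H x y) : HasTv f H :=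
  Cfsg.Agent.Lib.Helper10.S5664FO22c.hasTv_of_rel_all S hrk hq hn H hall

theorem identity_of_noT (S : SpStr ρ f τ B) (hι : ∃ v : ι → F, v ≠ 0) (H : Subgroup (GL ι F))
    (hSpL : SpL ρ B ≤ H) (hH : H ≤ isom f) (hno : ∀ h h' v v', ¬ TPair ρ f H h h' v v')
    (g : GL ι F) (hg : g ∈ H) :
    (∀ c a v, conjE ρ g c *ᵥ (ρ a *ᵥ v) = ρ a *ᵥ (conjE ρ g c *ᵥ v)) ∧
    (∀ c v w, B (conjE ρ g c *ᵥ v) w = B v (conjE ρ g c *ᵥ w)) ∧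
    (∀ c u v, ρ (2 * B (conjE ρ g c *ᵥ v) u) *ᵥ (conjE ρ g c *ᵥ u)
        - ρ (B (conjE ρ g c *ᵥ (conjE ρ g c *ᵥ v)) u) *ᵥ u
        - ρ (B v u) *ᵥ (conjE ρ g c *ᵥ (conjE ρ g c *ᵥ u)) = 0) :=
  identity_of_noT_aux S hι H hSpL hH hno (exists_root S) g hg

theorem forall_tv_of_hasTv (S : SpStr ρ f τ B) (H : Subgroup (GL ι F)) (hSpL : SpL ρ B ≤ H)
    (hH : H ≤ isom f) (htv : HasTv f H) : ∀ u c g, IsTv f u c g → g ∈ H :=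
  Cfsg.H5.S5664IV.forall_tv_aux S H hSpL hH (fun v w hv hw => exists_SpL_map S hv hw) htv

theorem exists_max_pair (S : SpStr ρ f τ B) (H : Subgroup (GL ι F)) (hH : H ≤ isom f)
    (h h' : GL ι F) (v v' : ι → F) (hT : TPair ρ f H h h' v v') :
    ∃ (v₁ v₀ : ι → F) (g₀ : GL ι F), g₀ ∈ H ∧ v₁ ≠ 0 ∧ v₀ ≠ 0 ∧ pt ρ v₁ ⊓ Img ρ g₀ v₀ ≠ ⊥ ∧
      (∃ x ∈ pt ρ v₁, ∃ y ∈ Img ρ g₀ v₀, f x y ≠ 0) ∧
      ∀ k k' w w', TPair ρ f H k k' w w' →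
        finrank F ↥(Img ρ k w ⊓ Img ρ k' w') ≤ finrank F ↥(pt ρ v₁ ⊓ Img ρ g₀ v₀) :=
  Cfsg.Agent.Lib.Helper22.S5664II.exists_max_pair S H hH h h' v v' hT

theorem alg_rank_one (τ : L →ₗ[F] F) (hτ : τ ≠ 0) (z : L) (hz : z ≠ 0) (D₂ : Submodule F L)
    (d d' : L) (hd : d ∈ D₂) (hd' : d' ∈ D₂) (hd0 : d ≠ 0) (hd'0 : d' ≠ 0) (hne : d ≠ d')
    (P : (L →ₗ[F] L) → Prop) (hadd : ∀ M M', P M → P M' → P (M + M')) (hneg : ∀ M, P M → P (-M))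
    (h1 : ∀ b : L, P (LinearMap.mulLeft F b))
    (h2 : ∀ M, P M → ∀ c : L, c ≠ 0 → P (LinearMap.mulLeft F c ∘ₗ M ∘ₗ LinearMap.mulLeft F c))
    (h3 : ∀ M, P M → ∀ d ∈ D₂, P (addRk (τ ∘ₗ LinearMap.mulLeft F z) d ∘ₗ M ∘ₗ
          addRk (τ ∘ₗ LinearMap.mulLeft F d) z)) :
    ∃ κ₀ : F, κ₀ ≠ 0 ∧ P (κ₀ • (LinearMap.toSpanSingleton F L 1 ∘ₗ τ)) :=
  Cfsg.Agent.Lib.Helper18.S5664FOALG.alg_rank_one τ hτ z hz D₂ d d' hd hd' hd0 hd'0 hne P hadd hneg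
    h1 h2 h3

theorem exists_two (hr : r.Prime) (hq : ¬ (r = 2 ∧ Fintype.card F = 2)) (D₂ : Submodule F L)
    (hD : finrank F ↥D₂ + 1 = r) :
    ∃ d ∈ D₂, ∃ d' ∈ D₂, d ≠ 0 ∧ d' ≠ 0 ∧ d ≠ d' :=
  Cfsg.Agent.Lib.Helper18.S5664FOALG.exists_two hr hq D₂ hD

theorem hasTv_of_config_22 (S : SpStr ρ f τ B) (hrk : finrank F L = 2) (hq : Fintype.card F = 2)
    (hn : 6 ≤ Fintype.card ι) (H : Subgroup (GL ι F)) (hSpL : SpL ρ B ≤ H) (hH : H ≤ isom f)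
    (v₁ v₀ : ι → F) (g₀ : GL ι F) (hc : Config ρ f H 2 v₁ v₀ g₀) : HasTv f H :=
  hasTv_of_rel_all S hrk hq hn H (rel_all S hrk hq H hSpL hH v₁ v₀ g₀ hc)

theorem main (S : SpStr ρ f τ B) (hr : r.Prime) (hrk : finrank F L = r)
    (hn : 6 ≤ Fintype.card ι) (H : Subgroup (GL ι F)) (hSpL : SpL ρ B ≤ H) (hH : H ≤ isom f)
    (g : GL ι F) (hg : g ∈ H) (hgN : ¬ Normalizes ρ g) :
    ∀ u c g', IsTv f u c g' → g' ∈ H := by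
  classical
  have hι : ∃ v : ι → F, v ≠ 0 := by
    have : 0 < Fintype.card ι := by omega
    obtain ⟨i⟩ := Fintype.card_pos_iff.1 this
    refine ⟨Pi.single i 1, ?_⟩
    intro h
    have := congrFun h i
    simp at this
  by_cases hT : ∃ h h' v v', TPair ρ f H h h' v v'
  · obtain ⟨h, h', v, v', hT⟩ := hT
    obtain ⟨v₁, v₀, g₀, hg₀, hv₁, hv₀, hne, hf, hmax⟩ := exists_max_pair S H hH h h' v v' hT
    have hc : Config ρ f H r v₁ v₀ g₀ :=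
      config_of_max S hr hrk H hSpL hH v₁ v₀ g₀ hg₀ hv₁ hv₀ hne hf hmax
    have htv : HasTv f H := by
      by_cases h22 : r = 2 ∧ Fintype.card F = 2
      · obtain ⟨rfl, hq⟩ := h22
        exact hasTv_of_config_22 S hrk hq hn H hSpL hH v₁ v₀ g₀ hc
      · obtain ⟨z, D₂, hz, hD, h3⟩ := inM_sieg S hr hrk H hSpL hH v₁ v₀ g₀ hc
        obtain ⟨d, hd, d', hd', hd0, hd'0, hdd⟩ := exists_two hr h22 D₂ hD
        obtain ⟨κ₀, hκ₀, hP⟩ := alg_rank_one τ (tau_ne S hv₀) z hz D₂ d d' hd hd' hd0 hd'0 hdd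
          (InM ρ B H g₀ v₀) (inM_add S H g₀ v₀) (inM_neg S H g₀ v₀)
          (inM_mulLeft S H hSpL g₀ hg₀ v₀)
          (fun M hM c hc' => inM_torus S H hSpL g₀ hg₀ v₀ hv₀ M hM c hc') h3
        refine ⟨act g₀ v₀, κ₀, ?_, hκ₀, tv_of_inM S H g₀ (hH hg₀) v₀ κ₀ hP⟩
        rw [Ne, act_eq_zero_iff]
        exact hv₀
    exact forall_tv_of_hasTv S H hSpL hH htv
  · exfalso
    apply hgN
    have hno : ∀ h h' v v', ¬ TPair ρ f H h h' v v' := by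
      intro h h' v v' hh
      exact hT ⟨h, h', v, v', hh⟩
    obtain ⟨h1, h2, h3⟩ := identity_of_noT S hι H hSpL hH hno g hg
    have hmul : ∀ c d, conjE ρ g (c * d) = conjE ρ g c * conjE ρ g d := by
      intro c d
      unfold conjE
      rw [map_mul]
      have e : ((g⁻¹ : GL ι F) : Matrix ι ι F) * (g : Matrix ι ι F) = 1 := by
        rw [← Units.val_mul, inv_mul_cancel, Units.val_one]
      calc (g : Matrix ι ι F) * (ρ c * ρ d) * ((g⁻¹ : GL ι F) : Matrix ι ι F)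
          = (g : Matrix ι ι F) * ρ c * 1 * ρ d * ((g⁻¹ : GL ι F) : Matrix ι ι F) := by
            simp [Matrix.mul_assoc]
        _ = (g : Matrix ι ι F) * ρ c * ((g⁻¹ : GL ι F) : Matrix ι ι F) *
            ((g : Matrix ι ι F) * ρ d * ((g⁻¹ : GL ι F) : Matrix ι ι F)) := by
            rw [← e]
            simp [Matrix.mul_assoc]
    have hsc := scalar_of_identity S hrk hr.pos hι (conjE ρ g) hmul h1 h2 h3
    intro a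
    obtain ⟨μ, hμ⟩ := hsc a
    refine ⟨μ, ?_⟩
    rw [← hμ]
    unfold conjE
    have e : ((g⁻¹ : GL ι F) : Matrix ι ι F) * (g : Matrix ι ι F) = 1 := by
      rw [← Units.val_mul, inv_mul_cancel, Units.val_one]
    rw [Matrix.mul_assoc, e, Matrix.mul_one]


end Cfsg.Agent.Lib.Helper7.SpExtMain
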