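import Cfsg.Agent.Lib.Helper7.Sz8Upper
import Cfsg.Agent.Lib.Helper7.Sz8Model
import Cfsg.Agent.Lib.Helper17.Sz8S3
import Cfsg.Agent.Lib.Helper20.Sz8E

/-!
# S2112: the abstract main theorem (helper7)

A group with an `IsSz8Triple` none of whose finite stem extensions has a kernel of odd prime order has Schur
multiplier `C₂ × C₂`.
-/

set_option autoImplicit false

namespace Cfsg.Agent.Lib.Helper7.Sz8

open Cfsg Cfsg.H5.TCk

universe u

/-- [E] existence: the group presented by `relsHat` is a stem extension with kernel `C₂ × C₂` -/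
theorem exists_cover {G : Type u} [Group G] (g : ℕ → G) (hg : IsSz8Triple g) :
    ∃ (Γ : Type u) (_ : Group Γ) (_ : Finite Γ) (σ : Γ →* G), IsStemExtension σ ∧
      Nonempty (σ.ker ≃* Multiplicative (ZMod 2 × ZMod 2)) :=
  exists_cover_of (fun _ _ q => card_le_of_relsG q) exists_model g hg

/-- the abstract main theorem -/
theorem hasSchurMultiplier_of_triple {G : Type u} [Group G] (g : ℕ → G) (hg : IsSz8Triple g)
    (hodd : ∀ (Γ : Type u) [Group Γ] [Finite Γ] (σ : Γ →* G), IsStemExtension σ →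
      ∀ p : ℕ, p.Prime → p ≠ 2 → Nat.card σ.ker ≠ p) :
    HasSchurMultiplier G (Multiplicative (ZMod 2 × ZMod 2)) := by
  refine ⟨exists_cover g hg, fun Γ _ _ σ hσ => ?_⟩
  exact upper g hg σ hσ (isPGroup_two_ker hodd σ hσ)

end Cfsg.Agent.Lib.Helper7.Sz8
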