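import Cfsg.Agent.Lib.Helper7.Sz8Data

/-! Todd-Coxeter certificate B for S2112 (generated; helper5's TCk format). -/

set_option autoImplicit false

namespace Cfsg.Agent.Lib.Helper7.Sz8

open Cfsg.H5.TCk

set_option maxRecDepth 1000000 in
def tcDefsB : List (ℕ × ℕ) := [(0, 2), (0, 3), (1, 0), (1, 1), (1, 2), (2, 0), (2, 1), (2, 3), (3, 0), (3, 2), (3, 3), (4, 1), (4, 2), (4, 3), (5, 0), (5, 1), (5, 2), (6, 0), (6, 3), (7, 1), (7, 2), (8, 0), (8, 1), (8, 3), (9, 2), (9, 3), (10, 2), (11, 0), (11, 1), (11, 3), (12, 2), (12, 3), (13, 0), (13, 1), (13, 2), (14, 3), (15, 0), (15, 2), (15, 3), (16, 1), (16, 2), (16, 3), (17, 0), (17, 2), (18, 0), (18, 2), (18, 3), (19, 0), (19, 1), (19, 3), (20, 1), (20, 2), (21, 2), (22, 0), (22, 2), (23, 3), (24, 1), (25, 1), (26, 3), (27, 0), (28, 0), (28, 3), (29, 2), (30, 0), (30, 3), (32, 3), (33, 0), (39, 1)]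

set_option maxRecDepth 1000000 in
def tcLogB : List ℕ := [
  2, 0, 4, 8, 12, 16, 20, 24, 21990240944129, 28, 32, 36, 8796101410821, 40, 44, 48, 52, 56, 60, 64, 
  26388291649537, 68, 72, 76, 80, 8388693, 13194139533317, 84, 88, 92, 96, 17592194433065, 100, 104, 
  108, 21990240944141, 112, 116, 120, 124, 128, 132, 136, 140, 144, 148, 152, 156, 160, 164, 168, 
  172, 17592194433041, 176, 180, 184, 17592194433053, 188, 192, 196, 200, 13194139533321, 
  26388287455305, 8796097216689, 4398054899889, 39582431183025, 30786333966517, 39582431183053, 204, 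
  208, 8796101410837, 13194152116245, 21990240944153, 26388287455297, 35184376283317, 212, 
  8796101410849, 13194152116257, 26388291649549, 4398101037251, 8796147548355, 216, 17592194433033, 
  8796097216733, 220, 39582431182949, 26388291649641, 8796093022349, 17592194433237, 39582431182913, 
  35184376283261, 224, 21990245138437, 17592190238737, 228, 35184376283149, 30786338160689, 
  26388287455293, 35184376283221, 26388287455281, 232, 26388283260933, 13194152116233, 
  39582422794265, 236, 17592186044449, 13194152116313, 240, 8796093022253, 21990240944209, 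
  30786338160721, 244, 26388283260929, 21990236749917, 248, 17592194433061, 8796093022265, 252, 
  4398046511225, 13194147922105, 256, 4398050705485, 35184384671853, 26388287455353, 260, 
  21990236749885, 17592194433093, 13194143727697, 264, 8796097216557, 17592194433069, 13194152116301, 
  268, 17592186044541, 8796097216673]

end Cfsg.Agent.Lib.Helper7.Sz8
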