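import Cfsg.Agent.H5.StemTC
import Cfsg.Agent.Lib.Helper7.Sz8CertA
import Cfsg.Agent.Lib.Helper7.Sz8CertB
import Cfsg.Agent.Lib.Helper7.Sz8CertC

/-!
# S2112: the three Todd–Coxeter bounds (helper7)
-/

set_option autoImplicit false

namespace Cfsg.Agent.Lib.Helper7.Sz8

open Cfsg.H5.TCk

universe u

set_option maxRecDepth 1000000 in
theorem tcA_ok : check 24 6 (2 * 3) 118 65 tcDefsA relsG [[0], [2]] tcLogA = true := by
  decide +kernel

set_option maxRecDepth 1000000 in
theorem tcB_ok : check 24 6 (2 * 2) 69 64 tcDefsB relsB [[0]] tcLogB = true := by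
  decide +kernel

set_option maxRecDepth 1000000 in
theorem tcC_ok : check 24 6 (2 * 2) 398 64 tcDefsC relsC [[0]] tcLogC = true := by
  decide +kernel

end Cfsg.Agent.Lib.Helper7.Sz8

namespace Cfsg.Agent.Lib.Helper7.Sz8

open Cfsg.H5.TCk

universe u

namespace Card

theorem ev_congr_lt {Γ : Type*} [Group Γ] (g g' : ℕ → Γ) (t : ℕ) (h : ∀ i < t, g i = g' i) (w : List ℕ)
    (hw : w.all (fun l => decide (l < 2 * t)) = true) : ev g w = ev g' w := by
  induction w with
  | nil => rfl
  | cons l w ih =>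
    rw [List.all_cons, Bool.and_eq_true] at hw
    have hl : l < 2 * t := of_decide_eq_true hw.1
    have h2 : l / 2 < t := by omega
    simp only [ev, ih hw.2]
    congr 1
    unfold gl
    rw [h _ h2]

theorem ev_single {Γ : Type*} [Group Γ] (g : ℕ → Γ) (i : ℕ) : ev g [2 * i] = g i := by
  simp only [ev, mul_one]
  exact Cfsg.H5.TCk.gl_even g i

theorem pow_seven {Γ : Type*} [Group Γ] (g : ℕ → Γ) (h : ev g relH1 = 1) : g 0 ^ 7 = 1 := by
  have h0 : gl g 0 = g 0 := Cfsg.H5.TCk.gl_even g 0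
  simp only [relH1, ev, h0, mul_one] at h
  rw [← h]
  simp only [pow_succ, pow_zero, one_mul, mul_assoc]

theorem card_zpowers_le {Γ : Type*} [Group Γ] (x : Γ) (h : x ^ 7 = 1) :
    Finite (Subgroup.zpowers x) ∧ Nat.card (Subgroup.zpowers x) ≤ 7 := by
  have hfin : IsOfFinOrder x := isOfFinOrder_iff_pow_eq_one.mpr ⟨7, by norm_num, h⟩
  refine ⟨?_, ?_⟩
  · exact Nat.finite_of_card_ne_zero (by rw [Nat.card_zpowers]; exact (orderOf_pos_iff.mpr hfin).ne')
  · rw [Nat.card_zpowers]
    exact Nat.le_of_dvd (by norm_num) (orderOf_dvd_of_pow_eq_one h)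

/-- generic: two generators, relators containing `h₁⁷`, certificate over `⟨h₁⟩` with `64` cosets -/
theorem card_le_two {Q : Type u} [Group Q] (q : ℕ → Q)
    (hgen : Subgroup.closure (Set.range fun i : Fin 2 => q i.val) = ⊤)
    (rels : List (List ℕ)) (hrel : ∀ r ∈ rels, ev q r = 1) (h7 : q 0 ^ 7 = 1)
    (ncos : ℕ) (defs : List (ℕ × ℕ)) (log : List ℕ)
    (hchk : check 24 6 (2 * 2) ncos 64 defs rels [[0]] log = true) :
    Finite Q ∧ Nat.card Q ≤ 448 := by
  obtain ⟨hf, hc⟩ := card_zpowers_le (q 0) h7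
  have hsg : ∀ g ∈ [[0]], ev q g ∈ Subgroup.zpowers (q 0) := by
    intro g hg
    rw [List.mem_singleton] at hg
    subst hg
    have := ev_single q 0
    rw [Nat.mul_zero] at this
    rw [this]
    exact Subgroup.mem_zpowers _
  obtain ⟨h1, h2⟩ := tc_sound (Subgroup.zpowers (q 0)) q defs rels [[0]] 24 6 2 ncos 64 log hrel hsg
    hgen hchk
  refine ⟨h1, h2.trans ?_⟩
  calc 64 * Nat.card (Subgroup.zpowers (q 0)) ≤ 64 * 7 := Nat.mul_le_mul_left _ hc
    _ = 448 := by norm_num

end Card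

/-- [TB] `⟨h₁, h₂ | relsB⟩` has order at most `448 = 64 · 7` -/
theorem card_le_of_relsB {Q : Type u} [Group Q] (q : ℕ → Q)
    (hgen : Subgroup.closure (Set.range fun i : Fin 2 => q i.val) = ⊤)
    (hrel : ∀ r ∈ relsB, ev q r = 1) : Finite Q ∧ Nat.card Q ≤ 448 :=
  Card.card_le_two q hgen relsB hrel
    (Card.pow_seven q (hrel relH1 (by simp [relsB]))) 69 tcDefsB tcLogB tcB_ok

/-- [TC] the same for `relsC` -/
theorem card_le_of_relsC {Q : Type u} [Group Q] (q : ℕ → Q)
    (hgen : Subgroup.closure (Set.range fun i : Fin 2 => q i.val) = ⊤)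
    (hrel : ∀ r ∈ relsC, ev q r = 1) : Finite Q ∧ Nat.card Q ≤ 448 :=
  Card.card_le_two q hgen relsC hrel
    (Card.pow_seven q (hrel relH1 (by simp [relsC]))) 398 tcDefsC tcLogC tcC_ok

namespace Card

/-- the subgroup generated by the first two generators, with its own generators -/
noncomputable def subGen {Q : Type u} [Group Q] (q : ℕ → Q) (i : ℕ) :
    ↥(Subgroup.closure {q 0, q 1} : Subgroup Q) :=
  if h : i = 0 then ⟨q 0, Subgroup.subset_closure (by simp)⟩
  else if h : i = 1 then ⟨q 1, Subgroup.subset_closure (by simp)⟩ else 1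

theorem subGen_coe {Q : Type u} [Group Q] (q : ℕ → Q) : ∀ i < 2, (subGen q i : Q) = q i := by
  intro i hi
  interval_cases i
  · simp [subGen]
  · simp [subGen]

theorem subGen_gen {Q : Type u} [Group Q] (q : ℕ → Q) :
    Subgroup.closure (Set.range fun i : Fin 2 => subGen q i.val) = ⊤ := by
  have h := Subgroup.closure_closure_coe_preimage (k := ({q 0, q 1} : Set Q))
  rw [← h]
  congr 1
  ext x
  simp only [Set.mem_range, Set.mem_preimage, Set.mem_insert_iff, Set.mem_singleton_iff]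
  constructor
  · rintro ⟨i, rfl⟩
    fin_cases i
    · left; exact subGen_coe q 0 (by norm_num)
    · right; exact subGen_coe q 1 (by norm_num)
  · rintro (h | h)
    · exact ⟨0, Subtype.ext ((subGen_coe q 0 (by norm_num)).trans h.symm)⟩
    · exact ⟨1, Subtype.ext ((subGen_coe q 1 (by norm_num)).trans h.symm)⟩

theorem relsB_letters : ∀ r ∈ relsB, r.all (fun l => decide (l < 2 * 2)) = true := by decide

theorem relsB_sub : ∀ r ∈ relsB, r ∈ relsG := by
  intro r hr
  unfold relsG
  exact List.mem_append_left _ hr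

/-- the subgroup `⟨q₀, q₁⟩` of a group satisfying `relsG` has order at most `448` -/
theorem card_sub_le {Q : Type u} [Group Q] (q : ℕ → Q) (hrel : ∀ r ∈ relsG, ev q r = 1) :
    Finite (Subgroup.closure {q 0, q 1} : Subgroup Q) ∧
      Nat.card (Subgroup.closure {q 0, q 1} : Subgroup Q) ≤ 448 := by
  apply card_le_of_relsB (subGen q) (subGen_gen q)
  intro r hr
  apply Subtype.ext
  have h1 := Cfsg.H5.StemTC.map_ev (Subgroup.closure {q 0, q 1} : Subgroup Q).subtype (subGen q) r
  rw [Subgroup.coe_subtype] at h1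
  rw [h1, Subgroup.coe_one]
  rw [ev_congr_lt (fun i => ((subGen q i : ↥(Subgroup.closure {q 0, q 1} : Subgroup Q)) : Q)) q 2
    (fun i hi => subGen_coe q i hi) r (relsB_letters r hr)]
  exact hrel r (relsB_sub r hr)

/-- index bound from certificate A -/
theorem card_le_mul {Q : Type u} [Group Q] (q : ℕ → Q)
    (hgen : Subgroup.closure (Set.range fun i : Fin 3 => q i.val) = ⊤)
    (hrel : ∀ r ∈ relsG, ev q r = 1) :
    Finite Q ∧ Nat.card Q ≤ 65 * Nat.card (Subgroup.closure {q 0, q 1} : Subgroup Q) := by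
  obtain ⟨hf, _⟩ := card_sub_le q hrel
  have hsg : ∀ g ∈ [[0], [2]], ev q g ∈ (Subgroup.closure {q 0, q 1} : Subgroup Q) := by
    intro g hg
    simp only [List.mem_cons, List.not_mem_nil, or_false] at hg
    rcases hg with rfl | rfl
    · have := ev_single q 0
      rw [Nat.mul_zero] at this
      rw [this]
      exact Subgroup.subset_closure (by simp)
    · have := ev_single q 1
      rw [Nat.mul_one] at this
      rw [this]
      exact Subgroup.subset_closure (by simp)
  exact tc_sound (Subgroup.closure {q 0, q 1} : Subgroup Q) q tcDefsA relsG [[0], [2]] 24 6 3 118 65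
    tcLogA hrel hsg hgen tcA_ok

end Card

/-- [TA] `⟨h₁, h₂, h₃ | relsG⟩` has order at most `29120 = 65 · 448` -/
theorem card_le_of_relsG {Q : Type u} [Group Q] (q : ℕ → Q)
    (hgen : Subgroup.closure (Set.range fun i : Fin 3 => q i.val) = ⊤)
    (hrel : ∀ r ∈ relsG, ev q r = 1) : Finite Q ∧ Nat.card Q ≤ 29120 := by
  obtain ⟨h1, h2⟩ := Card.card_le_mul q hgen hrel
  obtain ⟨_, h3⟩ := Card.card_sub_le q hrel
  refine ⟨h1, h2.trans ?_⟩
  calc 65 * Nat.card (Subgroup.closure {q 0, q 1} : Subgroup Q) ≤ 65 * 448 :=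
        Nat.mul_le_mul_left _ h3
    _ = 29120 := by norm_num

/-- [TA'] in a triple, `B = ⟨h₁, h₂⟩` has order `448` and index `65` -/
theorem card_B {G : Type u} [Group G] (g : ℕ → G) (hg : IsSz8Triple g) :
    Nat.card (Subgroup.closure {g 0, g 1} : Subgroup G) = 448 ∧
      (Subgroup.closure {g 0, g 1} : Subgroup G).index = 65 := by
  obtain ⟨h1, h2⟩ := Card.card_le_mul g hg.gen hg.rels
  obtain ⟨_, h3⟩ := Card.card_sub_le g hg.rels
  rw [hg.card] at h2
  have h4 : Nat.card (Subgroup.closure {g 0, g 1} : Subgroup G) = 448 := by omega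
  refine ⟨h4, ?_⟩
  have h5 := Subgroup.card_mul_index (Subgroup.closure {g 0, g 1} : Subgroup G)
  rw [h4, hg.card] at h5
  omega

end Cfsg.Agent.Lib.Helper7.Sz8
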