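import Cfsg.Agent.Lib.Helper7.Sz8Abs
import Cfsg.Agent.Lib.Helper3.Sz8G
import Cfsg.Agent.Lib.Helper3.Sz8O

/-!
# S2112: the Schur multiplier of `Sz(8)` is `C₂ × C₂` (architect helper7)
-/

set_option autoImplicit false

namespace Cfsg.Agent.Lib.Helper7.Sz8

open Cfsg

universe u

theorem main {F : Type u} [Field F] [Fintype F] (hF : Fintype.card F = 8) :
    Cfsg.HasSchurMultiplier ↥(Cfsg.Lie.Sz F 4) (Multiplicative (ZMod 2 × ZMod 2)) := by
  obtain ⟨g, hg⟩ := exists_triple hF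
  exact hasSchurMultiplier_of_triple g hg (no_odd hF)

end Cfsg.Agent.Lib.Helper7.Sz8
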