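import Cfsg.Agent.H5.StemTC
import Cfsg.Agent.Lib.Helper7.Sz8Card
import Cfsg.Agent.Lib.Helper17.Sz8S1
import Cfsg.Agent.Lib.Helper21.Sz8S2
import Cfsg.Agent.Lib.Helper21.Sz8S4

/-!
# S2112: the upper bound (helper7)

The kernel of a finite stem extension of `Sz(8)` with `2`-group kernel is generated by two commuting involutions.
-/

set_option autoImplicit false

namespace Cfsg.Agent.Lib.Helper7.Sz8

open Cfsg Cfsg.H5.TCk
open scoped commutatorElement

universe u v

namespace Upper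

/-- a subgroup generated by two commuting involutions is a quotient of the four-group -/
theorem exists_surj_four {Γ : Type u} [Group Γ] (Z : Subgroup Γ) (c1 c2 : Γ) (h1 : c1 * c1 = 1)
    (h2 : c2 * c2 = 1) (hc : c1 * c2 = c2 * c1) (hZ : Z = Subgroup.closure {c1, c2}) :
    ∃ π : Multiplicative (ZMod 2 × ZMod 2) →* Z, Function.Surjective π := by
  have hc1 : c1 ∈ Z := by rw [hZ]; exact Subgroup.subset_closure (by simp)
  have hc2 : c2 ∈ Z := by rw [hZ]; exact Subgroup.subset_closure (by simp)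
  let A : ZMod 2 → Γ := fun t => if t = 0 then 1 else c1
  let B : ZMod 2 → Γ := fun t => if t = 0 then 1 else c2
  have h11 : (1 : ZMod 2) + 1 = 0 := by decide
  have h01 : ∀ t : ZMod 2, t = 0 ∨ t = 1 := by decide
  have hA : ∀ s t : ZMod 2, A (s + t) = A s * A t := by
    intro s t
    rcases h01 s with rfl | rfl <;> rcases h01 t with rfl | rfl <;> simp [A, h11, h1]
  have hB : ∀ s t : ZMod 2, B (s + t) = B s * B t := by
    intro s t
    rcases h01 s with rfl | rfl <;> rcases h01 t with rfl | rfl <;> simp [B, h11, h2]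
  have hAB : ∀ s t : ZMod 2, A s * B t = B t * A s := by
    intro s t
    rcases h01 s with rfl | rfl <;> rcases h01 t with rfl | rfl <;> simp [A, B, hc]
  let f : ZMod 2 × ZMod 2 → Γ := fun x => A x.1 * B x.2
  have hfZ : ∀ x, f x ∈ Z := by
    intro x
    apply Z.mul_mem
    · show (if x.1 = 0 then (1 : Γ) else c1) ∈ Z
      split_ifs
      · exact Z.one_mem
      · exact hc1
    · show (if x.2 = 0 then (1 : Γ) else c2) ∈ Z
      split_ifs
      · exact Z.one_mem
      · exact hc2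
  have hmul : ∀ x y : ZMod 2 × ZMod 2, f (x + y) = f x * f y := by
    intro x y
    show A (x.1 + y.1) * B (x.2 + y.2) = A x.1 * B x.2 * (A y.1 * B y.2)
    rw [hA, hB]
    calc A x.1 * A y.1 * (B x.2 * B y.2) = A x.1 * (A y.1 * B x.2) * B y.2 := by
          simp only [mul_assoc]
      _ = A x.1 * (B x.2 * A y.1) * B y.2 := by rw [hAB]
      _ = A x.1 * B x.2 * (A y.1 * B y.2) := by simp only [mul_assoc]
  let π : Multiplicative (ZMod 2 × ZMod 2) →* Z :=
    { toFun := fun x => ⟨f (Multiplicative.toAdd x), hfZ _⟩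
      map_one' := by
        apply Subtype.ext
        simp [f, A, B]
      map_mul' := by
        intro x y
        apply Subtype.ext
        simp only [toAdd_mul, Subgroup.coe_mul]
        exact hmul _ _ }
  refine ⟨π, ?_⟩
  have hrange : Subgroup.closure {c1, c2} ≤ π.range.map Z.subtype := by
    rw [Subgroup.closure_le]
    intro x hx
    simp only [Set.mem_insert_iff, Set.mem_singleton_iff] at hx
    rcases hx with rfl | rfl
    · refine ⟨π (Multiplicative.ofAdd (1, 0)), ⟨_, rfl⟩, ?_⟩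
      simp [π, f, A, B]
    · refine ⟨π (Multiplicative.ofAdd (0, 1)), ⟨_, rfl⟩, ?_⟩
      simp [π, f, A, B]
  intro z
  have hz : (z : Γ) ∈ Subgroup.closure {c1, c2} := by rw [← hZ]; exact z.2
  obtain ⟨w, ⟨x, rfl⟩, hw⟩ := hrange hz
  exact ⟨x, Subtype.ext hw⟩

theorem ev_relH1 {Γ : Type u} [Group Γ] (γ : ℕ → Γ) : ev γ relH1 = γ 0 ^ 7 := by
  have h0 : gl γ 0 = γ 0 := Cfsg.H5.TCk.gl_even γ 0
  simp only [relH1, ev, h0, mul_one]
  simp only [pow_succ, pow_zero, one_mul, mul_assoc]

theorem ev_conj_rel {Γ : Type u} [Group Γ] (γ : ℕ → Γ) (j i : ℕ) (t : List ℕ) :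
    ev γ ([2 * j + 1] ++ t ++ [2 * i] ++ winv t) = (γ j)⁻¹ * (ev γ t * γ i * (ev γ t)⁻¹) := by
  rw [ev_append, ev_append, ev_append, ev_winv]
  have h1 : ev γ [2 * j + 1] = (γ j)⁻¹ := by
    simp only [ev, mul_one]
    exact Cfsg.H5.TCk.gl_odd γ j
  have h2 : ev γ [2 * i] = γ i := Card.ev_single γ i
  rw [h1, h2]
  simp only [mul_assoc]

theorem relH2_eq : relH2 = [2 * 1 + 1] ++ tH2 ++ [2 * 0] ++ winv tH2 := rfl

theorem wordC1_eq : wordC1 = w1 ++ v1 ++ winv w1 ++ winv v1 := rfl
theorem wordC2_eq : wordC2 = w2 ++ v2 ++ winv w2 ++ winv v2 := rfl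

theorem ev_comm {Γ : Type u} [Group Γ] (γ : ℕ → Γ) (w v : List ℕ) :
    ev γ (w ++ v ++ winv w ++ winv v) = ⁅ev γ w, ev γ v⁆ := by
  rw [ev_append, ev_append, ev_append, ev_winv, ev_winv, commutatorElement_def]

theorem letters_ok :
    (∀ r ∈ relsB, r.all (fun l => decide (l < 2 * 2)) = true) ∧
    wordC1.all (fun l => decide (l < 2 * 2)) = true ∧ wordC2.all (fun l => decide (l < 2 * 2)) = true ∧
    (w1 ++ w1).all (fun l => decide (l < 2 * 2)) = true ∧
    (w2 ++ w2).all (fun l => decide (l < 2 * 2)) = true ∧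
    tH2.all (fun l => decide (l < 2 * 2)) = true ∧ relR3.all (fun l => decide (l < 2 * 2)) = true ∧
    relR4.all (fun l => decide (l < 2 * 2)) = true := by decide

/-- the core of the upper bound: a stem extension with `2`-group kernel of a group with the `B`-data -/
theorem core {Δ : Type u} {B' : Type v} [Group Δ] [Finite Δ] [Group B'] (τ : Δ →* B')
    (hτ : IsStemExtension τ) (h2 : IsPGroup 2 τ.ker) (b : ℕ → B')
    (hgen : Subgroup.closure (Set.range fun i : Fin 2 => b i.val) = ⊤)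
    (hcard : Nat.card B' = 448)
    (hrel : ∀ r ∈ relsB, ev b r = 1) (hc1 : ev b wordC1 = 1) (hc2 : ev b wordC2 = 1)
    (hw1 : ev b (w1 ++ w1) = 1) (hw2 : ev b (w2 ++ w2) = 1) :
    ∃ c1 c2 : Δ, c1 * c1 = 1 ∧ c2 * c2 = 1 ∧ c1 * c2 = c2 * c1 ∧
      τ.ker = Subgroup.closure {c1, c2} := by
  classical
  obtain ⟨hsurj, hcen, hcomm⟩ := hτ
  have hτ' : IsStemExtension τ := ⟨hsurj, hcen, hcomm⟩
  have : Finite B' := Finite.of_surjective τ hsurj
  obtain ⟨hLB, hLC1, hLC2, hLW1, hLW2, hLT, hLR3, hLR4⟩ := letters_ok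
  -- the generators have order dividing 7
  have hb0 : b 0 ^ 7 = 1 := Card.pow_seven b (hrel relH1 (by simp [relsB]))
  have hrelH2 : ev b relH2 = 1 := hrel relH2 (by simp [relsB])
  have hb1eq : b 1 = ev b tH2 * b 0 * (ev b tH2)⁻¹ := by
    rw [relH2_eq, ev_conj_rel] at hrelH2
    exact inv_mul_eq_one.mp hrelH2
  have hb1 : b 1 ^ 7 = 1 := by
    rw [hb1eq, conj_pow, hb0, mul_one, mul_inv_cancel]
  -- lifts of order dividing 7
  obtain ⟨y0, hy0, hy07⟩ := exists_lift_pow_eq_one τ hsurj h2 (b 0) (by decide : Odd 7) hb0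
  obtain ⟨y1, hy1, hy17⟩ := exists_lift_pow_eq_one τ hsurj h2 (b 1) (by decide : Odd 7) hb1
  let y : ℕ → Δ := fun i => if i = 0 then y0 else if i = 1 then y1 else 1
  have hy_0 : y 0 = y0 := by simp [y]
  have hy_1 : y 1 = y1 := by simp [y]
  have hτy : ∀ i < 2, τ (y i) = b i := by
    intro i hi
    interval_cases i
    · rw [hy_0, hy0]
    · rw [hy_1, hy1]
  have hτev : ∀ w : List ℕ, w.all (fun l => decide (l < 2 * 2)) = true → τ (ev y w) = ev b w := by
    intro w hw
    rw [Cfsg.H5.StemTC.map_ev]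
    exact Card.ev_congr_lt _ _ 2 hτy w hw
  have hker : ∀ w : List ℕ, w.all (fun l => decide (l < 2 * 2)) = true → ev b w = 1 →
      ev y w ∈ τ.ker := by
    intro w hw h
    rw [MonoidHom.mem_ker, hτev w hw, h]
  -- the generators generate
  have hgenΔ : Subgroup.closure (Set.range fun i : Fin 2 => y i.val) = ⊤ := by
    apply Cfsg.H5.StemLift.eq_top_of_map_eq_top τ hτ'
    rw [MonoidHom.map_closure, ← hgen]
    congr 1
    ext x
    constructor
    · rintro ⟨_, ⟨i, rfl⟩, rfl⟩
      exact ⟨i, (hτy i.val i.isLt).symm⟩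
    · rintro ⟨i, rfl⟩
      exact ⟨y i.val, ⟨i, rfl⟩, hτy i.val i.isLt⟩
  -- the exact relators
  have hR1 : ev y relH1 = 1 := by rw [ev_relH1, hy_0, hy07]
  have hR2 : ev y relH2 = 1 := by
    rw [relH2_eq, ev_conj_rel, inv_mul_eq_one, hy_1, hy_0]
    apply lift_unique τ hcen h2 (by decide : Odd 7) hy17
    · rw [conj_pow, hy07, mul_one, mul_inv_cancel]
    · rw [hy1, map_mul, map_mul, map_inv, hτev tH2 hLT, hy0]
      exact hb1eq
  -- the central relators
  have hcenR : ∀ r : List ℕ, r.all (fun l => decide (l < 2 * 2)) = true → ev b r = 1 → ∀ j,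
      ev y (cwordS r j) = 1 := by
    intro r hr h j
    exact Cfsg.H5.StemTC.ev_cword y r j (hcen (hker r hr h))
  -- the two commutators
  set c1 : Δ := ev y wordC1 with hc1def
  set c2 : Δ := ev y wordC2 with hc2def
  have hc1k : c1 ∈ τ.ker := hker wordC1 hLC1 hc1
  have hc2k : c2 ∈ τ.ker := hker wordC2 hLC2 hc2
  have hc1sq : c1 * c1 = 1 := by
    have h : c1 = ⁅ev y w1, ev y v1⁆ := by rw [hc1def, wordC1_eq, ev_comm]
    rw [h]
    apply comm_sq_eq_one
    · rw [← h]; exact hcen hc1k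
    · rw [← ev_append]; exact hcen (hker _ hLW1 hw1)
  have hc2sq : c2 * c2 = 1 := by
    have h : c2 = ⁅ev y w2, ev y v2⁆ := by rw [hc2def, wordC2_eq, ev_comm]
    rw [h]
    apply comm_sq_eq_one
    · rw [← h]; exact hcen hc2k
    · rw [← ev_append]; exact hcen (hker _ hLW2 hw2)
  have hc12 : c1 * c2 = c2 * c1 := (Subgroup.mem_center_iff.mp (hcen hc1k) c2).symm
  refine ⟨c1, c2, hc1sq, hc2sq, hc12, ?_⟩
  -- the subgroup generated by them
  set C : Subgroup Δ := Subgroup.closure {c1, c2} with hC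
  have hCk : C ≤ τ.ker := by
    rw [hC, Subgroup.closure_le]
    intro x hx
    simp only [Set.mem_insert_iff, Set.mem_singleton_iff] at hx
    rcases hx with rfl | rfl
    · exact hc1k
    · exact hc2k
  have hCn : C.Normal := by
    constructor
    intro n hn g
    have := Subgroup.mem_center_iff.mp (hcen (hCk hn)) g
    rw [this, mul_assoc, mul_inv_cancel, mul_one]
    exact hn
  -- the quotient satisfies `relsC`
  let q : ℕ → Δ ⧸ C := fun i => QuotientGroup.mk' C (y i)
  have hqev : ∀ w, ev q w = QuotientGroup.mk' C (ev y w) := fun w =>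
    (Cfsg.H5.StemTC.map_ev (QuotientGroup.mk' C) y w).symm
  have hgenQ : Subgroup.closure (Set.range fun i : Fin 2 => q i.val) = ⊤ := by
    have h1 : (Subgroup.closure (Set.range fun i : Fin 2 => y i.val)).map (QuotientGroup.mk' C) = ⊤ := by
      rw [hgenΔ, ← MonoidHom.range_eq_map, MonoidHom.range_eq_top]
      exact QuotientGroup.mk'_surjective C
    rw [MonoidHom.map_closure] at h1
    rw [← h1]
    congr 1
    ext x
    constructor
    · rintro ⟨i, rfl⟩
      exact ⟨y i.val, ⟨i, rfl⟩, rfl⟩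
    · rintro ⟨_, ⟨i, rfl⟩, rfl⟩
      exact ⟨i, rfl⟩
  have hrelQ : ∀ r ∈ relsC, ev q r = 1 := by
    intro r hr
    rw [hqev]
    simp only [relsC, List.mem_cons, List.not_mem_nil, or_false] at hr
    rcases hr with rfl | rfl | rfl | rfl | rfl | rfl | rfl | rfl
    · rw [hR1, map_one]
    · rw [hR2, map_one]
    · rw [hcenR relR3 hLR3 (hrel relR3 (by simp [relsB])) 0, map_one]
    · rw [hcenR relR3 hLR3 (hrel relR3 (by simp [relsB])) 1, map_one]
    · rw [hcenR relR4 hLR4 (hrel relR4 (by simp [relsB])) 0, map_one]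
    · rw [hcenR relR4 hLR4 (hrel relR4 (by simp [relsB])) 1, map_one]
    · rw [QuotientGroup.mk'_apply, QuotientGroup.eq_one_iff]
      exact Subgroup.subset_closure (by simp [hc1def])
    · rw [QuotientGroup.mk'_apply, QuotientGroup.eq_one_iff]
      exact Subgroup.subset_closure (by simp [hc2def])
  obtain ⟨_, hQcard⟩ := card_le_of_relsC q hgenQ hrelQ
  -- counting
  have hΔ1 : Nat.card Δ = Nat.card (Δ ⧸ C) * Nat.card C :=
    Subgroup.card_eq_card_quotient_mul_card_subgroup C
  have hΔ2 : Nat.card Δ = Nat.card τ.ker * 448 := by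
    have h1 := Subgroup.card_eq_card_quotient_mul_card_subgroup τ.ker
    have h3 : Nat.card (Δ ⧸ τ.ker) = Nat.card B' :=
      Nat.card_congr (QuotientGroup.quotientKerEquivOfSurjective τ hsurj).toEquiv
    rw [h1, h3, hcard, mul_comm]
  have hle : Nat.card τ.ker ≤ Nat.card C := by
    have h1 : Nat.card τ.ker * 448 ≤ 448 * Nat.card C := by
      rw [← hΔ2, hΔ1]
      exact Nat.mul_le_mul_right _ hQcard
    have h3 : 448 * Nat.card τ.ker ≤ 448 * Nat.card C := by rwa [mul_comm] at h1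
    exact Nat.le_of_mul_le_mul_left h3 (by norm_num)
  exact (Subgroup.eq_of_le_of_card_ge hCk hle).symm

theorem ev_subGen {Q : Type u} [Group Q] (q : ℕ → Q) (w : List ℕ)
    (hw : w.all (fun l => decide (l < 2 * 2)) = true) :
    ((ev (Card.subGen q) w : ↥(Subgroup.closure {q 0, q 1} : Subgroup Q)) : Q) = ev q w := by
  have h1 := Cfsg.H5.StemTC.map_ev (Subgroup.closure {q 0, q 1} : Subgroup Q).subtype (Card.subGen q) w
  rw [Subgroup.coe_subtype] at h1
  rw [h1]
  exact Card.ev_congr_lt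
    (fun i => ((Card.subGen q i : ↥(Subgroup.closure {q 0, q 1} : Subgroup Q)) : Q)) q 2
    (fun i hi => Card.subGen_coe q i hi) w hw

end Upper

/-- [U] upper bound: the kernel of a finite stem extension with `2`-group kernel is generated by two commuting
involutions -/
theorem upper {G : Type v} [Group G] (g : ℕ → G) (hg : IsSz8Triple g) {Γ : Type u} [Group Γ] [Finite Γ]
    (σ : Γ →* G) (hσ : IsStemExtension σ) (h2 : IsPGroup 2 σ.ker) :
    ∃ π : Multiplicative (ZMod 2 × ZMod 2) →* σ.ker, Function.Surjective π := by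
  obtain ⟨hBcard, hBidx⟩ := card_B g hg
  set B : Subgroup G := Subgroup.closure {g 0, g 1} with hB
  have hodd : Odd B.index := by rw [hBidx]; decide
  have hτ := stem_restrict σ hσ h2 B hodd
  set τ : ↥(B.comap σ) →* ↥B := σ.subgroupComap B with hτdef
  have hτapply : ∀ x : ↥(B.comap σ), ((τ x : ↥B) : G) = σ (x : Γ) := fun x => rfl
  have hkerτ : ∀ x : ↥(B.comap σ), x ∈ τ.ker ↔ (x : Γ) ∈ σ.ker := by
    intro x
    rw [MonoidHom.mem_ker, MonoidHom.mem_ker]
    constructor
    · intro h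
      rw [← hτapply, h, Subgroup.coe_one]
    · intro h
      apply Subtype.ext
      rw [hτapply, h, Subgroup.coe_one]
  have h2τ : IsPGroup 2 τ.ker := by
    intro x
    obtain ⟨k, hk⟩ := h2 ⟨((x : ↥(B.comap σ)) : Γ), (hkerτ x).mp x.2⟩
    refine ⟨k, ?_⟩
    apply Subtype.ext
    apply Subtype.ext
    have := congrArg (fun z : σ.ker => (z : Γ)) hk
    simpa using this
  obtain ⟨hLB, hLC1, hLC2, hLW1, hLW2, _, _, _⟩ := Upper.letters_ok
  have hrelB : ∀ r ∈ relsB, ev (Card.subGen g) r = 1 := by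
    intro r hr
    apply Subtype.ext
    rw [Upper.ev_subGen g r (hLB r hr), Subgroup.coe_one]
    exact hg.rels r (Card.relsB_sub r hr)
  have hsub : ∀ w : List ℕ, w.all (fun l => decide (l < 2 * 2)) = true → ev g w = 1 →
      ev (Card.subGen g) w = 1 := by
    intro w hw h
    apply Subtype.ext
    rw [Upper.ev_subGen g w hw, Subgroup.coe_one]
    exact h
  obtain ⟨c1, c2, hc1sq, hc2sq, hc12, hker⟩ := Upper.core τ hτ h2τ (Card.subGen g)
    (Card.subGen_gen g) hBcard hrelB (hsub _ hLC1 hg.c1) (hsub _ hLC2 hg.c2)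
    (hsub _ hLW1 hg.w1sq) (hsub _ hLW2 hg.w2sq)
  have hZ : σ.ker = Subgroup.closure {(c1 : Γ), (c2 : Γ)} := by
    have hmap : (Subgroup.closure {c1, c2}).map (B.comap σ).subtype
        = Subgroup.closure {(c1 : Γ), (c2 : Γ)} := by
      rw [MonoidHom.map_closure]
      congr 1
      ext x
      simp only [Set.mem_image, Set.mem_insert_iff, Set.mem_singleton_iff, Subgroup.coe_subtype]
      constructor
      · rintro ⟨z, rfl | rfl, rfl⟩
        · left; rfl
        · right; rfl
      · rintro (rfl | rfl)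
        · exact ⟨c1, Or.inl rfl, rfl⟩
        · exact ⟨c2, Or.inr rfl, rfl⟩
    rw [← hmap, ← hker]
    ext z
    constructor
    · intro hz
      have hzB : z ∈ B.comap σ := by
        rw [Subgroup.mem_comap, MonoidHom.mem_ker.mp hz]
        exact B.one_mem
      exact ⟨⟨z, hzB⟩, (hkerτ ⟨z, hzB⟩).mpr hz, rfl⟩
    · rintro ⟨x, hx, rfl⟩
      exact (hkerτ x).mp hx
  refine Upper.exists_surj_four σ.ker (c1 : Γ) (c2 : Γ) ?_ ?_ ?_ hZ
  · have := congrArg (fun z : ↥(B.comap σ) => (z : Γ)) hc1sq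
    simpa using this
  · have := congrArg (fun z : ↥(B.comap σ) => (z : Γ)) hc2sq
    simpa using this
  · have := congrArg (fun z : ↥(B.comap σ) => (z : Γ)) hc12
    simpa using this

end Cfsg.Agent.Lib.Helper7.Sz8
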