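import Mathlib
import Cfsg.Agent.Lib.Helper17.FpfDefs

/-!
# S2863 farm-out FO-2 (architect helper17), abstract part

`TwoRootProp 2 Y` in a group in which every involution is conjugate into `Y` and every non-2-element
has a nontrivial power of odd order inverted by an involution; and transport of `TwoRootProp`
along an isomorphism.
-/

set_option autoImplicit false

namespace Cfsg.Agent.Lib.Helper7.SzTwoRoot

open Cfsg.Agent.Lib.Helper17.Fpf

theorem eq_one_of_sq_of_odd {X : Type*} [Group X] {z : X} (h2 : z * z = 1)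
    (hodd : Odd (orderOf z)) : z = 1 := by
  have h1 : orderOf z ∣ 2 := orderOf_dvd_of_pow_eq_one (by rw [pow_two]; exact h2)
  have hc : Nat.Coprime (orderOf z) 2 := Nat.coprime_two_right.2 hodd
  exact orderOf_eq_one_iff.1 (Nat.eq_one_of_dvd_coprimes hc (dvd_refl _) h1)

/-- the abstract criterion -/
theorem twoRootProp_of_invol {X : Type*} [Group X] (Y : Subgroup X)
    (hYexp : ∀ a ∈ Y, a ^ 2 = 1)
    (hinv : ∀ t : X, t * t = 1 → t ≠ 1 → ∃ s : X, ∃ y ∈ Y, t = s * y * s⁻¹)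
    (hz : ∀ x : X, (¬ ∃ k : ℕ, orderOf x = 2 ^ k) → ∃ (n : ℕ) (t : X), x ^ n ≠ 1 ∧
      Odd (orderOf (x ^ n)) ∧ t * t = 1 ∧ t ≠ 1 ∧ t * x ^ n * t⁻¹ = (x ^ n)⁻¹) :
    TwoRootProp 2 Y := by
  intro x hx
  obtain ⟨n, t, hz1, hzodd, ht2, ht1, htz⟩ := hz x hx
  obtain ⟨z, hzdef⟩ : ∃ z, z = x ^ n := ⟨_, rfl⟩
  rw [← hzdef] at hz1 hzodd htz
  have ht'2 : (t * z) * (t * z) = 1 := by
    calc (t * z) * (t * z) = (t * z * t⁻¹) * (t * t) * z := by group
      _ = 1 := by rw [htz, ht2]; group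
  have ht'1 : t * z ≠ 1 := by
    intro h
    apply hz1
    have hzt : z = t⁻¹ := eq_inv_of_mul_eq_one_right h
    apply eq_one_of_sq_of_odd _ hzodd
    rw [hzt]
    calc t⁻¹ * t⁻¹ = (t * t)⁻¹ := by group
      _ = 1 := by rw [ht2, inv_one]
  obtain ⟨s₁, y, hy, e1⟩ := hinv t ht2 ht1
  obtain ⟨s₂, y', hy', e2⟩ := hinv (t * z) ht'2 ht'1
  have hy1 : y ≠ 1 := by
    rintro rfl
    apply ht1
    rw [e1]; group
  have hy'1 : y' ≠ 1 := by
    rintro rfl
    apply ht'1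
    rw [e2]; group
  have hzeq : z = s₁ * (y * ((s₁⁻¹ * s₂) * y' * (s₁⁻¹ * s₂)⁻¹)) * s₁⁻¹ := by
    calc z = (t * t) * z := by rw [ht2, one_mul]
      _ = t * (t * z) := by group
      _ = (s₁ * y * s₁⁻¹) * (s₂ * y' * s₂⁻¹) := by rw [← e1, ← e2]
      _ = _ := by group
  have hg : s₁⁻¹ * s₂ ∉ Subgroup.normalizer (Y : Set X) := by
    intro hg
    have h1 : (s₁⁻¹ * s₂) * y' * (s₁⁻¹ * s₂)⁻¹ ∈ Y :=
      (Subgroup.mem_normalizer_iff.1 hg y').1 hy'
    have h2 : y * ((s₁⁻¹ * s₂) * y' * (s₁⁻¹ * s₂)⁻¹) ∈ Y := Y.mul_mem hy h1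
    have h3 := hYexp _ h2
    apply hz1
    apply eq_one_of_sq_of_odd _ hzodd
    obtain ⟨w, hw⟩ : ∃ w, w = y * ((s₁⁻¹ * s₂) * y' * (s₁⁻¹ * s₂)⁻¹) := ⟨_, rfl⟩
    rw [← hw] at hzeq h3
    rw [pow_two] at h3
    rw [hzeq]
    calc s₁ * w * s₁⁻¹ * (s₁ * w * s₁⁻¹) = s₁ * (w * w) * s₁⁻¹ := by group
      _ = 1 := by rw [h3]; group
  refine ⟨n, 1, s₁, s₁⁻¹ * s₂, y, y', Y.one_mem, Or.inl rfl, hy, hy1, hy', hy'1, hg, ?_⟩
  rw [mul_one, ← hzdef]
  exact hzeq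

/-- transport of `TwoRootProp` along an isomorphism -/
theorem twoRootProp_of_map {p : ℕ} {X X' : Type*} [Group X] [Group X'] (e : X ≃* X')
    {Y : Subgroup X} (h : TwoRootProp p (Y.map e.toMonoidHom)) : TwoRootProp p Y := by
  intro x hx
  have hx' : ¬ ∃ k : ℕ, orderOf (e x) = p ^ k := by
    rw [MulEquiv.orderOf_eq]; exact hx
  obtain ⟨n, y₀, s, g, y, y', hy₀, hc, hy, hy1, hy', hy'1, hg, heq⟩ := h (e x) hx'
  have hmem : ∀ w : X', w ∈ Y.map e.toMonoidHom → e.symm w ∈ Y := by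
    rintro _ ⟨a, ha, rfl⟩
    have : e.symm (e.toMonoidHom a) = a := e.symm_apply_apply a
    rw [this]; exact ha
  have hne : ∀ w : X', w ≠ 1 → e.symm w ≠ 1 := by
    intro w hw h1
    apply hw
    have := congrArg e h1
    rwa [e.apply_symm_apply, map_one] at this
  refine ⟨n, e.symm y₀, e.symm s, e.symm g, e.symm y, e.symm y', hmem _ hy₀, ?_, hmem _ hy,
    hne _ hy1, hmem _ hy', hne _ hy'1, ?_, ?_⟩
  · rcases hc with hc | hc
    · left; rw [hc, map_one]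
    · right
      rw [Subgroup.mem_center_iff] at hc ⊢
      intro w
      apply e.injective
      rw [map_mul, map_mul, map_pow]
      exact hc (e w)
  · intro hgn
    apply hg
    rw [← Subgroup.map_equiv_normalizer_eq]
    exact ⟨e.symm g, hgn, e.apply_symm_apply g⟩
  · apply e.injective
    simp only [map_mul, map_pow, map_inv, MulEquiv.apply_symm_apply]
    exact heq

end Cfsg.Agent.Lib.Helper7.SzTwoRoot
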