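import Mathlib
import Cfsg.Agent.Lib.Helper3.SzSol3
import Cfsg.Agent.Lib.Helper3.SzModel
import Cfsg.Agent.Lib.Helper7.SzTwoRootA

/-!
# S2863 farm-out FO-2 (architect helper17), the Suzuki groups `Sz F m`, `m ≥ 1`
-/

set_option autoImplicit false

namespace Cfsg.Agent.Lib.Helper7.SzTwoRoot

open Matrix Cfsg Cfsg.Agent.Lib.Helper3.Sz Cfsg.Agent.Lib.Helper3.SzModel
open Cfsg.Agent.Lib.Helper17.Fpf

variable {F : Type*} [Field F] [Fintype F] {m : ℕ} (hF : Fintype.card F = 2 ^ (2 * m + 1))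
  (hm : 1 ≤ m)

include hF hm in
/-- every involution of `Sz F m` is conjugate into a subgroup of exponent 2 and order `|F|` -/
theorem invol_conj_mem (Y : Subgroup (Sz F m)) (hYexp : ∀ a ∈ Y, a ^ 2 = 1)
    (hYcard : Nat.card Y = Fintype.card F)
    (t : Sz F m) (ht2 : t * t = 1) (ht1 : t ≠ 1) : ∃ s : Sz F m, ∃ y ∈ Y, t = s * y * s⁻¹ := by
  haveI : Finite (Sz F m) := finite_Sz
  haveI : Fact (Nat.Prime 2) := ⟨Nat.prime_two⟩
  have hp : IsPGroup 2 Y := by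
    intro y
    refine ⟨1, ?_⟩
    have := hYexp y.1 y.2
    apply Subtype.ext
    rw [pow_one]
    exact this
  obtain ⟨P, hYP⟩ := hp.exists_le_sylow
  obtain ⟨h₀, hh₀⟩ := exists_conj_transGroup hF hm P
  have hYmem : ∀ y ∈ Y, ∃ b : F, h₀⁻¹ * y * h₀ = tS hF 0 b := by
    intro y hy
    obtain ⟨a, b, hab⟩ := (mem_transGroup hF hm _).1 ((hh₀ y).1 (hYP hy))
    have h2 : (h₀⁻¹ * y * h₀) * (h₀⁻¹ * y * h₀) = 1 := by
      have h3 := hYexp y hy
      rw [pow_two] at h3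
      calc (h₀⁻¹ * y * h₀) * (h₀⁻¹ * y * h₀) = h₀⁻¹ * (y * y) * h₀ := by group
        _ = 1 := by rw [h3]; group
    rw [hab] at h2
    have ha := (sq_eq_one_iff hF hm a b).1 h2
    exact ⟨b, by rw [hab, ha]⟩
  have hYall : ∀ b : F, ∃ y ∈ Y, h₀⁻¹ * y * h₀ = tS hF 0 b := by
    let f : Y → F := fun y => Classical.choose (hYmem y.1 y.2)
    have hf : ∀ y : Y, h₀⁻¹ * y.1 * h₀ = tS hF 0 (f y) := fun y =>
      Classical.choose_spec (hYmem y.1 y.2)
    have hinj : Function.Injective f := by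
      intro y y' hyy
      have h1 : h₀⁻¹ * y.1 * h₀ = h₀⁻¹ * y'.1 * h₀ := by rw [hf y, hf y', hyy]
      apply Subtype.ext
      calc y.1 = h₀ * (h₀⁻¹ * y.1 * h₀) * h₀⁻¹ := by group
        _ = h₀ * (h₀⁻¹ * y'.1 * h₀) * h₀⁻¹ := by rw [h1]
        _ = y'.1 := by group
    have hbij : Function.Bijective f := by
      apply hinj.bijective_of_nat_card_le
      rw [hYcard, Nat.card_eq_fintype_card]
    intro b
    obtain ⟨y, hy⟩ := hbij.2 b
    exact ⟨y.1, y.2, by rw [hf y, hy]⟩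
  have hpt : IsPGroup 2 (Subgroup.zpowers t) :=
    isPGroup_zpowers_of_pow_eq_one (n := 1) (by rw [pow_one, pow_two]; exact ht2)
  obtain ⟨P₂, htP⟩ := hpt.exists_le_sylow
  obtain ⟨h₁, hh₁⟩ := exists_conj_transGroup hF hm P₂
  obtain ⟨a, b, hab⟩ :=
    (mem_transGroup hF hm _).1 ((hh₁ t).1 (htP (Subgroup.mem_zpowers t)))
  have h2 : (h₁⁻¹ * t * h₁) * (h₁⁻¹ * t * h₁) = 1 := by
    calc (h₁⁻¹ * t * h₁) * (h₁⁻¹ * t * h₁) = h₁⁻¹ * (t * t) * h₁ := by group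
      _ = 1 := by rw [ht2]; group
  rw [hab] at h2
  have ha := (sq_eq_one_iff hF hm a b).1 h2
  obtain ⟨y, hy, hyb⟩ := hYall b
  refine ⟨h₁ * h₀⁻¹, y, hy, ?_⟩
  have h3 : t = h₁ * (h₁⁻¹ * t * h₁) * h₁⁻¹ := by group
  rw [h3, hab, ha, ← hyb]; group

include hF hm in
/-- a non-2-element of `Sz F m` has a nontrivial power of odd order inverted by an involution -/
theorem exists_inverting_invol (x : Sz F m) (hx : ¬ ∃ k : ℕ, orderOf x = 2 ^ k) :
    ∃ (n : ℕ) (t : Sz F m), x ^ n ≠ 1 ∧ Odd (orderOf (x ^ n)) ∧ t * t = 1 ∧ t ≠ 1 ∧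
      t * x ^ n * t⁻¹ = (x ^ n)⁻¹ := by
  haveI : Finite (Sz F m) := finite_Sz
  haveI : Fact (Nat.Prime 2) := ⟨Nat.prime_two⟩
  have hpos : 0 < orderOf x := orderOf_pos x
  obtain ⟨r, hr, hrx, hr2⟩ : ∃ r, r.Prime ∧ r ∣ orderOf x ∧ r ≠ 2 := by
    by_contra hcon
    push Not at hcon
    apply hx
    exact ⟨_, Nat.eq_prime_pow_of_unique_prime_dvd hpos.ne' (fun {d} hd hdx => hcon d hd hdx)⟩
  have hzord : orderOf (x ^ (orderOf x / r)) = r := orderOf_pow_orderOf_div hpos.ne' hrx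
  obtain ⟨z, hzdef⟩ : ∃ z, z = x ^ (orderOf x / r) := ⟨_, rfl⟩
  rw [← hzdef] at hzord
  have hz1 : z ≠ 1 := by
    intro h
    rw [h, orderOf_one] at hzord
    exact hr.one_lt.ne hzord
  have hzodd : Odd (orderOf z) := by
    rw [hzord]; exact hr.eq_two_or_odd'.resolve_left hr2
  have hz4 : z ^ 4 ≠ 1 := by
    intro h
    have h1 : r ∣ 2 ^ 2 := by
      rw [← hzord]; exact orderOf_dvd_of_pow_eq_one (by norm_num; exact h)
    exact hr2 ((Nat.prime_dvd_prime_iff_eq hr Nat.prime_two).1 (hr.dvd_of_dvd_pow h1))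
  have hT := isTorus_centralizer hF hm z hz4
  obtain ⟨T, hTdef⟩ : ∃ T, T = Subgroup.centralizer ({z} : Set (Sz F m)) := ⟨_, rfl⟩
  rw [← hTdef] at hT
  have hzT : z ∈ T := by
    rw [hTdef, Subgroup.mem_centralizer_singleton_iff]
  have heven : 2 ∣ Nat.card (Subgroup.normalizer (T : Set (Sz F m))) := by
    rcases hT.2.2.2 with h | h
    · rw [h]; exact dvd_mul_right _ _
    · rw [h]; exact Dvd.dvd.mul_right (by norm_num) _
  obtain ⟨t', ht'⟩ := exists_prime_orderOf_dvd_card' 2 heven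
  have htord : orderOf t'.1 = 2 := by rw [Subgroup.orderOf_coe]; exact ht'
  have ht2 : t'.1 * t'.1 = 1 := by
    rw [← pow_two, ← htord]; exact pow_orderOf_eq_one _
  have ht1 : t'.1 ≠ 1 := by
    intro h
    rw [h, orderOf_one] at htord
    norm_num at htord
  refine ⟨orderOf x / r, t'.1, ?_, ?_, ht2, ht1, ?_⟩
  · rw [← hzdef]; exact hz1
  · rw [← hzdef]; exact hzodd
  · rw [← hzdef]
    exact hT.inv_of_involution hF hm t'.2 ht2 ht1 hzT

include hF hm in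
/-- FO-2 inside `Sz F m`, `m ≥ 1` -/
theorem twoRoot_Sz (Y : Subgroup (Sz F m)) (hYexp : ∀ a ∈ Y, a ^ 2 = 1)
    (hYcard : Nat.card Y = Fintype.card F) : TwoRootProp 2 Y :=
  twoRootProp_of_invol Y hYexp (invol_conj_mem hF hm Y hYexp hYcard)
    (exists_inverting_invol hF hm)

/-- FO-2 for `Cfsg.Lie.Sz F (2^(m+1))`, `m ≥ 1` -/
theorem FO2_sz_twoRoot_pos {F : Type} [Field F] [Fintype F] (m : ℕ) (hm : 1 ≤ m)
    (hF : Fintype.card F = 2 ^ (2 * m + 1))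
    (Y : Subgroup ↥(Cfsg.Lie.Sz F (2 ^ (m + 1))))
    (hYexp : ∀ a ∈ Y, a ^ 2 = 1) (hYcard : Nat.card Y = Fintype.card F) : TwoRootProp 2 Y := by
  apply twoRootProp_of_map (Cfsg.Agent.Lib.Helper3.SzBridge.lieSzEquiv hF hm)
  apply twoRoot_Sz hF hm
  · rintro _ ⟨y, hy, rfl⟩
    have := hYexp y hy
    change ((Cfsg.Agent.Lib.Helper3.SzBridge.lieSzEquiv hF hm) y) ^ 2 = 1
    rw [← map_pow, this, map_one]
  · rw [← hYcard]
    exact (Nat.card_congr (Y.equivMapOfInjective _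
      (Cfsg.Agent.Lib.Helper3.SzBridge.lieSzEquiv hF hm).injective).toEquiv).symm

end Cfsg.Agent.Lib.Helper7.SzTwoRoot
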