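import Mathlib
import Cfsg.Prelude.Def_LocalStructure
import Cfsg.Agent.Lib.Helper17.FpfDefs
import Cfsg.Agent.Lib.Helper22.S2863FO3
import Cfsg.Agent.Lib.Helper7.SzTwoRootB

/-!
# S2863 farm-out FO-2 (architect helper17): `TwoRootProp 2 Y` in the Suzuki groups
-/

set_option autoImplicit false

namespace Cfsg.Agent.Lib.Helper7.SzTwoRoot

open Cfsg.Agent.Lib.Helper17.Fpf

theorem FO2_sz_twoRoot {F : Type} [Field F] [Fintype F] (m : ℕ) (hF : Fintype.card F = 2 ^ (2 * m + 1))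
    (Y : Subgroup ↥(Cfsg.Lie.Sz F (2 ^ (m + 1))))
    (hYexp : ∀ a ∈ Y, a ^ 2 = 1) (hYcard : Nat.card Y = Fintype.card F)
    (hgen : Subgroup.normalClosure (Y : Set ↥(Cfsg.Lie.Sz F (2 ^ (m + 1)))) = ⊤)
    (hmax : ∀ P : Subgroup ↥(Cfsg.Lie.Sz F (2 ^ (m + 1))), Y ≤ P → P ≠ ⊤ →
      P ≤ Subgroup.normalizer (Y : Set ↥(Cfsg.Lie.Sz F (2 ^ (m + 1)))))
    (hne : Subgroup.normalizer (Y : Set ↥(Cfsg.Lie.Sz F (2 ^ (m + 1)))) ≠ ⊤) : TwoRootProp 2 Y := by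
  rcases Nat.eq_zero_or_pos m with hm0 | hm
  · subst hm0
    exact Cfsg.Agent.Lib.Helper22.S2863.FO3_card_two_twoRoot Y (by rw [hYcard, hF]; norm_num)
      hgen hmax hne
  · exact FO2_sz_twoRoot_pos m hm hF Y hYexp hYcard

end Cfsg.Agent.Lib.Helper7.SzTwoRoot
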