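import Cfsg.Agent.Lib.Helper8.ChevTa8
import Cfsg.Agent.Lib.Helper8.ChevAu12
import Cfsg.Agent.Lib.Helper8.ChevTw45
import Cfsg.Agent.Lib.Helper27.TwE6NotComm

/-!
# S2129/S2130 sub-assembly SA-P (architect helper8): `negFix_E6`
For `²E₆` an automorphism preserving `U¹`, `V¹` fixes every class root subgroup `X_{-J}`.
-/

set_option autoImplicit false

namespace Cfsg.Agent.Lib.Helper7.TwOutP

open Cfsg.Lie Matrix Cfsg.Agent.Lib.Helper8.Chev

section General

variable {D : ChevalleyDatum} {F : Type*} [Field F]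

/-- two words commute when every letter of the first is orthogonal to the letters of the second -/
theorem wN_comm_word (hD : D ∈ [chevG2, chevB2, chevD4, chevF4, chevE6, chevE7, chevE8])
    (w w' : List (ℕ × F))
    (hw : ∀ p ∈ w, ∃ j₀, j₀ < D.rank ∧ p.1 ∈ [D.simple j₀, D.neg (D.simple j₀)] ∧
      ∀ q ∈ w', ∃ j, j < D.rank ∧ OrthJ D j₀ j ∧ q.1 ∈ [D.simple j, D.neg (D.simple j)]) :
    wN D F w * wN D F w' = wN D F w' * wN D F w := by
  induction w with
  | nil => simp
  | cons p w ih =>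
    obtain ⟨j₀, hj₀, hp, hq⟩ := hw p List.mem_cons_self
    rw [wN_cons, Matrix.mul_assoc, ih (fun q hq => hw q (List.mem_cons_of_mem _ hq)),
      ← Matrix.mul_assoc, xN_comm_word hD hj₀ hp w' hq, Matrix.mul_assoc]

variable {ρ ρ' π π' : ℕ → ℕ} {ε : ℕ → ℤ}
  {T : TwOk D ρ ρ' π π' ε} {φ : F →+* F} {cls : List (List ℕ)} {G1 : Subgroup (GL D.Idx F)}

/-- class elements of negative roots of two orthogonal classes commute -/
theorem clsEl_neg_comm (X : TwGrp T φ cls G1) {J J' : List ℕ} (hJ : J ∈ cls) (hJ' : J' ∈ cls)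
    (horth : ∀ j ∈ J, ∀ j' ∈ J', OrthJ D j j') {t t' : F}
    (ht : φ^[J.length] t = t) (ht' : φ^[J'.length] t' = t') :
    X.clsEl hJ (f := fun j => D.neg (D.simple j)) (by simp) ht *
        X.clsEl hJ' (f := fun j => D.neg (D.simple j)) (by simp) ht' =
      X.clsEl hJ' (f := fun j => D.neg (D.simple j)) (by simp) ht' *
        X.clsEl hJ (f := fun j => D.neg (D.simple j)) (by simp) ht := by
  apply Subtype.ext
  apply Units.ext
  show ((wG D F (clsWS (fun j => D.neg (D.simple j)) φ J t) : GL D.Idx F) : Matrix D.Idx D.Idx F) *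
      ((wG D F (clsWS (fun j => D.neg (D.simple j)) φ J' t') : GL D.Idx F) : Matrix D.Idx D.Idx F) =
    ((wG D F (clsWS (fun j => D.neg (D.simple j)) φ J' t') : GL D.Idx F) : Matrix D.Idx D.Idx F) *
      ((wG D F (clsWS (fun j => D.neg (D.simple j)) φ J t) : GL D.Idx F) : Matrix D.Idx D.Idx F)
  rw [X.coe_cls hJ (by simp), X.coe_cls hJ' (by simp)]
  apply wN_comm_word X.hD
  intro p hp
  obtain ⟨j, hj, ej⟩ := clsWS_letters _ φ J _ p hp
  refine ⟨j, (X.cd.ok J hJ).lt j hj, by rw [ej]; simp, ?_⟩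
  intro q hq
  obtain ⟨j', hj', ej'⟩ := clsWS_letters _ φ J' _ q hq
  exact ⟨j', (X.cd.ok J' hJ').lt j' hj', horth j hj j' hj', by rw [ej']; simp⟩

/-- if `θ` maps `X_{-J}` into `X_{-J'}` and the field of `J'` is not larger than that of `J`, then
`θ` maps `X_{-J}` onto `X_{-J'}` -/
theorem cls_neg_surj [Finite F] (X : TwGrp T φ cls G1) {θ : MulAut ↥G1} {J J' : List ℕ}
    (hJ : J ∈ cls) (hJ' : J' ∈ cls)
    (hc : Nat.card {t : F // φ^[J'.length] t = t} ≤ Nat.card {t : F // φ^[J.length] t = t})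
    (h : ∀ (t : F) (ht : φ^[J.length] t = t), ∃ (t' : F) (ht' : φ^[J'.length] t' = t'),
      θ (X.clsEl hJ (f := fun j => D.neg (D.simple j)) (by simp) ht) =
        X.clsEl hJ' (f := fun j => D.neg (D.simple j)) (by simp) ht')
    (t' : F) (ht' : φ^[J'.length] t' = t') :
    ∃ (t : F) (ht : φ^[J.length] t = t),
      θ (X.clsEl hJ (f := fun j => D.neg (D.simple j)) (by simp) ht) =
        X.clsEl hJ' (f := fun j => D.neg (D.simple j)) (by simp) ht' := by
  choose g hg1 hg2 using h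
  have hinj : Function.Injective (fun t : {t : F // φ^[J.length] t = t} =>
      (⟨g t.1 t.2, hg1 t.1 t.2⟩ : {t : F // φ^[J'.length] t = t})) := by
    intro a b hab
    have hab' : g a.1 a.2 = g b.1 b.2 := congrArg Subtype.val hab
    have h1 := hg2 a.1 a.2
    have h2 := hg2 b.1 b.2
    have h3 : X.clsEl hJ' (f := fun j => D.neg (D.simple j)) (by simp) (hg1 a.1 a.2) =
        X.clsEl hJ' (f := fun j => D.neg (D.simple j)) (by simp) (hg1 b.1 b.2) := by
      apply Subtype.ext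
      show wG D F (clsWS (fun j => D.neg (D.simple j)) φ J' (g a.1 a.2)) =
        wG D F (clsWS (fun j => D.neg (D.simple j)) φ J' (g b.1 b.2))
      rw [hab']
    have h4 := θ.injective (h1.trans (h3.trans h2.symm))
    have h5 : wG D F (clsWS (fun j => D.neg (D.simple j)) φ J a.1) =
        wG D F (clsWS (fun j => D.neg (D.simple j)) φ J b.1) :=
      congrArg (fun z : ↥G1 => (z : GL D.Idx F)) h4
    exact Subtype.ext (X.cls_neg_inj hJ a.2 b.2 h5)
  have hbij := hinj.bijective_of_nat_card_le hc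
  obtain ⟨a, ha⟩ := hbij.2 ⟨t', ht'⟩
  have ha' : g a.1 a.2 = t' := congrArg Subtype.val ha
  refine ⟨a.1, a.2, ?_⟩
  rw [hg2 a.1 a.2]
  apply Subtype.ext
  show wG D F (clsWS (fun j => D.neg (D.simple j)) φ J' (g a.1 a.2)) =
    wG D F (clsWS (fun j => D.neg (D.simple j)) φ J' t')
  rw [ha']

end General

section Perm

variable {F : Type*} [Field F] {φ : F →+* F} {G1 : Subgroup (GL chevE6.Idx F)}

theorem mem3 : ([3] : List ℕ) ∈ clsE6 := by decide
theorem mem24 : ([2, 4] : List ℕ) ∈ clsE6 := by decide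
theorem mem1 : ([1] : List ℕ) ∈ clsE6 := by decide
theorem mem05 : ([0, 5] : List ℕ) ∈ clsE6 := by decide

theorem orth_1_05 : ∀ j ∈ ([1] : List ℕ), ∀ j' ∈ ([0, 5] : List ℕ), OrthJ chevE6 j j' := by
  decide +kernel
theorem orth_1_24 : ∀ j ∈ ([1] : List ℕ), ∀ j' ∈ ([2, 4] : List ℕ), OrthJ chevE6 j j' := by
  decide +kernel
theorem orth_3_05 : ∀ j ∈ ([3] : List ℕ), ∀ j' ∈ ([0, 5] : List ℕ), OrthJ chevE6 j j' := by
  decide +kernel

/-- the non-commutation contradiction: two orthogonal classes cannot be mapped onto `[3]`, `[2,4]` -/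
theorem not_both [Finite F] (X : TwGrp twOk_E6 φ clsE6 G1) (θ : MulAut ↥G1)
    {J₁ J₂ : List ℕ} (h₁ : J₁ ∈ clsE6) (h₂ : J₂ ∈ clsE6)
    (horth : ∀ j ∈ J₁, ∀ j' ∈ J₂, OrthJ chevE6 j j')
    (hl₁ : J₁.length = 1) (hl₂ : J₂.length = 2)
    (hel₁ : ∀ (t : F) (ht : φ^[J₁.length] t = t), ∃ (t' : F) (ht' : φ^[([3] : List ℕ).length] t' = t'),
      θ (X.clsEl h₁ (f := fun j => chevE6.neg (chevE6.simple j)) (by simp) ht) =
        X.clsEl mem3 (f := fun j => chevE6.neg (chevE6.simple j)) (by simp) ht')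
    (hel₂ : ∀ (t : F) (ht : φ^[J₂.length] t = t), ∃ (t' : F) (ht' : φ^[([2, 4] : List ℕ).length] t' = t'),
      θ (X.clsEl h₂ (f := fun j => chevE6.neg (chevE6.simple j)) (by simp) ht) =
        X.clsEl mem24 (f := fun j => chevE6.neg (chevE6.simple j)) (by simp) ht') : False := by
  have hone3 : φ^[([3] : List ℕ).length] (1 : F) = 1 := by rw [TwGrp.iterate_ringHom, map_one]
  have hone24 : φ^[([2, 4] : List ℕ).length] (1 : F) = 1 := by rw [TwGrp.iterate_ringHom, map_one]
  obtain ⟨s, hs, e₁⟩ := cls_neg_surj X h₁ mem3 (by rw [hl₁]; exact le_rfl) hel₁ 1 hone3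
  obtain ⟨t, ht, e₂⟩ := cls_neg_surj X h₂ mem24 (by rw [hl₂]; exact le_rfl) hel₂ 1 hone24
  have hc := clsEl_neg_comm X h₁ h₂ horth hs ht
  have hc' := congrArg θ hc
  rw [map_mul, map_mul, e₁, e₂] at hc'
  apply Cfsg.Agent.Lib.Helper27.TwE6NotComm.e6_neg_not_comm (F := F) φ
  have h3 := congrArg (fun z : ↥G1 => ((z : GL chevE6.Idx F) : Matrix chevE6.Idx chevE6.Idx F)) hc'
  have h4 : ((wG chevE6 F (clsWS (fun j => chevE6.neg (chevE6.simple j)) φ [3] 1) : GL chevE6.Idx F) :
        Matrix chevE6.Idx chevE6.Idx F) *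
      ((wG chevE6 F (clsWS (fun j => chevE6.neg (chevE6.simple j)) φ [2, 4] 1) : GL chevE6.Idx F) :
        Matrix chevE6.Idx chevE6.Idx F) =
      ((wG chevE6 F (clsWS (fun j => chevE6.neg (chevE6.simple j)) φ [2, 4] 1) : GL chevE6.Idx F) :
        Matrix chevE6.Idx chevE6.Idx F) *
      ((wG chevE6 F (clsWS (fun j => chevE6.neg (chevE6.simple j)) φ [3] 1) : GL chevE6.Idx F) :
        Matrix chevE6.Idx chevE6.Idx F) := h3
  rw [X.coe_cls mem3 (by simp), X.coe_cls mem24 (by simp)] at h4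
  exact h4

theorem mem_cases (K : List ℕ) (hK : K ∈ clsE6) :
    K = [1] ∨ K = [3] ∨ K = [0, 5] ∨ K = [2, 4] := by
  simpa [clsE6] using hK

/-- a class of length 2 is mapped to a class of length 2 -/
theorem len_two [Finite F] (X : TwGrp twOk_E6 φ clsE6 G1) (θ : MulAut ↥G1)
    (hlt : Nat.card {t : F // φ^[1] t = t} < Nat.card {t : F // φ^[2] t = t})
    {K K' : List ℕ} (hK : K ∈ clsE6) (hK' : K' ∈ clsE6) (hl : K.length = 2)
    (hel : ∀ (t : F) (ht : φ^[K.length] t = t), ∃ (t' : F) (ht' : φ^[K'.length] t' = t'),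
      θ (X.clsEl hK (f := fun j => chevE6.neg (chevE6.simple j)) (by simp) ht) =
        X.clsEl hK' (f := fun j => chevE6.neg (chevE6.simple j)) (by simp) ht') :
    K' = [0, 5] ∨ K' = [2, 4] := by
  have h1 := X.card_fix_le hK hK' hel
  rw [hl] at h1
  rcases mem_cases K' hK' with rfl | rfl | rfl | rfl
  · exfalso
    have h2 : Nat.card {t : F // φ^[2] t = t} ≤ Nat.card {t : F // φ^[1] t = t} := h1
    omega
  · exfalso
    have h2 : Nat.card {t : F // φ^[2] t = t} ≤ Nat.card {t : F // φ^[1] t = t} := h1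
    omega
  · exact Or.inl rfl
  · exact Or.inr rfl

/-- **SA-P**: for `²E₆` an automorphism preserving `U¹`, `V¹` fixes every class root subgroup
`X_{-J}`. -/
theorem negFix_E6 [Finite F] [Finite ↥G1] (X : TwGrp twOk_E6 φ clsE6 G1)
    {PP : Cfsg.BNPair ↥G1} (hP : X.IsBN PP)
    (hlt : Nat.card {t : F // φ^[1] t = t} < Nat.card {t : F // φ^[2] t = t})
    (θ : MulAut ↥G1) (hU : PresT θ (chevE6.posUnipotent F)) (hV : PresT θ (chevE6.negUnipotent F))
    (J : List ℕ) (hJ : J ∈ clsE6) (t : F) (ht : φ^[J.length] t = t) :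
    ∃ (t' : F) (ht' : φ^[J.length] t' = t'),
      θ (X.clsEl hJ (f := fun j => chevE6.neg (chevE6.simple j)) (by simp) ht) =
        X.clsEl hJ (f := fun j => chevE6.neg (chevE6.simple j)) (by simp) ht' := by
  obtain ⟨JC, hJC, hmapC, helC⟩ := hP.neg_simple_perm hU hV mem05
  obtain ⟨JD, hJD, hmapD, helD⟩ := hP.neg_simple_perm hU hV mem24
  obtain ⟨JA, hJA, hmapA, helA⟩ := hP.neg_simple_perm hU hV mem1
  obtain ⟨JB, hJB, hmapB, helB⟩ := hP.neg_simple_perm hU hV mem3
  have hC2 := len_two X θ hlt mem05 hJC rfl helC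
  have hD2 := len_two X θ hlt mem24 hJD rfl helD
  have hCD : JC ≠ JD := by
    rintro rfl
    exact absurd (hP.perm_inj mem05 mem24 hJC hmapC hmapD) (by decide)
  have hAC : JA ≠ JC := by
    rintro rfl
    exact absurd (hP.perm_inj mem1 mem05 hJA hmapA hmapC) (by decide)
  have hAD : JA ≠ JD := by
    rintro rfl
    exact absurd (hP.perm_inj mem1 mem24 hJA hmapA hmapD) (by decide)
  have hBC : JB ≠ JC := by
    rintro rfl
    exact absurd (hP.perm_inj mem3 mem05 hJB hmapB hmapC) (by decide)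
  have hBD : JB ≠ JD := by
    rintro rfl
    exact absurd (hP.perm_inj mem3 mem24 hJB hmapB hmapD) (by decide)
  have hAB : JA ≠ JB := by
    rintro rfl
    exact absurd (hP.perm_inj mem1 mem3 hJA hmapA hmapB) (by decide)
  have hA := mem_cases JA hJA
  have hB := mem_cases JB hJB
  rcases hC2 with rfl | rfl <;> rcases hD2 with rfl | rfl <;>
    rcases hA with rfl | rfl | rfl | rfl <;> rcases hB with rfl | rfl | rfl | rfl
  all_goals first
    | exact absurd rfl hCD
    | exact absurd rfl hAC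
    | exact absurd rfl hAD
    | exact absurd rfl hBC
    | exact absurd rfl hBD
    | exact absurd rfl hAB
    | exact (not_both X θ mem1 mem24 orth_1_24 rfl rfl helA helD).elim
    | exact (not_both X θ mem1 mem05 orth_1_05 rfl rfl helA helC).elim
    | exact (not_both X θ mem3 mem05 orth_3_05 rfl rfl helB helC).elim
    | (rcases mem_cases J hJ with rfl | rfl | rfl | rfl
       · exact helA t ht
       · exact helB t ht
       · exact helC t ht
       · exact helD t ht)

end Perm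

end Cfsg.Agent.Lib.Helper7.TwOutP
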