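import Cfsg.Agent.Lib.Helper8.ChevTw51

/-!
# S2129/S2130 sub-assembly SA-S (architect helper8): `U¹` is a Sylow `p`-subgroup of `³D₄(q)`, `²E₆(q)`
(cardinality form).
-/

set_option autoImplicit false

namespace Cfsg.Agent.Lib.Helper7.TwOutS

open Cfsg.Lie Matrix Cfsg.Agent.Lib.Helper8.Chev

/-- `p ^ v_p((p^k)^e * M) = (p^k)^e` when `p ∤ M` -/
theorem pow_factorization_mul_of_not_dvd (p k e M : ℕ) (hp : p.Prime) (hM : ¬ p ∣ M) :
    p ^ ((p ^ k) ^ e * M).factorization p = (p ^ k) ^ e := by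
  have hM0 : M ≠ 0 := by
    rintro rfl
    exact hM (dvd_zero p)
  have h1 : ((p ^ k) ^ e) ≠ 0 := pow_ne_zero _ (pow_ne_zero _ hp.ne_zero)
  rw [Nat.factorization_mul h1 hM0, Finsupp.add_apply, Nat.factorization_pow,
    Nat.factorization_pow, Finsupp.smul_apply, Finsupp.smul_apply, hp.factorization_self,
    Nat.factorization_eq_zero_of_not_dvd hM, smul_eq_mul, smul_eq_mul, mul_one, add_zero,
    ← pow_mul, mul_comm]

/-- the prime of a prime power `q` with `|K| = q ^ n` is the characteristic -/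
theorem exists_pow_eq_of_char {K : Type*} [Field K] [Fintype K] (p : ℕ) [Fact p.Prime] [CharP K p]
    {q n : ℕ} (hq : IsPrimePow q) (hK : Fintype.card K = q ^ n) : ∃ k : ℕ, 0 < k ∧ q = p ^ k := by
  obtain ⟨p', k, hp', hk, rfl⟩ := (isPrimePow_nat_iff q).1 hq
  obtain ⟨⟨n', hn'⟩, hp, hcard⟩ := FiniteField.card K p
  refine ⟨k, hk, ?_⟩
  have h1 : p ∣ (p' ^ k) ^ n := by
    rw [← hK, hcard]
    exact dvd_pow_self p hn'.ne'
  have h2 : p ∣ p' := hp.dvd_of_dvd_pow (hp.dvd_of_dvd_pow h1)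
  rw [(Nat.prime_dvd_prime_iff_eq hp hp').1 h2]

theorem not_dvd_pred_of_dvd {p a : ℕ} (hp : p.Prime) (ha : p ∣ a) (ha1 : 1 ≤ a) : ¬ p ∣ a - 1 := by
  intro h
  have h1 : p ∣ a - (a - 1) := Nat.dvd_sub ha h
  rw [Nat.sub_sub_self ha1] at h1
  exact hp.one_lt.ne' (Nat.dvd_one.1 h1)

theorem not_dvd_succ_of_dvd {p a : ℕ} (hp : p.Prime) (ha : p ∣ a) : ¬ p ∣ a + 1 := by
  intro h
  have h1 : p ∣ 1 := (Nat.dvd_add_right ha).1 h
  exact hp.one_lt.ne' (Nat.dvd_one.1 h1)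

section Sylow

variable {K : Type*} [Field K] {q : ℕ}

theorem twD4_sylow_card [Fintype K] (p : ℕ) [Fact p.Prime] [CharP K p] (hq : IsPrimePow q)
    (hK : Fintype.card K = q ^ 3) :
    Nat.card ↥((chevD4.posUnipotent K ⊓ twistedD4 K q).subgroupOf (twistedD4 K q)) =
      p ^ (Nat.card ↥(twistedD4 K q)).factorization p := by
  have hp : p.Prime := Fact.out
  obtain ⟨k, hk, rfl⟩ := exists_pow_eq_of_char p hq hK
  have hcardU : Nat.card ↥((chevD4.posUnipotent K ⊓ twistedD4 K (p ^ k)).subgroupOf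
      (twistedD4 K (p ^ k))) = (p ^ k) ^ 12 := by
    rw [← card_pos_twD4 hq hK]
    exact Nat.card_congr (Subgroup.subgroupOfEquivOfLe inf_le_right).toEquiv
  rw [hcardU, twD4_card hq hK]
  have hpq : ∀ n : ℕ, 0 < n → p ∣ (p ^ k) ^ n := fun n hn =>
    dvd_pow (dvd_pow_self p hk.ne') hn.ne'
  have h1 : ∀ n : ℕ, 1 ≤ (p ^ k) ^ n := fun n => Nat.one_le_pow _ _ (Nat.one_le_pow _ _ hp.pos)
  have hM : ¬ p ∣ ((p ^ k) ^ 2 - 1) * ((p ^ k) ^ 6 - 1) * ((p ^ k) ^ 8 + (p ^ k) ^ 4 + 1) := by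
    intro h
    rcases (Nat.Prime.dvd_mul hp).1 h with h | h
    · rcases (Nat.Prime.dvd_mul hp).1 h with h | h
      · exact not_dvd_pred_of_dvd hp (hpq 2 (by norm_num)) (h1 2) h
      · exact not_dvd_pred_of_dvd hp (hpq 6 (by norm_num)) (h1 6) h
    · exact not_dvd_succ_of_dvd hp
        (dvd_add (hpq 8 (by norm_num)) (hpq 4 (by norm_num))) h
  have := pow_factorization_mul_of_not_dvd p k 12 _ hp hM
  rw [show (p ^ k) ^ 12 * ((p ^ k) ^ 2 - 1) * ((p ^ k) ^ 6 - 1) * ((p ^ k) ^ 8 + (p ^ k) ^ 4 + 1)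
    = (p ^ k) ^ 12 * (((p ^ k) ^ 2 - 1) * ((p ^ k) ^ 6 - 1) * ((p ^ k) ^ 8 + (p ^ k) ^ 4 + 1))
    by simp only [mul_assoc]]
  exact this.symm

theorem twE6_sylow_card [Fintype K] (p : ℕ) [Fact p.Prime] [CharP K p] (hq : IsPrimePow q)
    (hK : Fintype.card K = q ^ 2) :
    Nat.card ↥((chevE6.posUnipotent K ⊓ twistedE6 K q).subgroupOf (twistedE6 K q)) =
      p ^ (Nat.card ↥(twistedE6 K q)).factorization p := by
  have hp : p.Prime := Fact.out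
  obtain ⟨k, hk, rfl⟩ := exists_pow_eq_of_char p hq hK
  have hcardU : Nat.card ↥((chevE6.posUnipotent K ⊓ twistedE6 K (p ^ k)).subgroupOf
      (twistedE6 K (p ^ k))) = (p ^ k) ^ 36 := by
    rw [← card_pos_twE6 hq hK]
    exact Nat.card_congr (Subgroup.subgroupOfEquivOfLe inf_le_right).toEquiv
  rw [hcardU]
  have hcard := twE6_card hq hK
  have hpq : ∀ n : ℕ, 0 < n → p ∣ (p ^ k) ^ n := fun n hn =>
    dvd_pow (dvd_pow_self p hk.ne') hn.ne'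
  have h1 : ∀ n : ℕ, 1 ≤ (p ^ k) ^ n := fun n => Nat.one_le_pow _ _ (Nat.one_le_pow _ _ hp.pos)
  have hM : ¬ p ∣ ((p ^ k) ^ 2 - 1) * ((p ^ k) ^ 5 + 1) * ((p ^ k) ^ 6 - 1) * ((p ^ k) ^ 8 - 1) *
      ((p ^ k) ^ 9 + 1) * ((p ^ k) ^ 12 - 1) := by
    intro h
    rcases (Nat.Prime.dvd_mul hp).1 h with h | h
    · rcases (Nat.Prime.dvd_mul hp).1 h with h | h
      · rcases (Nat.Prime.dvd_mul hp).1 h with h | h
        · rcases (Nat.Prime.dvd_mul hp).1 h with h | h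
          · rcases (Nat.Prime.dvd_mul hp).1 h with h | h
            · exact not_dvd_pred_of_dvd hp (hpq 2 (by norm_num)) (h1 2) h
            · exact not_dvd_succ_of_dvd hp (hpq 5 (by norm_num)) h
          · exact not_dvd_pred_of_dvd hp (hpq 6 (by norm_num)) (h1 6) h
        · exact not_dvd_pred_of_dvd hp (hpq 8 (by norm_num)) (h1 8) h
      · exact not_dvd_succ_of_dvd hp (hpq 9 (by norm_num)) h
    · exact not_dvd_pred_of_dvd hp (hpq 12 (by norm_num)) (h1 12) h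
  have hM0 : ((p ^ k) ^ 2 - 1) * ((p ^ k) ^ 5 + 1) * ((p ^ k) ^ 6 - 1) * ((p ^ k) ^ 8 - 1) *
      ((p ^ k) ^ 9 + 1) * ((p ^ k) ^ 12 - 1) ≠ 0 := by
    intro h0
    rw [h0] at hM
    exact hM (dvd_zero p)
  have hfac := pow_factorization_mul_of_not_dvd p k 36 _ hp hM
  -- the gcd factor is prime to `p`
  have hg : ¬ p ∣ Nat.gcd 3 (p ^ k + 1) := by
    intro h
    have h2 : p ∣ p ^ k + 1 := h.trans (Nat.gcd_dvd_right _ _)
    exact not_dvd_succ_of_dvd hp (dvd_pow_self p hk.ne') h2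
  have hg0 : Nat.gcd 3 (p ^ k + 1) ≠ 0 := by
    intro h0
    rw [h0] at hg
    exact hg (dvd_zero p)
  have hN0 : Nat.card ↥(twistedE6 K (p ^ k)) ≠ 0 := by
    intro h0
    rw [h0, mul_zero] at hcard
    have h3 : (p ^ k) ^ 36 ≠ 0 := pow_ne_zero _ (pow_ne_zero _ hp.ne_zero)
    have h4 := hcard.symm
    simp only [mul_assoc] at h4 hM0
    exact (mul_ne_zero h3 hM0) h4
  have hfac2 : (Nat.gcd 3 (p ^ k + 1) * Nat.card ↥(twistedE6 K (p ^ k))).factorization p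
      = (Nat.card ↥(twistedE6 K (p ^ k))).factorization p := by
    rw [Nat.factorization_mul hg0 hN0, Finsupp.add_apply,
      Nat.factorization_eq_zero_of_not_dvd hg, zero_add]
  rw [← hfac2, hcard]
  rw [show (p ^ k) ^ 36 * ((p ^ k) ^ 2 - 1) * ((p ^ k) ^ 5 + 1) * ((p ^ k) ^ 6 - 1) *
      ((p ^ k) ^ 8 - 1) * ((p ^ k) ^ 9 + 1) * ((p ^ k) ^ 12 - 1)
    = (p ^ k) ^ 36 * (((p ^ k) ^ 2 - 1) * ((p ^ k) ^ 5 + 1) * ((p ^ k) ^ 6 - 1) *
      ((p ^ k) ^ 8 - 1) * ((p ^ k) ^ 9 + 1) * ((p ^ k) ^ 12 - 1)) by simp only [mul_assoc]]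
  exact hfac.symm

end Sylow

end Cfsg.Agent.Lib.Helper7.TwOutS
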