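import Mathlib

/-!
# S2129/S2130 farm-out FO-R1 (architect helper8): automorphisms in rank one.  Mathlib only.
-/

set_option autoImplicit false

namespace Cfsg.Agent.Lib.Helper7.TwRankOne

open Matrix

variable {k : Type*} [Field k]

/-- upper unitriangular matrices -/
def upS (t : k) : Matrix.SpecialLinearGroup (Fin 2) k :=
  ⟨!![1, t; 0, 1], by simp [Matrix.det_fin_two]⟩

/-- lower unitriangular matrices -/
def loS (t : k) : Matrix.SpecialLinearGroup (Fin 2) k :=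
  ⟨!![1, 0; t, 1], by simp [Matrix.det_fin_two]⟩

/-- the diagonal matrix `diag(t, t⁻¹)` (for `t ≠ 0`) as the word `n(t) n(-1)` -/
def dgS (t : k) : Matrix.SpecialLinearGroup (Fin 2) k :=
  upS t * loS (-t⁻¹) * upS t * (upS (-1) * loS (-(-1 : k)⁻¹) * upS (-1))

theorem sl2_ext {A B : Matrix.SpecialLinearGroup (Fin 2) k} (h00 : A 0 0 = B 0 0)
    (h01 : A 0 1 = B 0 1) (h10 : A 1 0 = B 1 0) (h11 : A 1 1 = B 1 1) : A = B := by
  apply Matrix.SpecialLinearGroup.ext
  intro i j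
  fin_cases i <;> fin_cases j <;> assumption

theorem mul_apply2 (A B : Matrix.SpecialLinearGroup (Fin 2) k) (i j : Fin 2) :
    (A * B) i j = A i 0 * B 0 j + A i 1 * B 1 j := by
  rw [Matrix.SpecialLinearGroup.coe_mul, Matrix.mul_apply, Fin.sum_univ_two]

theorem det2 (A : Matrix.SpecialLinearGroup (Fin 2) k) :
    A 0 0 * A 1 1 - A 0 1 * A 1 0 = 1 := by
  have := A.det_coe
  rwa [Matrix.det_fin_two] at this

theorem inv_00 (A : Matrix.SpecialLinearGroup (Fin 2) k) : (A⁻¹) 0 0 = A 1 1 := by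
  rw [Matrix.SpecialLinearGroup.coe_inv, Matrix.adjugate_fin_two]; simp
theorem inv_01 (A : Matrix.SpecialLinearGroup (Fin 2) k) : (A⁻¹) 0 1 = - A 0 1 := by
  rw [Matrix.SpecialLinearGroup.coe_inv, Matrix.adjugate_fin_two]; simp
theorem inv_10 (A : Matrix.SpecialLinearGroup (Fin 2) k) : (A⁻¹) 1 0 = - A 1 0 := by
  rw [Matrix.SpecialLinearGroup.coe_inv, Matrix.adjugate_fin_two]; simp
theorem inv_11 (A : Matrix.SpecialLinearGroup (Fin 2) k) : (A⁻¹) 1 1 = A 0 0 := by
  rw [Matrix.SpecialLinearGroup.coe_inv, Matrix.adjugate_fin_two]; simp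

@[simp] theorem upS_00 (t : k) : upS t 0 0 = 1 := rfl
@[simp] theorem upS_01 (t : k) : upS t 0 1 = t := rfl
@[simp] theorem upS_10 (t : k) : upS t 1 0 = 0 := rfl
@[simp] theorem upS_11 (t : k) : upS t 1 1 = 1 := rfl
@[simp] theorem loS_00 (t : k) : loS t 0 0 = 1 := rfl
@[simp] theorem loS_01 (t : k) : loS t 0 1 = 0 := rfl
@[simp] theorem loS_10 (t : k) : loS t 1 0 = t := rfl
@[simp] theorem loS_11 (t : k) : loS t 1 1 = 1 := rfl

theorem upS_add (s t : k) : upS (s + t) = upS s * upS t := by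
  apply sl2_ext <;> simp [mul_apply2]
  ring

theorem loS_add (s t : k) : loS (s + t) = loS s * loS t := by
  apply sl2_ext <;> simp [mul_apply2]

theorem upS_zero : upS (0 : k) = 1 := by
  apply sl2_ext <;> simp

theorem loS_zero : loS (0 : k) = 1 := by
  apply sl2_ext <;> simp

theorem upS_neg (t : k) : upS (-t) = (upS t)⁻¹ := by
  rw [eq_inv_iff_mul_eq_one, ← upS_add, neg_add_cancel, upS_zero]

theorem loS_neg (t : k) : loS (-t) = (loS t)⁻¹ := by
  rw [eq_inv_iff_mul_eq_one, ← loS_add, neg_add_cancel, loS_zero]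

theorem dgS_00 (t : k) (ht : t ≠ 0) : dgS t 0 0 = t := by
  simp only [dgS, mul_apply2, upS_00, upS_01, upS_10, upS_11, loS_00, loS_01, loS_10, loS_11,
    inv_neg_one]
  field_simp
  ring

theorem dgS_01 (t : k) (ht : t ≠ 0) : dgS t 0 1 = 0 := by
  simp only [dgS, mul_apply2, upS_00, upS_01, upS_10, upS_11, loS_00, loS_01, loS_10, loS_11,
    inv_neg_one]
  field_simp
  ring

theorem dgS_10 (t : k) (ht : t ≠ 0) : dgS t 1 0 = 0 := by
  simp only [dgS, mul_apply2, upS_00, upS_01, upS_10, upS_11, loS_00, loS_01, loS_10, loS_11,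
    inv_neg_one]
  field_simp
  ring

theorem dgS_11 (t : k) (ht : t ≠ 0) : dgS t 1 1 = t⁻¹ := by
  simp only [dgS, mul_apply2, upS_00, upS_01, upS_10, upS_11, loS_00, loS_01, loS_10, loS_11,
    inv_neg_one]
  field_simp
  ring

theorem map_apply2 (φ : k →+* k) (A : Matrix.SpecialLinearGroup (Fin 2) k) (i j : Fin 2) :
    (Matrix.SpecialLinearGroup.map φ A) i j = φ (A i j) := by
  rw [Matrix.SpecialLinearGroup.map_apply_coe, RingHom.mapMatrix_apply, Matrix.map_apply]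

theorem map_upS (φ : k →+* k) (t : k) : Matrix.SpecialLinearGroup.map φ (upS t) = upS (φ t) := by
  apply sl2_ext <;> simp [map_apply2]

theorem map_loS (φ : k →+* k) (t : k) : Matrix.SpecialLinearGroup.map φ (loS t) = loS (φ t) := by
  apply sl2_ext <;> simp [map_apply2]

theorem dec_of_ne (M : Matrix.SpecialLinearGroup (Fin 2) k) (hc : M 1 0 ≠ 0) :
    M = upS ((M 0 0 - 1) / M 1 0) * loS (M 1 0) * upS ((M 1 1 - 1) / M 1 0) := by
  have hd := det2 M
  apply sl2_ext <;> simp [mul_apply2]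
  · field_simp; ring
  · field_simp; linear_combination (-1 : k) * hd
  · field_simp; ring

theorem closure_upS_loS :
    Subgroup.closure (Set.range (upS : k → Matrix.SpecialLinearGroup (Fin 2) k) ∪ Set.range loS)
      = ⊤ := by
  rw [eq_top_iff]
  intro A _
  have hup : ∀ t : k, upS t ∈ Subgroup.closure
      (Set.range (upS : k → Matrix.SpecialLinearGroup (Fin 2) k) ∪ Set.range loS) :=
    fun t => Subgroup.subset_closure (Or.inl ⟨t, rfl⟩)
  have hlo : ∀ t : k, loS t ∈ Subgroup.closure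
      (Set.range (upS : k → Matrix.SpecialLinearGroup (Fin 2) k) ∪ Set.range loS) :=
    fun t => Subgroup.subset_closure (Or.inr ⟨t, rfl⟩)
  have hgen : ∀ M : Matrix.SpecialLinearGroup (Fin 2) k, M 1 0 ≠ 0 → M ∈ Subgroup.closure
      (Set.range (upS : k → Matrix.SpecialLinearGroup (Fin 2) k) ∪ Set.range loS) := by
    intro M hM
    rw [dec_of_ne M hM]
    exact Subgroup.mul_mem _ (Subgroup.mul_mem _ (hup _) (hlo _)) (hup _)
  by_cases hA : A 1 0 = 0
  · have hd := det2 A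
    have h00 : A 0 0 ≠ 0 := by
      intro h0
      rw [h0, hA] at hd
      simp at hd
    have hB : (loS 1 * A : Matrix.SpecialLinearGroup (Fin 2) k) 1 0 ≠ 0 := by
      rw [mul_apply2]; simpa [hA] using h00
    have : A = loS (-1) * (loS 1 * A) := by
      rw [← mul_assoc, ← loS_add]; simp [loS_zero]
    rw [this]
    exact Subgroup.mul_mem _ (hlo _) (hgen _ hB)
  · exact hgen A hA

section main

variable {Γ : Type*} [Group Γ]

theorem ker_offdiag (Φ' : Matrix.SpecialLinearGroup (Fin 2) k →* Γ) (Uu Vv : Subgroup Γ)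
    (hUV : Uu ⊓ Vv = ⊥)
    (hx : ∀ t : k, Φ' (upS t) ∈ Uu) (hy : ∀ t : k, Φ' (loS t) ∈ Vv)
    (hxinj : ∀ t : k, Φ' (upS t) = 1 → t = 0) (hyinj : ∀ t : k, Φ' (loS t) = 1 → t = 0)
    (M : Matrix.SpecialLinearGroup (Fin 2) k) (hM : Φ' M = 1) : M 1 0 = 0 ∧ M 0 1 = 0 := by
  have hd := det2 M
  constructor
  · by_contra hc
    have hdec : M = upS ((M 0 0 - 1) / M 1 0) * loS (M 1 0) * upS ((M 1 1 - 1) / M 1 0) := by
      apply sl2_ext <;> simp [mul_apply2]
      · field_simp; ring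
      · field_simp; linear_combination (-1 : k) * hd
      · field_simp; ring
    have h1 : Φ' (loS (M 1 0)) = (Φ' (upS ((M 0 0 - 1) / M 1 0)))⁻¹ *
        (Φ' (upS ((M 1 1 - 1) / M 1 0)))⁻¹ := by
      have h := congrArg Φ' hdec
      rw [hM, map_mul, map_mul] at h
      calc Φ' (loS (M 1 0)) = (Φ' (upS ((M 0 0 - 1) / M 1 0)))⁻¹ *
            (Φ' (upS ((M 0 0 - 1) / M 1 0)) * Φ' (loS (M 1 0)) * Φ' (upS ((M 1 1 - 1) / M 1 0))) *
            (Φ' (upS ((M 1 1 - 1) / M 1 0)))⁻¹ := by group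
        _ = _ := by rw [← h, mul_one]
    have h2 : Φ' (loS (M 1 0)) ∈ Uu ⊓ Vv :=
      ⟨by rw [h1]; exact Uu.mul_mem (Uu.inv_mem (hx _)) (Uu.inv_mem (hx _)), hy _⟩
    rw [hUV, Subgroup.mem_bot] at h2
    exact hc (hyinj _ h2)
  · by_contra hc
    have hdec : M = loS ((M 1 1 - 1) / M 0 1) * upS (M 0 1) * loS ((M 0 0 - 1) / M 0 1) := by
      apply sl2_ext <;> simp [mul_apply2]
      · field_simp; ring
      · field_simp; linear_combination (-1 : k) * hd
      · field_simp; ring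
    have h1 : Φ' (upS (M 0 1)) = (Φ' (loS ((M 1 1 - 1) / M 0 1)))⁻¹ *
        (Φ' (loS ((M 0 0 - 1) / M 0 1)))⁻¹ := by
      have h := congrArg Φ' hdec
      rw [hM, map_mul, map_mul] at h
      calc Φ' (upS (M 0 1)) = (Φ' (loS ((M 1 1 - 1) / M 0 1)))⁻¹ *
            (Φ' (loS ((M 1 1 - 1) / M 0 1)) * Φ' (upS (M 0 1)) * Φ' (loS ((M 0 0 - 1) / M 0 1))) *
            (Φ' (loS ((M 0 0 - 1) / M 0 1)))⁻¹ := by group
        _ = _ := by rw [← h, mul_one]
    have h2 : Φ' (upS (M 0 1)) ∈ Uu ⊓ Vv :=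
      ⟨hx _, by rw [h1]; exact Vv.mul_mem (Vv.inv_mem (hy _)) (Vv.inv_mem (hy _))⟩
    rw [hUV, Subgroup.mem_bot] at h2
    exact hc (hxinj _ h2)

theorem eq_offdiag (Φ' : Matrix.SpecialLinearGroup (Fin 2) k →* Γ) (Uu Vv : Subgroup Γ)
    (hUV : Uu ⊓ Vv = ⊥)
    (hx : ∀ t : k, Φ' (upS t) ∈ Uu) (hy : ∀ t : k, Φ' (loS t) ∈ Vv)
    (hxinj : ∀ t : k, Φ' (upS t) = 1 → t = 0) (hyinj : ∀ t : k, Φ' (loS t) = 1 → t = 0)
    (X Y : Matrix.SpecialLinearGroup (Fin 2) k) (h : Φ' X = Φ' Y) :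
    X 1 0 * Y 1 1 = X 1 1 * Y 1 0 ∧ X 0 1 * Y 0 0 = X 0 0 * Y 0 1 := by
  have hM : Φ' (X * Y⁻¹) = 1 := by rw [map_mul, map_inv, h, mul_inv_cancel]
  obtain ⟨h1, h2⟩ := ker_offdiag Φ' Uu Vv hUV hx hy hxinj hyinj (X * Y⁻¹) hM
  rw [mul_apply2, inv_00, inv_10] at h1
  rw [mul_apply2, inv_01, inv_11] at h2
  constructor
  · linear_combination h1
  · linear_combination h2

end main

theorem rank_one_aut [Finite k] {Γ : Type*} [Group Γ]
    (Φ Φ' : Matrix.SpecialLinearGroup (Fin 2) k →* Γ) (Uu Vv : Subgroup Γ) (hUV : Uu ⊓ Vv = ⊥)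
    (hx : ∀ t : k, Φ' (upS t) ∈ Uu) (hy : ∀ t : k, Φ' (loS t) ∈ Vv)
    (hxinj : ∀ t : k, Φ' (upS t) = 1 → t = 0) (hyinj : ∀ t : k, Φ' (loS t) = 1 → t = 0)
    (θ : Γ →* Γ) (f g : k → k)
    (hf : ∀ t : k, θ (Φ (upS t)) = Φ' (upS (f t))) (hg : ∀ t : k, θ (Φ (loS t)) = Φ' (loS (g t)))
    (h1 : f 1 = 1) :
    ∃ α : k ≃+* k, (∀ t, f t = α t) ∧ (∀ t, g t = α t) ∧
      ∀ A : Matrix.SpecialLinearGroup (Fin 2) k,
        θ (Φ A) = Φ' (Matrix.SpecialLinearGroup.map (α : k →+* k) A) := by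
  have key := fun X Y h => eq_offdiag Φ' Uu Vv hUV hx hy hxinj hyinj X Y h
  have hxi : ∀ a b : k, Φ' (upS a) = Φ' (upS b) → a = b := by
    intro a b h
    have := (key _ _ h).2
    simpa using this
  have hyi : ∀ a b : k, Φ' (loS a) = Φ' (loS b) → a = b := by
    intro a b h
    have := (key _ _ h).1
    simpa using this
  obtain ⟨ψ, hψ⟩ : ∃ ψ : Matrix.SpecialLinearGroup (Fin 2) k →* Γ, ∀ A, ψ A = θ (Φ A) :=
    ⟨θ.comp Φ, fun _ => rfl⟩
  have hfψ : ∀ t, ψ (upS t) = Φ' (upS (f t)) := fun t => by rw [hψ, hf]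
  have hgψ : ∀ t, ψ (loS t) = Φ' (loS (g t)) := fun t => by rw [hψ, hg]
  have fadd : ∀ s t, f (s + t) = f s + f t := by
    intro s t
    apply hxi
    rw [← hfψ, upS_add, map_mul, hfψ, hfψ, ← map_mul, ← upS_add]
  have gadd : ∀ s t, g (s + t) = g s + g t := by
    intro s t
    apply hyi
    rw [← hgψ, loS_add, map_mul, hgψ, hgψ, ← map_mul, ← loS_add]
  have f0 : f 0 = 0 := by have := fadd 0 0; simpa using this
  have g0 : g 0 = 0 := by have := gadd 0 0; simpa using this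
  have fneg : ∀ t, f (-t) = - f t := by
    intro t; have := fadd t (-t); rw [add_neg_cancel, f0] at this; linear_combination -this
  have gneg : ∀ t, g (-t) = - g t := by
    intro t; have := gadd t (-t); rw [add_neg_cancel, g0] at this; linear_combination -this
  -- step 1
  have hs : g (-1) = -1 := by
    have hn : ψ (upS 1 * loS (-1) * upS 1) = Φ' (upS 1 * loS (g (-1)) * upS 1) := by
      simp only [map_mul, hfψ, hgψ, h1]
    have hid : (upS 1 * loS (-1) * upS 1) * upS (1:k) = loS (-1) * (upS 1 * loS (-1) * upS 1) := by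
      apply sl2_ext <;> simp [mul_apply2]
    have h2 : Φ' ((upS 1 * loS (g (-1)) * upS 1) * upS 1)
        = Φ' (loS (g (-1)) * (upS 1 * loS (g (-1)) * upS 1)) := by
      have := congrArg ψ hid
      rw [map_mul, map_mul ψ (loS (-1)), hn, hfψ, hgψ, h1] at this
      rw [map_mul, map_mul Φ' (loS (g (-1)))]; exact this
    have := (key _ _ h2).2
    simp [mul_apply2] at this
    have h3 : (1 + g (-1))^2 = 0 := by linear_combination this
    have := (pow_eq_zero_iff (two_ne_zero)).1 h3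
    linear_combination this
  have hnψ : ψ (upS 1 * loS (-1) * upS 1) = Φ' (upS 1 * loS (-1) * upS 1) := by
    simp only [map_mul, hfψ, hgψ, h1, hs]
  -- step 2
  have hgf : ∀ t, g t = f t := by
    intro t
    have hid : (upS 1 * loS (-1) * upS 1) * upS t = loS (-t) * (upS 1 * loS (-1) * upS 1) := by
      apply sl2_ext <;> simp [mul_apply2]
    have h2 : Φ' ((upS 1 * loS (-1) * upS 1) * upS (f t))
        = Φ' (loS (g (-t)) * (upS 1 * loS (-1) * upS 1)) := by
      have := congrArg ψ hid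
      rw [map_mul, map_mul ψ (loS (-t)), hnψ, hfψ, hgψ] at this
      rw [map_mul, map_mul Φ' (loS (g (-t)))]; exact this
    have := (key _ _ h2).1
    simp [mul_apply2] at this
    rw [gneg] at this
    linear_combination this
  -- step 3
  have hnψ' : ψ (upS (-1) * loS (-(-1 : k)⁻¹) * upS (-1)) = Φ' (upS (-1) * loS 1 * upS (-1)) := by
    simp only [map_mul, hfψ, hgψ, hgf, fneg, h1, inv_neg_one, neg_neg]
  have hdg : ∀ t, ψ (dgS t) =
      Φ' (upS (f t) * loS (- f t⁻¹) * upS (f t) * (upS (-1) * loS 1 * upS (-1))) := by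
    intro t
    unfold dgS
    rw [map_mul ψ, hnψ']; simp only [map_mul, hfψ, hgψ, hgf, fneg]
  have hdgid : ∀ t u : k, t ≠ 0 → dgS t * upS u = upS (t^2 * u) * dgS t := by
    intro t u ht
    apply sl2_ext <;>
      simp only [mul_apply2, dgS_00 t ht, dgS_01 t ht, dgS_10 t ht, dgS_11 t ht, upS_00, upS_01,
        upS_10, upS_11] <;> field_simp <;> ring
  have hQ : ∀ t u : k, t ≠ 0 → ∃ Q : Matrix.SpecialLinearGroup (Fin 2) k,
      Q 0 0 = f t * (2 - f t * f t⁻¹) ∧ Q 0 1 = -(1 - f t * f t⁻¹) ∧ Q 1 0 = 1 - f t * f t⁻¹ ∧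
      Q 1 1 = f t⁻¹ ∧ Φ' (Q * upS (f u)) = Φ' (upS (f (t^2 * u)) * Q) := by
    intro t u ht
    refine ⟨upS (f t) * loS (- f t⁻¹) * upS (f t) * (upS (-1) * loS 1 * upS (-1)), ?_, ?_, ?_, ?_, ?_⟩
    · simp [mul_apply2]; ring
    · simp [mul_apply2]; ring
    · simp [mul_apply2]; ring
    · simp [mul_apply2]
    · have := congrArg ψ (hdgid t u ht)
      rw [map_mul, map_mul ψ (upS _), hdg, hfψ, hfψ] at this
      rw [map_mul, map_mul Φ' (upS _)]; exact this
  have hab : ∀ t, t ≠ 0 → f t * f t⁻¹ = 1 := by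
    intro t ht
    obtain ⟨Q, h00, h01, h10, h11, hQ⟩ := hQ t 1 ht
    have := (key _ _ hQ).1
    simp only [mul_apply2, upS_00, upS_01, upS_10, upS_11, h00, h01, h10, h11, h1] at this
    have h3 : (1 - f t * f t⁻¹)^2 = 0 := by linear_combination (-1 : k) * this
    have := (pow_eq_zero_iff (two_ne_zero)).1 h3
    linear_combination -this
  have hsq : ∀ t u, f (t^2 * u) = (f t)^2 * f u := by
    intro t u
    by_cases ht : t = 0
    · simp [ht, f0]
    obtain ⟨Q, h00, h01, h10, h11, hQ⟩ := hQ t u ht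
    have := (key _ _ hQ).2
    have hab' := hab t ht
    simp only [mul_apply2, upS_00, upS_01, upS_10, upS_11, h00, h01, h10, h11, hab'] at this
    linear_combination (-1 : k) * this - f (t^2*u) * hab'
  -- step 4
  have fsq : ∀ t, f (t^2) = (f t)^2 := by
    intro t; have := hsq t 1; rwa [mul_one, h1, mul_one] at this
  have fmul : ∀ s t, f (s * t) = f s * f t := by
    by_cases h2 : (2 : k) = 0
    · have hch : ringChar k = 2 := CharP.ringChar_of_prime_eq_zero Nat.prime_two (by exact_mod_cast h2)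
      intro s t
      obtain ⟨r, hr⟩ := FiniteField.isSquare_of_char_two hch s
      rw [hr, ← pow_two, hsq, fsq]
    · intro s t
      have h3 := fsq (s + t)
      have e1 : (s + t)^2 = s^2 + (s * t + s * t) + t^2 := by ring
      rw [e1, fadd, fadd, fadd, fadd, fsq, fsq] at h3
      have h4 : (2 : k) * (f (s * t) - f s * f t) = 0 := by linear_combination h3
      rcases mul_eq_zero.1 h4 with h5 | h5
      · exact absurd h5 h2
      · linear_combination h5
  -- step 5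
  let φ : k →+* k :=
    { toFun := f, map_one' := h1, map_mul' := fmul, map_zero' := f0, map_add' := fadd }
  have hφ : Function.Bijective φ :=
    ⟨φ.injective, Finite.surjective_of_injective φ.injective⟩
  refine ⟨RingEquiv.ofBijective φ hφ, fun t => rfl, fun t => hgf t, ?_⟩
  have hcomp : ψ = Φ'.comp (Matrix.SpecialLinearGroup.map
      ((RingEquiv.ofBijective φ hφ : k ≃+* k) : k →+* k)) := by
    apply MonoidHom.eq_of_eqOn_dense closure_upS_loS
    rintro _ (⟨t, rfl⟩ | ⟨t, rfl⟩)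
    · rw [hfψ, MonoidHom.comp_apply, map_upS]; rfl
    · rw [hgψ, hgf, MonoidHom.comp_apply, map_loS]; rfl
  intro A
  rw [← hψ, hcomp]; rfl

/-- conjugation by `diag(c, 1)` on `SL₂(k)`, as a function -/
def dconjFun (c : k) (hc : c ≠ 0) (A : Matrix.SpecialLinearGroup (Fin 2) k) :
    Matrix.SpecialLinearGroup (Fin 2) k :=
  ⟨!![A 0 0, c * A 0 1; c⁻¹ * A 1 0, A 1 1], by
      rw [Matrix.det_fin_two_of]; have := det2 A; field_simp; linear_combination this⟩

theorem dconjFun_00 (c : k) (hc : c ≠ 0) (A : Matrix.SpecialLinearGroup (Fin 2) k) :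
    dconjFun c hc A 0 0 = A 0 0 := rfl
theorem dconjFun_01 (c : k) (hc : c ≠ 0) (A : Matrix.SpecialLinearGroup (Fin 2) k) :
    dconjFun c hc A 0 1 = c * A 0 1 := rfl
theorem dconjFun_10 (c : k) (hc : c ≠ 0) (A : Matrix.SpecialLinearGroup (Fin 2) k) :
    dconjFun c hc A 1 0 = c⁻¹ * A 1 0 := rfl
theorem dconjFun_11 (c : k) (hc : c ≠ 0) (A : Matrix.SpecialLinearGroup (Fin 2) k) :
    dconjFun c hc A 1 1 = A 1 1 := rfl

/-- conjugation by `diag(c, 1)` on `SL₂(k)` -/
def dconj (c : k) (hc : c ≠ 0) :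
    Matrix.SpecialLinearGroup (Fin 2) k →* Matrix.SpecialLinearGroup (Fin 2) k :=
  MonoidHom.mk' (dconjFun c hc) (by
    intro A B
    apply sl2_ext <;>
      simp only [mul_apply2, dconjFun_00, dconjFun_01, dconjFun_10, dconjFun_11] <;>
      field_simp)

theorem dconj_apply (c : k) (hc : c ≠ 0) (A : Matrix.SpecialLinearGroup (Fin 2) k) :
    dconj c hc A = dconjFun c hc A := rfl

theorem dconj_upS (c : k) (hc : c ≠ 0) (t : k) : dconj c hc (upS t) = upS (c * t) := by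
  rw [dconj_apply]
  apply sl2_ext <;> simp [dconjFun_00, dconjFun_01, dconjFun_10, dconjFun_11]

theorem dconj_loS (c : k) (hc : c ≠ 0) (t : k) : dconj c hc (loS t) = loS (c⁻¹ * t) := by
  rw [dconj_apply]
  apply sl2_ext <;> simp [dconjFun_00, dconjFun_01, dconjFun_10, dconjFun_11]

theorem dconj_diag (c : k) (hc : c ≠ 0) (A : Matrix.SpecialLinearGroup (Fin 2) k)
    (h01 : A 0 1 = 0) (h10 : A 1 0 = 0) : dconj c hc A = A := by
  rw [dconj_apply]
  apply sl2_ext <;> simp [dconjFun_00, dconjFun_01, dconjFun_10, dconjFun_11, h01, h10]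

theorem map_dgS (φ : k →+* k) (t : k) :
    Matrix.SpecialLinearGroup.map φ (dgS t) = dgS (φ t) := by
  unfold dgS
  simp only [map_mul, map_upS, map_loS, map_neg, map_inv₀, map_one]

theorem rank_one_aut' [Finite k] {Γ : Type*} [Group Γ]
    (Φ : Matrix.SpecialLinearGroup (Fin 2) k →* Γ) (Uu Vv : Subgroup Γ) (hUV : Uu ⊓ Vv = ⊥)
    (hx : ∀ t : k, Φ (upS t) ∈ Uu) (hy : ∀ t : k, Φ (loS t) ∈ Vv)
    (hxinj : ∀ t : k, Φ (upS t) = 1 → t = 0) (hyinj : ∀ t : k, Φ (loS t) = 1 → t = 0)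
    (θ : Γ →* Γ) (f g : k → k)
    (hf : ∀ t : k, θ (Φ (upS t)) = Φ (upS (f t))) (hg : ∀ t : k, θ (Φ (loS t)) = Φ (loS (g t)))
    (hc : f 1 ≠ 0) :
    ∃ α : k ≃+* k, (∀ t, f t = f 1 * α t) ∧ (∀ t, g t = (f 1)⁻¹ * α t) ∧
      ∀ t : k, t ≠ 0 → θ (Φ (dgS t)) = Φ (dgS (α t)) := by
  have hc' : (f 1)⁻¹ ≠ 0 := inv_ne_zero hc
  obtain ⟨α, hfα, hgα, hA⟩ := rank_one_aut Φ (Φ.comp (dconj (f 1) hc)) Uu Vv hUV
    (fun t => by rw [MonoidHom.comp_apply, dconj_upS]; exact hx _)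
    (fun t => by rw [MonoidHom.comp_apply, dconj_loS]; exact hy _)
    (fun t h => by
      rw [MonoidHom.comp_apply, dconj_upS] at h
      exact (mul_eq_zero.1 (hxinj _ h)).resolve_left hc)
    (fun t h => by
      rw [MonoidHom.comp_apply, dconj_loS] at h
      exact (mul_eq_zero.1 (hyinj _ h)).resolve_left hc')
    θ (fun t => (f 1)⁻¹ * f t) (fun t => f 1 * g t)
    (fun t => by rw [hf, MonoidHom.comp_apply, dconj_upS, mul_inv_cancel_left₀ hc])
    (fun t => by rw [hg, MonoidHom.comp_apply, dconj_loS, inv_mul_cancel_left₀ hc])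
    (inv_mul_cancel₀ hc)
  refine ⟨α, fun t => ?_, fun t => ?_, fun t ht => ?_⟩
  · have := hfα t
    rw [← this, mul_inv_cancel_left₀ hc]
  · have := hgα t
    rw [← this, inv_mul_cancel_left₀ hc]
  · have hαt : α t ≠ 0 := by
      intro h0
      exact ht ((map_eq_zero_iff α α.injective).1 h0)
    rw [hA, MonoidHom.comp_apply, map_dgS]
    exact congrArg Φ (dconj_diag _ _ _ (dgS_01 _ hαt) (dgS_10 _ hαt))

end Cfsg.Agent.Lib.Helper7.TwRankOne
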