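import Cfsg.Agent.Lib.Helper7.U34ChainDefs

/-! # S3663 (helper7): kernel checks for the Schreier–Sims chain of `Γ` — AUTO-GENERATED (scratch/u34/genchain.py) -/

set_option autoImplicit false
set_option maxRecDepth 100000
set_option maxHeartbeats 0

namespace Cfsg.Agent.Lib.Helper7.U34

open Cfsg.Agent.Lib.Helper28.BSGS

theorem e1_26 : (((level1.2.drop (16 * 26)).take 16).all (entryOK 832 10 level1.1)) = true := by
  decide +kernel

theorem e1_27 : (((level1.2.drop (16 * 27)).take 16).all (entryOK 832 10 level1.1)) = true := by
  decide +kernel

theorem e1_28 : (((level1.2.drop (16 * 28)).take 16).all (entryOK 832 10 level1.1)) = true := by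
  decide +kernel

theorem e1_29 : (((level1.2.drop (16 * 29)).take 16).all (entryOK 832 10 level1.1)) = true := by
  decide +kernel

theorem e1_30 : (((level1.2.drop (16 * 30)).take 16).all (entryOK 832 10 level1.1)) = true := by
  decide +kernel

theorem e1_31 : (((level1.2.drop (16 * 31)).take 16).all (entryOK 832 10 level1.1)) = true := by
  decide +kernel

theorem e1_32 : (((level1.2.drop (16 * 32)).take 16).all (entryOK 832 10 level1.1)) = true := by
  decide +kernel

theorem e1_33 : (((level1.2.drop (16 * 33)).take 16).all (entryOK 832 10 level1.1)) = true := by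
  decide +kernel

theorem e1_34 : (((level1.2.drop (16 * 34)).take 16).all (entryOK 832 10 level1.1)) = true := by
  decide +kernel

theorem e1_35 : (((level1.2.drop (16 * 35)).take 16).all (entryOK 832 10 level1.1)) = true := by
  decide +kernel

theorem e1_36 : (((level1.2.drop (16 * 36)).take 16).all (entryOK 832 10 level1.1)) = true := by
  decide +kernel

theorem e1_37 : (((level1.2.drop (16 * 37)).take 16).all (entryOK 832 10 level1.1)) = true := by
  decide +kernel

theorem e1_38 : (((level1.2.drop (16 * 38)).take 16).all (entryOK 832 10 level1.1)) = true := by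
  decide +kernel

theorem e1_39 : (((level1.2.drop (16 * 39)).take 16).all (entryOK 832 10 level1.1)) = true := by
  decide +kernel

theorem e1_40 : (((level1.2.drop (16 * 40)).take 16).all (entryOK 832 10 level1.1)) = true := by
  decide +kernel

theorem e1_41 : (((level1.2.drop (16 * 41)).take 16).all (entryOK 832 10 level1.1)) = true := by
  decide +kernel

theorem e1_42 : (((level1.2.drop (16 * 42)).take 16).all (entryOK 832 10 level1.1)) = true := by
  decide +kernel

theorem e1_43 : (((level1.2.drop (16 * 43)).take 16).all (entryOK 832 10 level1.1)) = true := by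
  decide +kernel

theorem e1_44 : (((level1.2.drop (16 * 44)).take 16).all (entryOK 832 10 level1.1)) = true := by
  decide +kernel

theorem e1_45 : (((level1.2.drop (16 * 45)).take 16).all (entryOK 832 10 level1.1)) = true := by
  decide +kernel

theorem e1_46 : (((level1.2.drop (16 * 46)).take 16).all (entryOK 832 10 level1.1)) = true := by
  decide +kernel

theorem e1_47 : (((level1.2.drop (16 * 47)).take 16).all (entryOK 832 10 level1.1)) = true := by
  decide +kernel

theorem e1_48 : (((level1.2.drop (16 * 48)).take 16).all (entryOK 832 10 level1.1)) = true := by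
  decide +kernel

theorem e1_49 : (((level1.2.drop (16 * 49)).take 16).all (entryOK 832 10 level1.1)) = true := by
  decide +kernel

theorem e1_50 : (((level1.2.drop (16 * 50)).take 16).all (entryOK 832 10 level1.1)) = true := by
  decide +kernel

theorem e1_51 : (((level1.2.drop (16 * 51)).take 16).all (entryOK 832 10 level1.1)) = true := by
  decide +kernel


end Cfsg.Agent.Lib.Helper7.U34
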