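import Cfsg.Agent.Lib.Helper7.U34ChainDefs

/-! # S3663 (helper7): kernel checks for the Schreier–Sims chain of `Γ` — AUTO-GENERATED (scratch/u34/genchain.py) -/

set_option autoImplicit false
set_option maxRecDepth 100000
set_option maxHeartbeats 0

namespace Cfsg.Agent.Lib.Helper7.U34

open Cfsg.Agent.Lib.Helper28.BSGS

theorem len1 : level1.2.length ≤ 16 * 52 := by decide +kernel

theorem gens_length : gens.length = 3 := by decide +kernel

theorem l1_head : (decide (level1.1 < 832) && headOK 832 10 level1.1 level1.2) = true := by decide +kernel

theorem l1_nodup : nodupB (level1.2.map fun e => e.1) = true := by decide +kernel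

theorem l1_orbit : orbitOK 10 gens [level1.1] ((level1.2.map fun e => e.1).tail) = true := by
  decide +kernel

theorem gens2_length : (nextGens 10 gens level1.1).length = 2 := by decide +kernel

theorem l2_head : (decide (level2.1 < 832) && headOK 832 10 level2.1 level2.2) = true := by decide +kernel

theorem l2_entries : level2.2.all (entryOK 832 10 level2.1) = true := by decide +kernel

theorem l2_nodup : nodupB (level2.2.map fun e => e.1) = true := by decide +kernel

theorem l2_orbit :
    orbitOK 10 (nextGens 10 gens level1.1) [level2.1] ((level2.2.map fun e => e.1).tail) = true := by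
  decide +kernel

theorem s2_0 : (level2.2.all fun e =>
    siftB 832 10 (level2 :: []) [((nextGens 10 gens level1.1).getD 0 (0, 0)).1, e.2.1]) = true := by
  decide +kernel

theorem s2_1 : (level2.2.all fun e =>
    siftB 832 10 (level2 :: []) [((nextGens 10 gens level1.1).getD 1 (0, 0)).1, e.2.1]) = true := by
  decide +kernel

theorem gens3_empty : (nextGens 10 (nextGens 10 gens level1.1) level2.1).isEmpty = true := by
  decide +kernel

end Cfsg.Agent.Lib.Helper7.U34
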