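import Cfsg.Agent.Lib.Helper7.U34ChainDefs

/-! # S3663 (helper7): kernel checks for the Schreier–Sims chain of `Γ` — AUTO-GENERATED (scratch/u34/genchain.py) -/

set_option autoImplicit false
set_option maxRecDepth 100000
set_option maxHeartbeats 0

namespace Cfsg.Agent.Lib.Helper7.U34

open Cfsg.Agent.Lib.Helper28.BSGS

theorem s1_0_26 : (((level1.2.drop (16 * 26)).take 16).all fun e =>
    siftB 832 10 (level1 :: [level2]) [(gens.getD 0 (0, 0)).1, e.2.1]) = true := by decide +kernel

theorem s1_0_27 : (((level1.2.drop (16 * 27)).take 16).all fun e =>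
    siftB 832 10 (level1 :: [level2]) [(gens.getD 0 (0, 0)).1, e.2.1]) = true := by decide +kernel

theorem s1_0_28 : (((level1.2.drop (16 * 28)).take 16).all fun e =>
    siftB 832 10 (level1 :: [level2]) [(gens.getD 0 (0, 0)).1, e.2.1]) = true := by decide +kernel

theorem s1_0_29 : (((level1.2.drop (16 * 29)).take 16).all fun e =>
    siftB 832 10 (level1 :: [level2]) [(gens.getD 0 (0, 0)).1, e.2.1]) = true := by decide +kernel

theorem s1_0_30 : (((level1.2.drop (16 * 30)).take 16).all fun e =>
    siftB 832 10 (level1 :: [level2]) [(gens.getD 0 (0, 0)).1, e.2.1]) = true := by decide +kernel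

theorem s1_0_31 : (((level1.2.drop (16 * 31)).take 16).all fun e =>
    siftB 832 10 (level1 :: [level2]) [(gens.getD 0 (0, 0)).1, e.2.1]) = true := by decide +kernel

theorem s1_0_32 : (((level1.2.drop (16 * 32)).take 16).all fun e =>
    siftB 832 10 (level1 :: [level2]) [(gens.getD 0 (0, 0)).1, e.2.1]) = true := by decide +kernel

theorem s1_0_33 : (((level1.2.drop (16 * 33)).take 16).all fun e =>
    siftB 832 10 (level1 :: [level2]) [(gens.getD 0 (0, 0)).1, e.2.1]) = true := by decide +kernel

theorem s1_0_34 : (((level1.2.drop (16 * 34)).take 16).all fun e =>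
    siftB 832 10 (level1 :: [level2]) [(gens.getD 0 (0, 0)).1, e.2.1]) = true := by decide +kernel

theorem s1_0_35 : (((level1.2.drop (16 * 35)).take 16).all fun e =>
    siftB 832 10 (level1 :: [level2]) [(gens.getD 0 (0, 0)).1, e.2.1]) = true := by decide +kernel

theorem s1_0_36 : (((level1.2.drop (16 * 36)).take 16).all fun e =>
    siftB 832 10 (level1 :: [level2]) [(gens.getD 0 (0, 0)).1, e.2.1]) = true := by decide +kernel

theorem s1_0_37 : (((level1.2.drop (16 * 37)).take 16).all fun e =>
    siftB 832 10 (level1 :: [level2]) [(gens.getD 0 (0, 0)).1, e.2.1]) = true := by decide +kernel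

theorem s1_0_38 : (((level1.2.drop (16 * 38)).take 16).all fun e =>
    siftB 832 10 (level1 :: [level2]) [(gens.getD 0 (0, 0)).1, e.2.1]) = true := by decide +kernel

theorem s1_0_39 : (((level1.2.drop (16 * 39)).take 16).all fun e =>
    siftB 832 10 (level1 :: [level2]) [(gens.getD 0 (0, 0)).1, e.2.1]) = true := by decide +kernel

theorem s1_0_40 : (((level1.2.drop (16 * 40)).take 16).all fun e =>
    siftB 832 10 (level1 :: [level2]) [(gens.getD 0 (0, 0)).1, e.2.1]) = true := by decide +kernel

theorem s1_0_41 : (((level1.2.drop (16 * 41)).take 16).all fun e =>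
    siftB 832 10 (level1 :: [level2]) [(gens.getD 0 (0, 0)).1, e.2.1]) = true := by decide +kernel

theorem s1_0_42 : (((level1.2.drop (16 * 42)).take 16).all fun e =>
    siftB 832 10 (level1 :: [level2]) [(gens.getD 0 (0, 0)).1, e.2.1]) = true := by decide +kernel

theorem s1_0_43 : (((level1.2.drop (16 * 43)).take 16).all fun e =>
    siftB 832 10 (level1 :: [level2]) [(gens.getD 0 (0, 0)).1, e.2.1]) = true := by decide +kernel

theorem s1_0_44 : (((level1.2.drop (16 * 44)).take 16).all fun e =>
    siftB 832 10 (level1 :: [level2]) [(gens.getD 0 (0, 0)).1, e.2.1]) = true := by decide +kernel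

theorem s1_0_45 : (((level1.2.drop (16 * 45)).take 16).all fun e =>
    siftB 832 10 (level1 :: [level2]) [(gens.getD 0 (0, 0)).1, e.2.1]) = true := by decide +kernel

theorem s1_0_46 : (((level1.2.drop (16 * 46)).take 16).all fun e =>
    siftB 832 10 (level1 :: [level2]) [(gens.getD 0 (0, 0)).1, e.2.1]) = true := by decide +kernel

theorem s1_0_47 : (((level1.2.drop (16 * 47)).take 16).all fun e =>
    siftB 832 10 (level1 :: [level2]) [(gens.getD 0 (0, 0)).1, e.2.1]) = true := by decide +kernel

theorem s1_0_48 : (((level1.2.drop (16 * 48)).take 16).all fun e =>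
    siftB 832 10 (level1 :: [level2]) [(gens.getD 0 (0, 0)).1, e.2.1]) = true := by decide +kernel

theorem s1_0_49 : (((level1.2.drop (16 * 49)).take 16).all fun e =>
    siftB 832 10 (level1 :: [level2]) [(gens.getD 0 (0, 0)).1, e.2.1]) = true := by decide +kernel

theorem s1_0_50 : (((level1.2.drop (16 * 50)).take 16).all fun e =>
    siftB 832 10 (level1 :: [level2]) [(gens.getD 0 (0, 0)).1, e.2.1]) = true := by decide +kernel

theorem s1_0_51 : (((level1.2.drop (16 * 51)).take 16).all fun e =>
    siftB 832 10 (level1 :: [level2]) [(gens.getD 0 (0, 0)).1, e.2.1]) = true := by decide +kernel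


end Cfsg.Agent.Lib.Helper7.U34
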