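import Cfsg.Agent.Lib.Helper7.U34ChainDefs

/-! # S3663 (helper7): kernel checks for the Schreier–Sims chain of `Γ` — AUTO-GENERATED (scratch/u34/genchain.py) -/

set_option autoImplicit false
set_option maxRecDepth 100000
set_option maxHeartbeats 0

namespace Cfsg.Agent.Lib.Helper7.U34

open Cfsg.Agent.Lib.Helper28.BSGS

theorem s1_2_0 : (((level1.2.drop (16 * 0)).take 16).all fun e =>
    siftB 832 10 (level1 :: [level2]) [(gens.getD 2 (0, 0)).1, e.2.1]) = true := by decide +kernel

theorem s1_2_1 : (((level1.2.drop (16 * 1)).take 16).all fun e =>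
    siftB 832 10 (level1 :: [level2]) [(gens.getD 2 (0, 0)).1, e.2.1]) = true := by decide +kernel

theorem s1_2_2 : (((level1.2.drop (16 * 2)).take 16).all fun e =>
    siftB 832 10 (level1 :: [level2]) [(gens.getD 2 (0, 0)).1, e.2.1]) = true := by decide +kernel

theorem s1_2_3 : (((level1.2.drop (16 * 3)).take 16).all fun e =>
    siftB 832 10 (level1 :: [level2]) [(gens.getD 2 (0, 0)).1, e.2.1]) = true := by decide +kernel

theorem s1_2_4 : (((level1.2.drop (16 * 4)).take 16).all fun e =>
    siftB 832 10 (level1 :: [level2]) [(gens.getD 2 (0, 0)).1, e.2.1]) = true := by decide +kernel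

theorem s1_2_5 : (((level1.2.drop (16 * 5)).take 16).all fun e =>
    siftB 832 10 (level1 :: [level2]) [(gens.getD 2 (0, 0)).1, e.2.1]) = true := by decide +kernel

theorem s1_2_6 : (((level1.2.drop (16 * 6)).take 16).all fun e =>
    siftB 832 10 (level1 :: [level2]) [(gens.getD 2 (0, 0)).1, e.2.1]) = true := by decide +kernel

theorem s1_2_7 : (((level1.2.drop (16 * 7)).take 16).all fun e =>
    siftB 832 10 (level1 :: [level2]) [(gens.getD 2 (0, 0)).1, e.2.1]) = true := by decide +kernel

theorem s1_2_8 : (((level1.2.drop (16 * 8)).take 16).all fun e =>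
    siftB 832 10 (level1 :: [level2]) [(gens.getD 2 (0, 0)).1, e.2.1]) = true := by decide +kernel

theorem s1_2_9 : (((level1.2.drop (16 * 9)).take 16).all fun e =>
    siftB 832 10 (level1 :: [level2]) [(gens.getD 2 (0, 0)).1, e.2.1]) = true := by decide +kernel

theorem s1_2_10 : (((level1.2.drop (16 * 10)).take 16).all fun e =>
    siftB 832 10 (level1 :: [level2]) [(gens.getD 2 (0, 0)).1, e.2.1]) = true := by decide +kernel

theorem s1_2_11 : (((level1.2.drop (16 * 11)).take 16).all fun e =>
    siftB 832 10 (level1 :: [level2]) [(gens.getD 2 (0, 0)).1, e.2.1]) = true := by decide +kernel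

theorem s1_2_12 : (((level1.2.drop (16 * 12)).take 16).all fun e =>
    siftB 832 10 (level1 :: [level2]) [(gens.getD 2 (0, 0)).1, e.2.1]) = true := by decide +kernel

theorem s1_2_13 : (((level1.2.drop (16 * 13)).take 16).all fun e =>
    siftB 832 10 (level1 :: [level2]) [(gens.getD 2 (0, 0)).1, e.2.1]) = true := by decide +kernel

theorem s1_2_14 : (((level1.2.drop (16 * 14)).take 16).all fun e =>
    siftB 832 10 (level1 :: [level2]) [(gens.getD 2 (0, 0)).1, e.2.1]) = true := by decide +kernel

theorem s1_2_15 : (((level1.2.drop (16 * 15)).take 16).all fun e =>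
    siftB 832 10 (level1 :: [level2]) [(gens.getD 2 (0, 0)).1, e.2.1]) = true := by decide +kernel

theorem s1_2_16 : (((level1.2.drop (16 * 16)).take 16).all fun e =>
    siftB 832 10 (level1 :: [level2]) [(gens.getD 2 (0, 0)).1, e.2.1]) = true := by decide +kernel

theorem s1_2_17 : (((level1.2.drop (16 * 17)).take 16).all fun e =>
    siftB 832 10 (level1 :: [level2]) [(gens.getD 2 (0, 0)).1, e.2.1]) = true := by decide +kernel

theorem s1_2_18 : (((level1.2.drop (16 * 18)).take 16).all fun e =>
    siftB 832 10 (level1 :: [level2]) [(gens.getD 2 (0, 0)).1, e.2.1]) = true := by decide +kernel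

theorem s1_2_19 : (((level1.2.drop (16 * 19)).take 16).all fun e =>
    siftB 832 10 (level1 :: [level2]) [(gens.getD 2 (0, 0)).1, e.2.1]) = true := by decide +kernel

theorem s1_2_20 : (((level1.2.drop (16 * 20)).take 16).all fun e =>
    siftB 832 10 (level1 :: [level2]) [(gens.getD 2 (0, 0)).1, e.2.1]) = true := by decide +kernel

theorem s1_2_21 : (((level1.2.drop (16 * 21)).take 16).all fun e =>
    siftB 832 10 (level1 :: [level2]) [(gens.getD 2 (0, 0)).1, e.2.1]) = true := by decide +kernel

theorem s1_2_22 : (((level1.2.drop (16 * 22)).take 16).all fun e =>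
    siftB 832 10 (level1 :: [level2]) [(gens.getD 2 (0, 0)).1, e.2.1]) = true := by decide +kernel

theorem s1_2_23 : (((level1.2.drop (16 * 23)).take 16).all fun e =>
    siftB 832 10 (level1 :: [level2]) [(gens.getD 2 (0, 0)).1, e.2.1]) = true := by decide +kernel

theorem s1_2_24 : (((level1.2.drop (16 * 24)).take 16).all fun e =>
    siftB 832 10 (level1 :: [level2]) [(gens.getD 2 (0, 0)).1, e.2.1]) = true := by decide +kernel

theorem s1_2_25 : (((level1.2.drop (16 * 25)).take 16).all fun e =>
    siftB 832 10 (level1 :: [level2]) [(gens.getD 2 (0, 0)).1, e.2.1]) = true := by decide +kernel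


end Cfsg.Agent.Lib.Helper7.U34
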