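import Cfsg.Agent.Lib.Helper7.U34Cert
import Cfsg.Agent.Lib.Helper7.U34ChainE0
import Cfsg.Agent.Lib.Helper7.U34ChainE1
import Cfsg.Agent.Lib.Helper7.U34ChainS00
import Cfsg.Agent.Lib.Helper7.U34ChainS01
import Cfsg.Agent.Lib.Helper7.U34ChainS10
import Cfsg.Agent.Lib.Helper7.U34ChainS11
import Cfsg.Agent.Lib.Helper7.U34ChainS20
import Cfsg.Agent.Lib.Helper7.U34ChainS21
import Cfsg.Agent.Lib.Helper7.U34ChainL

/-! # S3663 (helper7): the Schreier–Sims chain of `Γ` on 832 points is verified; `|genGroup| = 62400` — AUTO-GENERATED -/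

set_option autoImplicit false
set_option maxRecDepth 100000

namespace Cfsg.Agent.Lib.Helper7.U34

open Cfsg.Agent.Lib.Helper28.BSGS Cfsg.Agent.Lib.Helper11.Ico

theorem l1_entries : level1.2.all (entryOK 832 10 level1.1) = true := by
  apply all_of_chunks level1.2 _ 16 52 (by norm_num) len1
  intro c hc
  interval_cases c
  · exact e1_0
  · exact e1_1
  · exact e1_2
  · exact e1_3
  · exact e1_4
  · exact e1_5
  · exact e1_6
  · exact e1_7
  · exact e1_8
  · exact e1_9
  · exact e1_10
  · exact e1_11
  · exact e1_12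
  · exact e1_13
  · exact e1_14
  · exact e1_15
  · exact e1_16
  · exact e1_17
  · exact e1_18
  · exact e1_19
  · exact e1_20
  · exact e1_21
  · exact e1_22
  · exact e1_23
  · exact e1_24
  · exact e1_25
  · exact e1_26
  · exact e1_27
  · exact e1_28
  · exact e1_29
  · exact e1_30
  · exact e1_31
  · exact e1_32
  · exact e1_33
  · exact e1_34
  · exact e1_35
  · exact e1_36
  · exact e1_37
  · exact e1_38
  · exact e1_39
  · exact e1_40
  · exact e1_41
  · exact e1_42
  · exact e1_43
  · exact e1_44
  · exact e1_45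
  · exact e1_46
  · exact e1_47
  · exact e1_48
  · exact e1_49
  · exact e1_50
  · exact e1_51

theorem s1_0 : (level1.2.all fun e =>
    siftB 832 10 (level1 :: [level2]) [(gens.getD 0 (0, 0)).1, e.2.1]) = true := by
  apply all_of_chunks level1.2 _ 16 52 (by norm_num) len1
  intro c hc
  interval_cases c
  · exact s1_0_0
  · exact s1_0_1
  · exact s1_0_2
  · exact s1_0_3
  · exact s1_0_4
  · exact s1_0_5
  · exact s1_0_6
  · exact s1_0_7
  · exact s1_0_8
  · exact s1_0_9
  · exact s1_0_10
  · exact s1_0_11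
  · exact s1_0_12
  · exact s1_0_13
  · exact s1_0_14
  · exact s1_0_15
  · exact s1_0_16
  · exact s1_0_17
  · exact s1_0_18
  · exact s1_0_19
  · exact s1_0_20
  · exact s1_0_21
  · exact s1_0_22
  · exact s1_0_23
  · exact s1_0_24
  · exact s1_0_25
  · exact s1_0_26
  · exact s1_0_27
  · exact s1_0_28
  · exact s1_0_29
  · exact s1_0_30
  · exact s1_0_31
  · exact s1_0_32
  · exact s1_0_33
  · exact s1_0_34
  · exact s1_0_35
  · exact s1_0_36
  · exact s1_0_37
  · exact s1_0_38
  · exact s1_0_39
  · exact s1_0_40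
  · exact s1_0_41
  · exact s1_0_42
  · exact s1_0_43
  · exact s1_0_44
  · exact s1_0_45
  · exact s1_0_46
  · exact s1_0_47
  · exact s1_0_48
  · exact s1_0_49
  · exact s1_0_50
  · exact s1_0_51

theorem s1_1 : (level1.2.all fun e =>
    siftB 832 10 (level1 :: [level2]) [(gens.getD 1 (0, 0)).1, e.2.1]) = true := by
  apply all_of_chunks level1.2 _ 16 52 (by norm_num) len1
  intro c hc
  interval_cases c
  · exact s1_1_0
  · exact s1_1_1
  · exact s1_1_2
  · exact s1_1_3
  · exact s1_1_4
  · exact s1_1_5
  · exact s1_1_6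
  · exact s1_1_7
  · exact s1_1_8
  · exact s1_1_9
  · exact s1_1_10
  · exact s1_1_11
  · exact s1_1_12
  · exact s1_1_13
  · exact s1_1_14
  · exact s1_1_15
  · exact s1_1_16
  · exact s1_1_17
  · exact s1_1_18
  · exact s1_1_19
  · exact s1_1_20
  · exact s1_1_21
  · exact s1_1_22
  · exact s1_1_23
  · exact s1_1_24
  · exact s1_1_25
  · exact s1_1_26
  · exact s1_1_27
  · exact s1_1_28
  · exact s1_1_29
  · exact s1_1_30
  · exact s1_1_31
  · exact s1_1_32
  · exact s1_1_33
  · exact s1_1_34
  · exact s1_1_35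
  · exact s1_1_36
  · exact s1_1_37
  · exact s1_1_38
  · exact s1_1_39
  · exact s1_1_40
  · exact s1_1_41
  · exact s1_1_42
  · exact s1_1_43
  · exact s1_1_44
  · exact s1_1_45
  · exact s1_1_46
  · exact s1_1_47
  · exact s1_1_48
  · exact s1_1_49
  · exact s1_1_50
  · exact s1_1_51

theorem s1_2 : (level1.2.all fun e =>
    siftB 832 10 (level1 :: [level2]) [(gens.getD 2 (0, 0)).1, e.2.1]) = true := by
  apply all_of_chunks level1.2 _ 16 52 (by norm_num) len1
  intro c hc
  interval_cases c
  · exact s1_2_0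
  · exact s1_2_1
  · exact s1_2_2
  · exact s1_2_3
  · exact s1_2_4
  · exact s1_2_5
  · exact s1_2_6
  · exact s1_2_7
  · exact s1_2_8
  · exact s1_2_9
  · exact s1_2_10
  · exact s1_2_11
  · exact s1_2_12
  · exact s1_2_13
  · exact s1_2_14
  · exact s1_2_15
  · exact s1_2_16
  · exact s1_2_17
  · exact s1_2_18
  · exact s1_2_19
  · exact s1_2_20
  · exact s1_2_21
  · exact s1_2_22
  · exact s1_2_23
  · exact s1_2_24
  · exact s1_2_25
  · exact s1_2_26
  · exact s1_2_27
  · exact s1_2_28
  · exact s1_2_29
  · exact s1_2_30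
  · exact s1_2_31
  · exact s1_2_32
  · exact s1_2_33
  · exact s1_2_34
  · exact s1_2_35
  · exact s1_2_36
  · exact s1_2_37
  · exact s1_2_38
  · exact s1_2_39
  · exact s1_2_40
  · exact s1_2_41
  · exact s1_2_42
  · exact s1_2_43
  · exact s1_2_44
  · exact s1_2_45
  · exact s1_2_46
  · exact s1_2_47
  · exact s1_2_48
  · exact s1_2_49
  · exact s1_2_50
  · exact s1_2_51

theorem sift1_all :
    gens.all (fun g => level1.2.all fun e => siftB 832 10 (level1 :: [level2]) [g.1, e.2.1]) = true := by
  apply all_getD gens (0, 0)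
  intro i hi
  rw [gens_length] at hi
  interval_cases i
  · exact s1_0
  · exact s1_1
  · exact s1_2

theorem level1_ok : levelOK 832 10 gens level1 [level2] = true :=
  levelOK_of gens level1 [level2] l1_head l1_entries l1_nodup l1_orbit sift1_all

theorem sift2_all : (nextGens 10 gens level1.1).all
    (fun g => level2.2.all fun e => siftB 832 10 (level2 :: []) [g.1, e.2.1]) = true := by
  apply all_getD (nextGens 10 gens level1.1) (0, 0)
  intro i hi
  rw [gens2_length] at hi
  interval_cases i
  · exact s2_0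
  · exact s2_1

theorem level2_ok : levelOK 832 10 (nextGens 10 gens level1.1) level2 [] = true :=
  levelOK_of _ level2 [] l2_head l2_entries l2_nodup l2_orbit sift2_all

/-- **the Schreier–Sims certificate of `Γ` on the 832 vectors** -/
theorem chain_ok : checkChain 832 10 gens levels = true :=
  checkChain_cons gens level1 [level2] level1_ok
    (checkChain_cons _ level2 [] level2_ok (checkChain_nil _ gens3_empty))

/-- the permutation group on the 832 vectors has order 62400 -/
theorem perm_card : Nat.card ↥(genGroup 832 10 gens) = 62400 := by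
  rw [← size_ok]
  exact (perm_main 832 10 gens levels gens_ok chain_ok).1

end Cfsg.Agent.Lib.Helper7.U34
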