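import Cfsg.Agent.Lib.Helper7.U34Defs
import Cfsg.Agent.Lib.Helper7.U34Levels
import Cfsg.Agent.Lib.Helper11.IcoChunk

/-!
# S3663 (helper7): splitting the Schreier–Sims certificate of `Γ` on 832 points into small kernel checks
-/

set_option autoImplicit false

namespace Cfsg.Agent.Lib.Helper7.U34

open Cfsg.Agent.Lib.Helper28.BSGS

/-- `levelOK` from its six parts -/
theorem levelOK_of (gs : List (ℕ × ℕ)) (lv : CLevel) (rest : List CLevel)
    (h1 : (decide (lv.1 < 832) && headOK 832 10 lv.1 lv.2) = true)
    (h2 : lv.2.all (entryOK 832 10 lv.1) = true)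
    (h3 : nodupB (lv.2.map fun e => e.1) = true)
    (h4 : orbitOK 10 gs [lv.1] ((lv.2.map fun e => e.1).tail) = true)
    (h5 : gs.all (fun g => lv.2.all fun e => siftB 832 10 (lv :: rest) [g.1, e.2.1]) = true) :
    levelOK 832 10 gs lv rest = true := by
  unfold levelOK
  rw [h1, h2, h3, h4, h5]
  rfl

theorem checkChain_cons (gs : List (ℕ × ℕ)) (lv : CLevel) (rest : List CLevel)
    (h1 : levelOK 832 10 gs lv rest = true)
    (h2 : checkChain 832 10 (nextGens 10 gs lv.1) rest = true) :
    checkChain 832 10 gs (lv :: rest) = true := by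
  unfold checkChain
  rw [h1, h2]
  rfl

theorem checkChain_nil (gs : List (ℕ × ℕ)) (h : gs.isEmpty = true) :
    checkChain 832 10 gs [] = true := by
  unfold checkChain
  exact h

end Cfsg.Agent.Lib.Helper7.U34
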