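import Cfsg.Agent.Lib.Helper7.U34Defs
import Cfsg.Agent.Lib.Helper7.U34Levels
import Cfsg.Agent.Lib.Helper29.SpecPerm

/-! # S3663 (helper7): element orders of the permutation group on 832 points, kernel checks — AUTO-GENERATED
(scratch/u34/genspec.py).  Every element is `u₁ * u₂` with `u₁` in the first and `u₂` in the second transversal; some power
with exponent 4, 10, 13 or 15 fixes both base points 0 and 5 (helper29's `SpecPerm.ordOK`). -/

set_option autoImplicit false
set_option maxRecDepth 100000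
set_option maxHeartbeats 0

namespace Cfsg.Agent.Lib.Helper7.U34

open Cfsg.Agent.Lib.Helper28.BSGS Cfsg.Agent.Lib.Helper29.SpecPerm

theorem sp_0 : (((level1.2.drop (32 * 0)).take 32).all fun e1 => level2.2.all fun e2 =>
    ordOK 10 [4, 10, 13, 15] 0 5 e1.2.1 e2.2.1) = true := by decide +kernel

theorem sp_1 : (((level1.2.drop (32 * 1)).take 32).all fun e1 => level2.2.all fun e2 =>
    ordOK 10 [4, 10, 13, 15] 0 5 e1.2.1 e2.2.1) = true := by decide +kernel

theorem sp_2 : (((level1.2.drop (32 * 2)).take 32).all fun e1 => level2.2.all fun e2 =>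
    ordOK 10 [4, 10, 13, 15] 0 5 e1.2.1 e2.2.1) = true := by decide +kernel

theorem sp_3 : (((level1.2.drop (32 * 3)).take 32).all fun e1 => level2.2.all fun e2 =>
    ordOK 10 [4, 10, 13, 15] 0 5 e1.2.1 e2.2.1) = true := by decide +kernel

theorem sp_4 : (((level1.2.drop (32 * 4)).take 32).all fun e1 => level2.2.all fun e2 =>
    ordOK 10 [4, 10, 13, 15] 0 5 e1.2.1 e2.2.1) = true := by decide +kernel

theorem sp_5 : (((level1.2.drop (32 * 5)).take 32).all fun e1 => level2.2.all fun e2 =>
    ordOK 10 [4, 10, 13, 15] 0 5 e1.2.1 e2.2.1) = true := by decide +kernel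

theorem sp_6 : (((level1.2.drop (32 * 6)).take 32).all fun e1 => level2.2.all fun e2 =>
    ordOK 10 [4, 10, 13, 15] 0 5 e1.2.1 e2.2.1) = true := by decide +kernel

theorem sp_7 : (((level1.2.drop (32 * 7)).take 32).all fun e1 => level2.2.all fun e2 =>
    ordOK 10 [4, 10, 13, 15] 0 5 e1.2.1 e2.2.1) = true := by decide +kernel

theorem sp_8 : (((level1.2.drop (32 * 8)).take 32).all fun e1 => level2.2.all fun e2 =>
    ordOK 10 [4, 10, 13, 15] 0 5 e1.2.1 e2.2.1) = true := by decide +kernel

theorem sp_9 : (((level1.2.drop (32 * 9)).take 32).all fun e1 => level2.2.all fun e2 =>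
    ordOK 10 [4, 10, 13, 15] 0 5 e1.2.1 e2.2.1) = true := by decide +kernel

theorem sp_10 : (((level1.2.drop (32 * 10)).take 32).all fun e1 => level2.2.all fun e2 =>
    ordOK 10 [4, 10, 13, 15] 0 5 e1.2.1 e2.2.1) = true := by decide +kernel

theorem sp_11 : (((level1.2.drop (32 * 11)).take 32).all fun e1 => level2.2.all fun e2 =>
    ordOK 10 [4, 10, 13, 15] 0 5 e1.2.1 e2.2.1) = true := by decide +kernel

theorem sp_12 : (((level1.2.drop (32 * 12)).take 32).all fun e1 => level2.2.all fun e2 =>
    ordOK 10 [4, 10, 13, 15] 0 5 e1.2.1 e2.2.1) = true := by decide +kernel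


end Cfsg.Agent.Lib.Helper7.U34
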