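import Cfsg.Agent.Lib.Helper7.U34Defs
import Cfsg.Agent.Lib.Helper7.U34Levels
import Cfsg.Agent.Lib.Helper29.SpecPerm

/-! # S3663 (helper7): element orders of the permutation group on 832 points, kernel checks — AUTO-GENERATED
(scratch/u34/genspec.py).  Every element is `u₁ * u₂` with `u₁` in the first and `u₂` in the second transversal; some power
with exponent 4, 10, 13 or 15 fixes both base points 0 and 5 (helper29's `SpecPerm.ordOK`). -/

set_option autoImplicit false
set_option maxRecDepth 100000
set_option maxHeartbeats 0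

namespace Cfsg.Agent.Lib.Helper7.U34

open Cfsg.Agent.Lib.Helper28.BSGS Cfsg.Agent.Lib.Helper29.SpecPerm

theorem sp_13 : (((level1.2.drop (32 * 13)).take 32).all fun e1 => level2.2.all fun e2 =>
    ordOK 10 [4, 10, 13, 15] 0 5 e1.2.1 e2.2.1) = true := by decide +kernel

theorem sp_14 : (((level1.2.drop (32 * 14)).take 32).all fun e1 => level2.2.all fun e2 =>
    ordOK 10 [4, 10, 13, 15] 0 5 e1.2.1 e2.2.1) = true := by decide +kernel

theorem sp_15 : (((level1.2.drop (32 * 15)).take 32).all fun e1 => level2.2.all fun e2 =>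
    ordOK 10 [4, 10, 13, 15] 0 5 e1.2.1 e2.2.1) = true := by decide +kernel

theorem sp_16 : (((level1.2.drop (32 * 16)).take 32).all fun e1 => level2.2.all fun e2 =>
    ordOK 10 [4, 10, 13, 15] 0 5 e1.2.1 e2.2.1) = true := by decide +kernel

theorem sp_17 : (((level1.2.drop (32 * 17)).take 32).all fun e1 => level2.2.all fun e2 =>
    ordOK 10 [4, 10, 13, 15] 0 5 e1.2.1 e2.2.1) = true := by decide +kernel

theorem sp_18 : (((level1.2.drop (32 * 18)).take 32).all fun e1 => level2.2.all fun e2 =>
    ordOK 10 [4, 10, 13, 15] 0 5 e1.2.1 e2.2.1) = true := by decide +kernel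

theorem sp_19 : (((level1.2.drop (32 * 19)).take 32).all fun e1 => level2.2.all fun e2 =>
    ordOK 10 [4, 10, 13, 15] 0 5 e1.2.1 e2.2.1) = true := by decide +kernel

theorem sp_20 : (((level1.2.drop (32 * 20)).take 32).all fun e1 => level2.2.all fun e2 =>
    ordOK 10 [4, 10, 13, 15] 0 5 e1.2.1 e2.2.1) = true := by decide +kernel

theorem sp_21 : (((level1.2.drop (32 * 21)).take 32).all fun e1 => level2.2.all fun e2 =>
    ordOK 10 [4, 10, 13, 15] 0 5 e1.2.1 e2.2.1) = true := by decide +kernel

theorem sp_22 : (((level1.2.drop (32 * 22)).take 32).all fun e1 => level2.2.all fun e2 =>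
    ordOK 10 [4, 10, 13, 15] 0 5 e1.2.1 e2.2.1) = true := by decide +kernel

theorem sp_23 : (((level1.2.drop (32 * 23)).take 32).all fun e1 => level2.2.all fun e2 =>
    ordOK 10 [4, 10, 13, 15] 0 5 e1.2.1 e2.2.1) = true := by decide +kernel

theorem sp_24 : (((level1.2.drop (32 * 24)).take 32).all fun e1 => level2.2.all fun e2 =>
    ordOK 10 [4, 10, 13, 15] 0 5 e1.2.1 e2.2.1) = true := by decide +kernel

theorem sp_25 : (((level1.2.drop (32 * 25)).take 32).all fun e1 => level2.2.all fun e2 =>
    ordOK 10 [4, 10, 13, 15] 0 5 e1.2.1 e2.2.1) = true := by decide +kernel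


end Cfsg.Agent.Lib.Helper7.U34
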