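import Cfsg.Agent.Lib.Helper7.U34Cert
import Cfsg.Agent.Lib.Helper7.U34Spec0
import Cfsg.Agent.Lib.Helper7.U34Spec1
import Cfsg.Agent.Lib.Helper11.IcoChunk

/-! # S3663 (helper7): the element orders of the permutation group on 832 points divide 4, 10, 13 or 15 — AUTO-GENERATED -/

set_option autoImplicit false
set_option maxRecDepth 100000

namespace Cfsg.Agent.Lib.Helper7.U34

open Cfsg.Agent.Lib.Helper28.BSGS Cfsg.Agent.Lib.Helper29.SpecPerm Cfsg.Agent.Lib.Helper11.Ico

theorem len1' : level1.2.length ≤ 32 * 26 := by decide +kernel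

theorem spec_main_ok : mainOK 10 [4, 10, 13, 15] 0 5 level1.2 level2.2 = true := by
  unfold mainOK
  apply all_of_chunks level1.2 _ 32 26 (by norm_num) len1'
  intro c hc
  interval_cases c
  · exact sp_0
  · exact sp_1
  · exact sp_2
  · exact sp_3
  · exact sp_4
  · exact sp_5
  · exact sp_6
  · exact sp_7
  · exact sp_8
  · exact sp_9
  · exact sp_10
  · exact sp_11
  · exact sp_12
  · exact sp_13
  · exact sp_14
  · exact sp_15
  · exact sp_16
  · exact sp_17
  · exact sp_18
  · exact sp_19
  · exact sp_20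
  · exact sp_21
  · exact sp_22
  · exact sp_23
  · exact sp_24
  · exact sp_25

/-- **every element of the permutation group has order dividing 4, 10, 13 or 15** -/
theorem perm_spec (hc : checkChain 832 10 gens levels = true) (g : Equiv.Perm (Fin 832))
    (hg : g ∈ genGroup 832 10 gens) : g ^ 4 = 1 ∨ g ^ 10 = 1 ∨ g ^ 13 = 1 ∨ g ^ 15 = 1 := by
  have hc' : checkChain 832 10 gens [(0, level1.2), (5, level2.2)] = true := hc
  obtain ⟨k, hk, hgk⟩ := pow_eq_one_of_certs 832 10 gens 0 level1.2 5 level2.2 gens_ok hc'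
    [4, 10, 13, 15] spec_main_ok g hg
  simp only [List.mem_cons, List.not_mem_nil, or_false] at hk
  rcases hk with rfl | rfl | rfl | rfl
  · exact Or.inl hgk
  · exact Or.inr (Or.inl hgk)
  · exact Or.inr (Or.inr (Or.inl hgk))
  · exact Or.inr (Or.inr (Or.inr hgk))

end Cfsg.Agent.Lib.Helper7.U34
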